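import Mathlib
import Cfsg.Prelude.Def_OddOrderLocal
import Cfsg.Agent.Lib.Helper4.PFNineA
import Cfsg.Agent.Lib.Helper23.TypeP

/-!
# PROJECT PF, Peterfalvi section 13, MODULE M3 of helper33's S1549 chain (helper12)

`not_conj_T`: a subgroup `L ⊇ N_G(U)` is not conjugate to `T`.
-/

set_option autoImplicit false

namespace Cfsg.Agent.Lib.Helper12.PFThirteenM3

open Cfsg Cfsg.Agent.Lib.Helper4 Cfsg.Agent.Lib.Helper23

variable {G : Type*} [Group G]

/-- An element whose order is coprime to the index of a normal subgroup lies in it. -/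
theorem mem_of_coprime_index' {H : Type*} [Group H] [Finite H] (N : Subgroup H) [N.Normal] {x : H}
    (h : (orderOf x).Coprime N.index) : x ∈ N := by
  rw [← QuotientGroup.eq_one_iff (N := N)]
  have h1 : ((x : H) : H ⧸ N) ^ orderOf x = 1 := by
    rw [← QuotientGroup.mk_pow, pow_orderOf_eq_one]
    rfl
  have h2 : ((x : H) : H ⧸ N) ^ N.index = 1 := by
    rw [Subgroup.index_eq_card]
    exact pow_card_eq_one'
  have h3 : orderOf ((x : H) : H ⧸ N) ∣ Nat.gcd (orderOf x) N.index :=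
    Nat.dvd_gcd (orderOf_dvd_of_pow_eq_one h1) (orderOf_dvd_of_pow_eq_one h2)
  rw [h.gcd_eq_one, Nat.dvd_one, orderOf_eq_one_iff] at h3
  exact h3

/-- Every non-identity element of `T_F` lies in `A₀(T)` for type-P data. -/
theorem mem_typeA0_of_mem_H {T W₁ W₂ V : Subgroup G} (hTP : IsTypePWith T W₂ V W₁)
    {x : G} (hxQ : x ∈ fittingHallOf T) (hx1 : x ≠ 1) : x ∈ typeA0 T := by
  have hxD : x ∈ ⁅T, T⁆ := PF9.H_le_der hTP hxQ
  have hxT : x ∈ T := PF9.der_le hTP hxD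
  refine Or.inl ?_
  unfold typeA
  split_ifs with hI
  · exact ⟨hxT, hx1, x, hxQ, hx1, rfl⟩
  · refine ⟨hxD, hx1, x, ?_, hx1, rfl⟩
    unfold typeCore
    split_ifs
    · exact hxD
    · exact hxQ

/-- An element of `T` whose order is a prime dividing `|T_F|` lies in `T_F`. -/
theorem mem_H_of_prime_order [Finite G] (T : Subgroup G) {y : G} (hyT : y ∈ T) {q : ℕ}
    (hy : orderOf y = q) (hqd : q ∣ Nat.card ↥(fittingHallOf T)) :
    y ∈ fittingHallOf T := by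
  have hcop := fittingHall_coprime ↥T
  rw [PF9.card_fittingHallOf] at hqd
  have h1 : (orderOf (⟨y, hyT⟩ : ↥T)).Coprime (fittingHall ↥T).index := by
    have : orderOf (⟨y, hyT⟩ : ↥T) = q := by
      rw [← hy]
      exact (Subgroup.orderOf_mk y hyT)
    rw [this]
    exact hcop.coprime_dvd_left hqd
  have h2 : (⟨y, hyT⟩ : ↥T) ∈ fittingHall ↥T := mem_of_coprime_index' _ h1
  exact ⟨⟨y, hyT⟩, h2, rfl⟩

/-- **MODULE M3**: `L ⊇ N_G(U)` is not conjugate to `T`. -/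
theorem not_conj_T {G : Type*} [Group G] [Finite G] {S T W₁ W₂ U V : Subgroup G}
    (hSP : Cfsg.IsTypePWith S W₁ U W₂) (hTP : Cfsg.IsTypePWith T W₂ V W₁)
    (hST : S ⊓ T = W₁ ⊔ W₂) (hU : U ≠ ⊥) (hq : (Nat.card W₁).Prime)
    (hTI : Cfsg.IsTISubset (Cfsg.typeA0 T))
    (hN : Subgroup.normalizer (Cfsg.typeA0 T) = T) (L : Subgroup G)
    (hNUL : Subgroup.normalizer (U : Set G) ≤ L) (g : G) :
    L ≠ T.map (MulAut.conj g).toMonoidHom := by
  intro hL
  -- a non-identity element `x` of `W₁`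
  obtain ⟨x, hx1⟩ := (Subgroup.ne_bot_iff_exists_ne_one (H := W₁)).1 hSP.W₁_ne
  have hx1' : (x : G) ≠ 1 := fun h0 => hx1 (Subtype.ext h0)
  have hxW : (x : G) ∈ W₁ := x.2
  have hxQ : (x : G) ∈ fittingHallOf T := PF9.W₂_le_H hTP hxW
  -- order of `x`
  have hordx : orderOf (x : G) = Nat.card ↥W₁ := by
    rw [Subgroup.orderOf_coe]
    have h1 : orderOf x ∣ Nat.card ↥W₁ := orderOf_dvd_natCard x
    rcases (Nat.dvd_prime hq).1 h1 with h | h
    · exact absurd (orderOf_eq_one_iff.1 h) hx1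
    · exact h
  -- `x ∈ L = gTg⁻¹`
  have hxL : (x : G) ∈ L := hNUL (hSP.U_normal hxW)
  rw [hL] at hxL
  obtain ⟨t, ht, htx⟩ := hxL
  have htx' : g * t * g⁻¹ = (x : G) := by simpa using htx
  have ht_eq : t = g⁻¹ * (x : G) * g := by rw [← htx']; group
  -- `t ∈ T_F`
  have hordt : orderOf t = Nat.card ↥W₁ := by
    rw [← hordx, ← htx']
    have hsc : SemiconjBy g t (g * t * g⁻¹) := by
      unfold SemiconjBy; group
    exact hsc.orderOf_eq g
  have hqd : Nat.card ↥W₁ ∣ Nat.card ↥(fittingHallOf T) :=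
    Subgroup.card_dvd_of_le (PF9.W₂_le_H hTP)
  have htQ : t ∈ fittingHallOf T := mem_H_of_prime_order T ht hordt hqd
  have ht1 : t ≠ 1 := by
    intro h0
    apply hx1'
    rw [← htx', h0]; group
  -- TI
  have hxA : (x : G) ∈ typeA0 T := mem_typeA0_of_mem_H hTP hxQ hx1'
  have htA : g⁻¹ * (x : G) * g⁻¹⁻¹ ∈ typeA0 T := by
    rw [inv_inv, ← ht_eq]
    exact mem_typeA0_of_mem_H hTP htQ ht1
  have hgT : g⁻¹ ∈ T := by
    by_contra hgT
    have hgN : g⁻¹ ∉ Subgroup.normalizer (typeA0 T) := by rw [hN]; exact hgT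
    exact hx1' (hTI g⁻¹ hgN x hxA htA)
  have hgT' : g ∈ T := by simpa using T.inv_mem hgT
  -- `L = T`
  have hLT : L = T := by
    rw [hL]
    ext z
    constructor
    · rintro ⟨s, hs, rfl⟩
      simpa using T.mul_mem (T.mul_mem hgT' hs) hgT
    · intro hz
      refine ⟨g⁻¹ * z * g, T.mul_mem (T.mul_mem hgT hz) hgT', ?_⟩
      simp only [MulEquiv.coe_toMonoidHom, MulAut.conj_apply]
      group
  -- `U ≤ W₁ ⊔ W₂`
  have hUST : U ≤ W₁ ⊔ W₂ := by
    rw [← hST]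
    refine le_inf (PF9.U_le hSP) ?_
    rw [← hLT]
    exact (Subgroup.le_normalizer).trans hNUL
  have hcomm : ∀ a ∈ W₁, ∀ b ∈ W₂, a * b = b * a := hSP.selfNormalizing.2.2.2.1
  apply hU
  rw [eq_bot_iff]
  intro u hu
  rw [Subgroup.mem_bot]
  obtain ⟨w₁, hw₁, w₂, hw₂, rfl⟩ := exists_mul_of_mem_sup_of_commute W₁ W₂ hcomm (hUST hu)
  have hw₂H : w₂ ∈ fittingHallOf S := PF9.W₂_le_H hSP hw₂
  have hw₂D : w₂ ∈ ⁅S, S⁆ := PF9.H_le_der hSP hw₂H
  have huD : w₁ * w₂ ∈ ⁅S, S⁆ := PF9.U_le_der hSP hu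
  have hw₁D : w₁ ∈ ⁅S, S⁆ ⊓ W₁ := by
    refine ⟨?_, hw₁⟩
    have : w₁ = (w₁ * w₂) * w₂⁻¹ := by group
    rw [this]
    exact Subgroup.mul_mem _ huD (Subgroup.inv_mem _ hw₂D)
  rw [PF9.der_inf_W₁ hSP, Subgroup.mem_bot] at hw₁D
  subst hw₁D
  rw [one_mul] at hu ⊢
  have : w₂ ∈ fittingHallOf S ⊓ U := ⟨hw₂H, hu⟩
  rwa [PF9.H_inf_U hSP, Subgroup.mem_bot] at this

end Cfsg.Agent.Lib.Helper12.PFThirteenM3
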