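import Mathlib
import Cfsg.Prelude.Def_Characters

/-!
# Wielandt's theorem on primitive groups of degree `2p` (S0720): common vocabulary (helper12)

`Ctx p G`: `G ≤ Sym(α)` is primitive of degree `2p`, `p` an odd prime, and every element of
order `p` of `G` is fixed-point-free (this is what Jordan's theorem gives when `G` is not
doubly transitive).

`Concl p G a₀`: the conclusion of Wielandt's theorem.

`CaseI G π a`: `N_G(⟨π⟩) = N₁ · C_G(π)`, where `N₁` is the set of elements of `N_G(⟨π⟩)`
mapping `a` into its `⟨π⟩`-orbit.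
-/

set_option autoImplicit false

namespace Cfsg.Agent.Lib.Helper12.W2p

/-- Common hypotheses of the project. -/
structure Ctx {α : Type*} [Fintype α] [DecidableEq α] (p : ℕ)
    (G : Subgroup (Equiv.Perm α)) : Prop where
  hp : p.Prime
  hp2 : p ≠ 2
  hα : Fintype.card α = 2 * p
  prim : MulAction.IsPreprimitive G α
  fpf : ∀ g : Equiv.Perm α, g ∈ G → orderOf g = p → ∀ x : α, g x ≠ x

/-- The conclusion of Wielandt's theorem for `G` at the base point `a₀`. -/
def Concl {α : Type*} [Fintype α] [DecidableEq α] (p : ℕ) (G : Subgroup (Equiv.Perm α))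
    (a₀ : α) : Prop :=
  MulAction.IsMultiplyPretransitive G α 2 ∨
    (Nat.card (MulAction.orbitRel.Quotient (MulAction.stabilizer G a₀) α) = 3 ∧
      ∃ a : ℕ, 0 < a ∧ p = 2 * a ^ 2 + 2 * a + 1 ∧ ∀ b : α, b ≠ a₀ →
        Nat.card (MulAction.orbit (MulAction.stabilizer G a₀) b) = a * (2 * a + 1) ∨
        Nat.card (MulAction.orbit (MulAction.stabilizer G a₀) b) = (a + 1) * (2 * a + 1))

/-- Case (I): every element of `N_G(⟨π⟩)` can be corrected by an element of `C_G(π)` so that it
maps `a` into the `⟨π⟩`-orbit of `a`. -/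
def CaseI {α : Type*} (G : Subgroup (Equiv.Perm α)) (π : ↥G) (a : α) : Prop :=
  ∀ n : ↥G, n * π * n⁻¹ ∈ Subgroup.zpowers π →
    ∃ c : ↥G, c * π = π * c ∧ ∃ j : ℕ, (n * c) • a = (π ^ j) • a

/-- The permutation character of `G ≤ Sym(α)`. -/
noncomputable def permChar {α : Type*} (G : Subgroup (Equiv.Perm α)) : ↥G → ℂ :=
  fun g => (Nat.card (MulAction.fixedBy α g) : ℂ)

end Cfsg.Agent.Lib.Helper12.W2p
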