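import Mathlib
import Cfsg.Prelude.Def_Amalgam
import Cfsg.Agent.Lib.Helper12.AmalDefs
import Cfsg.Agent.Lib.Helper12.AmalCrit
import Cfsg.Agent.Lib.Helper12.AmalMain
import Cfsg.Agent.Lib.Helper68.AmalDDefs2
import Cfsg.Agent.Lib.Helper7.AmalCFinal

/-!
# S2858 (helper12): the final assembly, modulo case (D)

`CaseD` = what case (D) of `notes/helper68/S2858_core_proof.md` has to deliver: under the induction
hypothesis `CoreBelow |T|` (all amalgams with a smaller `T` have `b = 1`), no critical pair at distance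
`n ≥ 2` starts at a flat vertex.  `S2858_of_caseD : CaseD → ` the statement of S2858: strong induction
on `|T|`; a critical pair exists (`exists_critPair`); `n = 1` is part (A) (`hb_of_critPair_one`,
`b_one`); for `n ≥ 2` case (C) (`Helper7.AmalC.exists_flat_critPair`) leaves case (D).
-/

set_option autoImplicit false

namespace Cfsg.Agent.Lib.Helper12.Amal

open Cfsg Cfsg.Agent.Lib.Helper68.AmalD Cfsg.Agent.Lib.Helper7.AmalC

universe u

/-- what case (D) has to deliver -/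
def CaseD : Prop :=
  ∀ {G : Type u} [Group G] (P₁ P₂ : Subgroup G), Pair P₁ P₂ (P₁ ⊓ P₂) →
    CoreBelow.{u} (Nat.card ↥(P₁ ⊓ P₂)) → ∀ n : ℕ, 2 ≤ n → ∀ x y : CosetVertex P₁ P₂,
      CritPair P₁ P₂ n x y → Cfsg.Agent.Lib.Helper68.AmalD.Flat x → False

/-- `b = 1` for every amalgam, by induction on `|T|` -/
theorem b_one_of_caseD (hD : CaseD.{u}) : ∀ m : ℕ, ∀ {G : Type u} [Group G] (P₁ P₂ : Subgroup G),
    Pair P₁ P₂ (P₁ ⊓ P₂) → Nat.card ↥(P₁ ⊓ P₂) = m →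
      (¬ Zof P₁ ≤ Qof P₂ ∨ ¬ Zof P₂ ≤ Qof P₁) := by
  intro m
  induction m using Nat.strong_induction_on with
  | _ m ih =>
    intro G _ P₁ P₂ h hm
    obtain ⟨n, x, y, hn, hc⟩ := exists_critPair h
    rcases Nat.lt_or_ge n 2 with hlt | hge
    · have hn1 : n = 1 := by omega
      subst hn1
      exact hb_of_critPair_one hc
    · exfalso
      obtain ⟨x', y', hc', hf⟩ := exists_flat_critPair h hge ⟨x, y, hc⟩
      have hcb : CoreBelow.{u} m := fun P₁' P₂' h' hlt => ih _ hlt P₁' P₂' h' rfl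
      rw [← hm] at hcb
      exact hD P₁ P₂ h hcb n hge x' y' hc' hf

/-- the statement of S2858, modulo case (D) -/
theorem S2858_of_caseD (hD : CaseD.{u}) {G : Type u} [Group G] (P₁ P₂ : Subgroup G)
    [Finite ↥P₁] [Finite ↥P₂] (hgen : P₁ ⊔ P₂ = ⊤)
    (T : Subgroup G) (hT : T = P₁ ⊓ P₂)
    (h₁ : ∀ P ∈ ({P₁, P₂} : Set (Subgroup G)),
      P ⊓ Subgroup.centralizer (Cfsg.pCoreOf 2 P : Set G) ≤ Cfsg.pCoreOf 2 P)
    (h₂ : ∀ P ∈ ({P₁, P₂} : Set (Subgroup G)),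
      ∃ S : Sylow 2 ↥P, (S : Subgroup ↥P) = T.subgroupOf P)
    (h₃ : ∀ N : Subgroup G, N.Normal → N ≤ T → N = ⊥)
    (h₄ : ∀ P ∈ ({P₁, P₂} : Set (Subgroup G)),
      Nonempty (↥P ⧸ Cfsg.pCore 2 ↥P ≃* Equiv.Perm (Fin 3)))
    (h₅ : ∀ P ∈ ({P₁, P₂} : Set (Subgroup G)),
      ¬ P ≤ Subgroup.centralizer
        (Cfsg.omegaOne 2 (T ⊓ Subgroup.centralizer (T : Set G)) : Set G)) :
    (Nonempty (↥P₁ ≃* Equiv.Perm (Fin 4)) ∧ Nonempty (↥P₂ ≃* Equiv.Perm (Fin 4))) ∨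
      (Nonempty (↥P₁ ≃* Multiplicative (ZMod 2) × Equiv.Perm (Fin 4)) ∧
        Nonempty (↥P₂ ≃* Multiplicative (ZMod 2) × Equiv.Perm (Fin 4))) := by
  have h := Pair.of_S2858 P₁ P₂ hgen T hT h₁ h₂ h₃ h₄ h₅
  subst hT
  exact b_one P₁ P₂ hgen (P₁ ⊓ P₂) rfl h₁ h₂ h₃ h₄ h₅ (b_one_of_caseD hD _ P₁ P₂ h rfl)

end Cfsg.Agent.Lib.Helper12.Amal
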