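import Mathlib
import Cfsg.Agent.Lib.Helper64.BrauerNNV
import Cfsg.Agent.Lib.Helper17.BT.Defs

/-!
# S0998 module [BT-NV] (helper12, for helper17): port of helper64's `BrauerNNV.lean` from
`RigidData` to `BTData`

In the Brauer–Tuan configuration `BTData p M P e t ε a X Y`:
the irreducible characters outside `X ∪ Y` vanish on `P ∖ 1`; `∑_{x ∈ P} θ(x) = 0` (`ε = 1`) or `p`
(`ε = -1`) for `θ ∈ Y`; `∑_{x ∈ P} |θ(x)|² = p θ(1)` for `θ ∈ Y`.
-/

set_option autoImplicit false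
set_option linter.unusedSectionVars false
set_option linter.unusedVariables false
open Cfsg
open scoped ComplexConjugate

namespace Cfsg.Agent.Lib.Helper12.BT

open Cfsg.Agent.Lib.Helper17.BT
open Cfsg.Agent.Lib.Helper64.BrauerN
open Cfsg.Agent.Lib

section Rigid

variable {G : Type*} [Group G] [Finite G] {p : ℕ} [Fact p.Prime] {P : Sylow p G}
  {M : Ideal Cfsg.AlgInt} {e t : ℕ} {ε : ℤ} {a : IrrCharacter G → ℤ} {X Y : Finset (IrrCharacter G)}

theorem bt_card_erase_one [DecidableEq G] (D : BTData p M P e t ε a X Y) [Fintype (P : Subgroup G)] :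
    ((Finset.univ : Finset (P : Subgroup G)).erase 1).card = p - 1 := by
  rw [Finset.card_erase_of_mem (Finset.mem_univ _), Finset.card_univ, ← Nat.card_eq_fintype_card,
    D.hPcard]

/-- total: `∑_ζ nsP ζ = (p - 1) p`. -/
theorem bt_sum_nsP [DecidableEq G] (D : BTData p M P e t ε a X Y) [Fintype G] [Fintype (P : Subgroup G)] :
    ∑ ζ : IrrCharacter G, nsP P (ζ : G → ℂ) = ((p : ℝ) - 1) * p := by
  unfold nsP
  rw [Finset.sum_comm]
  have h1 : ∀ x ∈ (Finset.univ : Finset (P : Subgroup G)).erase 1,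
      ∑ ζ : IrrCharacter G, Complex.normSq ((ζ : G → ℂ) x) = (p : ℝ) := by
    intro x hx
    have hx1 : (x : G) ≠ 1 := by
      intro h
      exact (Finset.mem_erase.1 hx).1 (Subtype.ext h)
    have h2 := Helper78.second_orthogonality_of_isConj (G := G) (IsConj.refl (x : G))
    rw [D.hcent x x.2 hx1, D.hPcard] at h2
    have h3 : ((∑ ζ : IrrCharacter G, Complex.normSq ((ζ : G → ℂ) x) : ℝ) : ℂ) = (p : ℂ) := by
      rw [← h2]
      push_cast
      apply Finset.sum_congr rfl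
      intro ζ _
      rw [Complex.mul_conj]
    exact_mod_cast h3
  rw [Finset.sum_congr rfl h1, Finset.sum_const, bt_card_erase_one D, nsmul_eq_mul]
  have hp : 1 ≤ p := (Fact.out : p.Prime).one_lt.le
  push_cast [hp]
  ring


theorem bt_nsP_X [DecidableEq G] (D : BTData p M P e t ε a X Y) [Fintype (P : Subgroup G)]
    {χ : IrrCharacter G} (hχ : χ ∈ X) : nsP P (χ : G → ℂ) = (p : ℝ) - 1 := by
  unfold nsP
  have h1 : ∀ x ∈ (Finset.univ : Finset (P : Subgroup G)).erase 1,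
      Complex.normSq ((χ : G → ℂ) x) = 1 := by
    intro x hx
    rw [D.hXval χ hχ x x.2 (ne_one_of_mem_erase hx)]
    rcases D.haX χ hχ with h | h <;> rw [h] <;> simp
  rw [Finset.sum_congr rfl h1, Finset.sum_const, bt_card_erase_one D, nsmul_eq_mul, mul_one]
  have hp : 1 ≤ p := (Fact.out : p.Prime).one_lt.le
  push_cast [hp]
  ring

theorem bt_isMulCommutative_P (D : BTData p M P e t ε a X Y) : IsMulCommutative (P : Subgroup G) := by
  have : Fact (Nat.card (P : Subgroup G)).Prime := ⟨by rw [D.hPcard]; exact Fact.out⟩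
  have hc : IsCyclic (P : Subgroup G) := isCyclic_of_prime_card rfl
  exact IsCyclic.isMulCommutative

/-- restriction of a character of `G` to `P`: multiplicities. -/
theorem bt_exists_mult [DecidableEq G] (D : BTData p M P e t ε a X Y) [Fintype (P : Subgroup G)]
    {φ : G → ℂ} (hφ : IsCharacter G φ) :
    ∃ (n₁ n₂ c : ℕ), φ 1 = (n₁ : ℂ) ∧ n₁ ≤ n₂ ∧ (n₂ = n₁ → c ≤ 1) ∧
      nsP P φ = (p : ℝ) * n₂ - (n₁ : ℝ) ^ 2 ∧
      ∑ x : (P : Subgroup G), φ x = (p : ℂ) * (c : ℂ) := by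
  have := bt_isMulCommutative_P D
  obtain ⟨m, h1, h2, h3⟩ := exists_mult_of_comm (A := (P : Subgroup G))
    (Helper80.isCharacter_restrict (P : Subgroup G) hφ)
  rw [D.hPcard] at h2 h3
  refine ⟨∑ ψ, m ψ, ∑ ψ, (m ψ) ^ 2, m ⟨fun _ => 1, Helper78.isIrrCharacter_one⟩, h1, ?_, ?_, ?_, h3⟩
  · apply Finset.sum_le_sum
    intro ψ _
    exact Nat.le_self_pow (by norm_num) _
  · intro heq
    have h4 := (Finset.sum_eq_sum_iff_of_le (s := Finset.univ) (f := fun ψ => m ψ)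
      (g := fun ψ => (m ψ) ^ 2) (fun ψ _ => Nat.le_self_pow (by norm_num) _)).1 heq.symm
    have h5 := h4 ⟨fun _ => 1, Helper78.isIrrCharacter_one⟩ (Finset.mem_univ _)
    by_contra hlt
    push Not at hlt
    nlinarith
  · unfold nsP
    rw [Finset.sum_erase_eq_sub (Finset.mem_univ _)]
    have h6 : ((∑ x : (P : Subgroup G), Complex.normSq (φ x) : ℝ) : ℂ) =
        (p : ℂ) * ((∑ ψ, (m ψ) ^ 2 : ℕ) : ℂ) := by
      rw [← h2]
      push_cast
      apply Finset.sum_congr rfl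
      intro x _
      rw [Complex.mul_conj]
    have h7 : (∑ x : (P : Subgroup G), Complex.normSq (φ x) : ℝ) =
        (p : ℝ) * ((∑ ψ, (m ψ) ^ 2 : ℕ) : ℝ) := by exact_mod_cast h6
    rw [h7]
    have h8 : φ ((1 : (P : Subgroup G)) : G) = ((∑ ψ, m ψ : ℕ) : ℂ) := h1
    rw [h8, Complex.normSq_natCast]
    ring

theorem bt_apply_one_Y (D : BTData p M P e t ε a X Y) {θ : IrrCharacter G} (hθ : θ ∈ Y) :
    (θ : G → ℂ) 1 = (degY p e ε : ℂ) := by
  rw [D.hdegY θ hθ]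
  unfold degY
  split_ifs <;> rfl

theorem bt_q_le_p (D : BTData p M P e t ε a X Y) : e ≤ p := by
  have h1 := D.hpet
  have h2 := D.ht
  nlinarith

theorem bt_degY_mul (D : BTData p M P e t ε a X Y) :
    (degY p e ε : ℝ) * ((p : ℝ) - degY p e ε) = e * ((p : ℝ) - e) := by
  unfold degY
  have := bt_q_le_p D
  split_ifs
  · ring
  · push_cast [this]
    ring

theorem bt_lowB_le [DecidableEq G] (D : BTData p M P e t ε a X Y) [Fintype (P : Subgroup G)]
    (ζ : IrrCharacter G) : lowB p e X Y ζ ≤ nsP P (ζ : G → ℂ) := by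
  classical
  unfold lowB
  by_cases hX : ζ ∈ X
  · have hY : ζ ∉ Y := fun h => (Finset.disjoint_left.1 D.hdisj) hX h
    rw [if_pos hX, if_neg hY, bt_nsP_X D hX, add_zero]
  · by_cases hY : ζ ∈ Y
    · rw [if_neg hX, if_pos hY, zero_add]
      obtain ⟨n₁, n₂, c, h1, h2, -, h4, -⟩ := bt_exists_mult D
        (Helper78.IsIrrCharacter.isCharacter ζ.2)
      rw [bt_apply_one_Y D hY] at h1
      have h5 : degY p e ε = n₁ := by exact_mod_cast h1
      rw [h4, ← bt_degY_mul D, h5]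
      have h6 : (n₁ : ℝ) ≤ n₂ := by exact_mod_cast h2
      have hp : (0 : ℝ) ≤ p := Nat.cast_nonneg _
      nlinarith
    · rw [if_neg hX, if_neg hY, zero_add]
      exact nsP_nonneg P _

theorem bt_sum_lowB (D : BTData p M P e t ε a X Y) :
    ∑ ζ : IrrCharacter G, lowB p e X Y ζ = ((p : ℝ) - 1) * p := by
  classical
  unfold lowB
  rw [Finset.sum_add_distrib, Finset.sum_ite_mem, Finset.sum_ite_mem, Finset.univ_inter,
    Finset.univ_inter, Finset.sum_const, Finset.sum_const, D.hXcard, D.hYcard, nsmul_eq_mul,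
    nsmul_eq_mul]
  have h1 : (p : ℝ) = e * t + 1 := by exact_mod_cast D.hpet
  rw [h1]
  ring

theorem bt_nsP_eq_lowB [DecidableEq G] (D : BTData p M P e t ε a X Y) [Fintype G]
    [Fintype (P : Subgroup G)] (ζ : IrrCharacter G) :
    nsP P (ζ : G → ℂ) = lowB p e X Y ζ := by
  have h1 := (Finset.sum_eq_sum_iff_of_le (s := Finset.univ) (f := fun ζ => lowB p e X Y ζ)
    (g := fun ζ : IrrCharacter G => nsP P (ζ : G → ℂ)) (fun ζ _ => bt_lowB_le D ζ)).1
    (by rw [bt_sum_lowB D, bt_sum_nsP D])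
  exact (h1 ζ (Finset.mem_univ _)).symm

/-- **[NV] (1)**: the irreducible characters outside `X ∪ Y` vanish on `P ∖ 1`. -/
theorem bt_rigid_apply_eq_zero_of_not_mem (D : BTData p M P e t ε a X Y) {ζ : IrrCharacter G}
    (hX : ζ ∉ X) (hY : ζ ∉ Y) {x : G} (hx : x ∈ (P : Subgroup G)) (hx1 : x ≠ 1) :
    (ζ : G → ℂ) x = 0 := by
  classical
  have : Fintype G := Fintype.ofFinite G
  have : Fintype (P : Subgroup G) := Fintype.ofFinite _
  have h1 := bt_nsP_eq_lowB D ζ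
  unfold lowB at h1
  rw [if_neg hX, if_neg hY, add_zero] at h1
  unfold nsP at h1
  have h2 := (Finset.sum_eq_zero_iff_of_nonneg (fun _ _ => Complex.normSq_nonneg _)).1 h1
    ⟨x, hx⟩ (Finset.mem_erase.2 ⟨fun h => hx1 (congrArg Subtype.val h), Finset.mem_univ _⟩)
  exact Complex.normSq_eq_zero.1 h2

theorem bt_nsP_Y [DecidableEq G] (D : BTData p M P e t ε a X Y) [Fintype G]
    [Fintype (P : Subgroup G)] {θ : IrrCharacter G} (hθ : θ ∈ Y) :
    nsP P (θ : G → ℂ) = (e : ℝ) * ((p : ℝ) - e) := by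
  classical
  have hX : θ ∉ X := fun h => (Finset.disjoint_left.1 D.hdisj) h hθ
  rw [bt_nsP_eq_lowB D θ]
  unfold lowB
  rw [if_neg hX, if_pos hθ, zero_add]

/-- **[NV] (3)**. -/
theorem bt_rigid_finsum_normSq_Y (D : BTData p M P e t ε a X Y) {θ : IrrCharacter G} (hθ : θ ∈ Y) :
    ∑ᶠ x ∈ ((P : Subgroup G) : Set G), (θ : G → ℂ) x * conj ((θ : G → ℂ) x) =
      (p : ℂ) * (θ : G → ℂ) 1 := by
  classical
  have : Fintype G := Fintype.ofFinite G
  have : Fintype (P : Subgroup G) := Fintype.ofFinite _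
  rw [finsum_mem_subgroup]
  have h1 := bt_nsP_Y D hθ
  unfold nsP at h1
  rw [Finset.sum_erase_eq_sub (Finset.mem_univ _)] at h1
  have h2 : (θ : G → ℂ) ((1 : (P : Subgroup G)) : G) = (degY p e ε : ℂ) := bt_apply_one_Y D hθ
  rw [h2, Complex.normSq_natCast, ← bt_degY_mul D] at h1
  have h3 : (∑ x : (P : Subgroup G), Complex.normSq ((θ : G → ℂ) x) : ℝ) =
      (p : ℝ) * (degY p e ε : ℝ) := by linarith
  rw [bt_apply_one_Y D hθ]
  have h4 : ((∑ x : (P : Subgroup G), Complex.normSq ((θ : G → ℂ) x) : ℝ) : ℂ) =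
      (p : ℂ) * (degY p e ε : ℂ) := by rw [h3]; push_cast; ring
  rw [← h4]
  push_cast
  apply Finset.sum_congr rfl
  intro x _
  rw [Complex.mul_conj]

theorem bt_exists_c [DecidableEq G] (D : BTData p M P e t ε a X Y) [Fintype G]
    [Fintype (P : Subgroup G)] {θ : IrrCharacter G} (hθ : θ ∈ Y) :
    ∃ c : ℕ, c ≤ 1 ∧ ∑ x : (P : Subgroup G), (θ : G → ℂ) x = (p : ℂ) * (c : ℂ) := by
  obtain ⟨n₁, n₂, c, h1, h2, h3, h4, h5⟩ := bt_exists_mult D
    (Helper78.IsIrrCharacter.isCharacter θ.2)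
  refine ⟨c, h3 ?_, h5⟩
  rw [bt_apply_one_Y D hθ] at h1
  have h6 : degY p e ε = n₁ := by exact_mod_cast h1
  rw [bt_nsP_Y D hθ, ← bt_degY_mul D, h6] at h4
  have hp : (0 : ℝ) < p := by exact_mod_cast (Fact.out : p.Prime).pos
  have h7 : (n₂ : ℝ) = n₁ := by
    have : (p : ℝ) * n₂ = p * n₁ := by linarith
    exact mul_left_cancel₀ hp.ne' this
  exact_mod_cast h7

/-- the sum over `Y` and `P`. -/
theorem bt_sum_Y_P [DecidableEq G] (D : BTData p M P e t ε a X Y) [Fintype (P : Subgroup G)] :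
    ∑ θ ∈ Y, ∑ x : (P : Subgroup G), (θ : G → ℂ) x =
      (t : ℂ) * (degY p e ε : ℂ) - ((p : ℂ) - 1) * (ε : ℂ) := by
  rw [Finset.sum_comm, ← Finset.add_sum_erase _ _ (Finset.mem_univ (1 : (P : Subgroup G)))]
  have h1 : ∑ θ ∈ Y, (θ : G → ℂ) ((1 : (P : Subgroup G)) : G) = (t : ℂ) * (degY p e ε : ℂ) := by
    have h0 : ∀ θ ∈ Y, (θ : G → ℂ) ((1 : (P : Subgroup G)) : G) = (degY p e ε : ℂ) :=
      fun θ hθ => bt_apply_one_Y D hθ
    rw [Finset.sum_congr rfl h0, Finset.sum_const, D.hYcard, nsmul_eq_mul]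
  have h2 : ∀ x ∈ (Finset.univ : Finset (P : Subgroup G)).erase 1,
      ∑ θ ∈ Y, (θ : G → ℂ) x = -(ε : ℂ) := by
    intro x hx
    exact D.hYsum x x.2 (ne_one_of_mem_erase hx)
  rw [h1, Finset.sum_congr rfl h2, Finset.sum_const, bt_card_erase_one D, nsmul_eq_mul]
  have hp : 1 ≤ p := (Fact.out : p.Prime).one_lt.le
  push_cast [hp]
  ring

/-- **[NV] (2)**. -/
theorem bt_rigid_finsum_Y (D : BTData p M P e t ε a X Y) {θ : IrrCharacter G} (hθ : θ ∈ Y) :
    ∑ᶠ x ∈ ((P : Subgroup G) : Set G), (θ : G → ℂ) x = if ε = 1 then 0 else (p : ℂ) := by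
  classical
  have : Fintype G := Fintype.ofFinite G
  have : Fintype (P : Subgroup G) := Fintype.ofFinite _
  rw [finsum_mem_subgroup]
  have hex : ∀ θ : IrrCharacter G, ∃ c : ℕ, θ ∈ Y →
      (c ≤ 1 ∧ ∑ x : (P : Subgroup G), (θ : G → ℂ) x = (p : ℂ) * (c : ℂ)) := by
    intro θ
    by_cases h : θ ∈ Y
    · obtain ⟨c, hc⟩ := bt_exists_c D h
      exact ⟨c, fun _ => hc⟩
    · exact ⟨0, fun h' => absurd h' h⟩
  choose c hc using hex
  have h1 := bt_sum_Y_P (P := P) D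
  rw [Finset.sum_congr rfl (fun θ hθ => (hc θ hθ).2), ← Finset.mul_sum] at h1
  have hp0 : (p : ℂ) ≠ 0 := by
    have := (Fact.out : p.Prime).pos
    exact_mod_cast this.ne'
  have hpq : p = e * t + 1 := D.hpet
  have hqp := bt_q_le_p D
  rw [(hc θ hθ).2]
  by_cases hε : ε = 1
  · rw [if_pos hε]
    unfold degY at h1
    rw [if_pos hε, hε] at h1
    have h2 : (p : ℂ) * ∑ θ ∈ Y, (c θ : ℂ) = 0 := by
      rw [h1, hpq]
      push_cast
      ring
    have h3 : ∑ θ ∈ Y, (c θ : ℂ) = 0 := by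
      rcases mul_eq_zero.1 h2 with h | h
      · exact absurd h hp0
      · exact h
    have h4 : ∑ θ ∈ Y, c θ = 0 := by exact_mod_cast h3
    have h5 := (Finset.sum_eq_zero_iff.1 h4) θ hθ
    rw [h5]
    simp
  · rw [if_neg hε]
    have hε' : ε = -1 := by
      rcases D.hε with h | h
      · exact absurd h hε
      · exact h
    unfold degY at h1
    rw [if_neg hε, hε'] at h1
    have h2 : (p : ℂ) * ∑ θ ∈ Y, (c θ : ℂ) = (p : ℂ) * (t : ℂ) := by
      rw [h1]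
      push_cast [hqp]
      rw [hpq]
      push_cast
      ring
    have h3 : ∑ θ ∈ Y, (c θ : ℂ) = (t : ℂ) := mul_left_cancel₀ hp0 h2
    have h4 : ∑ θ ∈ Y, c θ = ∑ θ ∈ Y, 1 := by
      rw [Finset.sum_const, D.hYcard, smul_eq_mul, mul_one]
      exact_mod_cast h3
    have h5 := (Finset.sum_eq_sum_iff_of_le (fun θ hθ => (hc θ hθ).1)).1 h4 θ hθ
    rw [h5]
    simp


/-- **[BT-NV]** -/
theorem bt_nv (D : BTData p M P e t ε a X Y) :
    (∀ ζ : IrrCharacter G, ζ ∉ X → ζ ∉ Y → ∀ x : G, x ∈ (P : Subgroup G) → x ≠ 1 →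
      (ζ : G → ℂ) x = 0) ∧
    (∀ θ ∈ Y, ∑ᶠ x ∈ ((P : Subgroup G) : Set G), (θ : G → ℂ) x =
      if ε = 1 then 0 else (p : ℂ)) ∧
    (∀ θ ∈ Y, ∑ᶠ x ∈ ((P : Subgroup G) : Set G), (θ : G → ℂ) x * conj ((θ : G → ℂ) x) =
      (p : ℂ) * (θ : G → ℂ) 1) :=
  ⟨fun ζ hX hY x hx hx1 => bt_rigid_apply_eq_zero_of_not_mem D hX hY hx hx1,
   fun θ hθ => bt_rigid_finsum_Y D hθ,
   fun θ hθ => bt_rigid_finsum_normSq_Y D hθ⟩

end Rigid

end Cfsg.Agent.Lib.Helper12.BT
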