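-- helper12: transitive groups of degree `p + 1` and order `(p+1) p d`, `d < p`: basic structure
-- (module A for S0732).
import Mathlib

set_option autoImplicit false

namespace Cfsg.Agent.Lib.Helper12.DegP1

open MulAction

section general

variable {G Ω : Type*} [Group G] [MulAction G Ω]

/-- orbit-stabiliser for a transitive action, `Nat.card` form -/
theorem card_eq_card_mul_card_stabilizer [IsPretransitive G Ω] (a : Ω) :
    Nat.card G = Nat.card Ω * Nat.card (stabilizer G a) := by
  rw [Subgroup.card_eq_card_quotient_mul_card_subgroup (stabilizer G a)]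
  congr 1
  rw [← Nat.card_congr (orbitEquivQuotientStabilizer G a)]
  rw [orbit_eq_univ G a]
  exact Nat.card_congr (Equiv.Set.univ Ω)

/-- a free action of a finite group `A` on a finite set `X` has `|A|` dividing `|X|` -/
theorem card_dvd_of_free {A X : Type*} [Group A] [MulAction A X]
    (hfree : ∀ x : X, stabilizer A x = ⊥) : Nat.card A ∣ Nat.card X := by
  rw [Nat.card_congr (selfEquivOrbitsQuotientProd hfree), Nat.card_prod]
  exact dvd_mul_left _ _

end general

section main

variable {α : Type*} [Fintype α] [DecidableEq α] {p d : ℕ}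

/-- the point stabiliser has order `p d` -/
theorem card_stabilizer (hα : Fintype.card α = p + 1) (G : Subgroup (Equiv.Perm α))
    [IsPretransitive G α] (hG : Nat.card G = (p + 1) * p * d) (a : α) :
    Nat.card (stabilizer G a) = p * d := by
  have h := card_eq_card_mul_card_stabilizer (G := G) a
  rw [Nat.card_eq_fintype_card (α := α), hα, hG, mul_assoc] at h
  exact (Nat.eq_of_mul_eq_mul_left (Nat.succ_pos p) h).symm

/-- a subgroup of prime order `p` fixing `a` in a faithful action on `p + 1` points is regular on the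
other points -/
theorem regular_of_card_prime (hp : p.Prime) (hα : Fintype.card α = p + 1)
    (G : Subgroup (Equiv.Perm α)) (a : α) (P : Subgroup G) (hPa : P ≤ stabilizer G a)
    (hP : Nat.card P = p) :
    ∀ y z : α, y ≠ a → z ≠ a → ∃! u : P, (u : G) • y = z := by
  classical
  have hpF : Fact p.Prime := ⟨hp⟩
  have hPfin : Finite P := Nat.finite_of_card_ne_zero (by rw [hP]; exact hp.ne_zero)
  -- the complement of `a`
  have hcompl : (Finset.univ.erase a).card = p := by
    rw [Finset.card_erase_of_mem (Finset.mem_univ a), Finset.card_univ, hα]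
    rfl
  -- a nontrivial element
  have hPnt : Nontrivial P := by
    rw [← Finite.one_lt_card_iff_nontrivial, hP]
    exact hp.one_lt
  obtain ⟨u₀, hu₀⟩ := exists_ne (1 : P)
  have hu₀G : ((u₀ : G) : Equiv.Perm α) ≠ 1 := by
    intro h
    apply hu₀
    apply Subtype.ext
    apply Subtype.ext
    exact h
  obtain ⟨c, hc⟩ : ∃ c : α, ((u₀ : G) : Equiv.Perm α) c ≠ c := by
    by_contra hcon
    push Not at hcon
    exact hu₀G (Equiv.ext hcon)
  have hfixa : ∀ u : P, (u : G) • a = a := fun u => mem_stabilizer_iff.mp (hPa u.2)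
  have hca : c ≠ a := by
    rintro rfl
    exact hc (hfixa u₀)
  -- the stabiliser of `c` in `P` is trivial
  have hstab : ∀ y : α, y ≠ a → (∃ u : P, (u : G) • y ≠ y) → stabilizer P y = ⊥ := by
    intro y _ ⟨u, hu⟩
    have hdvd : Nat.card (stabilizer P y) ∣ p := by
      rw [← hP]
      exact Subgroup.card_subgroup_dvd_card _
    rcases (Nat.dvd_prime hp).mp hdvd with h1 | h1
    · exact Subgroup.card_eq_one.mp h1
    · exfalso
      have htop : stabilizer P y = ⊤ := Subgroup.eq_top_of_card_eq _ (by rw [h1, hP])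
      have : u ∈ stabilizer P y := by rw [htop]; exact Subgroup.mem_top u
      exact hu (mem_stabilizer_iff.mp this)
  have hstabc := hstab c hca ⟨u₀, hc⟩
  -- the orbit of `c` is the complement of `a`
  have horb : Nat.card (orbit P c) = p := by
    have h1 := Subgroup.card_eq_card_quotient_mul_card_subgroup (stabilizer P c)
    rw [← Nat.card_congr (orbitEquivQuotientStabilizer P c), hstabc, Subgroup.card_bot, mul_one,
      hP] at h1
    exact h1.symm
  have hsub : ∀ y ∈ orbit P c, y ∈ Finset.univ.erase a := by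
    rintro _ ⟨u, rfl⟩
    rw [Finset.mem_erase]
    refine ⟨?_, Finset.mem_univ _⟩
    intro h
    apply hca
    have h2 : (u : G) • c = (u : G) • a := by rw [hfixa u]; exact h
    exact smul_left_cancel _ h2
  have horbeq : ∀ y : α, y ≠ a → y ∈ orbit P c := by
    have hfin : (orbit P c).Finite := Set.toFinite _
    have hsub' : hfin.toFinset ⊆ Finset.univ.erase a := by
      intro y hy
      exact hsub y (hfin.mem_toFinset.mp hy)
    have hcard : hfin.toFinset.card = p := by
      rw [← horb, Nat.card_coe_set_eq, Set.ncard_eq_toFinset_card _ hfin]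
    have heq : hfin.toFinset = Finset.univ.erase a :=
      Finset.eq_of_subset_of_card_le hsub' (by rw [hcard, hcompl])
    intro y hy
    have : y ∈ Finset.univ.erase a := Finset.mem_erase.mpr ⟨hy, Finset.mem_univ _⟩
    rw [← heq] at this
    exact hfin.mem_toFinset.mp this
  -- all stabilisers are trivial
  have hstab_all : ∀ y : α, y ≠ a → stabilizer P y = ⊥ := by
    intro y hy
    obtain ⟨u, rfl⟩ := horbeq y hy
    rw [stabilizer_smul_eq_stabilizer_map_conj, hstabc, Subgroup.map_bot]
  intro y z hy hz
  obtain ⟨u, hu⟩ := horbeq y hy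
  obtain ⟨w, hw⟩ := horbeq z hz
  refine ⟨w * u⁻¹, ?_, ?_⟩
  · have hu' : (u : G) • c = y := hu
    have hw' : (w : G) • c = z := hw
    show ((w * u⁻¹ : P) : G) • y = z
    rw [Subgroup.coe_mul, Subgroup.coe_inv, mul_smul, ← hu', inv_smul_smul, hw']
  · intro v hv
    have h1 : (v : G) • y = z := hv
    have hu' : (u : G) • c = y := hu
    have hw' : (w : G) • c = z := hw
    have h2 : (w⁻¹ * v * u) ∈ stabilizer P c := by
      rw [mem_stabilizer_iff]
      show ((w⁻¹ * v * u : P) : G) • c = c
      rw [Subgroup.coe_mul, Subgroup.coe_mul, Subgroup.coe_inv, mul_smul, mul_smul, hu', h1, ← hw',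
        inv_smul_smul]
    rw [hstabc, Subgroup.mem_bot] at h2
    calc v = w * (w⁻¹ * v * u) * u⁻¹ := by group
      _ = w * u⁻¹ := by rw [h2, mul_one]

/-- the point stabiliser has a normal subgroup of order `p`, regular on the other points -/
theorem exists_kernel (hp : p.Prime) (hα : Fintype.card α = p + 1) (G : Subgroup (Equiv.Perm α))
    [IsPretransitive G α] (hG : Nat.card G = (p + 1) * p * d) (hd : d < p) (a : α) :
    ∃ P : Subgroup G, P ≤ stabilizer G a ∧ Nat.card P = p ∧
      (∀ g ∈ stabilizer G a, ∀ u ∈ P, g * u * g⁻¹ ∈ P) ∧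
      (∀ y z : α, y ≠ a → z ≠ a → ∃! u : P, (u : G) • y = z) := by
  classical
  have hpF : Fact p.Prime := ⟨hp⟩
  have hcard := card_stabilizer hα G hG a
  have hd0 : d ≠ 0 := by
    rintro rfl
    rw [mul_zero] at hG
    have := Nat.card_pos (α := G)
    omega
  let Q : Sylow p (stabilizer G a) := default
  have hQ : Nat.card Q = p := by
    obtain ⟨k, hk⟩ := IsPGroup.iff_card.mp Q.2
    have hdvd : Nat.card Q ∣ p * d := by
      rw [← hcard]
      exact Subgroup.card_subgroup_dvd_card _
    have hpdvd : p ∣ Nat.card Q := Q.dvd_card_of_dvd_card (by rw [hcard]; exact dvd_mul_right p d)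
    rw [hk] at hdvd hpdvd ⊢
    have hk1 : k ≠ 0 := by
      rintro rfl
      rw [pow_zero] at hpdvd
      exact hp.one_lt.ne' (Nat.dvd_one.mp hpdvd)
    have hk2 : k < 2 := by
      by_contra hge
      push Not at hge
      have h1 : p ^ 2 ∣ p * d := (pow_dvd_pow p hge).trans hdvd
      rw [pow_two] at h1
      have h2 : p ∣ d := Nat.dvd_of_mul_dvd_mul_left hp.pos h1
      have := Nat.le_of_dvd (Nat.pos_of_ne_zero hd0) h2
      omega
    have : k = 1 := by omega
    rw [this, pow_one]
  have hidx : (Q : Subgroup (stabilizer G a)).index = d := by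
    have h1 := Subgroup.card_mul_index (Q : Subgroup (stabilizer G a))
    rw [hQ, hcard] at h1
    exact Nat.eq_of_mul_eq_mul_left hp.pos h1
  have hnum : Nat.card (Sylow p (stabilizer G a)) = 1 := by
    have h1 := card_sylow_modEq_one p (stabilizer G a)
    have h2 := Sylow.card_dvd_index Q
    rw [hidx] at h2
    have h3 := Nat.le_of_dvd (Nat.pos_of_ne_zero hd0) h2
    have h4 : Nat.card (Sylow p (stabilizer G a)) < p := by omega
    have h5 : Nat.card (Sylow p (stabilizer G a)) % p = 1 % p := h1
    rw [Nat.mod_eq_of_lt h4, Nat.mod_eq_of_lt hp.one_lt] at h5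
    exact h5
  have hsub : Subsingleton (Sylow p (stabilizer G a)) :=
    (Nat.card_eq_one_iff_unique.mp hnum).1
  have hQn : (Q : Subgroup (stabilizer G a)).Normal := Sylow.normal_of_subsingleton Q
  refine ⟨(Q : Subgroup (stabilizer G a)).map (stabilizer G a).subtype, Subgroup.map_subtype_le _,
    ?_, ?_, ?_⟩
  · rw [Subgroup.card_map_of_injective (stabilizer G a).subtype_injective, hQ]
  · rintro g hg _ ⟨u, hu, rfl⟩
    exact ⟨⟨g, hg⟩ * u * ⟨g, hg⟩⁻¹, hQn.conj_mem u hu ⟨g, hg⟩, rfl⟩
  · apply regular_of_card_prime hp hα G a _ (Subgroup.map_subtype_le _)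
    rw [Subgroup.card_map_of_injective (stabilizer G a).subtype_injective, hQ]

section withKernel

variable (hp : p.Prime) (G : Subgroup (Equiv.Perm α))
  (hker : ∀ a : α, ∃ P : Subgroup G, P ≤ stabilizer G a ∧ Nat.card P = p ∧
      (∀ g ∈ stabilizer G a, ∀ u ∈ P, g * u * g⁻¹ ∈ P) ∧
      (∀ y z : α, y ≠ a → z ≠ a → ∃! u : P, (u : G) • y = z))

include hker in
/-- double transitivity -/
theorem two_trans [IsPretransitive G α] {a b c e : α} (hab : a ≠ b) (hce : c ≠ e) :
    ∃ g : G, g • a = c ∧ g • b = e := by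
  obtain ⟨g₁, hg₁⟩ := exists_smul_eq G a c
  obtain ⟨P, hPa, -, -, hreg⟩ := hker c
  have h1 : g₁ • b ≠ c := by
    intro h
    apply hab
    rw [← hg₁] at h
    exact (smul_left_cancel _ h).symm
  obtain ⟨u, hu, -⟩ := hreg (g₁ • b) e h1 hce.symm
  refine ⟨(u : G) * g₁, ?_, ?_⟩
  · rw [mul_smul, hg₁]
    exact mem_stabilizer_iff.mp (hPa u.2)
  · rw [mul_smul]
    exact hu

include hp hker in
/-- only the identity fixes three points -/
theorem three_point (g : G) {a b c : α} (hab : a ≠ b) (hac : a ≠ c) (hbc : b ≠ c)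
    (ha : g • a = a) (hb : g • b = b) (hc : g • c = c) : g = 1 := by
  obtain ⟨P, hPa, hPcard, hPn, hreg⟩ := hker a
  have hpF : Fact p.Prime := ⟨hp⟩
  have hfixa : ∀ u : P, (u : G) • a = a := fun u => mem_stabilizer_iff.mp (hPa u.2)
  obtain ⟨v, hv, hvuniq⟩ := hreg b c hab.symm hac.symm
  -- `g` commutes with `v`
  have hgv : g * (v : G) * g⁻¹ = (v : G) := by
    have hmem : g * (v : G) * g⁻¹ ∈ P := hPn g (mem_stabilizer_iff.mpr ha) v v.2
    have h1 : (g * (v : G) * g⁻¹) • b = c := by
      have hb' : g⁻¹ • b = b := by rw [inv_smul_eq_iff, hb]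
      rw [mul_smul, mul_smul, hb', hv, hc]
    have := hvuniq ⟨_, hmem⟩ h1
    exact congrArg Subtype.val this
  have hv1 : v ≠ 1 := by
    rintro rfl
    apply hbc
    have : ((1 : P) : G) • b = c := hv
    rw [Subgroup.coe_one, one_smul] at this
    exact this
  -- `v` generates `P`
  have hgen : ∀ u : P, u ∈ Subgroup.zpowers v := by
    have hPfin : Finite P := Nat.finite_of_card_ne_zero (by rw [hPcard]; exact hp.ne_zero)
    have h1 : Subgroup.zpowers v = ⊤ := by
      apply Subgroup.eq_top_of_card_eq
      rw [Nat.card_zpowers, hPcard]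
      exact orderOf_eq_prime (by rw [← hPcard]; exact pow_card_eq_one') hv1
    intro u
    rw [h1]
    exact Subgroup.mem_top u
  have hcomm : ∀ u : P, g * (u : G) = (u : G) * g := by
    intro u
    obtain ⟨k, rfl⟩ := Subgroup.mem_zpowers_iff.mp (hgen u)
    have h1 : Commute g (v : G) := by
      show g * (v : G) = (v : G) * g
      calc g * (v : G) = g * (v : G) * g⁻¹ * g := by group
        _ = (v : G) * g := by rw [hgv]
    rw [Subgroup.coe_zpow]
    exact (h1.zpow_right k).eq
  -- `g` fixes every point
  apply Subtype.ext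
  apply Equiv.ext
  intro y
  show g • y = y
  by_cases hya : y = a
  · rw [hya, ha]
  · obtain ⟨u, hu, -⟩ := hreg b y hab.symm hya
    rw [← hu, ← mul_smul, hcomm u, mul_smul, hb]

include hker in
/-- the order of a two-point stabiliser -/
theorem card_two_stabilizer (hstab : ∀ a : α, Nat.card (stabilizer G a) = p * d) {a b : α}
    (hab : a ≠ b) : Nat.card (stabilizer G a ⊓ stabilizer G b : Subgroup G) = d := by
  obtain ⟨P, hPa, hPcard, hPn, hreg⟩ := hker a
  have hp0 : p ≠ 0 := by
    rintro rfl
    have hfin : Finite P := inferInstance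
    have := Nat.card_pos (α := P)
    omega
  have hfixa : ∀ u : P, (u : G) • a = a := fun u => mem_stabilizer_iff.mp (hPa u.2)
  let f : P × (stabilizer G a ⊓ stabilizer G b : Subgroup G) → stabilizer G a := fun x =>
    ⟨(x.1 : G) * (x.2 : G), Subgroup.mul_mem _ (hPa x.1.2) (x.2.2.1)⟩
  have hfinj : Function.Injective f := by
    rintro ⟨u, h⟩ ⟨u', h'⟩ heq
    have h1 : (u : G) * (h : G) = (u' : G) * (h' : G) := congrArg Subtype.val heq
    have hb1 : (h : G) • b = b := mem_stabilizer_iff.mp h.2.2
    have hb2 : (h' : G) • b = b := mem_stabilizer_iff.mp h'.2.2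
    have h2 : (u : G) • b = (u' : G) • b := by
      calc (u : G) • b = ((u : G) * (h : G)) • b := by rw [mul_smul, hb1]
        _ = ((u' : G) * (h' : G)) • b := by rw [h1]
        _ = (u' : G) • b := by rw [mul_smul, hb2]
    have hub : (u' : G) • b ≠ a := by
      intro h3
      apply hab
      rw [← hfixa u'] at h3
      exact (smul_left_cancel _ h3).symm
    obtain ⟨w, -, hw⟩ := hreg b ((u' : G) • b) hab.symm hub
    have huu' : u = u' := (hw u h2).trans (hw u' rfl).symm
    subst huu'
    have hh : (h : G) = (h' : G) := mul_left_cancel h1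
    rw [Prod.mk.injEq]
    exact ⟨rfl, Subtype.ext hh⟩
  have hfsurj : Function.Surjective f := by
    rintro ⟨g, hg⟩
    have hga : g • a = a := mem_stabilizer_iff.mp hg
    have hgb : g • b ≠ a := by
      intro h3
      apply hab
      rw [← hga] at h3
      exact (smul_left_cancel _ h3).symm
    obtain ⟨u, hu, -⟩ := hreg b (g • b) hab.symm hgb
    refine ⟨(u, ⟨(u : G)⁻¹ * g, ?_, ?_⟩), ?_⟩
    · exact Subgroup.mul_mem _ (Subgroup.inv_mem _ (hPa u.2)) hg
    · show (u : G)⁻¹ * g ∈ stabilizer G b
      rw [mem_stabilizer_iff, mul_smul, ← hu, inv_smul_smul]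
    · apply Subtype.ext
      show (u : G) * ((u : G)⁻¹ * g) = g
      rw [mul_inv_cancel_left]
  have hcard := Nat.card_congr (Equiv.ofBijective f ⟨hfinj, hfsurj⟩)
  rw [Nat.card_prod, hPcard, hstab a] at hcard
  exact Nat.eq_of_mul_eq_mul_left (Nat.pos_of_ne_zero hp0) hcard

/-- the order of a two-point stabiliser divides `p - 1` -/
theorem dvd_sub_one (hα : Fintype.card α = p + 1) (G : Subgroup (Equiv.Perm α))
    (h3 : ∀ (g : G) {a b c : α}, a ≠ b → a ≠ c → b ≠ c → g • a = a → g • b = b → g • c = c → g = 1)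
    {a b : α} (hab : a ≠ b) :
    Nat.card (stabilizer G a ⊓ stabilizer G b : Subgroup G) ∣ p - 1 := by
  classical
  let S : SubMulAction (stabilizer G a ⊓ stabilizer G b : Subgroup G) α :=
    { carrier := {y | y ≠ a ∧ y ≠ b}
      smul_mem' := by
        rintro ⟨g, hga, hgb⟩ y ⟨hya, hyb⟩
        have ha : g • a = a := mem_stabilizer_iff.mp hga
        have hb : g • b = b := mem_stabilizer_iff.mp hgb
        constructor
        · intro h
          apply hya
          have h' : g • y = a := h
          rw [← ha] at h'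
          exact smul_left_cancel _ h'
        · intro h
          apply hyb
          have h' : g • y = b := h
          rw [← hb] at h'
          exact smul_left_cancel _ h' }
  have hfree : ∀ y : S, stabilizer (stabilizer G a ⊓ stabilizer G b : Subgroup G) y = ⊥ := by
    intro y
    rw [Subgroup.eq_bot_iff_forall]
    rintro ⟨g, hga, hgb⟩ hg
    have hy : g • (y : α) = (y : α) := by
      have := mem_stabilizer_iff.mp hg
      exact congrArg Subtype.val this
    apply Subtype.ext
    exact h3 g hab (Ne.symm y.2.1) (Ne.symm y.2.2) (mem_stabilizer_iff.mp hga)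
      (mem_stabilizer_iff.mp hgb) hy
  have hdvd := card_dvd_of_free hfree
  have hcardS : Nat.card S = p - 1 := by
    have h1 : Nat.card S = Nat.card {y : α // y ≠ a ∧ y ≠ b} := rfl
    rw [h1, Nat.card_eq_fintype_card, Fintype.card_subtype]
    have h2 : Finset.univ.filter (fun y : α => y ≠ a ∧ y ≠ b) = Finset.univ \ {a, b} := by
      ext y
      simp only [Finset.mem_filter, Finset.mem_univ, true_and, Finset.mem_sdiff, Finset.mem_insert,
        Finset.mem_singleton, not_or]
    rw [h2, Finset.card_sdiff_of_subset (Finset.subset_univ _), Finset.card_univ, hα,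
      Finset.card_pair hab]
    rfl
  rw [hcardS] at hdvd
  exact hdvd

end withKernel

end main

end Cfsg.Agent.Lib.Helper12.DegP1
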