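-- helper12: transitive groups of degree `p + 1` and order `(p+1) p (p-1)`: `PGL(2,p)`
-- (module B for S0732).
import Mathlib
import Cfsg.Agent.S0727
import Cfsg.Agent.S0730
import Cfsg.Agent.Lib.Helper12.DegP1A

set_option autoImplicit false

namespace Cfsg.Agent.Lib.Helper12.DegP1

open MulAction Matrix

section congr

/-- an isomorphism of groups maps the centre onto the centre -/
theorem map_center_of_mulEquiv {A B : Type*} [Group A] [Group B] (e : A ≃* B) :
    (Subgroup.center A).map e.toMonoidHom = Subgroup.center B := by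
  ext y
  rw [Subgroup.mem_map]
  constructor
  · rintro ⟨x, hx, rfl⟩
    rw [Subgroup.mem_center_iff] at hx ⊢
    intro g
    obtain ⟨g', rfl⟩ := e.surjective g
    show e g' * e x = e x * e g'
    rw [← map_mul, ← map_mul, hx g']
  · intro hy
    rw [Subgroup.mem_center_iff] at hy
    refine ⟨e.symm y, ?_, e.apply_symm_apply y⟩
    rw [Subgroup.mem_center_iff]
    intro g
    apply e.injective
    rw [map_mul, map_mul, e.apply_symm_apply]
    exact hy (e g)

/-- a ring isomorphism induces an isomorphism of general linear groups -/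
def glCongr {R S : Type*} [CommRing R] [CommRing S] (n : Type*) [Fintype n]
    [DecidableEq n] (σ : R ≃+* S) : GL n R ≃* GL n S :=
  Units.mapEquiv (RingEquiv.mapMatrix σ).toMulEquiv

/-- a ring isomorphism induces an isomorphism of projective general linear groups -/
noncomputable def pglCongr {R S : Type*} [CommRing R] [CommRing S] (n : Type*) [Fintype n]
    [DecidableEq n] (σ : R ≃+* S) : ProjGenLinGroup n R ≃* ProjGenLinGroup n S :=
  QuotientGroup.congr (Subgroup.center (GL n R)) (Subgroup.center (GL n S))
    (glCongr n σ) (map_center_of_mulEquiv (glCongr n σ))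

end congr

section main

variable {α : Type*} [Fintype α] [DecidableEq α] {p : ℕ}

/-- a two-point stabiliser of order `p - 1` with the three-point property is transitive on the
remaining points -/
theorem trans_two_stabilizer (hα : Fintype.card α = p + 1) (G : Subgroup (Equiv.Perm α))
    (h3 : ∀ (g : G) {a b c : α}, a ≠ b → a ≠ c → b ≠ c → g • a = a → g • b = b → g • c = c → g = 1)
    {a b : α} (hab : a ≠ b)
    (hcard : Nat.card (stabilizer G a ⊓ stabilizer G b : Subgroup G) = p - 1)
    {y z : α} (hya : y ≠ a) (hyb : y ≠ b) (hza : z ≠ a) (hzb : z ≠ b) :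
    ∃ g : G, g • a = a ∧ g • b = b ∧ g • y = z := by
  classical
  let X := {w : α // w ≠ a ∧ w ≠ b}
  have hX : Nat.card X = p - 1 := by
    rw [Nat.card_eq_fintype_card, Fintype.card_subtype]
    have h2 : Finset.univ.filter (fun w : α => w ≠ a ∧ w ≠ b) = Finset.univ \ {a, b} := by
      ext w
      simp only [Finset.mem_filter, Finset.mem_univ, true_and, Finset.mem_sdiff, Finset.mem_insert,
        Finset.mem_singleton, not_or]
    rw [h2, Finset.card_sdiff_of_subset (Finset.subset_univ _), Finset.card_univ, hα,
      Finset.card_pair hab]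
    rfl
  let f : (stabilizer G a ⊓ stabilizer G b : Subgroup G) → X := fun g =>
    ⟨(g : G) • y, by
      have ha : (g : G) • a = a := mem_stabilizer_iff.mp g.2.1
      have hb : (g : G) • b = b := mem_stabilizer_iff.mp g.2.2
      constructor
      · intro h
        apply hya
        exact smul_left_cancel _ (h.trans ha.symm)
      · intro h
        apply hyb
        exact smul_left_cancel _ (h.trans hb.symm)⟩
  have hfinj : Function.Injective f := by
    intro g g' hgg'
    have h1 : (g : G) • y = (g' : G) • y := congrArg Subtype.val hgg'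
    have ha : (g : G) • a = a := mem_stabilizer_iff.mp g.2.1
    have hb : (g : G) • b = b := mem_stabilizer_iff.mp g.2.2
    have ha' : (g' : G) • a = a := mem_stabilizer_iff.mp g'.2.1
    have hb' : (g' : G) • b = b := mem_stabilizer_iff.mp g'.2.2
    have h2 : ((g' : G)⁻¹ * (g : G)) = 1 := by
      apply h3 _ hab (Ne.symm hya) (Ne.symm hyb)
      · rw [mul_smul, ha, inv_smul_eq_iff, ha']
      · rw [mul_smul, hb, inv_smul_eq_iff, hb']
      · rw [mul_smul, h1, inv_smul_smul]
    apply Subtype.ext
    exact (inv_mul_eq_one.mp h2).symm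
  have hfbij : Function.Bijective f :=
    Function.Injective.bijective_of_nat_card_le hfinj (by rw [hX, hcard])
  obtain ⟨g, hg⟩ := hfbij.2 ⟨z, hza, hzb⟩
  exact ⟨g, mem_stabilizer_iff.mp g.2.1, mem_stabilizer_iff.mp g.2.2, congrArg Subtype.val hg⟩

/-- **Module B**: two-transitive with the three-point property and two-point stabilisers of order
`p - 1` on `p + 1` points: `PGL(2,p)`. -/
theorem pgl_case (hp : p.Prime) (hα : Fintype.card α = p + 1) (G : Subgroup (Equiv.Perm α))
    (h2 : ∀ {a b c e : α}, a ≠ b → c ≠ e → ∃ g : G, g • a = c ∧ g • b = e)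
    (h3 : ∀ (g : G) {a b c : α}, a ≠ b → a ≠ c → b ≠ c → g • a = a → g • b = b → g • c = c → g = 1)
    (hcard : ∀ {a b : α}, a ≠ b →
      Nat.card (stabilizer G a ⊓ stabilizer G b : Subgroup G) = p - 1) :
    Nonempty (G ≃* ProjGenLinGroup (Fin 2) (ZMod p)) := by
  have hpF : Fact p.Prime := ⟨hp⟩
  -- sharp triple transitivity
  have h3t : IsMultiplyPretransitive G α 3 := by
    refine ⟨fun x y => ?_⟩
    have hx01 : x 0 ≠ x 1 := fun h => by simpa using x.injective h
    have hx02 : x 0 ≠ x 2 := fun h => by simpa using x.injective h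
    have hx12 : x 1 ≠ x 2 := fun h => by simpa using x.injective h
    have hy01 : y 0 ≠ y 1 := fun h => by simpa using y.injective h
    have hy02 : y 0 ≠ y 2 := fun h => by simpa using y.injective h
    have hy12 : y 1 ≠ y 2 := fun h => by simpa using y.injective h
    obtain ⟨g₁, hg0, hg1⟩ := h2 hx01 hy01
    have hz0 : g₁ • x 2 ≠ y 0 := by
      intro h
      rw [← hg0] at h
      exact hx02 (smul_left_cancel _ h).symm
    have hz1 : g₁ • x 2 ≠ y 1 := by
      intro h
      rw [← hg1] at h
      exact hx12 (smul_left_cancel _ h).symm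
    obtain ⟨g₂, h20, h21, h22⟩ := trans_two_stabilizer hα G h3 hy01 (hcard hy01) hz0 hz1
      (Ne.symm hy02) (Ne.symm hy12)
    refine ⟨g₂ * g₁, ?_⟩
    ext i
    rw [Function.Embedding.smul_apply, mul_smul]
    fin_cases i
    · show g₂ • g₁ • x 0 = y 0
      rw [hg0, h20]
    · show g₂ • g₁ • x 1 = y 1
      rw [hg1, h21]
    · show g₂ • g₁ • x 2 = y 2
      rw [h22]
  have hsharp : ∀ x : Fin 3 ↪ α, stabilizer G x = ⊥ := by
    intro x
    rw [Subgroup.eq_bot_iff_forall]
    intro g hg
    have hx01 : x 0 ≠ x 1 := fun h => by simpa using x.injective h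
    have hx02 : x 0 ≠ x 2 := fun h => by simpa using x.injective h
    have hx12 : x 1 ≠ x 2 := fun h => by simpa using x.injective h
    have hgx : g • x = x := mem_stabilizer_iff.mp hg
    have hi : ∀ i, g • x i = x i := fun i => by
      have := DFunLike.congr_fun hgx i
      rwa [Function.Embedding.smul_apply] at this
    exact h3 g hx01 hx02 hx12 (hi 0) (hi 1) (hi 2)
  obtain ⟨F, instF, instFT, hF, ⟨ε⟩⟩ : ∃ (F : Type) (_ : Field F) (_ : Fintype F),
      Fintype.card F = p ^ 1 ∧ Nonempty (G ≃* ProjGenLinGroup (Fin 2) F) := by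
    by_cases hp2 : p = 2
    · subst hp2
      exact Cfsg.Agent.S0727.result (f := 1) le_rfl (by rw [hα, pow_one]) G h3t hsharp
    · exact Cfsg.Agent.S0730.result (f := 1) hp hp2 odd_one (by rw [hα, pow_one]) G h3t hsharp
  rw [pow_one] at hF
  have σ : ZMod p ≃+* F := ZMod.ringEquivOfPrime F hp hF
  exact ⟨ε.trans (pglCongr (Fin 2) σ.symm)⟩

end main

end Cfsg.Agent.Lib.Helper12.DegP1
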