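-- helper12: transitive groups of degree `p + 1` and order `(p+1) p d`, `1 < d < p - 1`, without
-- regular normal subgroup: `PSL(2,p)` (module C for S0732).
import Mathlib
import Cfsg.Agent.S0741
import Cfsg.Agent.S0885
import Cfsg.Agent.Lib.Helper5.PSL2Small
import Cfsg.Agent.Lib.Helper21.ElemAbPSL
import Cfsg.Agent.Lib.Helper12.DegP1A

set_option autoImplicit false

namespace Cfsg.Agent.Lib.Helper12.DegP1

open MulAction Matrix
open scoped MatrixGroups

section arith

/-- `x ↦ x (x² - 1)` is injective on the natural numbers `≥ 1` -/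
theorem cube_sub_inj {x y : ℕ} (hx : 1 ≤ x) (hy : 1 ≤ y)
    (h : x * (x ^ 2 - 1) = y * (y ^ 2 - 1)) : x = y := by
  have mono : ∀ a b : ℕ, 1 ≤ a → a < b → a * (a ^ 2 - 1) < b * (b ^ 2 - 1) := by
    intro a b ha hab
    have h1 : a ^ 2 - 1 ≤ b ^ 2 - 1 := by
      have : a ^ 2 ≤ b ^ 2 := Nat.pow_le_pow_left hab.le 2
      omega
    have h2 : 0 < b ^ 2 - 1 := by
      have : 2 ≤ b := by omega
      have : 2 ^ 2 ≤ b ^ 2 := Nat.pow_le_pow_left this 2
      omega
    calc a * (a ^ 2 - 1) ≤ a * (b ^ 2 - 1) := Nat.mul_le_mul_left a h1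
      _ < b * (b ^ 2 - 1) := Nat.mul_lt_mul_of_pos_right hab h2
  rcases Nat.lt_trichotomy x y with hlt | heq | hgt
  · exact absurd h (mono x y hx hlt).ne
  · exact heq
  · exact absurd h.symm (mono y x hy hgt).ne

end arith

section main

/-- three distinct points as an embedding of `Fin 3` -/
def emb3 {α : Type*} (a b c : α) (hab : a ≠ b) (hac : a ≠ c) (hbc : b ≠ c) : Fin 3 ↪ α :=
  ⟨![a, b, c], by
    intro i j h
    fin_cases i <;> fin_cases j <;> simp_all⟩

variable {α : Type*} [Fintype α] [DecidableEq α] {p d : ℕ}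

/-- **Module C**: the Zassenhaus case. -/
theorem zassenhaus_case (hp : p.Prime) (hα : Fintype.card α = p + 1)
    (G : Subgroup (Equiv.Perm α)) [IsPretransitive G α] (hG : Nat.card G = (p + 1) * p * d)
    (hd : d < p) (hd1 : d < p - 1) (hd2 : 1 < d)
    (hnoreg : ∀ N : Subgroup G, N.Normal → IsPretransitive N α → ∃ a : α, stabilizer N a ≠ ⊥)
    (h731 : ∀ (hZ : Cfsg.IsZassenhausGroup G α) (x : α) (F : Subgroup G)
      (_ : F ≤ stabilizer G x) (_ : (F.subgroupOf (stabilizer G x)).Normal)
      (_ : IsMulCommutative F) (_ : ∀ y z : α, y ≠ x → z ≠ x → ∃! u : F, (u : G) • y = z),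
      (IsMultiplyPretransitive G α 3 ∧ ∀ t : Fin 3 ↪ α, stabilizer G t = ⊥) ∨
      ∃ (K : Type) (_ : Field K) (_ : Fintype K), ringChar K ≠ 2 ∧
        Nonempty (G ≃* Matrix.ProjectiveSpecialLinearGroup (Fin 2) K)) :
    2 * d = p - 1 ∧ Nonempty (G ≃* Matrix.ProjectiveSpecialLinearGroup (Fin 2) (ZMod p)) := by
  classical
  have hpF : Fact p.Prime := ⟨hp⟩
  have hker := fun a : α => exists_kernel hp hα G hG hd a
  have hstab := fun a : α => card_stabilizer hα G hG a
  have h3 : ∀ (g : G) {a b c : α}, a ≠ b → a ≠ c → b ≠ c → g • a = a → g • b = b → g • c = c →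
      g = 1 := fun g {a b c} hab hac hbc ha hb hc => three_point hp G hker g hab hac hbc ha hb hc
  have hcard2 : ∀ {a b : α}, a ≠ b →
      Nat.card (stabilizer G a ⊓ stabilizer G b : Subgroup G) = d :=
    fun {a b} hab => card_two_stabilizer G hker hstab hab
  -- two distinct points
  have hα2 : 2 ≤ Fintype.card α := by
    rw [hα]
    have := hp.two_le
    omega
  obtain ⟨a, b, hab⟩ : ∃ a b : α, a ≠ b := by
    have : Nontrivial α := Fintype.one_lt_card_iff_nontrivial.mp (by omega)
    exact exists_pair_ne α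
  -- the Zassenhaus property
  have hZ : Cfsg.IsZassenhausGroup G α := by
    refine ⟨inferInstance, ?_, ?_, ?_, hnoreg⟩
    · rw [is_two_pretransitive_iff]
      intro a b c e hab hce
      exact two_trans G hker hab hce
    · intro g a b c hab hbc hac ha hb hc
      exact h3 g hab hac hbc ha hb hc
    · have hnt : Nontrivial (stabilizer G a ⊓ stabilizer G b : Subgroup G) := by
        rw [← Finite.one_lt_card_iff_nontrivial, hcard2 hab]
        exact hd2
      obtain ⟨g, hg⟩ := exists_ne (1 : (stabilizer G a ⊓ stabilizer G b : Subgroup G))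
      refine ⟨(g : G), ?_, a, b, hab, mem_stabilizer_iff.mp g.2.1, mem_stabilizer_iff.mp g.2.2⟩
      intro h
      exact hg (Subtype.ext h)
  -- the kernel at `a`
  obtain ⟨P, hPa, hPcard, hPn, hreg⟩ := hker a
  have hPfin : Finite P := Nat.finite_of_card_ne_zero (by rw [hPcard]; exact hp.ne_zero)
  have hPcyc : IsCyclic P := isCyclic_of_prime_card hPcard
  have hPcomm : IsMulCommutative P := inferInstance
  -- `p - 1 ≤ 2 d`
  have hle : p - 1 ≤ 2 * d := by
    rcases Nat.even_or_odd d with hev | hodd
    · have := Cfsg.Agent.S0741.result hZ hab (by rw [hcard2 hab]; exact hev)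
      rw [hcard2 hab, hα] at this
      omega
    · have hfix : ∀ u ∈ P, u ≠ 1 → ∀ c : α, u • c = c → c = a := by
        intro u hu hu1 c hc
        by_contra hca
        apply hu1
        obtain ⟨w, -, hw⟩ := hreg c c hca hca
        have h1 := hw ⟨u, hu⟩ hc
        have h2 := hw 1 (by show ((1 : P) : G) • c = c; rw [Subgroup.coe_one, one_smul])
        have := h1.trans h2.symm
        exact congrArg Subtype.val this
      rcases Cfsg.Agent.S0885.result hZ hab p d hα (hcard2 hab) hodd P hPa
        (by rw [hPcard, hα]) hfix with h | ⟨-, ⟨u, v, huv⟩, -⟩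
      · omega
      · exfalso
        exact huv (hPcomm.is_comm.comm u v)
  -- `2 d = p - 1`
  have hdvd : d ∣ p - 1 := by
    have := dvd_sub_one hα G h3 hab
    rwa [hcard2 hab] at this
  have h2d : 2 * d = p - 1 := by
    obtain ⟨k, hk⟩ := hdvd
    have hk2 : 2 ≤ k := by
      by_contra hk2
      push Not at hk2
      interval_cases k
      · omega
      · omega
    have : d * 2 ≤ d * k := Nat.mul_le_mul_left d hk2
    omega
  refine ⟨h2d, ?_⟩
  -- apply the classification of Zassenhaus groups with abelian kernel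
  have hPn' : (P.subgroupOf (stabilizer G a)).Normal := by
    constructor
    intro n hn g
    rw [Subgroup.mem_subgroupOf] at hn ⊢
    exact hPn (g : G) g.2 (n : G) hn
  rcases h731 hZ a P hPa hPn' hPcomm hreg with ⟨h3t, hsharp⟩ | ⟨K, instK, instKT, hK2, ⟨ε⟩⟩
  · -- sharply 3-transitive is impossible
    exfalso
    obtain ⟨c, hca, hcb⟩ : ∃ c : α, c ≠ a ∧ c ≠ b := by
      have h3c : 2 < Fintype.card α := by
        rw [hα]
        have := hp.two_le
        omega
      have hex := Finset.exists_mem_notMem_of_card_lt_card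
        (show ({a, b} : Finset α).card < (Finset.univ : Finset α).card by
          rw [Finset.card_pair hab, Finset.card_univ]; exact h3c)
      obtain ⟨c, -, hc⟩ := hex
      simp only [Finset.mem_insert, Finset.mem_singleton, not_or] at hc
      exact ⟨c, hc.1, hc.2⟩
    -- the two-point stabiliser is transitive on the remaining points, so `d ≥ p - 1`
    have hinj : ∀ y : α, y ≠ a → y ≠ b → ∃ g : G, g • a = a ∧ g • b = b ∧ g • c = y := by
      intro y hya hyb
      obtain ⟨g, hg⟩ := h3t.exists_smul_eq (emb3 a b c hab hca.symm hcb.symm)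
        (emb3 a b y hab hya.symm hyb.symm)
      refine ⟨g, ?_, ?_, ?_⟩
      · exact DFunLike.congr_fun hg 0
      · exact DFunLike.congr_fun hg 1
      · exact DFunLike.congr_fun hg 2
    -- count
    let X := {w : α // w ≠ a ∧ w ≠ b}
    have hX : Nat.card X = p - 1 := by
      rw [Nat.card_eq_fintype_card, Fintype.card_subtype]
      have h2 : Finset.univ.filter (fun w : α => w ≠ a ∧ w ≠ b) = Finset.univ \ {a, b} := by
        ext w
        simp only [Finset.mem_filter, Finset.mem_univ, true_and, Finset.mem_sdiff,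
          Finset.mem_insert, Finset.mem_singleton, not_or]
      rw [h2, Finset.card_sdiff_of_subset (Finset.subset_univ _), Finset.card_univ, hα,
        Finset.card_pair hab]
      rfl
    have hle2 : Nat.card X ≤ Nat.card (stabilizer G a ⊓ stabilizer G b : Subgroup G) := by
      let f : X → (stabilizer G a ⊓ stabilizer G b : Subgroup G) := fun y =>
        ⟨(hinj y.1 y.2.1 y.2.2).choose,
          mem_stabilizer_iff.mpr (hinj y.1 y.2.1 y.2.2).choose_spec.1,
          mem_stabilizer_iff.mpr (hinj y.1 y.2.1 y.2.2).choose_spec.2.1⟩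
      have hf : Function.Injective f := by
        intro y y' hyy'
        have h1 : (hinj y.1 y.2.1 y.2.2).choose = (hinj y'.1 y'.2.1 y'.2.2).choose :=
          congrArg Subtype.val hyy'
        apply Subtype.ext
        rw [← (hinj y.1 y.2.1 y.2.2).choose_spec.2.2, ← (hinj y'.1 y'.2.1 y'.2.2).choose_spec.2.2,
          h1]
      exact Nat.card_le_card_of_injective f hf
    rw [hX, hcard2 hab] at hle2
    omega
  · -- `PSL(2,K)` with `|K| = p`
    have h2K : (2 : K) ≠ 0 := by
      intro h
      apply hK2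
      have : CharP K (ringChar K) := ringChar.charP K
      have hdvd2 : ringChar K ∣ 2 := by
        have := (CharP.cast_eq_zero_iff K (ringChar K) 2).mp (by exact_mod_cast h)
        exact this
      have hprime : (ringChar K).Prime := CharP.char_is_prime K (ringChar K)
      exact (Nat.prime_dvd_prime_iff_eq hprime Nat.prime_two).mp hdvd2
    have hcK := Cfsg.Agent.Lib.Helper5.card_PSL2_mul (F := K)
    rw [Cfsg.Agent.Lib.Helper5.card_center_SL2_of_two_ne_zero h2K,
      ← Nat.card_congr ε.toEquiv, hG] at hcK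
    have hq1 : 1 ≤ Fintype.card K := Fintype.card_pos
    have hp1 : 1 ≤ p := hp.one_lt.le
    have hKp : Fintype.card K = p := by
      apply cube_sub_inj hq1 hp1
      rw [← hcK]
      have h4 : p ^ 2 - 1 = (p + 1) * (p - 1) := by
        obtain ⟨r, rfl⟩ : ∃ r, p = r + 1 := ⟨p - 1, by omega⟩
        have : (r + 1) ^ 2 = (r + 1 + 1) * r + 1 := by ring
        rw [this]
        simp
      rw [h4, ← h2d]
      ring
    have σ : ZMod p ≃+* K := ZMod.ringEquivOfPrime K hp hKp
    obtain ⟨τ⟩ := Cfsg.Agent.Lib.Helper21.nonempty_psl_mulEquiv_of_ringEquiv σ.symm (Fin 2)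
    exact ⟨ε.trans τ⟩

end main

end Cfsg.Agent.Lib.Helper12.DegP1
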