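import Mathlib

/-!
# A parity argument for symmetric "difference sets" in `ZMod p`

Combinatorial core of: a subgroup of index `p` in a doubly transitive group of prime degree `p`
whose Sylow `p`-normaliser has even order fixes a point.
-/

set_option autoImplicit false

namespace Cfsg.Agent.Lib.Helper12

open Finset

variable {p : ℕ} [Fact p.Prime]

/-- A proper nonempty subset of `ZMod p` has trivial translation stabiliser. -/
theorem translate_inj (D : Finset (ZMod p)) (hD0 : D.Nonempty) (hD1 : D ≠ univ) (e : ZMod p)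
    (he : ∀ x, x - e ∈ D ↔ x ∈ D) : e = 0 := by
  by_contra hne
  have hn : ∀ (n : ℕ) (x : ZMod p), x - n * e ∈ D ↔ x ∈ D := by
    intro n
    induction n with
    | zero => intro x; simp
    | succ n ih =>
      intro x
      rw [Nat.cast_succ, add_mul, one_mul, ← sub_sub, he, ih]
  obtain ⟨x0, hx0⟩ := hD0
  apply hD1
  rw [Finset.eq_univ_iff_forall]
  intro y
  have := hn ((x0 - y) * e⁻¹).val x0
  rw [ZMod.natCast_zmod_val, mul_assoc, inv_mul_cancel₀ hne, mul_one, sub_sub_cancel] at this
  exact this.mpr hx0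

theorem two_ne_zero_zmod (hp2 : p ≠ 2) : (2 : ZMod p) ≠ 0 := by
  intro h2
  have : ((2 : ℕ) : ZMod p) = 0 := by exact_mod_cast h2
  rw [ZMod.natCast_eq_zero_iff] at this
  exact hp2 ((Nat.prime_dvd_prime_iff_eq (Fact.out : p.Prime) Nat.prime_two).mp this)

/-- parity of the number of representations of `d` as a difference in a symmetric set -/
theorem card_filter_sym_parity (hp2 : p ≠ 2) (E : Finset (ZMod p))
    (hsym : ∀ x, -x ∈ E ↔ x ∈ E) (d : ZMod p) :
    Odd (univ.filter (fun i : ZMod p => 0 - i ∈ E ∧ d - i ∈ E)).card ↔ d * 2⁻¹ ∈ E := by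
  classical
  have h2 := two_ne_zero_zmod hp2
  obtain ⟨m, hm⟩ : ∃ m : ZMod p, m = d * 2⁻¹ := ⟨_, rfl⟩
  have hmm : m + m = d := by
    rw [hm, ← two_mul, mul_comm, mul_assoc, inv_mul_cancel₀ h2, mul_one]
  obtain ⟨T, hT⟩ : ∃ T : Finset (ZMod p),
      T = univ.filter (fun i : ZMod p => 0 - i ∈ E ∧ d - i ∈ E) := ⟨_, rfl⟩
  have hmemT : ∀ i, i ∈ T ↔ (0 - i ∈ E ∧ d - i ∈ E) := by
    intro i; rw [hT]; simp
  have hsum : ∑ i ∈ T, (if i = m then (0 : ZMod 2) else 1) = 0 := by
    apply Finset.sum_involution (fun i _ => d - i)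
    · intro a _
      by_cases ha : a = m
      · have : d - a = m := by rw [ha, ← hmm]; ring
        rw [if_pos ha, if_pos this, add_zero]
      · have : d - a ≠ m := by
          intro h
          apply ha
          rw [← hmm] at h
          linear_combination -h
        rw [if_neg ha, if_neg this]
        decide
    · intro a _ hne hfix
      by_cases ha : a = m
      · rw [if_pos ha] at hne; exact hne rfl
      · apply ha
        have h2a : 2 * a = 2 * m := by rw [two_mul, two_mul, hmm]; linear_combination -hfix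
        exact mul_left_cancel₀ h2 h2a
    · intro a ha
      rw [hmemT] at ha ⊢
      refine ⟨?_, ?_⟩
      · have : 0 - (d - a) = -(d - a) := by ring
        rw [this, hsym]; exact ha.2
      · have : d - (d - a) = -(0 - a) := by ring
        rw [this, hsym]; exact ha.1
    · intro a _
      ring
  have hcard : (T.card : ZMod 2) = if m ∈ T then 1 else 0 := by
    have h1 : (T.card : ZMod 2) = ∑ i ∈ T, (1 : ZMod 2) := by simp
    have h3 : ∑ i ∈ T, (1 : ZMod 2) =
        ∑ i ∈ T, (if i = m then (0 : ZMod 2) else 1) + ∑ i ∈ T, (if i = m then (1 : ZMod 2) else 0) := by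
      rw [← Finset.sum_add_distrib]
      apply Finset.sum_congr rfl
      intro i _
      by_cases hi : i = m
      · rw [if_pos hi, if_pos hi, zero_add]
      · rw [if_neg hi, if_neg hi, add_zero]
    rw [h1, h3, hsum, zero_add, Finset.sum_ite_eq']
  rw [← hT, ← hm, ← ZMod.natCast_eq_one_iff_odd, hcard]
  have hmT : m ∈ T ↔ m ∈ E := by
    rw [hmemT]
    have e1 : 0 - m = -m := by ring
    have e2 : d - m = m := by rw [← hmm]; ring
    rw [e1, e2, hsym]
    exact and_self_iff
  constructor
  · intro h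
    by_contra hmE
    rw [if_neg (fun h' => hmE (hmT.mp h'))] at h
    exact zero_ne_one h
  · intro h
    rw [if_pos (hmT.mpr h)]

/-- symmetric case of the difference-set lemma -/
theorem diffset_sym (hp2 : p ≠ 2) (E : Finset (ZMod p)) (hE0 : E.Nonempty) (hE1 : E ≠ univ)
    (hsym : ∀ x, -x ∈ E ↔ x ∈ E)
    (S : Set (Equiv.Perm (ZMod p)))
    (hblock : ∀ g ∈ S, ∀ i : ZMod p, ∃ i' : ZMod p, ∀ x, g x - i' ∈ E ↔ x - i ∈ E)
    (h2 : ∀ d d' : ZMod p, d ≠ 0 → d' ≠ 0 → ∃ g ∈ S, g 0 = 0 ∧ g d = d') :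
    (∀ x, x ∈ E ↔ x = 0) ∨ (∀ x, x ∈ E ↔ x ≠ 0) := by
  classical
  have h2ne := two_ne_zero_zmod hp2
  have hNle : ∀ d d' : ZMod p, d ≠ 0 → d' ≠ 0 →
      (univ.filter (fun i : ZMod p => 0 - i ∈ E ∧ d - i ∈ E)).card ≤
      (univ.filter (fun i : ZMod p => 0 - i ∈ E ∧ d' - i ∈ E)).card := by
    intro d d' hd hd'
    obtain ⟨g, hg, hg0, hgd⟩ := h2 d d' hd hd'
    choose π hπ using hblock g hg
    apply Finset.card_le_card_of_injOn π
    · intro i hi
      simp only [coe_filter, mem_univ, true_and, Set.mem_ofPred_eq] at hi ⊢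
      refine ⟨?_, ?_⟩
      · have := (hπ i 0).mpr hi.1
        rwa [hg0] at this
      · have := (hπ i d).mpr hi.2
        rwa [hgd] at this
    · intro i _ i' _ hii'
      have hii : π i = π i' := hii'
      have htr : ∀ x, x - (i - i') ∈ E ↔ x ∈ E := by
        intro x
        have e1 := hπ i (x + i')
        have e2 := hπ i' (x + i')
        rw [hii] at e1
        have e3 : x + i' - i = x - (i - i') := by ring
        have e4 : x + i' - i' = x := by ring
        rw [e3] at e1
        rw [e4] at e2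
        exact e1.symm.trans e2
      have := translate_inj E hE0 hE1 (i - i') htr
      exact sub_eq_zero.mp this
  have hNeq : ∀ d d' : ZMod p, d ≠ 0 → d' ≠ 0 →
      (univ.filter (fun i : ZMod p => 0 - i ∈ E ∧ d - i ∈ E)).card =
      (univ.filter (fun i : ZMod p => 0 - i ∈ E ∧ d' - i ∈ E)).card :=
    fun d d' hd hd' => le_antisymm (hNle d d' hd hd') (hNle d' d hd' hd)
  have hall : ∀ x x' : ZMod p, x ≠ 0 → x' ≠ 0 → x ∈ E → x' ∈ E := by
    intro x x' hx hx' hxE
    have hd : x * 2 ≠ 0 := mul_ne_zero hx h2ne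
    have hd' : x' * 2 ≠ 0 := mul_ne_zero hx' h2ne
    have e1 := card_filter_sym_parity hp2 E hsym (x * 2)
    have e2 := card_filter_sym_parity hp2 E hsym (x' * 2)
    rw [mul_assoc, mul_inv_cancel₀ h2ne, mul_one] at e1 e2
    rw [hNeq (x * 2) (x' * 2) hd hd'] at e1
    exact e2.mp (e1.mpr hxE)
  by_cases hex : ∃ x : ZMod p, x ≠ 0 ∧ x ∈ E
  · right
    obtain ⟨x0, hx0, hx0E⟩ := hex
    intro x
    constructor
    · intro hx h0
      apply hE1
      rw [Finset.eq_univ_iff_forall]
      intro y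
      by_cases hy : y = 0
      · rw [hy, ← h0]; exact hx
      · exact hall x0 y hx0 hy hx0E
    · intro hx
      exact hall x0 x hx0 hx hx0E
  · left
    push Not at hex
    intro x
    constructor
    · intro hx
      by_contra hne
      exact hex x hne hx
    · intro hx
      obtain ⟨y, hy⟩ := hE0
      have hy0 : y = 0 := by
        by_contra hne
        exact hex y hne hy
      rw [hx, ← hy0]; exact hy

/-- the difference-set lemma: a proper nonempty subset `D` of `ZMod p` whose translates are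
permuted by a doubly transitive set of permutations containing a reflection is a point or the
complement of a point -/
theorem diffset (hp2 : p ≠ 2) (D : Finset (ZMod p)) (hD0 : D.Nonempty) (hD1 : D ≠ univ)
    (S : Set (Equiv.Perm (ZMod p)))
    (hblock : ∀ g ∈ S, ∀ i : ZMod p, ∃ i' : ZMod p, ∀ x, g x - i' ∈ D ↔ x - i ∈ D)
    (h2 : ∀ d d' : ZMod p, d ≠ 0 → d' ≠ 0 → ∃ g ∈ S, g 0 = 0 ∧ g d = d')
    (t : Equiv.Perm (ZMod p)) (htS : t ∈ S) (c : ZMod p) (ht : ∀ x, t x = -x + c) :
    ∃ e : ZMod p, (∀ x, x ∈ D ↔ x = e) ∨ (∀ x, x ∈ D ↔ x ≠ e) := by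
  classical
  have h2ne := two_ne_zero_zmod hp2
  obtain ⟨i', hi'⟩ := hblock t htS 0
  obtain ⟨u, hu⟩ : ∃ u : ZMod p, u = -((c - i') * 2⁻¹) := ⟨_, rfl⟩
  have hu2 : c - i' = -(u + u) := by
    rw [hu, ← two_mul, mul_neg, neg_neg, mul_comm, mul_assoc, inv_mul_cancel₀ h2ne, mul_one]
  obtain ⟨E, hE⟩ : ∃ E : Finset (ZMod p), E = univ.filter (fun x => x - u ∈ D) := ⟨_, rfl⟩
  have hmemE : ∀ x, x ∈ E ↔ x - u ∈ D := by
    intro x; rw [hE]; simp
  have hE0 : E.Nonempty := by
    obtain ⟨y, hy⟩ := hD0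
    refine ⟨y + u, ?_⟩
    rw [hmemE, add_sub_cancel_right]; exact hy
  have hE1 : E ≠ univ := by
    intro h
    apply hD1
    rw [Finset.eq_univ_iff_forall] at h ⊢
    intro y
    have := (hmemE (y + u)).mp (h _)
    rwa [add_sub_cancel_right] at this
  have hsym : ∀ x, -x ∈ E ↔ x ∈ E := by
    intro x
    rw [hmemE, hmemE]
    have := hi' (x - u)
    rw [ht, sub_zero] at this
    have e1 : -(x - u) + c - i' = -x - u := by
      have : -(x - u) + c - i' = -(x - u) + (c - i') := by ring
      rw [this, hu2]; ring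
    rw [e1] at this
    exact this
  have hblockE : ∀ g ∈ S, ∀ i : ZMod p, ∃ i' : ZMod p, ∀ x, g x - i' ∈ E ↔ x - i ∈ E := by
    intro g hg i
    obtain ⟨j, hj⟩ := hblock g hg (i + u)
    refine ⟨j - u, ?_⟩
    intro x
    rw [hmemE, hmemE]
    have e1 : g x - (j - u) - u = g x - j := by ring
    have e2 : x - i - u = x - (i + u) := by ring
    rw [e1, e2]
    exact hj x
  rcases diffset_sym hp2 E hE0 hE1 hsym S hblockE h2 with h | h
  · refine ⟨-u, Or.inl ?_⟩
    intro x
    have := h (x + u)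
    rw [hmemE, add_sub_cancel_right] at this
    rw [this]
    constructor
    · intro h'; linear_combination h'
    · intro h'; rw [h']; ring
  · refine ⟨-u, Or.inr ?_⟩
    intro x
    have := h (x + u)
    rw [hmemE, add_sub_cancel_right] at this
    rw [this]
    constructor
    · intro h' h''; apply h'; rw [h'']; ring
    · intro h' h''; apply h'; linear_combination h''

end Cfsg.Agent.Lib.Helper12
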