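import Mathlib

/-!
# Class-two groups with derived group of prime order (helper12)

* `Cfsg.Agent.Lib.Helper12.PF11.center_index_sq`: a finite group `P` with `P' ≤ Z(P)` and
  `|P'| ∣ p` has `|P : Z(P)| = p ^ (2 m)` (the symplectic parity argument, by induction).
* `Cfsg.Agent.Lib.Helper12.PF11.exists_radical`: the relative form for a subgroup `H` of a
  finite group with `[H, H] = Z` central in `H` and `N ≤ Z` of index `p`: the radical
  `R = {x ∈ H | [x, H] ≤ N}` has `|H : R| = p ^ (2 m)`.
-/

set_option autoImplicit false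

namespace Cfsg.Agent.Lib.Helper12.PF11

open Subgroup
open scoped commutatorElement

universe u

section parity

variable {P : Type u} [Group P]

/-- In a group whose commutators are central, `g ↦ ⁅g, x⁆` is multiplicative. -/
theorem comm_mul_left_of_central (hc : commutator P ≤ center P) (g g' x : P) :
    ⁅g * g', x⁆ = ⁅g, x⁆ * ⁅g', x⁆ := by
  have h1 : ⁅g', x⁆ ∈ center P :=
    hc (by rw [_root_.commutator_def]; exact commutator_mem_commutator (mem_top _) (mem_top _))
  have h2 : g * ⁅g', x⁆ = ⁅g', x⁆ * g := (mem_center_iff.1 h1 g)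
  calc ⁅g * g', x⁆ = g * ⁅g', x⁆ * x * g⁻¹ * x⁻¹ := by
        simp only [commutatorElement_def]; group
    _ = ⁅g', x⁆ * g * x * g⁻¹ * x⁻¹ := by rw [h2]
    _ = ⁅g', x⁆ * ⁅g, x⁆ := by simp only [commutatorElement_def]; group
    _ = ⁅g, x⁆ * ⁅g', x⁆ := by
        have h3 : ⁅g, x⁆ * ⁅g', x⁆ = ⁅g', x⁆ * ⁅g, x⁆ := (mem_center_iff.1 h1 _)
        rw [h3]

/-- The homomorphism `g ↦ ⁅g, x⁆` into the derived group of a class-two group. -/
noncomputable def commHom (hc : commutator P ≤ center P) (x : P) : P →* ↥(commutator P) where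
  toFun g := ⟨⁅g, x⁆, by
    rw [_root_.commutator_def]; exact commutator_mem_commutator (mem_top _) (mem_top _)⟩
  map_one' := by
    apply Subtype.ext
    simp [commutatorElement_def]
  map_mul' g g' := by
    apply Subtype.ext
    exact comm_mul_left_of_central hc g g' x

theorem commHom_apply (hc : commutator P ≤ center P) (x g : P) :
    ((commHom hc x g : ↥(commutator P)) : P) = ⁅g, x⁆ := rfl

end parity

/-- **Parity lemma**: a finite group with central derived group of order dividing the prime `p`
has centre of index an even power of `p`. -/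
theorem center_index_sq_aux (p : ℕ) (hp : p.Prime) (n : ℕ) :
    ∀ (P : Type u) [Group P] [Finite P], Nat.card P = n → commutator P ≤ center P →
      Nat.card ↥(commutator P) ∣ p → ∃ m : ℕ, (center P).index = p ^ (2 * m) := by
  induction n using Nat.strong_induction_on with
  | _ n ih =>
  intro P _ _ hn hc hcard
  by_cases hbot : commutator P = ⊥
  · -- abelian
    refine ⟨0, ?_⟩
    have h1 : center P = ⊤ := by
      rw [eq_top_iff]
      intro g _
      rw [mem_center_iff]
      intro h
      have h2 : ⁅h, g⁆ ∈ commutator P := by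
        rw [_root_.commutator_def]; exact commutator_mem_commutator (mem_top _) (mem_top _)
      rw [hbot, mem_bot, commutatorElement_def] at h2
      have h3 : h * g = (h * g * h⁻¹ * g⁻¹) * (g * h) := by group
      rw [h3, h2, one_mul]
    rw [h1, index_top]; simp
  · -- `|P'| = p`
    have hcp : Nat.card ↥(commutator P) = p := by
      rcases (Nat.dvd_prime hp).1 hcard with h | h
      · exact absurd (card_eq_one.1 h) hbot
      · exact h
    -- a nontrivial commutator
    have hex : ∃ x y : P, ⁅x, y⁆ ≠ 1 := by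
      by_contra hall
      push Not at hall
      apply hbot
      rw [_root_.commutator_def, commutator_eq_bot_iff_le_centralizer]
      intro g _
      rw [mem_centralizer_iff]
      intro h _
      have h2 := hall g h
      rw [commutatorElement_def] at h2
      have h3 : h * g = (g * h * g⁻¹ * h⁻¹)⁻¹ * (g * h) := by group
      rw [h3, h2, inv_one, one_mul]
    obtain ⟨x, y, hxy⟩ := hex
    set φ : P →* ↥(commutator P) × ↥(commutator P) :=
      (commHom hc x).prod (commHom hc y) with hφ
    set c : ↥(commutator P) := commHom hc y x with hcdef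
    have hc1 : c ≠ 1 := by
      intro h0
      apply hxy
      have := congrArg Subtype.val h0
      rwa [hcdef, commHom_apply] at this
    have : Fact p.Prime := ⟨hp⟩
    have hzp : zpowers c = ⊤ := by
      apply zpowers_eq_top_of_prime_card hcp hc1   -- placeholder
    -- `φ x = (1, c)`, `φ y = (c⁻¹, 1)`
    have hφx : φ x = (1, c) := by
      rw [hφ]
      apply Prod.ext
      · apply Subtype.ext
        simp [commHom_apply]
      · rfl
    have hφy : φ y = (c⁻¹, 1) := by
      rw [hφ]
      apply Prod.ext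
      · apply Subtype.ext
        show ⁅y, x⁆ = ((c⁻¹ : ↥(commutator P)) : P)
        rw [InvMemClass.coe_inv, hcdef, commHom_apply]
        simp only [commutatorElement_def]; group
      · apply Subtype.ext
        simp [commHom_apply]
    -- every element is `y^a x^b k` with `k ∈ ker φ`
    have hdecomp : ∀ g : P, ∃ a b : ℤ, (y ^ a * x ^ b)⁻¹ * g ∈ φ.ker := by
      intro g
      obtain ⟨a, ha⟩ : (φ g).1 ∈ zpowers c := by rw [hzp]; exact mem_top _
      obtain ⟨b, hb⟩ : (φ g).2 ∈ zpowers c := by rw [hzp]; exact mem_top _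
      refine ⟨-a, b, ?_⟩
      rw [MonoidHom.mem_ker, map_mul, map_inv, map_mul, map_zpow, map_zpow, hφx, hφy]
      apply Prod.ext
      · simp only [Prod.fst_mul, Prod.fst_inv, Prod.fst_one]
        simp only [Prod.pow_fst, one_zpow, mul_one]
        rw [← ha]
        group
      · simp only [Prod.snd_mul, Prod.snd_inv, Prod.snd_one]
        simp only [Prod.pow_snd, one_zpow, one_mul]
        rw [← hb]
        group
    -- `φ` is surjective
    have hsurj : Function.Surjective φ := by
      rintro ⟨s, t⟩
      obtain ⟨a, ha⟩ : s ∈ zpowers c := by rw [hzp]; exact mem_top _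
      obtain ⟨b, hb⟩ : t ∈ zpowers c := by rw [hzp]; exact mem_top _
      refine ⟨y ^ (-a) * x ^ b, ?_⟩
      rw [map_mul, map_zpow, map_zpow, hφx, hφy]
      apply Prod.ext
      · simp only [Prod.fst_mul, Prod.pow_fst, one_zpow, mul_one]
        rw [← ha]; group
      · simp only [Prod.snd_mul, Prod.pow_snd, one_zpow, one_mul]
        rw [← hb]
    set C : Subgroup P := φ.ker with hC
    have hCidx : C.index = p * p := by
      rw [hC, index_ker, MonoidHom.range_eq_top.2 hsurj, card_top, Nat.card_prod, hcp]
    -- membership in `C`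
    have hCmem : ∀ g : P, g ∈ C ↔ g * x = x * g ∧ g * y = y * g := by
      intro g
      rw [hC, MonoidHom.mem_ker, hφ, MonoidHom.prod_apply, Prod.mk_eq_one]
      constructor
      · rintro ⟨h1, h2⟩
        have h1' : ⁅g, x⁆ = 1 := by
          have := congrArg Subtype.val h1
          rwa [commHom_apply] at this
        have h2' : ⁅g, y⁆ = 1 := by
          have := congrArg Subtype.val h2
          rwa [commHom_apply] at this
        rw [commutatorElement_def] at h1' h2'
        constructor
        · have h3 : g * x = (g * x * g⁻¹ * x⁻¹) * (x * g) := by group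
          rw [h3, h1', one_mul]
        · have h3 : g * y = (g * y * g⁻¹ * y⁻¹) * (y * g) := by group
          rw [h3, h2', one_mul]
      · rintro ⟨h1, h2⟩
        constructor
        · apply Subtype.ext
          rw [commHom_apply, commutatorElement_def, h1]
          simp
        · apply Subtype.ext
          rw [commHom_apply, commutatorElement_def, h2]
          simp
    have hcenC : center P ≤ C := by
      intro z hz
      rw [hCmem]
      exact ⟨(mem_center_iff.1 hz x).symm, (mem_center_iff.1 hz y).symm⟩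
    -- the centre of `C`
    have hcen : (center P).subgroupOf C = center ↥C := by
      ext k
      rw [mem_subgroupOf, mem_center_iff, mem_center_iff]
      constructor
      · intro h g
        exact Subtype.ext (h g)
      · intro h g
        obtain ⟨a, b, hk⟩ := hdecomp g
        have hkx : (k : P) * x = x * k := ((hCmem k).1 k.2).1
        have hky : (k : P) * y = y * k := ((hCmem k).1 k.2).2
        have hkk : ((y ^ a * x ^ b)⁻¹ * g) * (k : P) = k * ((y ^ a * x ^ b)⁻¹ * g) :=
          congrArg Subtype.val (h ⟨_, hk⟩)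
        have hcx : Commute (k : P) x := hkx
        have hcy : Commute (k : P) y := hky
        have hcyx : Commute (k : P) (y ^ a * x ^ b) :=
          (hcy.zpow_right a).mul_right (hcx.zpow_right b)
        have hg : g = (y ^ a * x ^ b) * ((y ^ a * x ^ b)⁻¹ * g) := by group
        rw [hg]
        have hck : Commute (k : P) ((y ^ a * x ^ b)⁻¹ * g) := hkk.symm
        exact ((hcyx.mul_right hck).eq).symm
    -- induction hypothesis for `C`
    have hCcard : Nat.card ↥C < n := by
      have h1 := card_mul_index C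
      rw [hn, hCidx] at h1
      have hp2 : 2 ≤ p := hp.two_le
      have hpos : 0 < Nat.card ↥C := Nat.card_pos
      have h4 : 4 ≤ p * p := by nlinarith
      rw [← h1]
      nlinarith
    have hCc : commutator ↥C ≤ center ↥C := by
      intro k hk
      rw [← hcen, mem_subgroupOf]
      apply hc
      have h1 : (k : P) ∈ (commutator ↥C).map C.subtype := ⟨k, hk, rfl⟩
      rw [map_subtype_commutator] at h1
      rw [_root_.commutator_def]
      exact commutator_mono le_top le_top h1
    have hCd : Nat.card ↥(commutator ↥C) ∣ p := by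
      have h1 : Nat.card ↥(commutator ↥C) = Nat.card ↥((commutator ↥C).map C.subtype) :=
        (card_map_of_injective C.subtype_injective).symm   -- placeholder
      rw [h1, map_subtype_commutator, ← hcp]
      apply card_dvd_of_le
      rw [_root_.commutator_def]
      exact commutator_mono le_top le_top
    obtain ⟨m', hm'⟩ := ih _ hCcard ↥C rfl hCc hCd
    refine ⟨m' + 1, ?_⟩
    rw [← relIndex_mul_index hcenC, hCidx, relIndex, hcen, hm']
    ring

theorem center_index_sq {P : Type u} [Group P] [Finite P] (p : ℕ) (hp : p.Prime)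
    (hc : commutator P ≤ center P) (hcard : Nat.card ↥(commutator P) ∣ p) :
    ∃ m : ℕ, (center P).index = p ^ (2 * m) :=
  center_index_sq_aux p hp _ P rfl hc hcard

/-- **Relative parity lemma**: `H ≤ G` finite with `[H, H] = Z` central in `H`, `N ≤ Z` of prime
index `p`.  The radical `R = {x ∈ H | [x, H] ⊆ N}` is a subgroup with `|H : R| = p ^ (2 m)`. -/
theorem exists_radical {G : Type u} [Group G] [Finite G] (H Z N : Subgroup G) (p : ℕ)
    (hp : p.Prime) (hZ : ⁅H, H⁆ = Z) (hZc : ∀ z ∈ Z, ∀ h ∈ H, z * h = h * z)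
    (hNZ : N ≤ Z) (hNidx : N.relIndex Z = p) :
    ∃ R : Subgroup G, (∀ x, x ∈ R ↔ x ∈ H ∧ ∀ h ∈ H, x * h * x⁻¹ * h⁻¹ ∈ N) ∧
      ∃ m : ℕ, R.relIndex H = p ^ (2 * m) := by
  have hZH : Z ≤ H := by
    rw [← hZ, commutator_le]
    intro g₁ h₁ g₂ h₂
    rw [commutatorElement_def]
    exact H.mul_mem (H.mul_mem (H.mul_mem h₁ h₂) (H.inv_mem h₁)) (H.inv_mem h₂)
  have hNH : N ≤ H := hNZ.trans hZH
  have hNn : (N.subgroupOf H).Normal := by
    constructor
    intro n hn g
    rw [mem_subgroupOf] at hn ⊢
    have h1 : ((g * n * g⁻¹ : ↥H) : G) = (g : G) * n * (g : G)⁻¹ := rfl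
    rw [h1]
    have h2 : (n : G) * g = g * n := hZc _ (hNZ hn) _ g.2
    have h3 : (g : G) * n * (g : G)⁻¹ = n := by rw [← h2]; group
    rw [h3]; exact hn
  set π := QuotientGroup.mk' (N.subgroupOf H) with hπ
  have hπs : Function.Surjective π := QuotientGroup.mk'_surjective _
  -- the derived group of the quotient
  have hcomm : commutator (↥H ⧸ N.subgroupOf H) = (Z.subgroupOf H).map π := by
    have h1 : commutator ↥H = Z.subgroupOf H := by
      have h2 := map_subtype_commutator H
      rw [hZ] at h2
      rw [← h2]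
      exact (comap_map_eq_self_of_injective H.subtype_injective _).symm
    rw [← h1, _root_.commutator_def, _root_.commutator_def, map_commutator,
      map_top_of_surjective π hπs]
  have hc : commutator (↥H ⧸ N.subgroupOf H) ≤ center (↥H ⧸ N.subgroupOf H) := by
    rw [hcomm]
    rintro _ ⟨z, hz, rfl⟩
    rw [mem_center_iff]
    intro g
    obtain ⟨h, rfl⟩ := hπs g
    rw [← map_mul, ← map_mul]
    congr 1
    apply Subtype.ext
    exact (hZc _ hz _ h.2).symm
  have hcard : Nat.card ↥(commutator (↥H ⧸ N.subgroupOf H)) ∣ p := by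
    rw [hcomm, ← relIndex_ker, QuotientGroup.ker_mk', relIndex_subgroupOf hZH, hNidx]
  obtain ⟨m, hm⟩ := center_index_sq p hp hc hcard
  refine ⟨((center (↥H ⧸ N.subgroupOf H)).comap π).map H.subtype, ?_, m, ?_⟩
  · intro x
    constructor
    · rintro ⟨x', hx', rfl⟩
      refine ⟨x'.2, ?_⟩
      intro h hh
      rw [SetLike.mem_coe, mem_comap, mem_center_iff] at hx'
      have h1 := hx' (π ⟨h⁻¹, H.inv_mem hh⟩)
      rw [← map_mul, ← map_mul, hπ, QuotientGroup.mk'_apply, QuotientGroup.mk'_apply,
        QuotientGroup.eq, mem_subgroupOf] at h1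
      have h2 : (x' : G)⁻¹ * h * x' * h⁻¹ ∈ N := by
        have e : (((⟨h⁻¹, H.inv_mem hh⟩ * x' : ↥H)⁻¹ * (x' * ⟨h⁻¹, H.inv_mem hh⟩) : ↥H) : G)
            = (x' : G)⁻¹ * h * x' * h⁻¹ := by
          simp [mul_assoc]
        rw [← e]; exact h1
      have h3 : (x' : G) * ((x' : G)⁻¹ * h * x' * h⁻¹) =
          ((x' : G)⁻¹ * h * x' * h⁻¹) * x' := (hZc _ (hNZ h2) _ x'.2).symm
      have h4 : H.subtype x' * h * (H.subtype x')⁻¹ * h⁻¹ =
          ((x' : G)⁻¹ * h * x' * h⁻¹)⁻¹ := by
        have e1 : ((x' : G)⁻¹ * h * x' * h⁻¹) =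
            (x' : G) * ((x' : G)⁻¹ * h * x' * h⁻¹) * (x' : G)⁻¹ := by
          rw [h3]; group
        rw [e1]
        simp only [Subgroup.coe_subtype]
        group
      rw [h4]
      exact N.inv_mem h2
    · rintro ⟨hx, hall⟩
      refine ⟨⟨x, hx⟩, ?_, rfl⟩
      rw [SetLike.mem_coe, mem_comap, mem_center_iff]
      intro g
      obtain ⟨h, rfl⟩ := hπs g
      rw [← map_mul, ← map_mul, hπ, QuotientGroup.mk'_apply, QuotientGroup.mk'_apply,
        QuotientGroup.eq, mem_subgroupOf]
      have h2 : x * (h : G)⁻¹ * x⁻¹ * ((h : G)⁻¹)⁻¹ ∈ N := hall _ (H.inv_mem h.2)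
      have h3 : x * (x * (h : G)⁻¹ * x⁻¹ * ((h : G)⁻¹)⁻¹) =
          (x * (h : G)⁻¹ * x⁻¹ * ((h : G)⁻¹)⁻¹) * x := (hZc _ (hNZ h2) _ hx).symm
      have e : (((h * ⟨x, hx⟩ : ↥H)⁻¹ * (⟨x, hx⟩ * h) : ↥H) : G) =
          (x * (h : G)⁻¹ * x⁻¹ * ((h : G)⁻¹)⁻¹)⁻¹ := by
        have e1 : (x * (h : G)⁻¹ * x⁻¹ * ((h : G)⁻¹)⁻¹) =
            x⁻¹ * (x * (x * (h : G)⁻¹ * x⁻¹ * ((h : G)⁻¹)⁻¹)) := by group
        rw [e1, h3]
        simp only [Subgroup.coe_mul, Subgroup.coe_inv]
        group
      rw [e]
      exact N.inv_mem h2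
  · rw [relIndex, ← hm, ← index_comap_of_surjective (center (↥H ⧸ N.subgroupOf H)) hπs]
    congr 1
    exact comap_map_eq_self_of_injective H.subtype_injective _

end Cfsg.Agent.Lib.Helper12.PF11
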