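import Mathlib
import Cfsg.Agent.Lib.Helper12.PFElevenE4A

/-!
# PF (11.7), abstract core (helper12)

A finite class-two group `H` with `[H, H] = Z`, `|H : Z| = p ^ q` (`q` an odd prime), acted on
by `U` (centralizing `Z`, `|U|` odd, `[H, U] = H`) and by `W` of order `q` normalizing `U`,
such that `H / Z` is a chief factor for `U W`, has `Z = 1`.
-/

set_option autoImplicit false

namespace Cfsg.Agent.Lib.Helper12.PF11

open Subgroup
open scoped commutatorElement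

variable {G : Type*} [Group G]

/-- Relative version of `Subgroup.relIndex_sup_right`. -/
theorem relIndex_sup_of_le_normalizer' {M K : Subgroup G}
    (hMK : M ≤ normalizer (K : Set G)) : K.relIndex (M ⊔ K) = K.relIndex M := by
  have hK : K ≤ normalizer (K : Set G) := le_normalizer
  have h1 := relIndex_sup_right (M.subgroupOf (normalizer (K : Set G)))
    (K.subgroupOf (normalizer (K : Set G)))
  rw [← subgroupOf_sup hMK hK, relIndex_subgroupOf (sup_le hMK hK),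
    relIndex_subgroupOf hMK] at h1
  exact h1

/-- Elements of the join of two elementwise commuting subgroups are products. -/
theorem exists_mul_of_mem_sup_of_commute' (A B : Subgroup G)
    (hcomm : ∀ a ∈ A, ∀ b ∈ B, a * b = b * a) {x : G} (hx : x ∈ A ⊔ B) :
    ∃ a ∈ A, ∃ b ∈ B, x = a * b := by
  have comm : ∀ (m : ↥A) (n : ↥B), Commute (A.subtype m) (B.subtype n) :=
    fun m n => hcomm m.1 m.2 n.1 n.2
  have hrange : (A.subtype.noncommCoprod B.subtype comm).range = A ⊔ B := by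
    rw [MonoidHom.noncommCoprod_range, range_subtype, range_subtype]
  rw [← hrange] at hx
  obtain ⟨⟨a, b⟩, rfl⟩ := hx
  exact ⟨a.1, a.2, b.1, b.2, rfl⟩

/-- The conjugate subgroup `g V g⁻¹`. -/
def cj (g : G) (V : Subgroup G) : Subgroup G := V.map (MulAut.conj g).toMonoidHom

theorem mem_cj {g x : G} {V : Subgroup G} : x ∈ cj g V ↔ ∃ v ∈ V, g * v * g⁻¹ = x := by
  unfold cj
  rw [mem_map]
  simp only [MulEquiv.coe_toMonoidHom, MulAut.conj_apply]

theorem conj_mem_cj {g v : G} {V : Subgroup G} (hv : v ∈ V) : g * v * g⁻¹ ∈ cj g V :=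
  mem_cj.2 ⟨v, hv, rfl⟩

theorem cj_le_iff {g : G} {V T : Subgroup G} : cj g V ≤ T ↔ ∀ v ∈ V, g * v * g⁻¹ ∈ T := by
  constructor
  · intro h v hv
    exact h (conj_mem_cj hv)
  · intro h x hx
    obtain ⟨v, hv, rfl⟩ := mem_cj.1 hx
    exact h v hv

theorem cj_mono {g : G} {V V' : Subgroup G} (h : V ≤ V') : cj g V ≤ cj g V' :=
  map_mono h

theorem cj_cj (g h : G) (V : Subgroup G) : cj g (cj h V) = cj (g * h) V := by
  ext x
  rw [mem_cj, mem_cj]
  constructor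
  · rintro ⟨y, hy, rfl⟩
    obtain ⟨v, hv, rfl⟩ := mem_cj.1 hy
    exact ⟨v, hv, by group⟩
  · rintro ⟨v, hv, rfl⟩
    exact ⟨h * v * h⁻¹, conj_mem_cj hv, by group⟩

theorem cj_one (V : Subgroup G) : cj 1 V = V := by
  ext x
  rw [mem_cj]
  constructor
  · rintro ⟨v, hv, rfl⟩
    simpa using hv
  · intro hx
    exact ⟨x, hx, by simp⟩

theorem cj_sup (g : G) (A B : Subgroup G) : cj g (A ⊔ B) = cj g A ⊔ cj g B :=
  map_sup A B _

theorem relIndex_cj (g : G) (A B : Subgroup G) : (cj g A).relIndex (cj g B) = A.relIndex B :=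
  relIndex_map_map_of_injective A B (MulAut.conj g).injective

/-- A subgroup stable under conjugation by `g` and `g⁻¹`. -/
theorem cj_eq_self {g : G} {Z : Subgroup G} (h1 : ∀ z ∈ Z, g * z * g⁻¹ ∈ Z)
    (h2 : ∀ z ∈ Z, g⁻¹ * z * g⁻¹⁻¹ ∈ Z) : cj g Z = Z := by
  apply le_antisymm
  · exact cj_le_iff.2 h1
  · intro z hz
    refine mem_cj.2 ⟨g⁻¹ * z * g⁻¹⁻¹, h2 z hz, by group⟩

/-! ### Class-two commutator calculus inside a subgroup -/

theorem cm_swap (x y : G) : ⁅x, y⁆ = ⁅y, x⁆⁻¹ := by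
  simp only [commutatorElement_def]; group

section calculus

variable {H Z : Subgroup G} (hcm : ∀ x ∈ H, ∀ y ∈ H, ⁅x, y⁆ ∈ Z)
  (hZc : ∀ z ∈ Z, ∀ h ∈ H, z * h = h * z) (hZH : Z ≤ H)
include hcm hZc hZH

theorem cm_mul_left {x x' y : G} (hx : x ∈ H) (hx' : x' ∈ H) (hy : y ∈ H) :
    ⁅x * x', y⁆ = ⁅x, y⁆ * ⁅x', y⁆ := by
  have h1 : ⁅x', y⁆ * x = x * ⁅x', y⁆ := hZc _ (hcm _ hx' _ hy) _ hx
  have h2 : ⁅x', y⁆ * ⁅x, y⁆ = ⁅x, y⁆ * ⁅x', y⁆ := hZc _ (hcm _ hx' _ hy) _ (hZH (hcm _ hx _ hy))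
  calc ⁅x * x', y⁆ = (x * ⁅x', y⁆) * x⁻¹ * ⁅x, y⁆ := by
        simp only [commutatorElement_def]; group
    _ = ⁅x', y⁆ * ⁅x, y⁆ := by rw [← h1]; group
    _ = ⁅x, y⁆ * ⁅x', y⁆ := h2

omit hZH in
theorem cm_mul_right {x y y' : G} (hx : x ∈ H) (hy : y ∈ H) (hy' : y' ∈ H) :
    ⁅x, y * y'⁆ = ⁅x, y⁆ * ⁅x, y'⁆ := by
  have h1 : ⁅x, y'⁆ * y = y * ⁅x, y'⁆ := hZc _ (hcm _ hx _ hy') _ hy
  calc ⁅x, y * y'⁆ = ⁅x, y⁆ * (y * ⁅x, y'⁆) * y⁻¹ := by
        simp only [commutatorElement_def]; group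
    _ = ⁅x, y⁆ * ⁅x, y'⁆ := by rw [← h1]; group

omit hcm hZH in
theorem cm_central_left {z y : G} (hz : z ∈ Z) (hy : y ∈ H) : ⁅z, y⁆ = 1 := by
  rw [commutatorElement_def, hZc z hz y hy]; group

omit hcm hZH in
theorem cm_central_right {x z : G} (hx : x ∈ H) (hz : z ∈ Z) : ⁅x, z⁆ = 1 := by
  rw [commutatorElement_def, ← hZc z hz x hx]; group

theorem cm_pow_left {x y : G} (hx : x ∈ H) (hy : y ∈ H) (n : ℕ) :
    ⁅x ^ n, y⁆ = ⁅x, y⁆ ^ n := by
  induction n with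
  | zero => simp
  | succ n ih =>
    rw [pow_succ, cm_mul_left hcm hZc hZH (H.pow_mem hx n) hx hy, ih, pow_succ]

theorem cm_inv_left {x y : G} (hx : x ∈ H) (hy : y ∈ H) : ⁅x⁻¹, y⁆ = ⁅x, y⁆⁻¹ := by
  have h1 := cm_mul_left hcm hZc hZH hx (H.inv_mem hx) hy
  rw [mul_inv_cancel, commutatorElement_one_left] at h1
  exact eq_inv_of_mul_eq_one_right h1.symm

theorem cm_zpow_left {x y : G} (hx : x ∈ H) (hy : y ∈ H) (n : ℤ) :
    ⁅x ^ n, y⁆ = ⁅x, y⁆ ^ n := by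
  cases n with
  | ofNat n => simpa using cm_pow_left hcm hZc hZH hx hy n
  | negSucc n =>
    rw [zpow_negSucc, zpow_negSucc, cm_inv_left hcm hZc hZH (H.pow_mem hx _) hy,
      cm_pow_left hcm hZc hZH hx hy]

theorem cm_zpow_right {x y : G} (hx : x ∈ H) (hy : y ∈ H) (n : ℤ) :
    ⁅x, y ^ n⁆ = ⁅x, y⁆ ^ n := by
  rw [cm_swap x (y ^ n), cm_zpow_left hcm hZc hZH hy hx, cm_swap x y, inv_zpow]

/-- `⁅x ^ a * z, y ^ b * z'⁆ = ⁅x, y⁆ ^ (a * b)`. -/
theorem cm_zpow_mul {x y z z' : G} (hx : x ∈ H) (hy : y ∈ H) (hz : z ∈ Z) (hz' : z' ∈ Z)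
    (a b : ℤ) : ⁅x ^ a * z, y ^ b * z'⁆ = ⁅x, y⁆ ^ (a * b) := by
  have hxa : x ^ a ∈ H := H.zpow_mem hx a
  have hyb : y ^ b ∈ H := H.zpow_mem hy b
  rw [cm_mul_left hcm hZc hZH hxa (hZH hz) (H.mul_mem hyb (hZH hz')),
    cm_central_left hZc hz (H.mul_mem hyb (hZH hz')), mul_one,
    cm_mul_right hcm hZc hxa hyb (hZH hz'), cm_central_right hZc hxa hz', mul_one,
    cm_zpow_left hcm hZc hZH hx hyb, cm_zpow_right hcm hZc hZH hx hy, ← zpow_mul, mul_comm]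

end calculus

/-! ### Invariance -/

/-- `A` is stable under conjugation by the elements of `X`. -/
def Inv (X A : Subgroup G) : Prop := ∀ x ∈ X, ∀ a ∈ A, x * a * x⁻¹ ∈ A

theorem Inv.cj_le {X A : Subgroup G} (h : Inv X A) {x : G} (hx : x ∈ X) : cj x A ≤ A :=
  cj_le_iff.2 (h x hx)

theorem Inv.sup {X A B : Subgroup G} (hA : Inv X A) (hB : Inv X B) : Inv X (A ⊔ B) := by
  intro x hx
  rw [← cj_le_iff, cj_sup]
  exact sup_le_sup (hA.cj_le hx) (hB.cj_le hx)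

theorem Inv.inf {X A B : Subgroup G} (hA : Inv X A) (hB : Inv X B) : Inv X (A ⊓ B) :=
  fun x hx a ha => ⟨hA x hx a ha.1, hB x hx a ha.2⟩

theorem Inv.cj_eq {X A : Subgroup G} (h : Inv X A) {x : G} (hx : x ∈ X) :
    Cfsg.Agent.Lib.Helper12.PF11.cj x A = A :=
  cj_eq_self (h x hx) (h x⁻¹ (X.inv_mem hx))

/-- Transfer of invariance along conjugation by an element normalizing `X`. -/
theorem Inv.cj {X A : Subgroup G} (h : Inv X A) {τ : G} (hτ : ∀ x ∈ X, τ⁻¹ * x * τ ∈ X) :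
    Inv X (cj τ A) := by
  intro x hx y hy
  obtain ⟨a, ha, rfl⟩ := mem_cj.1 hy
  have h1 := h _ (hτ x hx) a ha
  have h2 : x * (τ * a * τ⁻¹) * x⁻¹ = τ * ((τ⁻¹ * x * τ) * a * (τ⁻¹ * x * τ)⁻¹) * τ⁻¹ := by group
  rw [h2]
  exact conj_mem_cj h1

theorem inv_of_le_normalizer {X A : Subgroup G} (h : X ≤ normalizer (A : Set G)) : Inv X A :=
  fun _ hx a ha => ((mem_normalizer_iff.1 (h hx)) a).1 ha

theorem Inv.le_normalizer {X A : Subgroup G} (h : Inv X A) : X ≤ normalizer (A : Set G) := by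
  intro x hx
  rw [mem_normalizer_iff]
  intro a
  constructor
  · exact h x hx a
  · intro ha
    have := h x⁻¹ (X.inv_mem hx) _ ha
    simpa [mul_assoc] using this

theorem cj_finset_sup_le {ι : Type*} (τ : G) (s : Finset ι) (f : ι → Subgroup G) (T : Subgroup G)
    (h : ∀ i ∈ s, cj τ (f i) ≤ T) : cj τ (s.sup f) ≤ T := by
  unfold cj at h ⊢
  rw [map_le_iff_le_comap, Finset.sup_le_iff]
  intro i hi
  rw [← map_le_iff_le_comap]
  exact h i hi

/-! ### The setup -/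

/-- The hypotheses of the core lemma. -/
structure Setup (H U W Z : Subgroup G) (p q : ℕ) : Prop where
  hp : p.Prime
  hq : q.Prime
  hq2 : q ≠ 2
  hZ : ⁅H, H⁆ = Z
  hZc : ∀ z ∈ Z, ∀ h ∈ H, z * h = h * z
  hUH : ∀ u ∈ U, ∀ h ∈ H, u * h * u⁻¹ ∈ H
  hUZ : ∀ u ∈ U, ∀ z ∈ Z, u * z = z * u
  hWH : ∀ w ∈ W, ∀ h ∈ H, w * h * w⁻¹ ∈ H
  hWZ : ∀ w ∈ W, ∀ z ∈ Z, w * z * w⁻¹ ∈ Z
  hWU : ∀ w ∈ W, ∀ u ∈ U, w * u * w⁻¹ ∈ U
  hWcard : Nat.card W = q
  hidx : Z.relIndex H = p ^ q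
  hpow : ∀ h ∈ H, h ^ p ∈ Z
  hchief : ∀ N : Subgroup G, Z ≤ N → N ≤ H → (∀ u ∈ U, ∀ n ∈ N, u * n * u⁻¹ ∈ N) →
    (∀ w ∈ W, ∀ n ∈ N, w * n * w⁻¹ ∈ N) → N = Z ∨ N = H
  hUodd : Odd (Nat.card U)
  hHU : ⁅H, U⁆ = H

namespace Setup

variable {H U W Z : Subgroup G} {p q : ℕ} (S : Setup H U W Z p q)
include S

theorem hcm : ∀ x ∈ H, ∀ y ∈ H, ⁅x, y⁆ ∈ Z := by
  intro x hx y hy
  rw [← S.hZ]
  exact commutator_mem_commutator hx hy

theorem hZH : Z ≤ H := by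
  rw [← S.hZ, commutator_le]
  intro g₁ h₁ g₂ h₂
  rw [commutatorElement_def]
  exact H.mul_mem (H.mul_mem (H.mul_mem h₁ h₂) (H.inv_mem h₁)) (H.inv_mem h₂)

/-- A subgroup between `Z` and `H` is normalized by `H`. -/
theorem conj_mem_of_ge {A : Subgroup G} (hZA : Z ≤ A) (hAH : A ≤ H) {h a : G} (hh : h ∈ H)
    (ha : a ∈ A) : h * a * h⁻¹ ∈ A := by
  have h1 : h * a * h⁻¹ = ⁅h, a⁆ * a := by rw [commutatorElement_def]; group
  rw [h1]
  exact A.mul_mem (hZA (S.hcm h hh a (hAH ha))) ha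

theorem le_normalizer_of_ge {A : Subgroup G} (hZA : Z ≤ A) (hAH : A ≤ H) :
    H ≤ normalizer (A : Set G) := by
  intro h hh
  rw [mem_normalizer_iff]
  intro a
  constructor
  · exact fun ha => S.conj_mem_of_ge hZA hAH hh ha
  · intro ha
    have := S.conj_mem_of_ge hZA hAH (H.inv_mem hh) ha
    simpa [mul_assoc] using this

theorem cm_pow_p {x y : G} (hx : x ∈ H) (hy : y ∈ H) : ⁅x, y⁆ ^ p = 1 := by
  rw [← cm_pow_left S.hcm S.hZc S.hZH hx hy, cm_central_left S.hZc (S.hpow x hx) hy]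

theorem hZexp : ∀ z ∈ Z, z ^ p = 1 := by
  intro z hz
  rw [← S.hZ, Subgroup.commutator_def] at hz
  induction hz using closure_induction with
  | mem x hx =>
    obtain ⟨g₁, h₁, g₂, h₂, rfl⟩ := hx
    exact S.cm_pow_p h₁ h₂
  | one => simp
  | mul a b ha hb iha ihb =>
    have haZ : a ∈ Z := by
      rw [← S.hZ, Subgroup.commutator_def]; exact ha
    have hbZ : b ∈ Z := by
      rw [← S.hZ, Subgroup.commutator_def]; exact hb
    have hab : Commute a b := S.hZc a haZ b (S.hZH hbZ)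
    rw [hab.mul_pow, iha, ihb, one_mul]
  | inv a ha iha => rw [inv_pow, iha, inv_one]

theorem exists_index_p [Finite G] (hZne : Z ≠ ⊥) : ∃ N : Subgroup G, N ≤ Z ∧ N.relIndex Z = p := by
  have hp := S.hp
  have : Fact p.Prime := ⟨hp⟩
  have hpg : IsPGroup p ↥Z := by
    intro z
    refine ⟨1, ?_⟩
    apply Subtype.ext
    rw [pow_one, Subgroup.coe_pow]
    exact S.hZexp z z.2
  obtain ⟨k, hk⟩ := IsPGroup.iff_card.1 hpg
  have hk0 : k ≠ 0 := by
    intro h0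
    rw [h0, pow_zero] at hk
    exact hZne (card_eq_one.1 hk)
  obtain ⟨K, hK⟩ := Sylow.exists_subgroup_card_pow_prime (G := ↥Z) p (n := k - 1)
    (by rw [hk]; exact pow_dvd_pow p (Nat.sub_le k 1))
  refine ⟨K.map Z.subtype, map_subtype_le K, ?_⟩
  have h1 : (K.map Z.subtype).relIndex Z = K.index := by
    rw [relIndex]
    congr 1
    exact comap_map_eq_self_of_injective Z.subtype_injective K
  rw [h1]
  have h2 := card_mul_index K
  rw [hK, hk] at h2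
  have h3 : p ^ k = p ^ (k - 1) * p := by
    rw [← pow_succ]
    congr 1
    omega
  rw [h3] at h2
  exact Nat.eq_of_mul_eq_mul_left (pow_pos hp.pos _) h2

/-- `W` normalizes `U`, in the form needed for `Inv.cj`. -/
theorem hWU' {τ : G} (hτ : τ ∈ W) : ∀ u ∈ U, τ⁻¹ * u * τ ∈ U := by
  intro u hu
  have := S.hWU τ⁻¹ (W.inv_mem hτ) u hu
  rwa [inv_inv] at this

theorem cjZ {τ : G} (hτ : τ ∈ W) : cj τ Z = Z :=
  cj_eq_self (S.hWZ τ hτ) (S.hWZ τ⁻¹ (W.inv_mem hτ))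

end Setup

/-- A minimal `U`-invariant subgroup strictly between `Z` and `H`. -/
structure MinData (H U Z V₀ : Subgroup G) : Prop where
  hZV : Z ≤ V₀
  hnZ : ¬ V₀ ≤ Z
  hVH : V₀ ≤ H
  hne : V₀ ≠ H
  hUV : Inv U V₀
  hmin : ∀ Y : Subgroup G, Z ≤ Y → Y ≤ V₀ → Inv U Y → Y = Z ∨ Y = V₀

namespace Setup

variable {H U W Z : Subgroup G} {p q : ℕ} (S : Setup H U W Z p q)
  {V₀ : Subgroup G} (D : MinData H U Z V₀)
include S D

theorem cjV_ge {σ : G} (hσ : σ ∈ W) : Z ≤ cj σ V₀ := by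
  rw [← S.cjZ hσ]
  exact cj_mono D.hZV

theorem cjV_le {σ : G} (hσ : σ ∈ W) : cj σ V₀ ≤ H :=
  cj_le_iff.2 (fun v hv => S.hWH σ hσ v (D.hVH hv))

theorem cjV_inv {σ : G} (hσ : σ ∈ W) : Inv U (cj σ V₀) := D.hUV.cj (S.hWU' hσ)

theorem cjV_min {σ : G} (hσ : σ ∈ W) (Y : Subgroup G) (hZY : Z ≤ Y) (hY : Y ≤ cj σ V₀)
    (hUY : Inv U Y) : Y = Z ∨ Y = cj σ V₀ := by
  have hσ' : σ⁻¹ ∈ W := W.inv_mem hσ
  have h1 : Z ≤ cj σ⁻¹ Y := by
    rw [← S.cjZ hσ']
    exact cj_mono hZY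
  have h2 : cj σ⁻¹ Y ≤ V₀ := by
    have := cj_mono (g := σ⁻¹) hY
    rwa [cj_cj, inv_mul_cancel, cj_one] at this
  have h3 : Inv U (cj σ⁻¹ Y) := hUY.cj (S.hWU' hσ')
  have h4 : cj σ (cj σ⁻¹ Y) = Y := by rw [cj_cj, mul_inv_cancel, cj_one]
  rcases D.hmin _ h1 h2 h3 with h | h
  · left
    rw [← h4, h, S.cjZ hσ]
  · right
    rw [← h4, h]

omit D in
theorem cjV_relIndex {σ : G} (hσ : σ ∈ W) : Z.relIndex (cj σ V₀) = Z.relIndex V₀ := by
  conv_lhs => rw [← S.cjZ hσ]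
  exact relIndex_cj σ Z V₀

/-- The chain computation. -/
theorem chain (s : Finset G) (hs : ∀ σ ∈ s, σ ∈ W) :
    Z ≤ Z ⊔ s.sup (fun σ => cj σ V₀) ∧ Z ⊔ s.sup (fun σ => cj σ V₀) ≤ H ∧
      Inv U (Z ⊔ s.sup (fun σ => cj σ V₀)) ∧
      ∃ j : ℕ, Z.relIndex (Z ⊔ s.sup (fun σ => cj σ V₀)) = Z.relIndex V₀ ^ j := by
  classical
  induction s using Finset.induction_on with
  | empty =>
    refine ⟨le_sup_left, ?_, ?_, 0, ?_⟩
    · simp [S.hZH]
    · simp only [Finset.sup_empty, bot_le, sup_of_le_left]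
      intro u hu z hz
      have h1 : u * z * u⁻¹ = z := by rw [S.hUZ u hu z hz]; group
      rw [h1]; exact hz
    · simp
  | insert σ s hσs ih =>
    have hσ : σ ∈ W := hs σ (Finset.mem_insert_self σ s)
    obtain ⟨hZA, hAH, hUA, j, hj⟩ := ih (fun τ hτ => hs τ (Finset.mem_insert_of_mem hτ))
    set A := Z ⊔ s.sup (fun σ => cj σ V₀) with hA
    set B := cj σ V₀ with hB
    have hrew : Z ⊔ (insert σ s).sup (fun σ => cj σ V₀) = B ⊔ A := by
      rw [Finset.sup_insert, hA, hB]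
      exact sup_left_comm _ _ _
    rw [hrew]
    have hZB : Z ≤ B := S.cjV_ge D hσ
    have hBH : B ≤ H := S.cjV_le D hσ
    have hUB : Inv U B := S.cjV_inv D hσ
    refine ⟨hZA.trans le_sup_right, sup_le hBH hAH, hUB.sup hUA, ?_⟩
    have h1 : Z.relIndex (B ⊔ A) = Z.relIndex A * A.relIndex (B ⊔ A) :=
      (relIndex_mul_relIndex Z A (B ⊔ A) hZA le_sup_right).symm
    have h2 : A.relIndex (B ⊔ A) = A.relIndex B :=
      relIndex_sup_of_le_normalizer' (hBH.trans (S.le_normalizer_of_ge hZA hAH))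
    have h3 : A.relIndex B = (A ⊓ B).relIndex B := (inf_relIndex_right A B).symm
    rcases S.cjV_min D hσ (A ⊓ B) (le_inf hZA hZB) inf_le_right (hUA.inf hUB) with h | h
    · refine ⟨j + 1, ?_⟩
      rw [h1, h2, h3, h, hj, S.cjV_relIndex hσ, pow_succ]
    · refine ⟨j, ?_⟩
      rw [h1, h2, h3, h, hj, relIndex_self, mul_one]

/-- **Clifford**: `|V₀ : Z| = p`, and `H` is generated by `Z` and the `W`-conjugates of `V₀`. -/
theorem clifford [Finite G] :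
    Z.relIndex V₀ = p ∧
      ∀ T : Subgroup G, Z ≤ T → (∀ σ ∈ W, cj σ V₀ ≤ T) → H ≤ T := by
  classical
  set sW : Finset G := (Set.toFinite (W : Set G)).toFinset with hsW
  have hmem : ∀ σ, σ ∈ sW ↔ σ ∈ W := by
    intro σ
    rw [hsW, Set.Finite.mem_toFinset, SetLike.mem_coe]
  obtain ⟨hZA, hAH, hUA, j, hj⟩ := S.chain D sW (fun σ hσ => (hmem σ).1 hσ)
  set A := Z ⊔ sW.sup (fun σ => cj σ V₀) with hA
  -- `A` is `W`-invariant
  have hWA : Inv W A := by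
    intro τ hτ
    rw [← cj_le_iff, hA, cj_sup]
    refine sup_le ?_ ?_
    · rw [S.cjZ hτ]; exact le_sup_left
    · apply cj_finset_sup_le
      intro σ hσ
      rw [cj_cj]
      have h1 : τ * σ ∈ sW := (hmem _).2 (W.mul_mem hτ ((hmem σ).1 hσ))
      exact (Finset.le_sup (f := fun σ => cj σ V₀) h1).trans le_sup_right
  have hVA : V₀ ≤ A := by
    have h1 : (1 : G) ∈ sW := (hmem 1).2 W.one_mem
    have h2 := Finset.le_sup (f := fun σ => cj σ V₀) h1
    simp only [cj_one] at h2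
    exact h2.trans le_sup_right
  have hAeq : A = H := by
    rcases S.hchief A hZA hAH hUA hWA with h | h
    · exact absurd (h ▸ hVA) D.hnZ
    · exact h
  constructor
  · -- arithmetic
    have hp := S.hp
    have hq := S.hq
    rw [hAeq, S.hidx] at hj
    have hr : Z.relIndex V₀ * V₀.relIndex H = p ^ q := by
      rw [relIndex_mul_relIndex Z V₀ H D.hZV D.hVH, S.hidx]
    obtain ⟨d, hdq, hd⟩ := (Nat.dvd_prime_pow hp).1 (Dvd.intro _ hr)
    have hd0 : d ≠ 0 := by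
      intro h0
      rw [h0, pow_zero] at hd
      exact D.hnZ (relIndex_eq_one.1 hd)
    rw [hd, ← pow_mul] at hj
    have hqdj : q = d * j := Nat.pow_right_injective hp.two_le hj
    have hdd : d ∣ q := Dvd.intro _ hqdj.symm
    rcases (Nat.dvd_prime hq).1 hdd with h1 | h1
    · rw [hd, h1, pow_one]
    · exfalso
      rw [hd, h1] at hr
      have hpos : 0 < p ^ q := pow_pos hp.pos _
      have h2 : V₀.relIndex H = 1 := by
        have : p ^ q * V₀.relIndex H = p ^ q * 1 := by rw [hr, mul_one]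
        exact Nat.eq_of_mul_eq_mul_left hpos this
      exact D.hne (le_antisymm D.hVH (relIndex_eq_one.1 h2))
  · intro T hZT hT
    rw [← hAeq, hA]
    refine sup_le hZT (Finset.sup_le ?_)
    intro σ hσ
    exact hT σ ((hmem σ).1 hσ)

/-- Elements of `V₀` are of the form `x ^ a * z`. -/
theorem exists_zpow_mul (hr : Z.relIndex V₀ = p) {x : G} (hx : x ∈ V₀) (hxZ : x ∉ Z) :
    ∀ v ∈ V₀, ∃ a : ℤ, ∃ z ∈ Z, v = x ^ a * z := by
  have hp := S.hp
  set K := zpowers x ⊔ Z with hK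
  have hZK : Z ≤ K := le_sup_right
  have hKV : K ≤ V₀ := sup_le (by rw [zpowers_le]; exact hx) D.hZV
  have h1 : Z.relIndex K * K.relIndex V₀ = p := by
    rw [relIndex_mul_relIndex Z K V₀ hZK hKV, hr]
  have h2 : Z.relIndex K ≠ 1 := by
    intro h
    apply hxZ
    exact relIndex_eq_one.1 h (le_sup_left (a := zpowers x) (mem_zpowers x))
  have h3 : Z.relIndex K = p := by
    rcases (Nat.dvd_prime hp).1 (Dvd.intro _ h1) with h | h
    · exact absurd h h2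
    · exact h
  have h4 : K.relIndex V₀ = 1 := by
    rw [h3] at h1
    have : p * K.relIndex V₀ = p * 1 := by rw [h1, mul_one]
    exact Nat.eq_of_mul_eq_mul_left hp.pos this
  have h5 : V₀ ≤ K := relIndex_eq_one.1 h4
  intro v hv
  have hcomm : ∀ a ∈ zpowers x, ∀ b ∈ Z, a * b = b * a := by
    intro a ha b hb
    have haH : a ∈ H := D.hVH ((zpowers_le.2 hx) ha)
    exact (S.hZc b hb a haH).symm
  obtain ⟨a, ha, z, hz, rfl⟩ := exists_mul_of_mem_sup_of_commute' (zpowers x) Z hcomm (h5 hv)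
  obtain ⟨k, rfl⟩ := mem_zpowers_iff.1 ha
  exact ⟨k, z, hz, rfl⟩

/-- Some `W`-conjugate of `x` does not commute with `x` (else `H` would be abelian). -/
theorem exists_noncomm [Finite G] (hZne : Z ≠ ⊥) {x : G} (hx : x ∈ V₀) (hxZ : x ∉ Z) :
    ∃ σ ∈ W, ⁅x, σ * x * σ⁻¹⁆ ≠ 1 := by
  by_contra hall
  push Not at hall
  obtain ⟨hr, hgen⟩ := S.clifford D
  have hdec := S.exists_zpow_mul D hr hx hxZ
  have hxH : x ∈ H := D.hVH hx
  -- all conjugates commute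
  have hcc : ∀ σ ∈ W, ∀ τ ∈ W, Commute (σ * x * σ⁻¹) (τ * x * τ⁻¹) := by
    intro σ hσ τ hτ
    have h1 := hall (σ⁻¹ * τ) (W.mul_mem (W.inv_mem hσ) hτ)
    rw [commutatorElement_def] at h1
    have h2 : x * ((σ⁻¹ * τ) * x * (σ⁻¹ * τ)⁻¹) = ((σ⁻¹ * τ) * x * (σ⁻¹ * τ)⁻¹) * x := by
      have e : x * ((σ⁻¹ * τ) * x * (σ⁻¹ * τ)⁻¹) =
          (x * ((σ⁻¹ * τ) * x * (σ⁻¹ * τ)⁻¹) * x⁻¹ * ((σ⁻¹ * τ) * x * (σ⁻¹ * τ)⁻¹)⁻¹) *
            (((σ⁻¹ * τ) * x * (σ⁻¹ * τ)⁻¹) * x) := by group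
      rw [e, h1, one_mul]
    show (σ * x * σ⁻¹) * (τ * x * τ⁻¹) = (τ * x * τ⁻¹) * (σ * x * σ⁻¹)
    have e1 : (σ * x * σ⁻¹) * (τ * x * τ⁻¹) =
        σ * (x * ((σ⁻¹ * τ) * x * (σ⁻¹ * τ)⁻¹)) * σ⁻¹ := by group
    have e2 : (τ * x * τ⁻¹) * (σ * x * σ⁻¹) =
        σ * (((σ⁻¹ * τ) * x * (σ⁻¹ * τ)⁻¹) * x) * σ⁻¹ := by group
    rw [e1, e2, h2]
  -- every element of `H` commutes with every conjugate of `x`
  have hstep1 : ∀ τ ∈ W, H ≤ centralizer ({τ * x * τ⁻¹} : Set G) := by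
    intro τ hτ
    apply hgen
    · intro z hz
      rw [mem_centralizer_iff]
      intro y hy
      rw [Set.mem_singleton_iff] at hy
      subst hy
      exact (S.hZc z hz _ (S.hWH τ hτ x hxH)).symm
    · intro σ hσ
      rw [cj_le_iff]
      intro v hv
      obtain ⟨a, z, hz, rfl⟩ := hdec v hv
      rw [mem_centralizer_iff]
      intro y hy
      rw [Set.mem_singleton_iff] at hy
      subst hy
      have e : σ * (x ^ a * z) * σ⁻¹ = (σ * x * σ⁻¹) ^ a * (σ * z * σ⁻¹) := by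
        rw [conj_zpow]; group
      rw [e]
      have c1 : Commute (τ * x * τ⁻¹) ((σ * x * σ⁻¹) ^ a) := ((hcc σ hσ τ hτ).symm).zpow_right a
      have c2 : Commute (τ * x * τ⁻¹) (σ * z * σ⁻¹) :=
        (S.hZc _ (S.hWZ σ hσ z hz) _ (S.hWH τ hτ x hxH)).symm
      exact (c1.mul_right c2).eq
  -- `H` is abelian
  have hstep2 : H ≤ centralizer (H : Set G) := by
    apply hgen
    · intro z hz
      rw [mem_centralizer_iff]
      intro y hy
      exact (S.hZc z hz y hy).symm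
    · intro σ hσ
      rw [cj_le_iff]
      intro v hv
      obtain ⟨a, z, hz, rfl⟩ := hdec v hv
      rw [mem_centralizer_iff]
      intro y hy
      have e : σ * (x ^ a * z) * σ⁻¹ = (σ * x * σ⁻¹) ^ a * (σ * z * σ⁻¹) := by
        rw [conj_zpow]; group
      rw [e]
      have c0 : Commute y (σ * x * σ⁻¹) := by
        have := hstep1 σ hσ hy
        rw [mem_centralizer_iff] at this
        exact (this _ (Set.mem_singleton _)).symm
      have c1 : Commute y ((σ * x * σ⁻¹) ^ a) := c0.zpow_right a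
      have c2 : Commute y (σ * z * σ⁻¹) := (S.hZc _ (S.hWZ σ hσ z hz) y hy).symm
      exact (c1.mul_right c2).eq
  apply hZne
  rw [← S.hZ]
  exact commutator_eq_bot_iff_le_centralizer.2 hstep2

end Setup

namespace Setup

variable {H U W Z : Subgroup G} {p q : ℕ} (S : Setup H U W Z p q)
include S

/-- If `U` acts trivially on `⟨x⟩ Z / Z` for some `x ∈ H ∖ Z` then we reach a contradiction. -/
theorem false_of_trivial_action {x : G} (hxH : x ∈ H) (hxZ : x ∉ Z)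
    (hall : ∀ v ∈ U, v * x * v⁻¹ * x⁻¹ ∈ Z) : False := by
  have hp := S.hp
  have hZH := S.hZH
  -- central elements are fixed by conjugation inside `H`
  have hfix : ∀ z ∈ Z, ∀ h ∈ H, h * z * h⁻¹ = z := by
    intro z hz h hh
    rw [← S.hZc z hz h hh]; group
  let T : Subgroup G :=
    { carrier := {h | h ∈ H ∧ ∀ u ∈ U, u * h * u⁻¹ * h⁻¹ ∈ Z}
      mul_mem' := by
        rintro h h' ⟨hh, h1⟩ ⟨hh', h2⟩
        refine ⟨H.mul_mem hh hh', ?_⟩
        intro u hu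
        have e : u * (h * h') * u⁻¹ * (h * h')⁻¹ =
            (u * h * u⁻¹ * h⁻¹) * (h * (u * h' * u⁻¹ * h'⁻¹) * h⁻¹) := by group
        rw [e, hfix _ (h2 u hu) h hh]
        exact Z.mul_mem (h1 u hu) (h2 u hu)
      one_mem' := by
        refine ⟨H.one_mem, ?_⟩
        intro u _
        simp
      inv_mem' := by
        rintro h ⟨hh, h1⟩
        refine ⟨H.inv_mem hh, ?_⟩
        intro u hu
        have e : u * h⁻¹ * u⁻¹ * h⁻¹⁻¹ = h⁻¹ * (u * h * u⁻¹ * h⁻¹)⁻¹ * h⁻¹⁻¹ := by group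
        rw [e, hfix _ (Z.inv_mem (h1 u hu)) h⁻¹ (H.inv_mem hh)]
        exact Z.inv_mem (h1 u hu) }
  have hTmem : ∀ h, h ∈ T ↔ h ∈ H ∧ ∀ u ∈ U, u * h * u⁻¹ * h⁻¹ ∈ Z := fun h => Iff.rfl
  have hZT : Z ≤ T := by
    intro z hz
    rw [hTmem]
    refine ⟨hZH hz, ?_⟩
    intro u hu
    rw [S.hUZ u hu z hz]
    simp
  have hTH : T ≤ H := fun h hh => ((hTmem h).1 hh).1
  have hUT : Inv U T := by
    intro u hu h hh
    have e : u * h * u⁻¹ = (u * h * u⁻¹ * h⁻¹) * h := by group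
    rw [e]
    exact T.mul_mem (hZT (((hTmem h).1 hh).2 u hu)) hh
  have hWT : Inv W T := by
    intro w hw h hh
    rw [hTmem]
    refine ⟨S.hWH w hw h (hTH hh), ?_⟩
    intro u hu
    have e : u * (w * h * w⁻¹) * u⁻¹ * (w * h * w⁻¹)⁻¹ =
        w * ((w⁻¹ * u * w) * h * (w⁻¹ * u * w)⁻¹ * h⁻¹) * w⁻¹ := by group
    rw [e]
    exact S.hWZ w hw _ (((hTmem h).1 hh).2 _ (S.hWU' hw u hu))
  have hxT : x ∈ T := (hTmem x).2 ⟨hxH, hall⟩
  have hTeq : T = H := by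
    rcases S.hchief T hZT hTH hUT hWT with h | h
    · exact absurd (h ▸ hxT) hxZ
    · exact h
  have hHUZ : ⁅H, U⁆ ≤ Z := by
    rw [commutator_le]
    intro h hh u hu
    have h1 : h ∈ T := by rw [hTeq]; exact hh
    have h2 := ((hTmem h).1 h1).2 u hu
    have e : ⁅h, u⁆ = (u * h * u⁻¹ * h⁻¹)⁻¹ := by rw [commutatorElement_def]; group
    rw [e]
    exact Z.inv_mem h2
  rw [S.hHU] at hHUZ
  have h1 : Z.relIndex H = 1 := relIndex_eq_one.2 hHUZ
  rw [S.hidx] at h1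
  have h2 : 1 < p ^ q := Nat.one_lt_pow S.hq.ne_zero hp.one_lt
  omega

/-- The character computation: if `⟨x⟩ Z` is `U`-invariant and `x` does not commute with
`σ x σ⁻¹` (`σ ∈ W`), then `U` acts trivially on `⟨x⟩ Z / Z`. -/
theorem trivial_action_of_noncomm [Finite G] {x σ : G} (hxH : x ∈ H) (hσ : σ ∈ W)
    (hdec : ∀ u ∈ U, ∃ a : ℤ, ∃ z ∈ Z, u * x * u⁻¹ = x ^ a * z)
    (hc : ⁅x, σ * x * σ⁻¹⁆ ≠ 1) : ∀ v ∈ U, v * x * v⁻¹ * x⁻¹ ∈ Z := by
  have hp := S.hp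
  have hZH := S.hZH
  have : Fact p.Prime := ⟨hp⟩
  set y := σ * x * σ⁻¹ with hy
  have hyH : y ∈ H := S.hWH σ hσ x hxH
  set c := ⁅x, y⁆ with hcdef
  have hcZ : c ∈ Z := S.hcm x hxH y hyH
  have hcp : c ^ p = 1 := S.cm_pow_p hxH hyH
  have hord : orderOf c = p := by
    rcases (Nat.dvd_prime hp).1 (orderOf_dvd_of_pow_eq_one hcp) with h | h
    · exact absurd (orderOf_eq_one_iff.1 h) hc
    · exact h
  -- the key relation
  have hkey : ∀ u ∈ U, ∀ a b : ℤ, (∃ z ∈ Z, u * x * u⁻¹ = x ^ a * z) →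
      (∃ z ∈ Z, (σ⁻¹ * u * σ) * x * (σ⁻¹ * u * σ)⁻¹ = x ^ b * z) →
      ((a * b : ℤ) : ZMod p) = 1 := by
    rintro u hu a b ⟨z, hz, h1⟩ ⟨z', hz', h2⟩
    have h3 : u * y * u⁻¹ = y ^ b * (σ * z' * σ⁻¹) := by
      have e : u * y * u⁻¹ = σ * ((σ⁻¹ * u * σ) * x * (σ⁻¹ * u * σ)⁻¹) * σ⁻¹ := by
        rw [hy]; group
      rw [e, h2, hy, conj_zpow]; group
    have h4 : u * c * u⁻¹ = c := by
      rw [S.hUZ u hu c hcZ]; group
    have h5 : u * c * u⁻¹ = ⁅u * x * u⁻¹, u * y * u⁻¹⁆ := by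
      rw [hcdef]; simp only [commutatorElement_def]; group
    have h6 : ⁅u * x * u⁻¹, u * y * u⁻¹⁆ = c ^ (a * b) := by
      rw [h1, h3]
      exact cm_zpow_mul S.hcm S.hZc hZH hxH hyH hz (S.hWZ σ hσ z' hz') a b
    have h7 : c ^ (a * b - 1) = 1 := by
      rw [zpow_sub_one, ← h6, ← h5, h4, mul_inv_cancel]
    have h8 : ((orderOf c : ℕ) : ℤ) ∣ a * b - 1 := orderOf_dvd_iff_zpow_eq_one.2 h7
    rw [hord] at h8
    have h9 : ((a * b - 1 : ℤ) : ZMod p) = 0 := (ZMod.intCast_zmod_eq_zero_iff_dvd _ p).2 h8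
    have h10 : ((a * b : ℤ) : ZMod p) = ((a * b - 1 : ℤ) : ZMod p) + 1 := by push_cast; ring
    rw [h10, h9, zero_add]
  -- choice of exponents
  have hex : ∀ u : G, ∃ a : ℤ, u ∈ U → ∃ z ∈ Z, u * x * u⁻¹ = x ^ a * z := by
    intro u
    by_cases hu : u ∈ U
    · obtain ⟨a, ha⟩ := hdec u hu
      exact ⟨a, fun _ => ha⟩
    · exact ⟨0, fun h => absurd h hu⟩
  choose g hg using hex
  -- `σ ^ q = 1`
  have hσq : σ ^ q = 1 := by
    have h1 : (⟨σ, hσ⟩ : ↥W) ^ Nat.card ↥W = 1 := pow_card_eq_one'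
    rw [S.hWcard] at h1
    exact congrArg Subtype.val h1
  -- squares
  have hsq : ∀ u ∈ U, ((g u * g u : ℤ) : ZMod p) = 1 := by
    intro u hu
    set v : ℕ → G := fun k => (σ ^ k)⁻¹ * u * σ ^ k with hv
    have hvU : ∀ k, v k ∈ U := by
      intro k
      induction k with
      | zero => simpa [hv] using hu
      | succ k ih =>
        have e : v (k + 1) = σ⁻¹ * v k * σ := by
          simp only [hv, pow_succ]; group
        rw [e]
        exact S.hWU' hσ _ ih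
    have hvs : ∀ k, v (k + 1) = σ⁻¹ * v k * σ := by
      intro k
      simp only [hv, pow_succ]; group
    set F : ℕ → ZMod p := fun k => ((g (v k) : ℤ) : ZMod p) with hF
    have hF1 : ∀ k, F k * F (k + 1) = 1 := by
      intro k
      have h1 := hkey (v k) (hvU k) (g (v k)) (g (v (k + 1))) (hg _ (hvU k))
        (by rw [← hvs k]; exact hg _ (hvU (k + 1)))
      rw [hF]
      push_cast at h1 ⊢
      exact h1
    have hF2 : ∀ k, F (k + 2) = F k := by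
      intro k
      calc F (k + 2) = (F k * F (k + 1)) * F (k + 2) := by rw [hF1 k, one_mul]
        _ = F k * (F (k + 1) * F (k + 1 + 1)) := by ring
        _ = F k := by rw [hF1 (k + 1), mul_one]
    have hF3 : ∀ m, F (2 * m + 1) = F 1 := by
      intro m
      induction m with
      | zero => rfl
      | succ m ih =>
        have : 2 * (m + 1) + 1 = (2 * m + 1) + 2 := by ring
        rw [this, hF2, ih]
    obtain ⟨m, hm⟩ : ∃ m, q = 2 * m + 1 := by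
      rcases S.hq.eq_two_or_odd' with h | h
      · exact absurd h S.hq2
      · exact h
    have hvq : v q = v 0 := by
      simp only [hv, hσq, pow_zero]
    have hF0 : F 0 = F 1 := by
      have h1 : F q = F 0 := by
        simp only [hF, hvq]
      rw [← h1, hm, hF3]
    have h0 : v 0 = u := by simp [hv]
    have h2 := hF1 0
    rw [← hF0] at h2
    simp only [hF, h0] at h2
    push_cast
    exact h2
  -- the square of `u` acts trivially
  have hsq2 : ∀ u ∈ U, (u * u) * x * (u * u)⁻¹ * x⁻¹ ∈ Z := by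
    intro u hu
    obtain ⟨z, hz, h1⟩ := hg u hu
    set a := g u with ha
    have hcomm : Commute (x ^ a) z := (S.hZc z hz _ (H.zpow_mem hxH a)).symm
    have h2 : (u * u) * x * (u * u)⁻¹ = x ^ (a * a) * (z ^ a * z) := by
      have e : (u * u) * x * (u * u)⁻¹ = u * (u * x * u⁻¹) * u⁻¹ := by group
      rw [e, h1]
      have e2 : u * (x ^ a * z) * u⁻¹ = (u * x * u⁻¹) ^ a * (u * z * u⁻¹) := by
        rw [conj_zpow]; group
      have e3 : u * z * u⁻¹ = z := by rw [S.hUZ u hu z hz]; group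
      rw [e2, h1, e3, hcomm.mul_zpow, ← zpow_mul, mul_assoc]
    have h3 : ((a * a - 1 : ℤ) : ZMod p) = 0 := by
      have := hsq u hu
      push_cast at this ⊢
      rw [this, sub_self]
    obtain ⟨t, ht⟩ := (ZMod.intCast_zmod_eq_zero_iff_dvd _ p).1 h3
    have h4 : a * a = 1 + p * t := by linarith
    have h5 : x ^ (a * a) = x * (x ^ p) ^ t := by
      rw [h4, zpow_add, zpow_one, zpow_mul, zpow_natCast]
    have hxp : (x ^ p) ^ t ∈ Z := Z.zpow_mem (S.hpow x hxH) t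
    set z₃ := (x ^ p) ^ t * (z ^ a * z) with hz₃
    have hz₃Z : z₃ ∈ Z := Z.mul_mem hxp (Z.mul_mem (Z.zpow_mem hz a) hz)
    have h6 : (u * u) * x * (u * u)⁻¹ * x⁻¹ = x * z₃ * x⁻¹ := by
      rw [h2, h5, hz₃]; group
    rw [h6]
    have h7 : x * z₃ * x⁻¹ = z₃ := by rw [← S.hZc z₃ hz₃Z x hxH]; group
    rw [h7]
    exact hz₃Z
  -- every element of `U` is a square
  intro v hv
  obtain ⟨k, hk⟩ := S.hUodd
  have hvn : v ^ Nat.card ↥U = 1 := by
    have h1 : (⟨v, hv⟩ : ↥U) ^ Nat.card ↥U = 1 := pow_card_eq_one'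
    exact congrArg Subtype.val h1
  have h1 : v = v ^ (k + 1) * v ^ (k + 1) := by
    rw [← pow_add]
    have : k + 1 + (k + 1) = Nat.card ↥U + 1 := by omega
    rw [this, pow_succ, hvn, one_mul]
  have h2 := hsq2 (v ^ (k + 1)) (U.pow_mem hv _)
  rwa [← h1] at h2

/-- **Core lemma for PF (11.7)**: `Z = 1`. -/
theorem core [Finite G] : Z = ⊥ := by
  classical
  by_contra hZne
  have hp := S.hp
  have hZH := S.hZH
  obtain ⟨N, hNZ, hNidx⟩ := S.exists_index_p hZne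
  obtain ⟨R, hRmem, m, hRidx⟩ := exists_radical H Z N p hp S.hZ S.hZc hNZ hNidx
  have hRH : R ≤ H := fun x hx => ((hRmem x).1 hx).1
  have hZR : Z ≤ R := by
    intro z hz
    rw [hRmem]
    refine ⟨hZH hz, ?_⟩
    intro h hh
    have := cm_central_left S.hZc hz hh
    rw [commutatorElement_def] at this
    rw [this]; exact N.one_mem
  have hRneH : R ≠ H := by
    intro hRH'
    have h1 : ⁅H, H⁆ ≤ N := by
      rw [commutator_le]
      intro x hx y hy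
      have hxR : x ∈ R := by rw [hRH']; exact hx
      have := ((hRmem x).1 hxR).2 y hy
      rwa [← commutatorElement_def] at this
    rw [S.hZ] at h1
    have h2 : N.relIndex Z = 1 := relIndex_eq_one.2 h1
    rw [hNidx] at h2
    exact hp.one_lt.ne' h2
  have hRnZ : ¬ R ≤ Z := by
    intro hRZ
    have h1 : R = Z := le_antisymm hRZ hZR
    rw [h1, S.hidx] at hRidx
    have h2 : q = 2 * m := Nat.pow_right_injective hp.two_le hRidx
    rcases S.hq.eq_two_or_odd' with h | h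
    · exact S.hq2 h
    · obtain ⟨k, hk⟩ := h
      omega
  have hUR : Inv U R := by
    intro u hu x hx
    obtain ⟨hxH, hxN⟩ := (hRmem x).1 hx
    rw [hRmem]
    refine ⟨S.hUH u hu x hxH, ?_⟩
    intro h hh
    have hh' : u⁻¹ * h * u ∈ H := by
      have := S.hUH u⁻¹ (U.inv_mem hu) h hh
      rwa [inv_inv] at this
    have hn := hxN _ hh'
    have e : u * x * u⁻¹ * h * (u * x * u⁻¹)⁻¹ * h⁻¹ =
        u * (x * (u⁻¹ * h * u) * x⁻¹ * (u⁻¹ * h * u)⁻¹) * u⁻¹ := by group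
    rw [e, S.hUZ u hu _ (hNZ hn)]
    have e2 : x * (u⁻¹ * h * u) * x⁻¹ * (u⁻¹ * h * u)⁻¹ * u * u⁻¹ =
        x * (u⁻¹ * h * u) * x⁻¹ * (u⁻¹ * h * u)⁻¹ := by group
    rw [e2]
    exact hn
  -- a minimal `U`-invariant subgroup
  obtain ⟨V₀, hV₀R, hVmin⟩ := Finite.exists_le_minimal
    (p := fun Y : Subgroup G => Z ≤ Y ∧ ¬ Y ≤ Z ∧ Y ≤ H ∧ Inv U Y) (a := R)
    ⟨hZR, hRnZ, hRH, hUR⟩
  obtain ⟨⟨hZV, hVnZ, hVH, hUV⟩, hVle⟩ := hVmin
  have D : MinData H U Z V₀ :=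
    { hZV := hZV
      hnZ := hVnZ
      hVH := hVH
      hne := by
        intro h
        apply hRneH
        exact le_antisymm hRH (h ▸ hV₀R)
      hUV := hUV
      hmin := by
        intro Y hZY hYV hUY
        by_cases hYZ : Y ≤ Z
        · left; exact le_antisymm hYZ hZY
        · right
          exact le_antisymm hYV (hVle ⟨hZY, hYZ, hYV.trans hVH, hUY⟩ hYV) }
  obtain ⟨hr, -⟩ := S.clifford D
  obtain ⟨x, hx, hxZ⟩ := SetLike.not_le_iff_exists.1 hVnZ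
  have hdec := S.exists_zpow_mul D hr hx hxZ
  obtain ⟨σ, hσ, hc⟩ := S.exists_noncomm D hZne hx hxZ
  have hall := S.trivial_action_of_noncomm (D.hVH hx) hσ
    (fun u hu => hdec _ (D.hUV u hu x hx)) hc
  exact S.false_of_trivial_action (D.hVH hx) hxZ hall

end Setup

end Cfsg.Agent.Lib.Helper12.PF11
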