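import Mathlib
import Cfsg.Agent.Lib.Helper12.PFElevenE4B

/-!
# Cyclic `p'`-groups of odd order acting on a nonabelian group of order `p ^ 3` (helper12)

MODULE [SL2] of helper51's board post #2964 (for BG 15.7): a cyclic group `K` of odd order prime
to `p` normalizing a nonabelian group `P` of order `p ^ 3`, with `C_P(k) = Z` (of order `p`,
central in `P`) for every `k ∈ K`, `k ≠ 1`, has order dividing `p - 1` or `p + 1`.

The proof avoids linear algebra: the `p + 1` subgroups of order `p ^ 2` of `P` containing `Z`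
("lines") are permuted by `K`.
-/

set_option autoImplicit false

namespace Cfsg.Agent.Lib.Helper12.ExtraspecialCyclic

open Subgroup Cfsg.Agent.Lib.Helper12.PF11
open scoped commutatorElement

variable {G : Type*} [Group G]

/-- The hypotheses of the module. -/
structure Ctx (p : ℕ) (P K Z : Subgroup G) : Prop where
  hp : p.Prime
  hP : Nat.card P = p ^ 3
  hPna : ¬ IsMulCommutative P
  hKP : K ≤ normalizer (P : Set G)
  hKodd : Odd (Nat.card K)
  hKp : (Nat.card K).Coprime p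
  hZP : Z ≤ P
  hZ : Nat.card Z = p
  hZc : ∀ z ∈ Z, ∀ y ∈ P, z * y = y * z
  hfix : ∀ k ∈ K, k ≠ 1 → P ⊓ centralizer ({k} : Set G) = Z

namespace Ctx

variable {p : ℕ} {P K Z : Subgroup G} (C : Ctx p P K Z)
include C

theorem hKP' {k y : G} (hk : k ∈ K) (hy : y ∈ P) : k * y * k⁻¹ ∈ P :=
  ((mem_normalizer_iff.1 (C.hKP hk)) y).1 hy

/-- `K` centralizes `Z`. -/
theorem hKZ {k z : G} (hk : k ∈ K) (hz : z ∈ Z) : k * z = z * k := by
  by_cases h1 : k = 1
  · rw [h1, one_mul, mul_one]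
  · have h2 : z ∈ P ⊓ centralizer ({k} : Set G) := by rw [C.hfix k hk h1]; exact hz
    exact mem_centralizer_iff.1 h2.2 k (Set.mem_singleton k)

theorem hKZ' {k z : G} (hk : k ∈ K) (hz : z ∈ Z) : k * z * k⁻¹ = z := by
  rw [C.hKZ hk hz]; group

/-- The normal subgroup `Z` of `P`. -/
theorem normalZ : (Z.subgroupOf P).Normal := by
  constructor
  intro n hn g
  rw [mem_subgroupOf] at hn ⊢
  have h1 : ((g * n * g⁻¹ : ↥P) : G) = (g : G) * n * (g : G)⁻¹ := rfl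
  rw [h1, ← C.hZc _ hn _ g.2]
  have h3 : (n : G) * (g : G) * (g : G)⁻¹ = n := by group
  rw [h3]; exact hn

theorem card_quot [Finite G] :
    haveI := C.normalZ
    Nat.card (↥P ⧸ Z.subgroupOf P) = p ^ 2 := by
  have h1 := card_eq_card_quotient_mul_card_subgroup (Z.subgroupOf P)
  have h2 : Nat.card ↥(Z.subgroupOf P) = p := by
    rw [← C.hZ]
    exact Nat.card_congr (subgroupOfEquivOfLe C.hZP).toEquiv
  rw [C.hP, h2] at h1
  have hp := C.hp
  have : p ^ 2 * p = Nat.card (↥P ⧸ Z.subgroupOf P) * p := by rw [← h1]; ring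
  exact (Nat.eq_of_mul_eq_mul_right hp.pos this).symm

/-- Commutators of `P` lie in `Z`. -/
theorem hcm [Finite G] : ∀ x ∈ P, ∀ y ∈ P, ⁅x, y⁆ ∈ Z := by
  intro x hx y hy
  have := C.normalZ
  have : Fact p.Prime := ⟨C.hp⟩
  have hcomm := IsPGroup.isMulCommutative_of_card_eq_prime_sq C.card_quot
  have h1 : (QuotientGroup.mk' (Z.subgroupOf P)) (⁅(⟨x, hx⟩ : ↥P), ⟨y, hy⟩⁆) = 1 := by
    rw [map_commutatorElement]
    rw [commutatorElement_eq_one_iff_mul_comm]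
    exact hcomm.is_comm.comm _ _
  rw [← MonoidHom.mem_ker, QuotientGroup.ker_mk', mem_subgroupOf] at h1
  exact h1

/-- `y ^ p ∈ Z` for `y ∈ P`. -/
theorem pow_mem [Finite G] {y : G} (hy : y ∈ P) : y ^ p ∈ Z := by
  have := C.normalZ
  have hp := C.hp
  have hcard := C.card_quot
  set π := QuotientGroup.mk' (Z.subgroupOf P) with hπ
  have h1 : orderOf (π ⟨y, hy⟩) ∣ p ^ 2 := by
    rw [← hcard]; exact orderOf_dvd_natCard _
  obtain ⟨j, hj, hj2⟩ := (Nat.dvd_prime_pow hp).1 h1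
  have hj' : j ≤ 1 := by
    by_contra hcon
    have hj3 : j = 2 := by omega
    rw [hj3, ← hcard] at hj2
    have := isCyclic_of_orderOf_eq_card _ hj2
    have hker : π.ker ≤ center ↥P := by
      rw [hπ, QuotientGroup.ker_mk']
      intro z hz
      rw [mem_center_iff]
      intro g
      apply Subtype.ext
      exact (C.hZc _ (mem_subgroupOf.1 hz) _ g.2).symm
    exact C.hPna (MonoidHom.isMulCommutative_of_isCyclic_of_ker_le_center π hker)
  have h2 : (π ⟨y, hy⟩) ^ p = 1 := by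
    apply orderOf_dvd_iff_pow_eq_one.1
    rw [hj2]
    calc p ^ j ∣ p ^ 1 := pow_dvd_pow p hj'
      _ = p := pow_one p
  rw [← map_pow, ← MonoidHom.mem_ker, hπ, QuotientGroup.ker_mk', mem_subgroupOf] at h2
  exact h2

/-! ### Lines -/

/-- A line: a subgroup of order `p ^ 2` between `Z` and `P`. -/
def IsLine (p : ℕ) (P Z L : Subgroup G) : Prop := Z ≤ L ∧ L ≤ P ∧ Nat.card L = p ^ 2

/-- If `Z ⊔ ⟨y⟩ = P` then `P` is abelian. -/
theorem comm_of_sup_eq {y : G} (hy : y ∈ P) (h : Z ⊔ zpowers y = P) : IsMulCommutative ↥P := by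
  have hcomm : ∀ a ∈ Z, ∀ b ∈ zpowers y, a * b = b * a := by
    intro a ha b hb
    exact C.hZc a ha b ((zpowers_le.2 hy) hb)
  refine ⟨⟨fun a b => Subtype.ext ?_⟩⟩
  have ha : (a : G) ∈ Z ⊔ zpowers y := by rw [h]; exact a.2
  have hb : (b : G) ∈ Z ⊔ zpowers y := by rw [h]; exact b.2
  obtain ⟨z, hz, u, hu, hau⟩ := exists_mul_of_mem_sup_of_commute' Z (zpowers y) hcomm ha
  obtain ⟨z', hz', u', hu', hbu⟩ := exists_mul_of_mem_sup_of_commute' Z (zpowers y) hcomm hb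
  obtain ⟨i, rfl⟩ := mem_zpowers_iff.1 hu
  obtain ⟨j, rfl⟩ := mem_zpowers_iff.1 hu'
  show (a : G) * b = b * a
  rw [hau, hbu]
  have c1 : Commute z (y ^ j) := C.hZc z hz _ (P.zpow_mem hy j)
  have c2 : Commute z' (y ^ i) := C.hZc z' hz' _ (P.zpow_mem hy i)
  have c3 : Commute z z' := C.hZc z hz z' (C.hZP hz')
  have c4 : Commute (y ^ i) (y ^ j) := (Commute.refl y).zpow_zpow i j
  calc z * y ^ i * (z' * y ^ j) = z * (y ^ i * z') * y ^ j := by group
    _ = z * (z' * y ^ i) * y ^ j := by rw [c2.eq]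
    _ = (z * z') * (y ^ i * y ^ j) := by group
    _ = (z' * z) * (y ^ j * y ^ i) := by rw [c3.eq, c4.eq]
    _ = z' * (z * y ^ j) * y ^ i := by group
    _ = z' * (y ^ j * z) * y ^ i := by rw [c1.eq]
    _ = z' * y ^ j * (z * y ^ i) := by group

/-- The line through `y ∈ P ∖ Z`. -/
theorem isLine_sup [Finite G] {y : G} (hy : y ∈ P) (hyZ : y ∉ Z) :
    IsLine p P Z (Z ⊔ zpowers y) := by
  have hp := C.hp
  have hle : Z ⊔ zpowers y ≤ P := sup_le C.hZP (zpowers_le.2 hy)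
  refine ⟨le_sup_left, hle, ?_⟩
  have h1 : Nat.card ↥(Z ⊔ zpowers y) ∣ p ^ 3 := by
    rw [← C.hP]; exact card_dvd_of_le hle
  obtain ⟨j, hj, hj2⟩ := (Nat.dvd_prime_pow hp).1 h1
  have hj1 : j ≠ 0 ∧ j ≠ 1 := by
    constructor
    · intro h0
      rw [h0, pow_zero] at hj2
      have := card_eq_one.1 hj2
      apply hyZ
      have hyb : y ∈ (⊥ : Subgroup G) := by
        rw [← this]; exact (le_sup_right : zpowers y ≤ _) (mem_zpowers y)
      rw [mem_bot] at hyb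
      rw [hyb]; exact Z.one_mem
    · intro h0
      rw [h0, pow_one, ← C.hZ] at hj2
      have : Z = Z ⊔ zpowers y := eq_of_le_of_card_ge le_sup_left hj2.le
      apply hyZ
      rw [this]
      exact (le_sup_right : zpowers y ≤ _) (mem_zpowers y)
  have hj3 : j ≠ 3 := by
    intro h0
    rw [h0, ← C.hP] at hj2
    have : Z ⊔ zpowers y = P := eq_of_le_of_card_ge hle hj2.ge
    exact C.hPna (C.comm_of_sup_eq hy this)
  have hj2' : j = 2 := by omega
  rw [hj2, hj2']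

theorem IsLine.eq_sup [Finite G] {L : Subgroup G} (hL : IsLine p P Z L) {y : G} (hy : y ∈ L)
    (hyZ : y ∉ Z) : L = Z ⊔ zpowers y := by
  have h1 : Z ⊔ zpowers y ≤ L := sup_le hL.1 (zpowers_le.2 hy)
  have h2 := C.isLine_sup (hL.2.1 hy) hyZ
  exact (eq_of_le_of_card_ge h1 (by rw [hL.2.2, h2.2.2])).symm

/-- Elements of a line are `y ^ a * z`. -/
theorem IsLine.exists_zpow_mul [Finite G] {L : Subgroup G} (hL : IsLine p P Z L) {y : G}
    (hy : y ∈ L) (hyZ : y ∉ Z) : ∀ v ∈ L, ∃ a : ℤ, ∃ z ∈ Z, v = y ^ a * z := by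
  intro v hv
  rw [hL.eq_sup C hy hyZ, sup_comm] at hv
  have hcomm : ∀ a ∈ zpowers y, ∀ b ∈ Z, a * b = b * a := by
    intro a ha b hb
    exact (C.hZc b hb a ((zpowers_le.2 (hL.2.1 hy)) ha)).symm
  obtain ⟨u, hu, z, hz, rfl⟩ := exists_mul_of_mem_sup_of_commute' (zpowers y) Z hcomm hv
  obtain ⟨i, rfl⟩ := mem_zpowers_iff.1 hu
  exact ⟨i, z, hz, rfl⟩

/-- A line contains an element outside `Z`. -/
theorem IsLine.exists_not_mem [Finite G] {L : Subgroup G} (hL : IsLine p P Z L) :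
    ∃ y ∈ L, y ∉ Z := by
  by_contra hcon
  push Not at hcon
  have h1 : L ≤ Z := hcon
  have h2 := card_le_of_le h1
  rw [hL.2.2, C.hZ] at h2
  have hp := C.hp.two_le
  nlinarith

/-- Two distinct lines generate `P`. -/
theorem sup_eq_of_ne [Finite G] {L₁ L₂ : Subgroup G} (h₁ : IsLine p P Z L₁)
    (h₂ : IsLine p P Z L₂) (hne : L₁ ≠ L₂) : L₁ ⊔ L₂ = P := by
  have hp := C.hp
  have hle : L₁ ⊔ L₂ ≤ P := sup_le h₁.2.1 h₂.2.1
  have h1 : Nat.card ↥(L₁ ⊔ L₂) ∣ p ^ 3 := by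
    rw [← C.hP]; exact card_dvd_of_le hle
  obtain ⟨j, hj, hj2⟩ := (Nat.dvd_prime_pow hp).1 h1
  have h3 : p ^ 2 ∣ p ^ j := by
    rw [← hj2, ← h₁.2.2]; exact card_dvd_of_le le_sup_left
  have hj3 : 2 ≤ j := (Nat.pow_dvd_pow_iff_le_right hp.one_lt).1 h3
  have hj4 : j ≠ 2 := by
    intro h0
    rw [h0, ← h₁.2.2] at hj2
    have e1 : L₁ = L₁ ⊔ L₂ := eq_of_le_of_card_ge le_sup_left hj2.le
    have e2 : L₂ ≤ L₁ := by rw [e1]; exact le_sup_right
    exact hne (eq_of_le_of_card_ge e2 (by rw [h₁.2.2, h₂.2.2])).symm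
  have hj5 : j = 3 := by omega
  rw [hj5, ← C.hP] at hj2
  exact eq_of_le_of_card_ge hle hj2.ge

/-- Elements of two distinct lines outside `Z` do not commute. -/
theorem comm_ne_one [Finite G] {L₁ L₂ : Subgroup G} (h₁ : IsLine p P Z L₁)
    (h₂ : IsLine p P Z L₂) (hne : L₁ ≠ L₂) {y₁ y₂ : G} (hy₁ : y₁ ∈ L₁) (hy₁Z : y₁ ∉ Z)
    (hy₂ : y₂ ∈ L₂) (hy₂Z : y₂ ∉ Z) : ⁅y₁, y₂⁆ ≠ 1 := by
  intro hc
  have hcomm : y₁ * y₂ = y₂ * y₁ := commutatorElement_eq_one_iff_mul_comm.1 hc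
  have hy₁P := h₁.2.1 hy₁
  have hy₂P := h₂.2.1 hy₂
  have hsup := C.sup_eq_of_ne h₁ h₂ hne
  rw [h₁.eq_sup C hy₁ hy₁Z, h₂.eq_sup C hy₂ hy₂Z] at hsup
  -- `y₁` and `y₂` are central in `P`
  have key : ∀ y ∈ P, y * y₁ = y₁ * y → y * y₂ = y₂ * y → P ≤ centralizer ({y} : Set G) := by
    intro y hyP e1 e2
    rw [← hsup]
    refine sup_le (sup_le ?_ ?_) (sup_le ?_ ?_)
    · intro z hz
      rw [mem_centralizer_iff]
      intro t ht
      rw [Set.mem_singleton_iff] at ht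
      subst ht
      exact (C.hZc z hz t hyP).symm
    · rw [zpowers_le, mem_centralizer_iff]
      intro t ht
      rw [Set.mem_singleton_iff] at ht
      subst ht
      exact e1
    · intro z hz
      rw [mem_centralizer_iff]
      intro t ht
      rw [Set.mem_singleton_iff] at ht
      subst ht
      exact (C.hZc z hz t hyP).symm
    · rw [zpowers_le, mem_centralizer_iff]
      intro t ht
      rw [Set.mem_singleton_iff] at ht
      subst ht
      exact e2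
  have k1 := key y₁ hy₁P rfl hcomm
  have k2 := key y₂ hy₂P hcomm.symm rfl
  apply C.hPna
  refine ⟨⟨fun a b => Subtype.ext ?_⟩⟩
  show (a : G) * b = b * a
  have e1 : (a : G) * y₁ = y₁ * a := by
    have := mem_centralizer_iff.1 (k1 a.2) y₁ (Set.mem_singleton _)
    exact this.symm
  have e2 : (a : G) * y₂ = y₂ * a := by
    have := mem_centralizer_iff.1 (k2 a.2) y₂ (Set.mem_singleton _)
    exact this.symm
  have k3 := key a a.2 e1 e2
  exact mem_centralizer_iff.1 (k3 b.2) a (Set.mem_singleton _)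

/-! ### The action of `K` -/

/-- Coprime trick: if `k y k⁻¹ = y z` with `z ∈ Z` then `z = 1`. -/
theorem eq_one_of_conj_eq_mul [Finite G] {k y z : G} (hk : k ∈ K) (hz : z ∈ Z)
    (h : k * y * k⁻¹ = y * z) : z = 1 := by
  have hpow : ∀ m : ℕ, k ^ m * y * (k ^ m)⁻¹ = y * z ^ m := by
    intro m
    induction m with
    | zero => simp
    | succ m ih =>
      have e : k ^ (m + 1) * y * (k ^ (m + 1))⁻¹ = k * (k ^ m * y * (k ^ m)⁻¹) * k⁻¹ := by
        rw [pow_succ']; group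
      rw [e, ih]
      have e2 : k * (y * z ^ m) * k⁻¹ = (k * y * k⁻¹) * (k * z ^ m * k⁻¹) := by group
      rw [e2, h, C.hKZ' hk (Z.pow_mem hz m), pow_succ]
      group
  have h1 := hpow (orderOf k)
  rw [pow_orderOf_eq_one] at h1
  have h2 : z ^ orderOf k = 1 := by
    have : y * z ^ orderOf k = y * 1 := by rw [← h1]; group
    exact mul_left_cancel this
  have h3 : z ^ p = 1 := by
    have : (⟨z, hz⟩ : ↥Z) ^ Nat.card ↥Z = 1 := pow_card_eq_one'
    rw [C.hZ] at this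
    exact congrArg Subtype.val this
  have h4 : orderOf z ∣ Nat.gcd (orderOf k) p :=
    Nat.dvd_gcd (orderOf_dvd_of_pow_eq_one h2) (orderOf_dvd_of_pow_eq_one h3)
  have h5 : orderOf k ∣ Nat.card ↥K := by
    have : orderOf (⟨k, hk⟩ : ↥K) ∣ Nat.card ↥K := orderOf_dvd_natCard _
    rwa [Subgroup.orderOf_mk] at this
  have h6 : Nat.gcd (orderOf k) p = 1 :=
    Nat.Coprime.coprime_dvd_left h5 C.hKp
  rw [h6, Nat.dvd_one, orderOf_eq_one_iff] at h4
  exact h4

/-- An element of `K` fixing `y ∈ P ∖ Z` modulo `Z` is trivial. -/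
theorem eq_one_of_conj_mem [Finite G] {k y : G} (hk : k ∈ K) (hy : y ∈ P) (hyZ : y ∉ Z)
    (h : y⁻¹ * (k * y * k⁻¹) ∈ Z) : k = 1 := by
  by_contra hk1
  have h1 : k * y * k⁻¹ = y * (y⁻¹ * (k * y * k⁻¹)) := by group
  have h2 := C.eq_one_of_conj_eq_mul hk h h1
  have h3 : k * y * k⁻¹ = y := by rw [h1, h2, mul_one]
  have h4 : y ∈ P ⊓ centralizer ({k} : Set G) := by
    refine ⟨hy, ?_⟩
    show y ∈ centralizer ({k} : Set G)
    rw [mem_centralizer_iff]
    intro t ht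
    rw [Set.mem_singleton_iff] at ht
    subst ht
    have : t * y = (t * y * t⁻¹) * t := by group
    rw [this, h3]
  rw [C.hfix k hk hk1] at h4
  exact hyZ h4

/-- `y ^ a ∈ y Z` when `a ≡ 1 mod p`. -/
theorem zpow_eq_mul [Finite G] {y : G} (hy : y ∈ P) {a : ℤ} (ha : ((a : ℤ) : ZMod p) = 1) :
    ∃ z ∈ Z, y ^ a = y * z := by
  have h3 : ((a - 1 : ℤ) : ZMod p) = 0 := by
    push_cast
    rw [ha, sub_self]
  obtain ⟨t, ht⟩ := (ZMod.intCast_zmod_eq_zero_iff_dvd _ p).1 h3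
  have h4 : a = 1 + p * t := by linarith
  refine ⟨(y ^ p) ^ t, Z.zpow_mem (C.pow_mem hy) t, ?_⟩
  rw [h4, zpow_add, zpow_one, zpow_mul, zpow_natCast]

/-- The key relation: if `a ∈ K` acts on `x, y ∈ P` by `x ↦ x ^ e z`, `y ↦ y ^ f z'` and
`⁅x, y⁆ ≠ 1` then `e f ≡ 1 mod p`. -/
theorem key_rel [Finite G] {a x y z z' : G} (ha : a ∈ K) (hx : x ∈ P) (hy : y ∈ P)
    (hz : z ∈ Z) (hz' : z' ∈ Z) {e f : ℤ} (h1 : a * x * a⁻¹ = x ^ e * z)
    (h2 : a * y * a⁻¹ = y ^ f * z') (hc : ⁅x, y⁆ ≠ 1) : ((e * f : ℤ) : ZMod p) = 1 := by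
  have hp := C.hp
  set c := ⁅x, y⁆ with hcdef
  have hcZ : c ∈ Z := C.hcm x hx y hy
  have hcp : c ^ p = 1 := by
    have : (⟨c, hcZ⟩ : ↥Z) ^ Nat.card ↥Z = 1 := pow_card_eq_one'
    rw [C.hZ] at this
    exact congrArg Subtype.val this
  have hord : orderOf c = p := by
    rcases (Nat.dvd_prime hp).1 (orderOf_dvd_of_pow_eq_one hcp) with h | h
    · exact absurd (orderOf_eq_one_iff.1 h) hc
    · exact h
  have h4 : a * c * a⁻¹ = c := C.hKZ' ha hcZ
  have h5 : a * c * a⁻¹ = ⁅a * x * a⁻¹, a * y * a⁻¹⁆ := by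
    rw [hcdef]; simp only [commutatorElement_def]; group
  have h6 : ⁅a * x * a⁻¹, a * y * a⁻¹⁆ = c ^ (e * f) := by
    rw [h1, h2]
    exact cm_zpow_mul C.hcm C.hZc C.hZP hx hy hz hz' e f
  have h7 : c ^ (e * f - 1) = 1 := by
    rw [zpow_sub_one, ← h6, ← h5, h4, mul_inv_cancel]
  have h8 : ((orderOf c : ℕ) : ℤ) ∣ e * f - 1 := orderOf_dvd_iff_zpow_eq_one.2 h7
  rw [hord] at h8
  have h9 : ((e * f - 1 : ℤ) : ZMod p) = 0 := (ZMod.intCast_zmod_eq_zero_iff_dvd _ p).2 h8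
  have h10 : ((e * f : ℤ) : ZMod p) = ((e * f - 1 : ℤ) : ZMod p) + 1 := by push_cast; ring
  rw [h10, h9, zero_add]

/-- Iterating: `k ^ j y k ^ (-j) ∈ y ^ (e ^ j) Z`. -/
theorem conj_pow_eq [Finite G] {k y z : G} (hk : k ∈ K) (hy : y ∈ P) (hz : z ∈ Z) {e : ℤ}
    (h : k * y * k⁻¹ = y ^ e * z) :
    ∀ j : ℕ, ∃ z' ∈ Z, k ^ j * y * (k ^ j)⁻¹ = y ^ (e ^ j) * z' := by
  intro j
  induction j with
  | zero => exact ⟨1, Z.one_mem, by simp⟩
  | succ j ih =>
    obtain ⟨z', hz', h'⟩ := ih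
    have e1 : k ^ (j + 1) * y * (k ^ (j + 1))⁻¹ = k * (k ^ j * y * (k ^ j)⁻¹) * k⁻¹ := by
      rw [pow_succ']; group
    have e2 : k * (y ^ (e ^ j) * z') * k⁻¹ = (k * y * k⁻¹) ^ (e ^ j) * (k * z' * k⁻¹) := by
      rw [conj_zpow]; group
    have hcomm : Commute (y ^ e) z := (C.hZc z hz _ (P.zpow_mem hy e)).symm
    refine ⟨z ^ (e ^ j) * z', Z.mul_mem (Z.zpow_mem hz _) hz', ?_⟩
    rw [e1, h', e2, h, C.hKZ' hk hz', hcomm.mul_zpow, ← zpow_mul, pow_succ', mul_assoc]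

/-- (b): an element of `K` normalizing a line has order dividing `p - 1`. -/
theorem pow_pred_eq_one [Finite G] {k : G} (hk : k ∈ K) {L : Subgroup G}
    (hL : IsLine p P Z L) (hkL : ∀ y ∈ L, k * y * k⁻¹ ∈ L) : k ^ (p - 1) = 1 := by
  have hp := C.hp
  have : Fact p.Prime := ⟨hp⟩
  obtain ⟨y, hy, hyZ⟩ := hL.exists_not_mem C
  have hyP := hL.2.1 hy
  obtain ⟨e, z, hz, h⟩ := hL.exists_zpow_mul C hy hyZ _ (hkL y hy)
  -- `e` is prime to `p`
  have he : ((e : ℤ) : ZMod p) ≠ 0 := by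
    intro h0
    obtain ⟨t, ht⟩ := (ZMod.intCast_zmod_eq_zero_iff_dvd _ p).1 h0
    have h1 : y ^ e ∈ Z := by
      rw [ht, zpow_mul, zpow_natCast]
      exact Z.zpow_mem (C.pow_mem hyP) t
    have h2 : k * y * k⁻¹ ∈ Z := by rw [h]; exact Z.mul_mem h1 hz
    have h3 : y = k⁻¹ * (k * y * k⁻¹) * k⁻¹⁻¹ := by group
    apply hyZ
    rw [h3, C.hKZ' (K.inv_mem hk) h2]
    exact h2
  obtain ⟨z', hz', h'⟩ := C.conj_pow_eq hk hyP hz h (p - 1)
  have h1 : (((e ^ (p - 1) : ℤ)) : ZMod p) = 1 := by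
    push_cast
    exact ZMod.pow_card_sub_one_eq_one he
  obtain ⟨z'', hz'', h''⟩ := C.zpow_eq_mul hyP h1
  rw [h''] at h'
  apply C.eq_one_of_conj_mem (K.pow_mem hk (p - 1)) hyP hyZ
  rw [h']
  have : y⁻¹ * (y * z'' * z') = z'' * z' := by group
  rw [this]
  exact Z.mul_mem hz'' hz'

/-- (X): an element of `K` normalizing three distinct lines is trivial. -/
theorem eq_one_of_three [Finite G] {a : G} (ha : a ∈ K) {L₁ L₂ L₃ : Subgroup G}
    (h₁ : IsLine p P Z L₁) (h₂ : IsLine p P Z L₂) (h₃ : IsLine p P Z L₃)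
    (h12 : L₁ ≠ L₂) (h13 : L₁ ≠ L₃) (h23 : L₂ ≠ L₃)
    (ha₁ : ∀ y ∈ L₁, a * y * a⁻¹ ∈ L₁) (ha₂ : ∀ y ∈ L₂, a * y * a⁻¹ ∈ L₂)
    (ha₃ : ∀ y ∈ L₃, a * y * a⁻¹ ∈ L₃) : a = 1 := by
  have hp := C.hp
  obtain ⟨y₁, hy₁, hy₁Z⟩ := h₁.exists_not_mem C
  obtain ⟨y₂, hy₂, hy₂Z⟩ := h₂.exists_not_mem C
  obtain ⟨y₃, hy₃, hy₃Z⟩ := h₃.exists_not_mem C
  have hy₁P := h₁.2.1 hy₁
  have hy₂P := h₂.2.1 hy₂
  have hy₃P := h₃.2.1 hy₃
  obtain ⟨e₁, z₁, hz₁, r₁⟩ := h₁.exists_zpow_mul C hy₁ hy₁Z _ (ha₁ y₁ hy₁)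
  obtain ⟨e₂, z₂, hz₂, r₂⟩ := h₂.exists_zpow_mul C hy₂ hy₂Z _ (ha₂ y₂ hy₂)
  obtain ⟨e₃, z₃, hz₃, r₃⟩ := h₃.exists_zpow_mul C hy₃ hy₃Z _ (ha₃ y₃ hy₃)
  have k12 := C.key_rel ha hy₁P hy₂P hz₁ hz₂ r₁ r₂
    (C.comm_ne_one h₁ h₂ h12 hy₁ hy₁Z hy₂ hy₂Z)
  have k13 := C.key_rel ha hy₁P hy₃P hz₁ hz₃ r₁ r₃
    (C.comm_ne_one h₁ h₃ h13 hy₁ hy₁Z hy₃ hy₃Z)
  have k23 := C.key_rel ha hy₂P hy₃P hz₂ hz₃ r₂ r₃
    (C.comm_ne_one h₂ h₃ h23 hy₂ hy₂Z hy₃ hy₃Z)
  push_cast at k12 k13 k23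
  -- `e₁ = e₂` in `ZMod p`, so `e₁ ^ 2 = 1`
  have heq : ((e₁ : ℤ) : ZMod p) = ((e₂ : ℤ) : ZMod p) := by
    calc ((e₁ : ℤ) : ZMod p) = (e₁ : ZMod p) * ((e₂ : ZMod p) * (e₃ : ZMod p)) := by
          rw [k23, mul_one]
      _ = ((e₁ : ZMod p) * (e₃ : ZMod p)) * (e₂ : ZMod p) := by ring
      _ = (e₂ : ZMod p) := by rw [k13, one_mul]
  have hsq : (((e₁ ^ 2 : ℤ)) : ZMod p) = 1 := by
    push_cast
    rw [pow_two]
    nth_rewrite 2 [heq]
    exact k12
  -- `a ^ 2` fixes `y₁` modulo `Z`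
  obtain ⟨z', hz', h'⟩ := C.conj_pow_eq ha hy₁P hz₁ r₁ 2
  obtain ⟨z'', hz'', h''⟩ := C.zpow_eq_mul hy₁P hsq
  rw [h''] at h'
  have ha2 : a ^ 2 = 1 := by
    apply C.eq_one_of_conj_mem (K.pow_mem ha 2) hy₁P hy₁Z
    rw [h']
    have : y₁⁻¹ * (y₁ * z'' * z') = z'' * z' := by group
    rw [this]
    exact Z.mul_mem hz'' hz'
  -- odd order
  have h5 : orderOf a ∣ Nat.card ↥K := by
    have : orderOf (⟨a, ha⟩ : ↥K) ∣ Nat.card ↥K := orderOf_dvd_natCard _
    rwa [Subgroup.orderOf_mk] at this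
  have h6 : orderOf a ∣ 2 := orderOf_dvd_of_pow_eq_one ha2
  have h7 : Odd (orderOf a) := Odd.of_dvd_nat C.hKodd h5
  rcases (Nat.dvd_prime Nat.prime_two).1 h6 with h | h
  · exact orderOf_eq_one_iff.1 h
  · rw [h] at h7
    exact absurd h7 (by decide)

/-- Conjugates of lines by elements of `K` are lines. -/
theorem isLine_cj [Finite G] {g : G} (hg : g ∈ K) {L : Subgroup G} (hL : IsLine p P Z L) :
    IsLine p P Z (cj g L) := by
  refine ⟨?_, ?_, ?_⟩
  · intro z hz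
    refine mem_cj.2 ⟨z, hL.1 hz, C.hKZ' hg hz⟩
  · exact cj_le_iff.2 (fun v hv => C.hKP' hg (hL.2.1 hv))
  · rw [← hL.2.2]
    unfold cj
    exact Nat.card_congr (L.equivMapOfInjective _ (MulAut.conj g).injective).toEquiv.symm

/-- Case A: some nontrivial element of `K` normalizes a line. -/
theorem caseA [Finite G] {k : G} (hk : k ∈ K) (hgen : ∀ x ∈ K, x ∈ zpowers k)
    {a : G} (ha : a ∈ K) (ha1 : a ≠ 1) {L : Subgroup G} (hL : IsLine p P Z L)
    (haL : ∀ y ∈ L, a * y * a⁻¹ ∈ L) : Nat.card ↥K ∣ p - 1 := by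
  have hKeq : K = zpowers k := le_antisymm hgen (zpowers_le.2 hk)
  have hcard : Nat.card ↥K = orderOf k := by rw [hKeq, Nat.card_zpowers]
  -- `a` commutes with the powers of `k`
  have hcomm : ∀ j : ℕ, a * k ^ j = k ^ j * a := by
    intro j
    obtain ⟨i, rfl⟩ := mem_zpowers_iff.1 (hgen a ha)
    exact ((Commute.refl k).zpow_left i).pow_right j
  -- `a` normalizes the conjugates of `L` by powers of `k`
  have hacj : ∀ j : ℕ, ∀ y ∈ cj (k ^ j) L, a * y * a⁻¹ ∈ cj (k ^ j) L := by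
    intro j y hy
    obtain ⟨v, hv, rfl⟩ := mem_cj.1 hy
    have e : a * (k ^ j * v * (k ^ j)⁻¹) * a⁻¹ = k ^ j * (a * v * a⁻¹) * (k ^ j)⁻¹ := by
      have h1 : a * k ^ j = k ^ j * a := hcomm j
      have h2 : (k ^ j)⁻¹ * a⁻¹ = a⁻¹ * (k ^ j)⁻¹ := by
        rw [← mul_inv_rev, ← mul_inv_rev, h1]
      calc a * (k ^ j * v * (k ^ j)⁻¹) * a⁻¹ = (a * k ^ j) * v * ((k ^ j)⁻¹ * a⁻¹) := by group
        _ = (k ^ j * a) * v * (a⁻¹ * (k ^ j)⁻¹) := by rw [h1, h2]
        _ = k ^ j * (a * v * a⁻¹) * (k ^ j)⁻¹ := by group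
    rw [e]
    exact conj_mem_cj (haL v hv)
  have hL1 : IsLine p P Z (cj (k ^ 1) L) := C.isLine_cj (K.pow_mem hk 1) hL
  have hL2 : IsLine p P Z (cj (k ^ 2) L) := C.isLine_cj (K.pow_mem hk 2) hL
  -- `k` normalizes `L`
  have hkL : cj k L = L := by
    by_contra hne
    have h01 : L ≠ cj (k ^ 1) L := by rw [pow_one]; exact fun h => hne h.symm
    have h12 : cj (k ^ 1) L ≠ cj (k ^ 2) L := by
      intro h
      apply hne
      have h' := congrArg (cj k⁻¹) h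
      rw [pow_one, pow_two, cj_cj, cj_cj, inv_mul_cancel, cj_one, ← mul_assoc, inv_mul_cancel,
        one_mul] at h'
      exact h'.symm
    have h02 : L ≠ cj (k ^ 2) L := by
      intro h
      apply hne
      -- `k ^ 2` normalizes `L`, and `k` is a power of `k ^ 2`
      have hodd : Odd (orderOf k) := by rw [← hcard]; exact C.hKodd
      obtain ⟨m, hm⟩ := hodd
      have hk2 : k = (k ^ 2) ^ (m + 1) := by
        rw [← pow_mul]
        have : 2 * (m + 1) = orderOf k + 1 := by omega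
        rw [this, pow_succ, pow_orderOf_eq_one, one_mul]
      have hiter : ∀ j : ℕ, cj ((k ^ 2) ^ j) L = L := by
        intro j
        induction j with
        | zero => rw [pow_zero, cj_one]
        | succ j ih => rw [pow_succ, ← cj_cj, ← h, ih]
      have := hiter (m + 1)
      rwa [← hk2] at this
    have := C.eq_one_of_three ha hL hL1 hL2 h01 h02 h12 haL (hacj 1) (hacj 2)
    exact ha1 this
  have hkL' : ∀ y ∈ L, k * y * k⁻¹ ∈ L := by
    intro y hy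
    have := conj_mem_cj (g := k) hy
    rwa [hkL] at this
  have h1 := C.pow_pred_eq_one hk hL hkL'
  rw [hcard]
  exact orderOf_dvd_of_pow_eq_one h1

/-- The number of lines is `p + 1`. -/
theorem card_lines [Finite G] : Nat.card {L : Subgroup G // IsLine p P Z L} = p + 1 := by
  classical
  have : Fintype G := Fintype.ofFinite G
  have : Fintype (Subgroup G) := Fintype.ofFinite _
  have hp := C.hp
  have hcardF : ∀ A : Subgroup G, (Finset.univ.filter (fun y => y ∈ A)).card = Nat.card ↥A := by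
    intro A
    rw [Nat.card_eq_fintype_card, Fintype.card_subtype]
  have hsub : ∀ A : Subgroup G, Z ≤ A →
      (Finset.univ.filter (fun y => y ∈ A ∧ y ∉ Z)).card + p = Nat.card ↥A := by
    intro A hZA
    have h1 : Finset.univ.filter (fun y => y ∈ A ∧ y ∉ Z) =
        Finset.univ.filter (fun y => y ∈ A) \ Finset.univ.filter (fun y => y ∈ Z) := by
      ext y
      simp
    have h2 : Finset.univ.filter (fun y => y ∈ Z) ⊆ Finset.univ.filter (fun y => y ∈ A) := by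
      intro y hy
      simp only [Finset.mem_filter, Finset.mem_univ, true_and] at hy ⊢
      exact hZA hy
    rw [h1, ← hcardF A, ← C.hZ, ← hcardF Z]
    exact Finset.card_sdiff_add_card_eq_card h2
  set S : Finset G := Finset.univ.filter (fun y => y ∈ P ∧ y ∉ Z) with hS
  set T : Finset (Subgroup G) := Finset.univ.filter (fun L => IsLine p P Z L) with hT
  have hmaps : Set.MapsTo (fun y : G => Z ⊔ zpowers y) ↑S ↑T := by
    intro y hy
    simp only [hS, hT, Finset.coe_filter, Finset.mem_univ, true_and, Set.mem_ofPred_eq] at hy ⊢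
    exact C.isLine_sup hy.1 hy.2
  have hsum := Finset.card_eq_sum_card_fiberwise hmaps
  set cL := p ^ 2 - p with hcL
  have hcLp : cL + p = p ^ 2 := by
    have : p ≤ p ^ 2 := by nlinarith [hp.two_le]
    omega
  have hfib : ∀ L ∈ T, (S.filter (fun y => Z ⊔ zpowers y = L)).card = cL := by
    intro L hLT
    have hL : IsLine p P Z L := by
      simpa [hT] using hLT
    have h1 : S.filter (fun y => Z ⊔ zpowers y = L) =
        Finset.univ.filter (fun y => y ∈ L ∧ y ∉ Z) := by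
      ext y
      simp only [hS, Finset.mem_filter, Finset.mem_univ, true_and]
      constructor
      · rintro ⟨⟨hyP, hyZ⟩, hyL⟩
        refine ⟨?_, hyZ⟩
        rw [← hyL]
        exact (le_sup_right : zpowers y ≤ _) (mem_zpowers y)
      · rintro ⟨hyL, hyZ⟩
        exact ⟨⟨hL.2.1 hyL, hyZ⟩, (hL.eq_sup C hyL hyZ).symm⟩
    have h2 := hsub L hL.1
    rw [hL.2.2] at h2
    rw [h1]
    omega
  rw [Finset.sum_congr rfl hfib, Finset.sum_const, smul_eq_mul] at hsum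
  have hScard : S.card + p = p ^ 3 := by
    have := hsub P C.hZP
    rwa [C.hP] at this
  have hTcard : T.card = p + 1 := by
    have hcLpos : 0 < cL := by
      have : p < p ^ 2 := by nlinarith [hp.two_le]
      omega
    have h3 : T.card * cL = (p + 1) * cL := by
      have e1 : T.card * cL + p = p ^ 3 := by rw [← hsum]; exact hScard
      have e2 : (p + 1) * cL + p = p ^ 3 := by
        have : (p + 1) * cL + p = p * (cL + p) + cL + p - p * p := by
          have hpp : p * p ≤ p * (cL + p) := Nat.mul_le_mul_left p (Nat.le_add_left p cL)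
          have : p * (cL + p) = p * cL + p * p := by ring
          have e3 : (p + 1) * cL = p * cL + cL := by ring
          omega
        rw [this, hcLp]
        have : p * p ^ 2 = p ^ 3 := by ring
        have h4 : p * p = p ^ 2 := by ring
        omega
      omega
    exact Nat.eq_of_mul_eq_mul_right hcLpos h3
  rw [Nat.card_eq_fintype_card, Fintype.card_subtype]
  exact hTcard

/-- Case B: no nontrivial element of `K` normalizes a line. -/
theorem caseB [Finite G]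
    (hfree : ∀ a ∈ K, a ≠ 1 → ∀ L, IsLine p P Z L → ¬ ∀ y ∈ L, a * y * a⁻¹ ∈ L) :
    Nat.card ↥K ∣ p + 1 := by
  let act : MulAction ↥K {L : Subgroup G // IsLine p P Z L} :=
    { smul := fun k L => ⟨cj (k : G) L.1, C.isLine_cj k.2 L.2⟩
      one_smul := fun L => Subtype.ext (cj_one L.1)
      mul_smul := fun k k' L => Subtype.ext (by
        show cj ((k * k' : ↥K) : G) L.1 = cj (k : G) (cj (k' : G) L.1)
        rw [Subgroup.coe_mul, cj_cj]) }
  have hstab : ∀ b : {L : Subgroup G // IsLine p P Z L}, MulAction.stabilizer ↥K b = ⊥ := by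
    intro b
    rw [eq_bot_iff]
    intro k hk
    rw [MulAction.mem_stabilizer_iff] at hk
    have h1 : cj (k : G) b.1 = b.1 := congrArg Subtype.val hk
    rw [mem_bot]
    by_contra hk1
    have hk1' : (k : G) ≠ 1 := fun h => hk1 (Subtype.ext h)
    apply hfree k k.2 hk1' b.1 b.2
    intro y hy
    have := conj_mem_cj (g := (k : G)) hy
    rwa [h1] at this
  have e := MulAction.selfEquivOrbitsQuotientProd hstab
  have h2 := Nat.card_congr e
  rw [C.card_lines, Nat.card_prod] at h2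
  exact Dvd.intro_left _ h2.symm

end Ctx

/-- **MODULE [SL2]** (helper51, board #2964). -/
theorem card_dvd_pred_or_succ {G : Type*} [Group G] [Finite G] (p : ℕ) [Fact p.Prime]
    (hp2 : p ≠ 2) (P K Z : Subgroup G) (hP : Nat.card P = p ^ 3) (hPna : ¬ IsMulCommutative P)
    (hKP : K ≤ Subgroup.normalizer (P : Set G)) (hKc : IsCyclic K) (hKodd : Odd (Nat.card K))
    (hKp : (Nat.card K).Coprime p) (hZP : Z ≤ P) (hZ : Nat.card Z = p)
    (hZc : ∀ z ∈ Z, ∀ y ∈ P, z * y = y * z)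
    (hfix : ∀ k ∈ K, k ≠ 1 → P ⊓ Subgroup.centralizer ({k} : Set G) = Z) :
    Nat.card K ∣ p - 1 ∨ Nat.card K ∣ p + 1 := by
  have _ := hp2
  have C : Ctx p P K Z :=
    { hp := Fact.out
      hP := hP
      hPna := hPna
      hKP := hKP
      hKodd := hKodd
      hKp := hKp
      hZP := hZP
      hZ := hZ
      hZc := hZc
      hfix := hfix }
  obtain ⟨g, hg⟩ := hKc.exists_generator
  have hgen : ∀ x ∈ K, x ∈ zpowers (g : G) := by
    intro x hx
    obtain ⟨i, hi⟩ := mem_zpowers_iff.1 (hg ⟨x, hx⟩)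
    rw [mem_zpowers_iff]
    exact ⟨i, by have := congrArg Subtype.val hi; simpa using this⟩
  by_cases h : ∃ a ∈ K, a ≠ 1 ∧ ∃ L, Ctx.IsLine p P Z L ∧ ∀ y ∈ L, a * y * a⁻¹ ∈ L
  · obtain ⟨a, ha, ha1, L, hL, haL⟩ := h
    exact Or.inl (C.caseA g.2 hgen ha ha1 hL haL)
  · right
    apply C.caseB
    intro a ha ha1 L hL haL
    exact h ⟨a, ha, ha1, L, hL, haL⟩

end Cfsg.Agent.Lib.Helper12.ExtraspecialCyclic
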