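import Mathlib
import Cfsg.Prelude.Def_Solvable
import Cfsg.Agent.Lib.Helper2.HuppertDefs

/-!
# S3360 module [M26-GL] (helper12, for helper2): a group acting faithfully on `F₂⁶` has order
dividing `|GL₆(2)| = 20158709760`
-/

set_option autoImplicit false
set_option linter.unusedVariables false
set_option linter.unusedSectionVars false

open Cfsg Module

namespace Cfsg.Agent.Lib.Helper12.Huppert

open Cfsg.Agent.Lib.Helper2.Huppert

variable {q : ℕ} [Fact q.Prime] {V : Type*} [AddCommGroup V] [Module (ZMod q) V] [Finite V]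
  {G : Type*} [Group G] [Finite G]

/-- the number of linear automorphisms of an `n`-dimensional space over a finite field -/
theorem card_linearEquiv_eq_card_GL {K : Type*} [Field K] [Fintype K] {W : Type*} [AddCommGroup W]
    [Module K W] [Module.Finite K W] (n : ℕ) (hdim : finrank K W = n) :
    Nat.card (W ≃ₗ[K] W) = Nat.card (GL (Fin n) K) := by
  classical
  let b := Module.finBasisOfFinrankEq K W hdim
  let e : W ≃ₗ[K] (Fin n → K) := b.equivFun
  have E : (W ≃ₗ[K] W) ≃ ((Fin n → K) ≃ₗ[K] (Fin n → K)) :=
    { toFun := fun f => e.symm.trans (f.trans e)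
      invFun := fun f => e.trans (f.trans e.symm)
      left_inv := fun f => by ext v; simp
      right_inv := fun f => by ext v; simp }
  rw [Nat.card_congr E]
  exact Nat.card_congr ((Matrix.GeneralLinearGroup.toLin.trans
    (LinearMap.GeneralLinearGroup.generalLinearEquiv K (Fin n → K))).toEquiv).symm

theorem card_dvd_26 (ρ : G →* (V ≃ₗ[ZMod q] V)) (hρ : Function.Injective ρ) (hq : q = 2)
    (hdim : finrank (ZMod q) V = 6) : Nat.card G ∣ 20158709760 := by
  subst hq
  have h1 : Nat.card G = Nat.card ρ.range := Nat.card_congr (MonoidHom.ofInjective hρ).toEquiv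
  have h2 : Nat.card ρ.range ∣ Nat.card (V ≃ₗ[ZMod 2] V) := Subgroup.card_subgroup_dvd_card _
  have : Module.Finite (ZMod 2) V := Module.Finite.of_finite
  have h3 : Nat.card (V ≃ₗ[ZMod 2] V) = Nat.card (GL (Fin 6) (ZMod 2)) :=
    card_linearEquiv_eq_card_GL 6 hdim
  have h4 : Nat.card (GL (Fin 6) (ZMod 2)) = 20158709760 := by
    rw [Matrix.card_GL_field, ZMod.card]
    decide
  rw [h1]
  rw [h3, h4] at h2
  exact h2

end Cfsg.Agent.Lib.Helper12.Huppert
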