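import Mathlib
import Cfsg.Prelude.Def_Solvable
import Cfsg.Agent.Lib.Helper2.HuppertDefs
import Cfsg.Agent.Lib.Helper1.PCore
import Cfsg.Agent.Lib.Helper1.Fitting
import Cfsg.Agent.Lib.Helper66.HupGeneral
import Cfsg.Agent.Lib.Helper21.OddTransLinearMul
import Cfsg.Agent.Lib.Helper12.HuppertGL26

/-!
# S3360 modules [M26-S2] and [M26-S5] (helper12, for helper2): the case `(q, n) = (2, 6)` of
Huppert's theorem, the `7`-core and the `3`-core are nontrivial
-/

set_option autoImplicit false
set_option linter.unusedVariables false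
set_option linter.unusedSectionVars false

open Cfsg Module

namespace Cfsg.Agent.Lib.Helper12.Huppert

open Cfsg.Agent.Lib.Helper2.Huppert

variable {q : ℕ} [Fact q.Prime] {V : Type*} [AddCommGroup V] [Module (ZMod q) V] [Finite V]
  {G : Type*} [Group G] [Finite G]

/-- `|V| = 64` -/
theorem card_V_26 (hq : q = 2) (hdim : finrank (ZMod q) V = 6) : Nat.card V = 64 := by
  subst hq
  rw [Module.natCard_eq_pow_finrank (K := ZMod 2) (V := V), hdim, Nat.card_zmod]
  norm_num

theorem nontrivial_V_26 (hdim : finrank (ZMod q) V = 6) : Nontrivial V :=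
  Module.nontrivial_of_finrank_pos (R := ZMod q) (by omega)

/-- `63 ∣ |G|` -/
theorem dvd_card_26 (ρ : G →* (V ≃ₗ[ZMod q] V)) (htrans : Trans ρ) (hq : q = 2)
    (hdim : finrank (ZMod q) V = 6) : 63 ∣ Nat.card G := by
  have : Nontrivial V := nontrivial_V_26 hdim
  have h := Cfsg.Agent.Lib.Helper66.HupGeneral.card_sub_one_dvd ρ htrans
  rw [card_V_26 hq hdim] at h
  exact h

/-- a prime dividing `63` is `3` or `7` -/
theorem prime_dvd_63 (p : ℕ) (hp : p.Prime) (h : p ∣ 63) : p = 3 ∨ p = 7 := by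
  have h1 : p ∣ 9 * 7 := h
  rcases (Nat.Prime.dvd_mul hp).1 h1 with h2 | h2
  · left
    have h3 : p ∣ 3 * 3 := h2
    rcases (Nat.Prime.dvd_mul hp).1 h3 with h4 | h4 <;>
      exact (Nat.prime_dvd_prime_iff_eq hp Nat.prime_three).1 h4
  · right
    exact (Nat.prime_dvd_prime_iff_eq hp (by norm_num)).1 h2

/-- the Fitting subgroup is generated by the `3`-core and the `7`-core -/
theorem fitting_le_26 (ρ : G →* (V ≃ₗ[ZMod q] V)) (hρ : Function.Injective ρ)
    (htrans : Trans ρ) (hq : q = 2) (hdim : finrank (ZMod q) V = 6) :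
    fittingSubgroup G ≤ pCore 3 G ⊔ pCore 7 G := by
  have : Nontrivial V := nontrivial_V_26 hdim
  rw [Cfsg.Agent.Lib.Helper1.fittingSubgroup_eq_iSup_pCore]
  refine iSup_le fun p => ?_
  have hp : Fact (p : ℕ).Prime := ⟨p.2⟩
  by_cases h : (p : ℕ) ∣ 63
  · rcases prime_dvd_63 p p.2 h with h3 | h7
    · rw [h3]; exact le_sup_left
    · rw [h7]; exact le_sup_right
  · have h' : ¬ (p : ℕ) ∣ Nat.card V - 1 := by
      rw [card_V_26 hq hdim]; exact h
    rw [Cfsg.Agent.Lib.Helper66.HupGeneral.pCore_eq_bot_of_not_dvd ρ hρ htrans (p : ℕ) h']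
    exact bot_le

/-- **[M26-S2]** -/
theorem pCore_seven_ne_bot (ρ : G →* (V ≃ₗ[ZMod q] V)) (hρ : Function.Injective ρ)
    (htrans : Trans ρ) (hsol : Group.IsSolvable G) (hq : q = 2)
    (hdim : finrank (ZMod q) V = 6) : pCore 7 G ≠ ⊥ := by
  intro h7
  have hFle : fittingSubgroup G ≤ pCore 3 G := by
    have := fitting_le_26 ρ hρ htrans hq hdim
    rwa [h7, sup_bot_eq] at this
  have hCF := Cfsg.Agent.Lib.Helper21.OddTransLinear.centralizer_fitting_le_of_isSolvable hsol
  have h63 := dvd_card_26 ρ htrans hq hdim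
  have hGdvd := card_dvd_26 ρ hρ hq hdim
  set T : Subgroup G := pCore 3 G with hT
  have hTn : T.Normal := Cfsg.Agent.Lib.Helper1.pCore_normal 3
  have hTp : IsPGroup 3 T := Cfsg.Agent.Lib.Helper1.pCore_isPGroup 3
  have hTF : T ≤ fittingSubgroup G := by
    rw [Cfsg.Agent.Lib.Helper1.fittingSubgroup_eq_iSup_pCore]
    exact le_iSup (fun p : Nat.Primes => pCore (p : ℕ) G) ⟨3, Nat.prime_three⟩
  have : Fact (Nat.Prime 3) := ⟨Nat.prime_three⟩
  have : Fact (Nat.Prime 7) := ⟨by norm_num⟩
  obtain ⟨a, ha⟩ := IsPGroup.iff_card.1 hTp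
  -- `a ≤ 4`
  have ha4 : a ≤ 4 := by
    have h1 : 3 ^ a ∣ 20158709760 := by
      rw [← ha]; exact (Subgroup.card_subgroup_dvd_card T).trans hGdvd
    by_contra hcon
    have h5 : 3 ^ 5 ∣ 3 ^ a := pow_dvd_pow 3 (by omega)
    have := h5.trans h1
    revert this
    decide
  -- an element of order 7
  obtain ⟨g, hg⟩ := exists_prime_orderOf_dvd_card' (G := G) 7 (Dvd.dvd.trans (by norm_num) h63)
  -- the action of `zpowers g` on `T`
  let φ : Subgroup.zpowers g →* MulAut T :=
    (MulAut.conjNormal (H := T)).comp (Subgroup.zpowers g).subtype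
  let _ : MulAction (Subgroup.zpowers g) T := MulAction.compHom T φ
  have hsmul : ∀ (h : Subgroup.zpowers g) (t : T), ((h • t : T) : G) = (h : G) * t * (h : G)⁻¹ :=
    fun h t => rfl
  have hPg : IsPGroup 7 (Subgroup.zpowers g) := by
    apply IsPGroup.of_card (n := 1)
    rw [Nat.card_zpowers, hg, pow_one]
  have hmod := hPg.card_modEq_card_fixedPoints T
  let C : Subgroup T := (Subgroup.centralizer {g}).subgroupOf T
  have hfix : MulAction.fixedPoints (Subgroup.zpowers g) T = (C : Set T) := by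
    ext t
    simp only [MulAction.mem_fixedPoints, SetLike.mem_coe]
    rw [Subgroup.mem_subgroupOf, Subgroup.mem_centralizer_singleton_iff]
    constructor
    · intro h
      have := h ⟨g, Subgroup.mem_zpowers g⟩
      have h2 := congrArg (Subtype.val) this
      rw [hsmul] at h2
      exact (mul_inv_eq_iff_eq_mul.1 h2).symm
    · intro h k
      apply Subtype.ext
      rw [hsmul]
      have hk : (k : G) ∈ Subgroup.centralizer {(t : G)} := by
        have : Subgroup.zpowers g ≤ Subgroup.centralizer {(t : G)} := by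
          rw [Subgroup.zpowers_le, Subgroup.mem_centralizer_singleton_iff]
          exact h.symm
        exact this k.2
      rw [Subgroup.mem_centralizer_singleton_iff] at hk
      exact mul_inv_eq_iff_eq_mul.2 hk
  rw [hfix] at hmod
  have hCcard : Nat.card (C : Set T) = Nat.card C := rfl
  rw [hCcard, ha] at hmod
  obtain ⟨b, hb, hCb⟩ := (Nat.dvd_prime_pow Nat.prime_three).1
    (ha ▸ Subgroup.card_subgroup_dvd_card C)
  rw [hCb] at hmod
  have hab : a = b := by
    clear_value C T
    clear hfix hCb hCcard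
    have hb4 : b ≤ 4 := hb.trans ha4
    interval_cases a <;> interval_cases b <;> first | rfl | (exfalso; revert hmod; decide)
  have hCtop : C = ⊤ := by
    rw [← Subgroup.card_eq_iff_eq_top, hCb, ha, hab]
  -- so `g` centralizes `T`, hence `F(G)`
  have hgC : g ∈ Subgroup.centralizer (fittingSubgroup G : Set G) := by
    rw [Subgroup.mem_centralizer_iff]
    intro t ht
    have htT : t ∈ T := hFle ht
    have : (⟨t, htT⟩ : T) ∈ C := by rw [hCtop]; exact Subgroup.mem_top _
    rw [Subgroup.mem_subgroupOf, Subgroup.mem_centralizer_singleton_iff] at this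
    exact this
  have hgT : g ∈ T := hFle (hCF hgC)
  have h7dvd : 7 ∣ 3 ^ a := by
    rw [← ha, ← hg]
    exact Subgroup.orderOf_dvd_natCard T hgT
  have := (Nat.Prime.dvd_of_dvd_pow (by norm_num : Nat.Prime 7) h7dvd)
  revert this
  decide

/-- **[M26-S5]** -/
theorem pCore_three_ne_bot (ρ : G →* (V ≃ₗ[ZMod q] V)) (hρ : Function.Injective ρ)
    (htrans : Trans ρ) (hsol : Group.IsSolvable G) (hq : q = 2)
    (hdim : finrank (ZMod q) V = 6) (hL : Nat.card (pCore 7 G) = 7) : pCore 3 G ≠ ⊥ := by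
  intro h3
  have hFle : fittingSubgroup G ≤ pCore 7 G := by
    have := fitting_le_26 ρ hρ htrans hq hdim
    rwa [h3, bot_sup_eq] at this
  have hCF := Cfsg.Agent.Lib.Helper21.OddTransLinear.centralizer_fitting_le_of_isSolvable hsol
  have h63 := dvd_card_26 ρ htrans hq hdim
  set L : Subgroup G := pCore 7 G with hLdef
  have hLn : L.Normal := Cfsg.Agent.Lib.Helper1.pCore_normal 7
  have : Fact (Nat.Prime 3) := ⟨Nat.prime_three⟩
  have h7 : Fact (Nat.Prime 7) := ⟨by norm_num⟩
  have hcyc : IsCyclic L := isCyclic_of_prime_card (p := 7) hL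
  let φ : G →* MulAut L := MulAut.conjNormal (H := L)
  have hφ : ∀ (g : G) (l : L), ((φ g l : L) : G) = g * l * g⁻¹ := fun g l => rfl
  have haut : Nat.card (MulAut L) = 6 := by
    rw [IsCyclic.card_mulAut, hL]
    decide
  have hr : Nat.card φ.range ∣ 6 := by
    rw [← haut]; exact Subgroup.card_subgroup_dvd_card _
  have hmul : Nat.card φ.ker * Nat.card φ.range = Nat.card G := by
    rw [← Subgroup.index_ker]; exact Subgroup.card_mul_index φ.ker
  have h3k : 3 ∣ Nat.card φ.ker := by
    by_contra hcon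
    have hc : Nat.Coprime 9 (Nat.card φ.ker) :=
      Nat.Coprime.pow_left 2 ((Nat.Prime.coprime_iff_not_dvd Nat.prime_three).2 hcon)
    have h9 : 9 ∣ Nat.card φ.ker * Nat.card φ.range := by
      rw [hmul]; exact Dvd.dvd.trans (by norm_num) h63
    have h96 : 9 ∣ 6 := (hc.dvd_of_dvd_mul_left h9).trans hr
    revert h96
    decide
  obtain ⟨t, ht⟩ := exists_prime_orderOf_dvd_card' (G := φ.ker) 3 h3k
  have htker : φ (t : G) = 1 := t.2
  have htC : (t : G) ∈ Subgroup.centralizer (fittingSubgroup G : Set G) := by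
    rw [Subgroup.mem_centralizer_iff]
    intro l hl
    have hlL : l ∈ L := hFle hl
    have h1 : φ (t : G) ⟨l, hlL⟩ = ⟨l, hlL⟩ := by rw [htker]; rfl
    have h2 := congrArg Subtype.val h1
    rw [hφ] at h2
    exact (mul_inv_eq_iff_eq_mul.1 h2).symm
  have htL : (t : G) ∈ L := hFle (hCF htC)
  have hdvd : 3 ∣ 7 := by
    rw [← hL, ← ht, ← Subgroup.orderOf_coe]
    exact Subgroup.orderOf_dvd_natCard L htL
  revert hdvd
  decide

end Cfsg.Agent.Lib.Helper12.Huppert
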