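import Mathlib
import Cfsg.Prelude.Def_Solvable
import Cfsg.Agent.Lib.Helper2.HuppertDefs
import Cfsg.Agent.Lib.Helper1.PCore
import Cfsg.Agent.Lib.Helper66.HupGeneral
import Cfsg.Agent.Lib.Helper12.Huppert26A

/-!
# S3360 module [M26-S6] (helper12, for helper2): the case `(q, n) = (2, 6)` of Huppert's theorem,
`O_7(G) · Z(O_3(G))` is an abelian normal subgroup acting irreducibly
-/

set_option autoImplicit false
set_option linter.unusedVariables false
set_option linter.unusedSectionVars false

open Cfsg Module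

namespace Cfsg.Agent.Lib.Helper12.Huppert

open Cfsg.Agent.Lib.Helper2.Huppert

variable {q : ℕ} [Fact q.Prime] {V : Type*} [AddCommGroup V] [Module (ZMod q) V] [Finite V]
  {G : Type*} [Group G] [Finite G]

/-- a subspace invariant under a nontrivial normal `p`-subgroup of a faithful transitive linear
group has cardinality `≡ 1 mod p` -/
theorem card_invariant_modEq_one (ρ : G →* (V ≃ₗ[ZMod q] V)) (hρ : Function.Injective ρ)
    (htrans : Trans ρ) (p : ℕ) [Fact p.Prime] (H : Subgroup G) [H.Normal] (hH : IsPGroup p H)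
    (hne : H ≠ ⊥) (W : Submodule (ZMod q) V) (hW : ∀ a ∈ H, ∀ v ∈ W, ρ a v ∈ W) :
    Nat.card W ≡ 1 [MOD p] := by
  let _ : MulAction H W :=
    { smul := fun h w => ⟨ρ (h : G) w, hW h h.2 w w.2⟩
      one_smul := fun w => by
        apply Subtype.ext
        show ρ ((1 : H) : G) (w : V) = w
        rw [Subgroup.coe_one, map_one]; rfl
      mul_smul := fun h k w => by
        apply Subtype.ext
        show ρ ((h * k : H) : G) (w : V) = ρ (h : G) (ρ (k : G) (w : V))
        rw [Subgroup.coe_mul, map_mul]; rfl }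
  have hsmul : ∀ (h : H) (w : W), ((h • w : W) : V) = ρ (h : G) w := fun h w => rfl
  have hfix : MulAction.fixedPoints H W = {0} := by
    ext w
    simp only [MulAction.mem_fixedPoints, Set.mem_singleton_iff]
    constructor
    · intro h
      apply Subtype.ext
      exact Cfsg.Agent.Lib.Helper66.HupGeneral.fixed_eq_zero_of_normal ρ hρ htrans H hne w
        (fun g hg => by
          have := congrArg Subtype.val (h ⟨g, hg⟩)
          rwa [hsmul] at this)
    · rintro rfl g
      apply Subtype.ext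
      rw [hsmul]
      simp
  have hmod := hH.card_modEq_card_fixedPoints W
  rw [hfix] at hmod
  have h1 : Nat.card ({0} : Set W) = 1 := by simp
  rw [h1] at hmod
  exact hmod

/-- **[M26-S6]** -/
theorem good_26 (ρ : G →* (V ≃ₗ[ZMod q] V)) (hρ : Function.Injective ρ) (htrans : Trans ρ)
    (hq : q = 2) (hdim : finrank (ZMod q) V = 6) (hL : Nat.card (pCore 7 G) = 7)
    (hT : pCore 3 G ≠ ⊥) : Good ρ := by
  have : Fact (Nat.Prime 3) := ⟨Nat.prime_three⟩
  have : Fact (Nat.Prime 7) := ⟨by norm_num⟩
  set L : Subgroup G := pCore 7 G with hLdef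
  have hLn : L.Normal := Cfsg.Agent.Lib.Helper1.pCore_normal 7
  have hLp : IsPGroup 7 L := Cfsg.Agent.Lib.Helper1.pCore_isPGroup 7
  have hLne : L ≠ ⊥ := by
    intro h
    rw [h, Subgroup.card_bot] at hL
    omega
  have hcyc : IsCyclic L := isCyclic_of_prime_card (p := 7) hL
  set T : Subgroup G := pCore 3 G with hTdef
  have hTn : T.Normal := Cfsg.Agent.Lib.Helper1.pCore_normal 3
  have hTp : IsPGroup 3 T := Cfsg.Agent.Lib.Helper1.pCore_isPGroup 3
  have hTnt : Nontrivial T := (Subgroup.nontrivial_iff_ne_bot T).2 hT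
  let Z : Subgroup G := (Subgroup.center T).map T.subtype
  have hZn : Z.Normal := ConjAct.normal_of_characteristic_of_normal
  have hZp : IsPGroup 3 Z := (hTp.to_subgroup (Subgroup.center T)).map _
  have hZne : Z ≠ ⊥ := by
    intro h
    rw [Subgroup.map_eq_bot_iff_of_injective _ T.subtype_injective] at h
    have := hTp.center_nontrivial
    rw [Subgroup.nontrivial_iff_ne_bot] at this
    exact this h
  have hZcomm : ∀ a ∈ Z, ∀ b ∈ Z, a * b = b * a := by
    rintro a ⟨a', ha', rfl⟩ b ⟨b', hb', rfl⟩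
    have ha'' : a' ∈ Subgroup.center T := ha'
    rw [Subgroup.mem_center_iff] at ha''
    have := ha'' b'
    rw [← map_mul, ← map_mul, this]
  have hLcomm : ∀ a ∈ L, ∀ b ∈ L, a * b = b * a := by
    intro a ha b hb
    have := (IsCyclic.isMulCommutative (α := L)).is_comm.comm ⟨a, ha⟩ ⟨b, hb⟩
    exact congrArg Subtype.val this
  have hdisj : Disjoint L Z := by
    apply Subgroup.disjoint_of_coprime_natCard
    rw [hL]
    obtain ⟨k, hk⟩ := IsPGroup.iff_card.1 hZp
    rw [hk]
    exact Nat.Coprime.pow_right k (by norm_num)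
  have hLZ : ∀ a ∈ L, ∀ b ∈ Z, a * b = b * a := fun a ha b hb =>
    Subgroup.commute_of_normal_of_disjoint L Z hLn hZn hdisj a b ha hb
  refine ⟨L ⊔ Z, Subgroup.sup_normal L Z, ?_, ?_⟩
  · -- abelian
    intro a ha b hb
    have hmem : ∀ c ∈ L ⊔ Z, ∃ l ∈ L, ∃ z ∈ Z, l * z = c := by
      intro c hc
      have : c ∈ ((L ⊔ Z : Subgroup G) : Set G) := hc
      rw [Subgroup.mul_normal] at this
      exact Set.mem_mul.1 this
    obtain ⟨l1, hl1, z1, hz1, rfl⟩ := hmem a ha
    obtain ⟨l2, hl2, z2, hz2, rfl⟩ := hmem b hb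
    calc l1 * z1 * (l2 * z2) = l1 * (z1 * l2) * z2 := by group
      _ = l1 * (l2 * z1) * z2 := by rw [hLZ l2 hl2 z1 hz1]
      _ = (l1 * l2) * (z1 * z2) := by group
      _ = (l2 * l1) * (z2 * z1) := by rw [hLcomm l1 hl1 l2 hl2, hZcomm z1 hz1 z2 hz2]
      _ = l2 * (l1 * z2) * z1 := by group
      _ = l2 * (z2 * l1) * z1 := by rw [hLZ l1 hl1 z2 hz2]
      _ = l2 * z2 * (l1 * z1) := by group
  · -- irreducible
    intro W hW
    have hW7 : Nat.card W ≡ 1 [MOD 7] :=
      card_invariant_modEq_one ρ hρ htrans 7 L hLp hLne W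
        (fun a ha v hv => hW a (Subgroup.mem_sup_left ha) v hv)
    have hW3 : Nat.card W ≡ 1 [MOD 3] :=
      card_invariant_modEq_one ρ hρ htrans 3 Z hZp hZne W
        (fun a ha v hv => hW a (Subgroup.mem_sup_right ha) v hv)
    have hfin : Module.Finite (ZMod q) V := Module.Finite.of_finite
    have hcardW : Nat.card W = 2 ^ finrank (ZMod q) W := by
      have h2 : Nat.card (ZMod q) = 2 := by rw [Nat.card_zmod]; exact hq
      rw [Module.natCard_eq_pow_finrank (K := ZMod q) (V := W), h2]
    have hle : finrank (ZMod q) W ≤ 6 := hdim ▸ Submodule.finrank_le W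
    rw [hcardW] at hW7 hW3
    generalize he : finrank (ZMod q) W = e at hW7 hW3 hle
    interval_cases e
    · left
      exact Submodule.finrank_eq_zero.1 he
    · exfalso; revert hW3; decide
    · exfalso; revert hW7; decide
    · exfalso; revert hW3; decide
    · exfalso; revert hW7; decide
    · exfalso; revert hW3; decide
    · right
      exact Submodule.eq_top_of_finrank_eq (he.trans hdim.symm)

end Cfsg.Agent.Lib.Helper12.Huppert
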