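import Mathlib
import Cfsg.Prelude.Def_Solvable
import Cfsg.Agent.Lib.Helper2.HuppertDefs

/-!
# S3360 module [D2b] (helper12, for helper2): in dimension 2, a solvable transitive linear group
without an irreducible abelian normal subgroup has a non-abelian normal subgroup of class two
modulo scalars
-/

set_option autoImplicit false
set_option linter.unusedVariables false
set_option linter.unusedSectionVars false

open Cfsg Module

namespace Cfsg.Agent.Lib.Helper12.Huppert

open Cfsg.Agent.Lib.Helper2.Huppert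

variable {q : ℕ} [Fact q.Prime] {V : Type*} [AddCommGroup V] [Module (ZMod q) V] [Finite V]
  {G : Type*} [Group G] [Finite G]

/-- if every nonzero vector is an eigenvector of `f`, then `f` is a scalar -/
theorem scalar_of_all_eigen (f : V ≃ₗ[ZMod q] V) (h : ∀ w : V, w ≠ 0 → ∃ c : ZMod q, f w = c • w) :
    ∃ c : ZMod q, ∀ v : V, f v = c • v := by
  by_cases hV : ∀ v : V, v = 0
  · exact ⟨1, fun v => by rw [hV v, map_zero, smul_zero]⟩
  push Not at hV
  obtain ⟨v₀, hv₀⟩ := hV
  obtain ⟨c₀, hc₀⟩ := h v₀ hv₀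
  refine ⟨c₀, fun w => ?_⟩
  by_cases hw : w = 0
  · rw [hw, map_zero, smul_zero]
  obtain ⟨c, hc⟩ := h w hw
  by_cases hdep : ∃ t : ZMod q, w = t • v₀
  · obtain ⟨t, rfl⟩ := hdep
    rw [map_smul, hc₀, smul_comm]
  · push Not at hdep
    by_cases hsum : v₀ + w = 0
    · exfalso
      apply hdep (-1)
      rw [neg_smul, one_smul]
      exact (eq_neg_of_add_eq_zero_right hsum)
    obtain ⟨d, hd⟩ := h (v₀ + w) hsum
    rw [map_add, hc₀, hc, smul_add] at hd
    -- (c₀ - d) v₀ + (c - d) w = 0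
    have h1 : (c - d) • w = (d - c₀) • v₀ := by
      rw [sub_smul, sub_smul, sub_eq_sub_iff_add_eq_add, add_comm (c • w)]
      exact hd
    by_cases hcd : c - d = 0
    · rw [hcd, zero_smul] at h1
      have h2 : d - c₀ = 0 := by
        by_contra hne
        exact hv₀ ((smul_eq_zero.1 h1.symm).resolve_left hne)
      have : c = c₀ := by
        have e1 : c = d := sub_eq_zero.1 hcd
        have e2 : d = c₀ := sub_eq_zero.1 h2
        rw [e1, e2]
      rw [hc, this]
    · exfalso
      apply hdep ((c - d)⁻¹ * (d - c₀))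
      rw [mul_smul, ← h1, smul_smul, inv_mul_cancel₀ hcd, one_smul]

/-- **[D2a]** (inline version): in dimension 2, a normal subgroup that is not irreducible consists
of scalars -/
theorem scalar_of_normal_not_irr' (ρ : G →* (V ≃ₗ[ZMod q] V)) (hdim : finrank (ZMod q) V = 2)
    (htrans : Trans ρ) (A : Subgroup G) [hAn : A.Normal] (hA : ¬ IrrOn ρ A) :
    ∀ a ∈ A, IsScalar ρ a := by
  have : Module.Finite (ZMod q) V := Module.Finite.of_finite
  unfold IrrOn at hA
  push Not at hA
  obtain ⟨W, hWinv, hWbot, hWtop⟩ := hA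
  -- W is a line
  obtain ⟨v, hvW, hv0⟩ := (Submodule.ne_bot_iff W).1 hWbot
  have hlt : finrank (ZMod q) W < 2 := by
    rw [← hdim]; exact Submodule.finrank_lt hWtop
  have hpos : 0 < finrank (ZMod q) W := by
    rw [Module.finrank_pos_iff]
    exact ⟨⟨v, hvW⟩, 0, fun h => hv0 (congrArg Subtype.val h)⟩
  have hone : finrank (ZMod q) W = 1 := by omega
  have hline : ∀ u ∈ W, ∃ c : ZMod q, u = c • v := by
    intro u hu
    have h1 := (finrank_eq_one_iff_of_nonzero' (⟨v, hvW⟩ : W)
      (fun h => hv0 (congrArg Subtype.val h))).1 hone ⟨u, hu⟩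
    obtain ⟨c, hc⟩ := h1
    exact ⟨c, (congrArg Subtype.val hc).symm⟩
  intro a ha
  apply scalar_of_all_eigen
  intro w hw
  obtain ⟨g, hg⟩ := htrans v w hv0 hw
  have hconj : g⁻¹ * a * g ∈ A := by
    have := hAn.conj_mem a ha g⁻¹
    rwa [inv_inv] at this
  obtain ⟨c, hc⟩ := hline _ (hWinv _ hconj v hvW)
  refine ⟨c, ?_⟩
  have h2 : ρ a w = ρ g (ρ (g⁻¹ * a * g) v) := by
    rw [← hg, ← LinearEquiv.mul_apply, ← LinearEquiv.mul_apply, ← map_mul, ← map_mul]
    congr 2
    group
  rw [h2, hc, map_smul, hg]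

/-- in dimension 2 a transitive group does not consist of scalars -/
theorem not_all_scalar (ρ : G →* (V ≃ₗ[ZMod q] V)) (hdim : finrank (ZMod q) V = 2)
    (htrans : Trans ρ) : ¬ ∀ g : G, IsScalar ρ g := by
  have : Module.Finite (ZMod q) V := Module.Finite.of_finite
  intro hall
  let b := Module.finBasisOfFinrankEq (ZMod q) V hdim
  obtain ⟨g, hg⟩ := htrans (b 0) (b 1) (b.ne_zero 0) (b.ne_zero 1)
  obtain ⟨c, hc⟩ := hall g
  rw [hc] at hg
  have h1 := congrArg (fun x => b.repr x 1) hg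
  simp only [map_smul, Module.Basis.repr_self, Finsupp.smul_apply, smul_eq_mul] at h1
  rw [Finsupp.single_apply, Finsupp.single_apply] at h1
  simp at h1

theorem exists_class_two (ρ : G →* (V ≃ₗ[ZMod q] V)) (hdim : finrank (ZMod q) V = 2)
    (htrans : Trans ρ) (hsol : Group.IsSolvable G) (hng : ¬ Good ρ) :
    ∃ B : Subgroup G, B.Normal ∧ (∀ a ∈ B, ∀ b ∈ B, IsScalar ρ (a * b * a⁻¹ * b⁻¹)) ∧
      ∃ x ∈ B, ∃ y ∈ B, x * y ≠ y * x := by
  classical
  obtain ⟨n, hn⟩ := (Group.isSolvable_def G).1 hsol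
  have hPn : ∀ g ∈ derivedSeries G n, IsScalar ρ g := by
    intro g hg
    rw [hn, Subgroup.mem_bot] at hg
    refine ⟨1, fun v => ?_⟩
    rw [hg, map_one, one_smul]
    rfl
  have hex : ∃ i, ∀ g ∈ derivedSeries G i, IsScalar ρ g := ⟨n, hPn⟩
  obtain ⟨i, hi, hmin⟩ : ∃ i, (∀ g ∈ derivedSeries G i, IsScalar ρ g) ∧
      ∀ j < i, ¬ ∀ g ∈ derivedSeries G j, IsScalar ρ g :=
    ⟨Nat.find hex, Nat.find_spec hex, fun j hj => Nat.find_min hex hj⟩
  have hi0 : i ≠ 0 := by
    intro h0
    rw [h0, derivedSeries_zero] at hi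
    exact not_all_scalar ρ hdim htrans (fun g => hi g (Subgroup.mem_top g))
  obtain ⟨k, rfl⟩ := Nat.exists_eq_succ_of_ne_zero hi0
  have hBn : (derivedSeries G k).Normal := derivedSeries_normal G k
  refine ⟨derivedSeries G k, hBn, ?_, ?_⟩
  · intro a ha b hb
    apply hi
    rw [derivedSeries_succ]
    have := Subgroup.commutator_mem_commutator ha hb
    rwa [commutatorElement_def] at this
  · by_contra hcomm
    push Not at hcomm
    have hnotirr : ¬ IrrOn ρ (derivedSeries G k) := by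
      intro hirr
      exact hng ⟨derivedSeries G k, hBn, fun a ha b hb => hcomm a ha b hb, hirr⟩
    exact hmin k (Nat.lt_succ_self k)
      (scalar_of_normal_not_irr' ρ hdim htrans (derivedSeries G k) hnotirr)

end Cfsg.Agent.Lib.Helper12.Huppert
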