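import Mathlib
import Cfsg.Agent.Lib.Helper71.LWDefs
import Cfsg.Agent.Lib.Helper42.LWSyl
import Cfsg.Agent.Lib.Helper42.LWPstab

/-!
# S0747 module [C-a] (helper12, for helper71's Livingstone–Wagner project)

Existence of a 2-subgroup `Q` of maximal order among the 2-subgroups of `(k+1)`-point stabilisers,
with `|Q| < |P|` where `P` is a nontrivial Sylow 2-subgroup of a `k`-point stabiliser with exactly
`k` fixed points.
-/

set_option autoImplicit false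
set_option linter.unusedSectionVars false
open Equiv
open Cfsg.Agent.Lib.Helper71.LW
open Cfsg.Agent.Lib.Helper42.LW

namespace Cfsg.Agent.Lib.Helper12.LW

variable {α : Type*} [Fintype α] [DecidableEq α]

/-- a maximal pair `(Δ, Q)`: `Δ` of size `j`, `Q` a 2-subgroup of `pstab G Δ` of largest order -/
theorem exists_max_pair (G : Subgroup (Perm α)) (j : ℕ) (Δ1 : Finset α) (hΔ1 : Δ1.card = j) :
    ∃ (Δ0 : Finset α) (Q : Subgroup (Perm α)), Δ0.card = j ∧ IsPGroup 2 Q ∧ Q ≤ pstab G Δ0 ∧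
      ∀ Δ : Finset α, Δ.card = j → ∀ R : Subgroup (Perm α), IsPGroup 2 R → R ≤ pstab G Δ →
        Nat.card R ≤ Nat.card Q := by
  classical
  let T := {p : Finset α × Subgroup (Perm α) // p.1.card = j ∧ IsPGroup 2 p.2 ∧ p.2 ≤ pstab G p.1}
  have : Nonempty T := ⟨⟨(Δ1, ⊥), hΔ1, IsPGroup.of_bot, bot_le⟩⟩
  have : Finite T := Subtype.finite
  obtain ⟨x₀, hx₀⟩ := Finite.exists_max (fun t : T => Nat.card t.1.2)
  refine ⟨x₀.1.1, x₀.1.2, x₀.2.1, x₀.2.2.1, x₀.2.2.2, ?_⟩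
  intro Δ hΔ R hR2 hRΔ
  exact hx₀ ⟨(Δ, R), hΔ, hR2, hRΔ⟩

theorem exists_Q1 (G : Subgroup (Perm α)) (k : ℕ) (hk : 1 ≤ k) (hG : Trans G k) (Γ : Finset α)
    (hΓ : Γ.card = k) (P : Subgroup (Perm α)) (hP : IsSyl2In P (pstab G Γ)) (hP1 : P ≠ ⊥)
    (hfix : fixPts P = Γ) :
    ∃ Q : Subgroup (Perm α), Q ≤ G ∧ IsPGroup 2 Q ∧ k + 1 ≤ (fixPts Q).card ∧
      (∀ Δ : Finset α, Δ.card = k + 1 → ∀ R : Subgroup (Perm α), IsPGroup 2 R → R ≤ pstab G Δ →
        Nat.card R ≤ Nat.card Q) ∧ Nat.card Q < Nat.card P := by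
  classical
  have _ := hk
  -- a point outside Γ
  obtain ⟨x, hx⟩ : ∃ x, x ∉ Γ := by
    by_contra hcon
    have hcon : ∀ y, y ∈ Γ := fun y => by
      by_contra hy
      exact hcon ⟨y, hy⟩
    apply hP1
    rw [Subgroup.eq_bot_iff_forall]
    intro p hp
    ext y
    have hy : y ∈ fixPts P := by rw [hfix]; exact hcon y
    simpa using mem_fixPts.1 hy p hp
  have hΔ1 : (insert x Γ).card = k + 1 := by rw [Finset.card_insert_of_notMem hx, hΓ]
  obtain ⟨Δ0, Q, hΔ0, hQ2, hQΔ0, hmax⟩ := exists_max_pair G (k + 1) (insert x Γ) hΔ1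
  have hΔ0fix : Δ0 ⊆ fixPts Q := by
    intro y hy
    rw [mem_fixPts]
    intro q hq
    exact (hQΔ0 hq).2 y hy
  refine ⟨Q, le_trans hQΔ0 (pstab_le G Δ0), hQ2, ?_, hmax, ?_⟩
  · rw [← hΔ0]; exact Finset.card_le_card hΔ0fix
  -- the strict inequality
  obtain ⟨Γ', hΓ'sub, hΓ'⟩ := Finset.exists_subset_card_eq (s := Δ0) (n := k) (by omega)
  obtain ⟨g, hgG, hgim, hgconj⟩ := pstab_conj G k hG Γ' Γ hΓ' hΓ
  -- the conjugate Q' = g Q g⁻¹
  set φ : Perm α →* Perm α := (MulAut.conj g).toMonoidHom with hφ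
  have hφapp : ∀ q : Perm α, φ q = g * q * g⁻¹ := fun q => by
    rw [hφ]; simp [MulAut.conj_apply]
  have hφinj : Function.Injective φ := by
    rw [hφ]; exact (MulAut.conj g).injective
  have hQ'card : Nat.card (Q.map φ) = Nat.card Q := Subgroup.card_map_of_injective hφinj
  have hQ'2 : IsPGroup 2 (Q.map φ) := hQ2.map φ
  have hQ'le : Q.map φ ≤ pstab G Γ := by
    intro p hp
    obtain ⟨q, hq, rfl⟩ := Subgroup.mem_map.1 hp
    rw [hgconj, hφapp]
    have : g⁻¹ * (g * q * g⁻¹) * g = q := by group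
    rw [this]
    exact pstab_mono G hΓ'sub (hQΔ0 hq)
  obtain ⟨P', hP', hQ'P'⟩ := exists_isSyl2In_ge (pstab G Γ) (Q.map φ) hQ'2 hQ'le
  have hP'card : Nat.card P' = Nat.card P := by
    rw [isSyl2In_card hP', isSyl2In_card hP]
  have hle : Nat.card Q ≤ Nat.card P := by
    rw [← hQ'card, ← hP'card]
    exact Subgroup.card_le_of_le hQ'P'
  refine lt_of_le_of_ne hle ?_
  intro heq
  -- then Q' = P'
  have hQ'eq : Q.map φ = P' := by
    apply Subgroup.eq_of_le_of_card_ge hQ'P'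
    rw [hQ'card, hP'card, heq]
  obtain ⟨e, _, hconj⟩ := isSyl2In_conj hP hP'
  -- every element of P is u q u⁻¹ with u = e⁻¹ g
  have hPfix : Δ0.image (fun y => (e⁻¹ * g) y) ⊆ fixPts P := by
    intro z hz
    obtain ⟨y, hy, rfl⟩ := Finset.mem_image.1 hz
    rw [mem_fixPts]
    intro p₀ hp₀
    have h1 : e * p₀ * e⁻¹ ∈ P' := by
      rw [hconj]
      have : e⁻¹ * (e * p₀ * e⁻¹) * e = p₀ := by group
      rw [this]; exact hp₀
    rw [← hQ'eq] at h1
    obtain ⟨q, hq, hqe⟩ := Subgroup.mem_map.1 h1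
    rw [hφapp] at hqe
    have hp₀eq : p₀ = e⁻¹ * (g * q * g⁻¹) * e := by
      rw [hqe]; group
    have hqy : q y = y := (hQΔ0 hq).2 y hy
    rw [hp₀eq]
    simp only [Perm.mul_apply]
    simp [hqy]
  have hcard1 : (Δ0.image (fun y => (e⁻¹ * g) y)).card = k + 1 := by
    rw [Finset.card_image_of_injective _ (e⁻¹ * g).injective, hΔ0]
  have hcard2 := Finset.card_le_card hPfix
  rw [hcard1, hfix, hΓ] at hcard2
  omega

end Cfsg.Agent.Lib.Helper12.LW
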