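import Mathlib
import Cfsg.Agent.Lib.Helper71.LWDefs
import Cfsg.Agent.Lib.Helper42.LWSyl
import Cfsg.Agent.Lib.Helper42.LWPstab

/-!
# S0747 module [C-b] (helper12, for helper71's Livingstone–Wagner project)

Existence of an element `w` normalising the maximal 2-subgroup `Q`, fixing a `k`-subset `E` of
`fixPts Q` pointwise, acting as a fixed-point-free involution on `fixPts Q \ E`.
-/

set_option autoImplicit false
set_option linter.unusedSectionVars false
open Equiv
open Cfsg.Agent.Lib.Helper71.LW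
open Cfsg.Agent.Lib.Helper42.LW

namespace Cfsg.Agent.Lib.Helper12.LW

variable {α : Type*} [Fintype α] [DecidableEq α]

theorem exists_w (G : Subgroup (Perm α)) (k : ℕ) (hG : Trans G k) (Γ : Finset α) (hΓ : Γ.card = k)
    (P : Subgroup (Perm α)) (hP : IsSyl2In P (pstab G Γ)) (Q : Subgroup (Perm α)) (hQG : Q ≤ G)
    (hQ2 : IsPGroup 2 Q)
    (hmax : ∀ Δ : Finset α, Δ.card = k + 1 → ∀ R : Subgroup (Perm α), IsPGroup 2 R →
      R ≤ pstab G Δ → Nat.card R ≤ Nat.card Q)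
    (hlt : Nat.card Q < Nat.card P) (E : Finset α) (hE : E.card = k) (hEQ : E ⊆ fixPts Q) :
    ∃ w ∈ G, (∀ q ∈ Q, w * q * w⁻¹ ∈ Q) ∧ (∀ x ∈ E, w x = x) ∧
      (∀ y ∈ fixPts Q, y ∉ E → w y ≠ y) ∧ (∀ y ∈ fixPts Q, w (w y) = y) := by
  have hQE : Q ≤ pstab G E := fun q hq => ⟨hQG hq, fun x hx => (mem_fixPts.1 (hEQ hx)) q hq⟩
  obtain ⟨PE, hPE, hQPE⟩ := exists_isSyl2In_ge (pstab G E) Q hQ2 hQE
  have hcardPE : Nat.card PE = Nat.card P := by
    rw [isSyl2In_card hPE, isSyl2In_card hP, card_pstab_eq G k hG E Γ hE hΓ]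
  have hne : Q ≠ PE := by
    intro h
    have h' : Nat.card Q = Nat.card PE := by rw [h]
    omega
  obtain ⟨w, hwPE, hwQ, hwwQ, hwn⟩ := normalizer_grows hPE.2.1 hQPE hne
  have hwE : w ∈ pstab G E := hPE.1 hwPE
  refine ⟨w, hwE.1, hwn, hwE.2, ?_, ?_⟩
  · intro y hy hyE hwy
    have hRle : Q ⊔ Subgroup.zpowers w ≤ PE := sup_le hQPE (Subgroup.zpowers_le.2 hwPE)
    have hR2 : IsPGroup 2 (Q ⊔ Subgroup.zpowers w : Subgroup (Perm α)) := hPE.2.1.to_le hRle
    have hRΔ : Q ⊔ Subgroup.zpowers w ≤ pstab G (insert y E) := by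
      refine sup_le ?_ (Subgroup.zpowers_le.2 ?_)
      · intro q hq
        refine ⟨hQG hq, fun x hx => ?_⟩
        rcases Finset.mem_insert.1 hx with rfl | hx
        · exact mem_fixPts.1 hy q hq
        · exact mem_fixPts.1 (hEQ hx) q hq
      · refine ⟨hwE.1, fun x hx => ?_⟩
        rcases Finset.mem_insert.1 hx with rfl | hx
        · exact hwy
        · exact hwE.2 x hx
    have hcard := hmax (insert y E) (by rw [Finset.card_insert_of_notMem hyE, hE]) _ hR2 hRΔ
    have hQR : Q = Q ⊔ Subgroup.zpowers w := Subgroup.eq_of_le_of_card_ge le_sup_left hcard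
    apply hwQ
    rw [hQR]
    exact (le_sup_right : Subgroup.zpowers w ≤ _) (Subgroup.mem_zpowers w)
  · intro y hy
    have := mem_fixPts.1 hy (w * w) hwwQ
    simpa [Perm.mul_apply] using this

end Cfsg.Agent.Lib.Helper12.LW
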