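import Mathlib
import Cfsg.Agent.Lib.Helper71.LWDefs

/-!
# S0747 module [C-triv] (helper12, for helper71's Livingstone–Wagner project)

A 2-element trick: an element `c` of `G` normalising a "maximal" 2-subgroup `Q`, acting as an
involution on `fixPts Q` and fixing `k+1` points of `fixPts Q`, is trivial on `fixPts Q`.
-/

set_option autoImplicit false
set_option linter.unusedSectionVars false
open Equiv
open Cfsg.Agent.Lib.Helper71.LW

namespace Cfsg.Agent.Lib.Helper12.LW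

variable {α : Type*} [Fintype α] [DecidableEq α]

/-- if `c Q c⁻¹ ⊆ Q` then also `c⁻¹ Q c ⊆ Q` (finite group) -/
theorem conj_inv_mem_of_conj_mem (Q : Subgroup (Perm α)) (c : Perm α)
    (hcQ : ∀ q ∈ Q, c * q * c⁻¹ ∈ Q) : ∀ q ∈ Q, c⁻¹ * q * c ∈ Q := by
  have hn : c ∈ Subgroup.normalizer (Q : Set (Perm α)) :=
    Subgroup.mem_normalizer_fintype (fun n hn => hcQ n hn)
  intro q hq
  rw [Subgroup.mem_normalizer_iff] at hn
  rw [hn (c⁻¹ * q * c)]
  have : c * (c⁻¹ * q * c) * c⁻¹ = q := by group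
  rw [this]; exact hq

/-- membership in the normalizer from the one-sided conjugation condition -/
theorem mem_normalizer_of_conj_mem (Q : Subgroup (Perm α)) (c : Perm α)
    (hcQ : ∀ q ∈ Q, c * q * c⁻¹ ∈ Q) : c ∈ Subgroup.normalizer (Q : Set (Perm α)) :=
  Subgroup.mem_normalizer_fintype (fun n hn => hcQ n hn)

/-- an element normalising `Q` maps `fixPts Q` into itself -/
theorem map_fixPts_of_conj_mem (Q : Subgroup (Perm α)) (c : Perm α)
    (hcQ : ∀ q ∈ Q, c * q * c⁻¹ ∈ Q) : ∀ y ∈ fixPts Q, c y ∈ fixPts Q := by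
  intro y hy
  rw [mem_fixPts] at hy ⊢
  intro q hq
  have h1 := hy _ (conj_inv_mem_of_conj_mem Q c hcQ q hq)
  simp only [Perm.mul_apply] at h1
  have := congrArg c h1
  simpa using this

/-- if `c ∘ c = id` on a `c`-stable set `S`, then every even power of `c` is trivial on `S` -/
theorem pow_two_mul_apply_of_invol (c : Perm α) (S : Finset α)
    (hc2 : ∀ y ∈ S, c (c y) = y) (m : ℕ) : ∀ y ∈ S, (c ^ (2 * m)) y = y := by
  induction m with
  | zero => intro y _; simp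
  | succ n ih =>
    intro y hy
    have : 2 * (n + 1) = 2 * n + 2 := by ring
    rw [this, pow_add, Perm.mul_apply, pow_two, Perm.mul_apply, hc2 y hy, ih y hy]

theorem two_elt_trivial (G : Subgroup (Perm α)) (k : ℕ) (Q : Subgroup (Perm α)) (hQG : Q ≤ G)
    (hQ2 : IsPGroup 2 Q)
    (hmax : ∀ Δ : Finset α, Δ.card = k + 1 → ∀ R : Subgroup (Perm α), IsPGroup 2 R →
      R ≤ pstab G Δ → Nat.card R ≤ Nat.card Q)
    (c : Perm α) (hc : c ∈ G) (hcQ : ∀ q ∈ Q, c * q * c⁻¹ ∈ Q)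
    (hc2 : ∀ y ∈ fixPts Q, c (c y) = y) (Δ : Finset α) (hΔ : Δ.card = k + 1)
    (hΔQ : Δ ⊆ fixPts Q) (hcΔ : ∀ x ∈ Δ, c x = x) : ∀ y ∈ fixPts Q, c y = y := by
  -- decompose the order of c
  have ho : orderOf c ≠ 0 := (orderOf_pos c).ne'
  obtain ⟨s, o, hodd, hso⟩ := Nat.exists_eq_two_pow_mul_odd ho
  obtain ⟨m, hm⟩ := hodd
  set c2 : Perm α := c ^ o with hc2def
  -- c2 has 2-power order
  have hc2pow : c2 ^ (2 ^ s) = 1 := by
    rw [hc2def, ← pow_mul, mul_comm, ← hso, pow_orderOf_eq_one]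
  have hZ : IsPGroup 2 (Subgroup.zpowers c2) := by
    have hdvd : orderOf c2 ∣ 2 ^ s := orderOf_dvd_of_pow_eq_one hc2pow
    obtain ⟨t, _, ht⟩ := (Nat.dvd_prime_pow Nat.prime_two).1 hdvd
    exact IsPGroup.of_card (n := t) (by rw [Nat.card_zpowers, ht])
  -- c2 normalises Q
  have hcn : c ∈ Subgroup.normalizer (Q : Set (Perm α)) := mem_normalizer_of_conj_mem Q c hcQ
  have hc2n : c2 ∈ Subgroup.normalizer (Q : Set (Perm α)) := Subgroup.pow_mem _ hcn o
  have hle : Subgroup.zpowers c2 ≤ Subgroup.normalizer (Q : Set (Perm α)) :=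
    Subgroup.zpowers_le.2 hc2n
  have hR2 : IsPGroup 2 (Q ⊔ Subgroup.zpowers c2 : Subgroup (Perm α)) :=
    IsPGroup.to_sup_of_normal_left' hQ2 hZ hle
  -- R ≤ pstab G Δ
  have hQΔ : Q ≤ pstab G Δ := by
    intro q hq
    exact ⟨hQG hq, fun x hx => (mem_fixPts.1 (hΔQ hx)) q hq⟩
  have hcΔ' : c ∈ pstab G Δ := ⟨hc, hcΔ⟩
  have hc2Δ : c2 ∈ pstab G Δ := Subgroup.pow_mem _ hcΔ' o
  have hRΔ : (Q ⊔ Subgroup.zpowers c2 : Subgroup (Perm α)) ≤ pstab G Δ :=
    sup_le hQΔ (Subgroup.zpowers_le.2 hc2Δ)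
  have hcard := hmax Δ hΔ _ hR2 hRΔ
  have hQR : Q = (Q ⊔ Subgroup.zpowers c2 : Subgroup (Perm α)) :=
    Subgroup.eq_of_le_of_card_ge le_sup_left hcard
  have hc2Q : c2 ∈ Q := by
    rw [hQR]
    exact (le_sup_right : Subgroup.zpowers c2 ≤ _) (Subgroup.mem_zpowers c2)
  -- c2 acts as c on fixPts Q
  intro y hy
  have hcy : c y ∈ fixPts Q := map_fixPts_of_conj_mem Q c hcQ y hy
  have h1 : c2 y = c y := by
    rw [hc2def, hm, pow_add, pow_one, Perm.mul_apply]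
    exact pow_two_mul_apply_of_invol c (fixPts Q) hc2 m (c y) hcy
  rw [← h1]
  exact (mem_fixPts.1 hy) c2 hc2Q

end Cfsg.Agent.Lib.Helper12.LW
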