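import Cfsg.Agent.Lib.Helper12.SimplePower

set_option autoImplicit false
set_option linter.unusedSectionVars false

namespace Cfsg.Agent.Lib.Helper12

section onan
variable {ι : Type*} [Fintype ι] [DecidableEq ι] {T : Type*} [Group T]

/-- the subgroup of functions with coordinates in prescribed subgroups -/
def boxSubgroup (K : ι → Subgroup T) : Subgroup (ι → T) where
  carrier := {x | ∀ i, x i ∈ K i}
  one_mem' := fun i => (K i).one_mem
  mul_mem' := fun hx hy i => (K i).mul_mem (hx i) (hy i)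
  inv_mem' := fun hx i => (K i).inv_mem (hx i)

theorem mem_boxSubgroup (K : ι → Subgroup T) (x : ι → T) :
    x ∈ boxSubgroup K ↔ ∀ i, x i ∈ K i := Iff.rfl

/-- coordinate projection of a subgroup -/
def projSubgroup (L : Subgroup (ι → T)) (i : ι) : Subgroup T :=
  L.map (Pi.evalMonoidHom (fun _ => T) i)

theorem mem_projSubgroup (L : Subgroup (ι → T)) (i : ι) (t : T) :
    t ∈ projSubgroup L i ↔ ∃ x ∈ L, x i = t := by
  unfold projSubgroup
  rw [Subgroup.mem_map]
  rfl

theorem le_boxSubgroup_proj (L : Subgroup (ι → T)) : L ≤ boxSubgroup (projSubgroup L) :=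
  fun x hx i => (mem_projSubgroup L i _).mpr ⟨x, hx, rfl⟩

theorem proj_image (L : Subgroup (ι → T)) (φ : (ι → T) ≃* (ι → T))
    (hinv : ∀ x, x ∈ L ↔ φ x ∈ L) (σ : ι → ι) (ψ : ι → (T →* T))
    (hform : ∀ (x : ι → T) (i : ι), φ x (σ i) = ψ i (x i)) (i : ι) (t : T) :
    t ∈ projSubgroup L (σ i) ↔ ∃ s ∈ projSubgroup L i, ψ i s = t := by
  rw [mem_projSubgroup]
  constructor
  · rintro ⟨x, hx, rfl⟩
    refine ⟨φ.symm x i, (mem_projSubgroup _ _ _).mpr ⟨φ.symm x, ?_, rfl⟩, ?_⟩
    · rw [hinv, φ.apply_symm_apply]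
      exact hx
    · rw [← hform, φ.apply_symm_apply]
  · rintro ⟨s, hs, rfl⟩
    obtain ⟨y, hy, rfl⟩ := (mem_projSubgroup _ _ _).mp hs
    exact ⟨φ y, (hinv y).mp hy, hform y i⟩

theorem box_invariant (L : Subgroup (ι → T)) (φ : (ι → T) ≃* (ι → T))
    (hinv : ∀ x, x ∈ L ↔ φ x ∈ L) (σ : ι → ι) (ψ : ι → (T →* T))
    (hσ : Function.Bijective σ) (hψ : ∀ i, Function.Bijective (ψ i))
    (hform : ∀ (x : ι → T) (i : ι), φ x (σ i) = ψ i (x i)) (x : ι → T) :
    x ∈ boxSubgroup (projSubgroup L) ↔ φ x ∈ boxSubgroup (projSubgroup L) := by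
  simp only [mem_boxSubgroup]
  constructor
  · intro h j
    obtain ⟨i, rfl⟩ := hσ.2 j
    rw [proj_image L φ hinv σ ψ hform]
    exact ⟨x i, h i, (hform x i).symm⟩
  · intro h i
    have := h (σ i)
    rw [proj_image L φ hinv σ ψ hform] at this
    obtain ⟨s, hs, hs2⟩ := this
    rw [hform] at hs2
    rw [← (hψ i).1 hs2]
    exact hs

theorem linked_invariant (L : Subgroup (ι → T)) (φ : (ι → T) ≃* (ι → T))
    (hinv : ∀ x, x ∈ L ↔ φ x ∈ L) (σ : ι → ι) (ψ : ι → (T →* T))
    (hψ : ∀ i, Function.Bijective (ψ i))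
    (hform : ∀ (x : ι → T) (i : ι), φ x (σ i) = ψ i (x i)) (i j : ι) :
    Linked L i j ↔ Linked L (σ i) (σ j) := by
  constructor
  · intro h x hx hxi
    have hy : φ.symm x ∈ L := by
      rw [hinv, φ.apply_symm_apply]
      exact hx
    have h1 : φ (φ.symm x) (σ i) = ψ i (φ.symm x i) := hform _ _
    rw [φ.apply_symm_apply, hxi] at h1
    have h2 : φ.symm x i = 1 := (hψ i).1 (h1.symm.trans (map_one _).symm)
    have h3 := h _ hy h2
    have h4 : φ (φ.symm x) (σ j) = ψ j (φ.symm x j) := hform _ _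
    rw [φ.apply_symm_apply, h3, map_one] at h4
    exact h4
  · intro h y hy hyi
    have hx : φ y ∈ L := (hinv y).mp hy
    have h1 : φ y (σ i) = 1 := by rw [hform, hyi, map_one]
    have h2 := h _ hx h1
    rw [hform] at h2
    exact (hψ j).1 (h2.trans (map_one _).symm)

/-- functions supported on a set of coordinates -/
def suppSubgroup (O : Set ι) : Subgroup (ι → T) where
  carrier := {x | ∀ i, i ∉ O → x i = 1}
  one_mem' := fun _ _ => rfl
  mul_mem' := fun {x y} hx hy i hi => by
    rw [Pi.mul_apply, hx i hi, hy i hi, mul_one]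
  inv_mem' := fun {x} hx i hi => by
    rw [Pi.inv_apply, hx i hi, inv_one]

theorem mem_suppSubgroup (O : Set ι) (x : ι → T) :
    x ∈ suppSubgroup O ↔ ∀ i, i ∉ O → x i = 1 := Iff.rfl

theorem suppSubgroup_normal (O : Set ι) : (suppSubgroup (T := T) O).Normal := by
  constructor
  intro x hx g i hi
  rw [Pi.mul_apply, Pi.mul_apply, Pi.inv_apply, hx i hi, mul_one, mul_inv_cancel]

/-- a set of coordinates invariant under a family of automorphisms without invariant normal
subgroups is everything -/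
theorem invariant_subset_univ [Nontrivial T] (A : Set ((ι → T) ≃* (ι → T)))
    (hmin : ∀ M : Subgroup (ι → T), M.Normal → (∀ φ ∈ A, ∀ x, x ∈ M ↔ φ x ∈ M) → M = ⊥ ∨ M = ⊤)
    (O : Set ι) (hO : O.Nonempty)
    (hinvO : ∀ φ ∈ A, ∃ (σ : ι → ι) (ψ : ι → (T →* T)), Function.Bijective σ ∧
      (∀ i, Function.Bijective (ψ i)) ∧ (∀ (x : ι → T) (i : ι), φ x (σ i) = ψ i (x i)) ∧
      ∀ i, i ∈ O ↔ σ i ∈ O) :
    ∀ i, i ∈ O := by
  obtain ⟨t₀, ht₀⟩ := exists_ne (1 : T)
  have hM := hmin (suppSubgroup O) (suppSubgroup_normal O) (by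
    intro φ hφ x
    obtain ⟨σ, ψ, hσ, hψ, hform, hOσ⟩ := hinvO φ hφ
    simp only [mem_suppSubgroup]
    constructor
    · intro h j hj
      obtain ⟨i, rfl⟩ := hσ.2 j
      rw [hform, h i (fun hi => hj ((hOσ i).mp hi)), map_one]
    · intro h i hi
      have h1 := h (σ i) (fun hi' => hi ((hOσ i).mpr hi'))
      rw [hform] at h1
      exact (hψ i).1 (h1.trans (map_one _).symm))
  rcases hM with hM | hM
  · exfalso
    obtain ⟨i, hi⟩ := hO
    have hmem : Pi.mulSingle i t₀ ∈ suppSubgroup (T := T) O := by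
      intro j hj
      have hji : j ≠ i := fun h => hj (h ▸ hi)
      exact Pi.mulSingle_eq_of_ne hji _
    rw [hM, Subgroup.mem_bot] at hmem
    have := congrFun hmem i
    rw [Pi.mulSingle_eq_same, Pi.one_apply] at this
    exact ht₀ this
  · intro i
    by_contra hi
    have hmem : Pi.mulSingle i t₀ ∈ suppSubgroup (T := T) O := by
      rw [hM]
      trivial
    have := hmem i hi
    rw [Pi.mulSingle_eq_same] at this
    exact ht₀ this

/-- the diagonal case: a proper subdirect subgroup of a power of a non-abelian simple group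
whose linking classes have a common size -/
theorem diag_case [IsSimpleGroup T] (hT : ¬ IsMulCommutative T) (L : Subgroup (ι → T))
    (hsub : ∀ (i : ι) (t : T), ∃ x ∈ L, x i = t) (hLtop : L ≠ ⊤) (k : ℕ)
    (hk : ∀ i, Nat.card {j // Linked L i j} = k) :
    ∃ (c : ι → ι) (Ψ : ι → (T ≃* T)), 2 ≤ k ∧
      (∀ j, Nat.card {i // c i = j} = k ∨ Nat.card {i // c i = j} = 0) ∧
      ∀ x, x ∈ L ↔ ∀ i j, c i = c j → Ψ i (x i) = Ψ j (x j) := by
  classical
  -- `k ≥ 2`
  have hk2 : 2 ≤ k := by
    by_contra hlt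
    apply hLtop
    have hnl : ∀ i ∈ (Finset.univ : Finset ι), ∀ j ∈ (Finset.univ : Finset ι), i ≠ j →
        ¬ Linked L i j := by
      intro i _ j _ hij hl
      apply hlt
      rw [← hk i]
      have : Nontrivial {j // Linked L i j} :=
        ⟨⟨⟨i, linked_refl L i⟩, ⟨j, hl⟩, fun h => hij (congrArg Subtype.val h)⟩⟩
      exact Finite.one_lt_card_iff_nontrivial.mpr this
    rw [eq_top_iff]
    intro f _
    obtain ⟨x, hx, hxf⟩ := exists_mem_of_not_linked hT L hsub Finset.univ hnl f
    have : x = f := funext fun i => hxf i (Finset.mem_univ i)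
    rw [← this]
    exact hx
  -- the class representatives
  let s : Setoid ι := ⟨fun i j => Linked L i j, ⟨linked_refl L, fun h => linked_symm L hsub h,
    fun h1 h2 => linked_trans h1 h2⟩⟩
  let c : ι → ι := fun i => (Quotient.mk s i).out
  have hc1 : ∀ i, Linked L (c i) i := fun i => Quotient.exact (Quotient.out_eq (Quotient.mk s i))
  have hc2 : ∀ i j, c i = c j ↔ Linked L i j := by
    intro i j
    constructor
    · intro h
      have h1 : Linked L i (c i) := linked_symm L hsub (hc1 i)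
      rw [h] at h1
      exact linked_trans h1 (hc1 j)
    · intro h
      have : Quotient.mk s i = Quotient.mk s j := Quotient.sound h
      change (Quotient.mk s i).out = (Quotient.mk s j).out
      rw [this]
  have hcc : ∀ i, c (c i) = c i := fun i => (hc2 _ _).mpr (hc1 i)
  -- the twisting automorphisms
  have hex : ∀ i, ∃ ψ : T →* T, Function.Bijective ψ ∧ ∀ x ∈ L, x i = ψ (x (c i)) :=
    fun i => linked_hom L hsub (hc1 i)
  choose ψ hψb hψf using hex
  have hψid : ∀ r, c r = r → ∀ t, ψ r t = t := by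
    intro r hr t
    obtain ⟨x, hx, rfl⟩ := hsub r t
    have := hψf r x hx
    rw [hr] at this
    exact this.symm
  refine ⟨c, fun i => (MulEquiv.ofBijective (ψ i) (hψb i)).symm, hk2, ?_, ?_⟩
  · intro j
    by_cases hj : c j = j
    · left
      rw [← hk j]
      apply Nat.card_congr
      apply Equiv.subtypeEquivRight
      intro i
      constructor
      · intro h
        rw [← h]
        exact hc1 i
      · intro h
        have := (hc2 _ _).mpr h
        rw [hj] at this
        exact this.symm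
    · right
      have : IsEmpty {i // c i = j} := by
        constructor
        rintro ⟨i, hi⟩
        apply hj
        rw [← hi, hcc]
      exact Nat.card_of_isEmpty
  · intro x
    constructor
    · intro hx i j hij
      have h1 : ∀ i, (MulEquiv.ofBijective (ψ i) (hψb i)).symm (x i) = x (c i) := by
        intro i
        rw [MulEquiv.symm_apply_eq]
        exact hψf i x hx
      rw [h1, h1, hij]
    · intro hx
      set y : ι → T := fun i => (MulEquiv.ofBijective (ψ i) (hψb i)).symm (x i) with hy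
      have hxy : ∀ i, x i = ψ i (y i) := by
        intro i
        have : (MulEquiv.ofBijective (ψ i) (hψb i)) (y i) = x i := by
          rw [hy]
          exact MulEquiv.apply_symm_apply _ _
        exact this.symm
      have hyc : ∀ i j, c i = c j → y i = y j := hx
      have hnl : ∀ r ∈ (Finset.univ.image c : Finset ι), ∀ r' ∈ (Finset.univ.image c : Finset ι),
          r ≠ r' → ¬ Linked L r r' := by
        intro r hr r' hr' hne hl
        rw [Finset.mem_image] at hr hr'
        obtain ⟨i, -, rfl⟩ := hr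
        obtain ⟨j, -, rfl⟩ := hr'
        apply hne
        have := (hc2 _ _).mpr hl
        rw [hcc, hcc] at this
        exact this
      obtain ⟨z, hz, hzx⟩ := exists_mem_of_not_linked hT L hsub (Finset.univ.image c) hnl x
      have hzeq : z = x := by
        funext i
        rw [hψf i z hz, hzx (c i) (Finset.mem_image_of_mem c (Finset.mem_univ i)), hxy (c i),
          hψid (c i) (hcc i), hyc (c i) i (hcc i), ← hxy]
      rw [← hzeq]
      exact hz

/-- abstract form of the O'Nan–Scott dichotomy for a maximal invariant subgroup of a power of a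
non-abelian simple group -/
theorem onan_scott_abstract [Nonempty ι] [IsSimpleGroup T] (hT : ¬ IsMulCommutative T)
    (L : Subgroup (ι → T)) (A : Set ((ι → T) ≃* (ι → T)))
    (hinv : ∀ φ ∈ A, ∀ x, x ∈ L ↔ φ x ∈ L)
    (hmax : ∀ P : Subgroup (ι → T), L ≤ P → (∀ φ ∈ A, ∀ x, x ∈ P ↔ φ x ∈ P) → P = L ∨ P = ⊤)
    (hmin : ∀ M : Subgroup (ι → T), M.Normal → (∀ φ ∈ A, ∀ x, x ∈ M ↔ φ x ∈ M) → M = ⊥ ∨ M = ⊤)
    (hcore : ∀ M : Subgroup (ι → T), M.Normal → M ≤ L → M = ⊥) :
    (∃ K : ι → Subgroup T, (∀ i, K i ≠ ⊤) ∧ ∀ x, x ∈ L ↔ ∀ i, x i ∈ K i) ∨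
    (∃ (k : ℕ) (c : ι → ι) (Ψ : ι → (T ≃* T)), 2 ≤ k ∧
      (∀ j, Nat.card {i // c i = j} = k ∨ Nat.card {i // c i = j} = 0) ∧
      ∀ x, x ∈ L ↔ ∀ i j, c i = c j → Ψ i (x i) = Ψ j (x j)) := by
  classical
  obtain ⟨t₀, ht₀⟩ := exists_ne (1 : T)
  -- the structure of the automorphisms
  have hstr : ∀ φ : A, ∃ (σ : ι → ι) (ψ : ι → (T →* T)), Function.Bijective σ ∧
      (∀ i, Function.Bijective (ψ i)) ∧ ∀ (x : ι → T) (i : ι), φ.1 x (σ i) = ψ i (x i) :=
    fun φ => aut_power_structure hT φ.1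
  choose σ ψ hσ hψ hform using hstr
  have hLtop : L ≠ ⊤ := by
    intro h
    have := hcore ⊤ inferInstance (by rw [h])
    have hmem : Pi.mulSingle (Classical.arbitrary ι) t₀ ∈ (⊤ : Subgroup (ι → T)) := trivial
    rw [this, Subgroup.mem_bot] at hmem
    have := congrFun hmem (Classical.arbitrary ι)
    rw [Pi.mulSingle_eq_same, Pi.one_apply] at this
    exact ht₀ this
  have hP := hmax (boxSubgroup (projSubgroup L)) (le_boxSubgroup_proj L) (by
    intro φ hφ x
    exact box_invariant L φ (hinv φ hφ) (σ ⟨φ, hφ⟩) (ψ ⟨φ, hφ⟩) (hσ ⟨φ, hφ⟩) (hψ ⟨φ, hφ⟩)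
      (hform ⟨φ, hφ⟩) x)
  rcases hP with hP | hP
  · -- product case
    left
    refine ⟨projSubgroup L, ?_, ?_⟩
    · intro i₀ hi₀
      have hle : (MonoidHom.mulSingle (fun _ : ι => T) i₀).range ≤ L := by
        rintro x ⟨t, rfl⟩
        rw [← hP]
        intro j
        by_cases hj : j = i₀
        · subst hj
          rw [hi₀]
          trivial
        · change (Pi.mulSingle i₀ t : ι → T) j ∈ _
          rw [Pi.mulSingle_eq_of_ne hj]
          exact Subgroup.one_mem _
      have hbot := hcore _ (range_mulSingle_normal i₀) hle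
      have hmem : Pi.mulSingle i₀ t₀ ∈ (MonoidHom.mulSingle (fun _ : ι => T) i₀).range :=
        ⟨t₀, rfl⟩
      rw [hbot, Subgroup.mem_bot] at hmem
      have := congrFun hmem i₀
      rw [Pi.mulSingle_eq_same, Pi.one_apply] at this
      exact ht₀ this
    · intro x
      rw [← mem_boxSubgroup, hP]
  · -- diagonal case
    right
    have hsub : ∀ (i : ι) (t : T), ∃ x ∈ L, x i = t := by
      intro i t
      have hmem : Pi.mulSingle i t ∈ boxSubgroup (projSubgroup L) := by
        rw [hP]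
        trivial
      have := hmem i
      rw [Pi.mulSingle_eq_same, mem_projSubgroup] at this
      exact this
    let i₀ : ι := Classical.arbitrary ι
    let k : ℕ := Nat.card {j // Linked L i₀ j}
    have hk : ∀ i, Nat.card {j // Linked L i j} = k := by
      apply invariant_subset_univ A hmin {i | Nat.card {j // Linked L i j} = k} ⟨i₀, rfl⟩
      intro φ hφ
      refine ⟨σ ⟨φ, hφ⟩, ψ ⟨φ, hφ⟩, hσ ⟨φ, hφ⟩, hψ ⟨φ, hφ⟩, hform ⟨φ, hφ⟩, ?_⟩
      intro i
      have hcard : Nat.card {j // Linked L (σ ⟨φ, hφ⟩ i) j} = Nat.card {j // Linked L i j} := by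
        apply Nat.card_congr
        exact (Equiv.subtypeEquiv (Equiv.ofBijective _ (hσ ⟨φ, hφ⟩)) (fun j =>
          linked_invariant L φ (hinv φ hφ) (σ ⟨φ, hφ⟩) (ψ ⟨φ, hφ⟩) (hψ ⟨φ, hφ⟩)
            (hform ⟨φ, hφ⟩) i j)).symm
      rw [Set.mem_ofPred_eq, Set.mem_ofPred_eq, hcard]
    obtain ⟨c, Ψ, hk2, hcard, hiff⟩ := diag_case hT L hsub hLtop k hk
    exact ⟨k, c, Ψ, hk2, hcard, hiff⟩

end onan

end Cfsg.Agent.Lib.Helper12
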