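import Mathlib
import Cfsg.Prelude.Def_OddOrderLocal
import Cfsg.Prelude.Def_Transfer
import Cfsg.Agent.Lib.Helper4.PFNineA
import Cfsg.Agent.Lib.Helper59.PFNineN12
import Cfsg.Agent.Lib.Helper62.PFNineN3
import Cfsg.Agent.Lib.Helper12.PFElevenE4B

/-!
# PROJECT PF, Peterfalvi (11.7), MODULE (E4) of helper64's board post #2754 (helper12)

`fittingHall_abelian_of_facts`: for type-P data with `U ≠ 1`, `|W₁| = q` and `|W₂| = p` primes,
`|M|` odd, `[H, U] = H` and `C_H(U) ≤ H'` (`H = M_F`): `H' = 1`, `C_H(U) = 1`, `|H| = p ^ q`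
and `H` is elementary abelian.
-/

set_option autoImplicit false

namespace Cfsg.Agent.Lib.Helper12.PF11

open Cfsg Cfsg.Agent.Lib.Helper4.PF9 Cfsg.Agent.Lib.Helper23
open scoped commutatorElement

variable {G : Type*} [Group G] [Finite G] {M W₁ U W₂ : Subgroup G}

/-- **MODULE (E4) = Peterfalvi (11.7)**, pure group theory. -/
theorem fittingHall_abelian_of_facts (hP : IsTypePWith M W₁ U W₂) (hU : U ≠ ⊥)
    (hq : (Nat.card W₁).Prime) (hp : (Nat.card W₂).Prime) (hodd : Odd (Nat.card M))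
    (h1 : ⁅fittingHallOf M, U⁆ = fittingHallOf M)
    (h2 : fittingHallOf M ⊓ Subgroup.centralizer (U : Set G) ≤
      ⁅fittingHallOf M, fittingHallOf M⁆) :
    ⁅fittingHallOf M, fittingHallOf M⁆ = ⊥ ∧
      fittingHallOf M ⊓ Subgroup.centralizer (U : Set G) = ⊥ ∧
      Nat.card (fittingHallOf M) = Nat.card W₂ ^ Nat.card W₁ ∧
      IsElementaryAbelian (Nat.card W₂) (fittingHallOf M) := by
  obtain ⟨H₀, hlt, hMH₀, hCle, hchief⟩ :=
    Cfsg.Agent.Lib.Helper59.PFNine.exists_Fcore_kernel hP hU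
  obtain ⟨p', hp', hidx', hW₂idx, hder, hpow', -⟩ :=
    Cfsg.Agent.Lib.Helper62.PF9.Fcore_factor_facts hP hU H₀ hlt hMH₀ hCle hchief
  -- `p' = |W₂|`
  have hpp : p' = Nat.card W₂ := by
    have h : p' ∣ Nat.card W₂ := by
      rw [← hW₂idx]; exact Subgroup.relIndex_dvd_card _ _
    exact (Nat.prime_dvd_prime_iff_eq hp' hp).1 h
  rw [hpp] at hidx' hpow'
  -- `H₀ = C_H(U) = H'`
  obtain ⟨-, hcard⟩ := typeIII_IV_core hP hU hp
  have h3 : Nat.card ↥H₀ * H₀.relIndex (fittingHallOf M) = Nat.card ↥(fittingHallOf M) :=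
    card_mul_relIndex_of_le hlt.le
  have hpos : 0 < Nat.card ↥W₂ ^ Nat.card ↥W₁ := pow_pos Nat.card_pos _
  have h4 : Nat.card ↥H₀ =
      Nat.card ↥(fittingHallOf M ⊓ Subgroup.centralizer (U : Set G)) := by
    rw [hidx', hcard, mul_comm] at h3
    exact Nat.eq_of_mul_eq_mul_left hpos h3
  have hCH₀ : fittingHallOf M ⊓ Subgroup.centralizer (U : Set G) = H₀ :=
    Subgroup.eq_of_le_of_card_ge hCle h4.le
  have hZ : ⁅fittingHallOf M, fittingHallOf M⁆ = H₀ :=
    le_antisymm hder (hCH₀ ▸ h2)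
  have hH₀H : H₀ ≤ fittingHallOf M := hlt.le
  -- `U` centralizes `H₀`
  have hUZ : ∀ u ∈ U, ∀ z ∈ H₀, u * z = z * u := by
    intro u hu z hz
    rw [← hCH₀] at hz
    exact Subgroup.mem_centralizer_iff.1 hz.2 u hu
  -- three subgroups lemma: `H₀` is central in `H`
  have hZc : ∀ z ∈ H₀, ∀ h ∈ fittingHallOf M, z * h = h * z := by
    have hUZ' : ⁅U, H₀⁆ = ⊥ := by
      rw [Subgroup.commutator_eq_bot_iff_le_centralizer]
      intro u hu
      rw [Subgroup.mem_centralizer_iff]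
      intro z hz
      exact (hUZ u hu z hz).symm
    have a1 : ⁅⁅U, H₀⁆, fittingHallOf M⁆ = ⊥ := by
      rw [hUZ', Subgroup.commutator_bot_left]
    have a2 : ⁅⁅H₀, fittingHallOf M⁆, U⁆ = ⊥ := by
      rw [eq_bot_iff]
      have b1 : ⁅H₀, fittingHallOf M⁆ ≤ H₀ := by
        rw [← hZ]
        exact Subgroup.commutator_mono (hZ ▸ hH₀H) le_rfl
      calc ⁅⁅H₀, fittingHallOf M⁆, U⁆ ≤ ⁅H₀, U⁆ := Subgroup.commutator_mono b1 le_rfl
        _ = ⊥ := by rw [Subgroup.commutator_comm, hUZ']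
    have a3 := Subgroup.commutator_commutator_eq_bot_of_rotate a1 a2
    rw [h1, Subgroup.commutator_eq_bot_iff_le_centralizer] at a3
    intro z hz h hh
    exact Subgroup.mem_centralizer_iff.1 (a3 hh) z hz
  -- oddness
  have hUodd : Odd (Nat.card ↥U) := Odd.of_dvd_nat hodd (Subgroup.card_dvd_of_le (U_le hP))
  have hq2 : Nat.card ↥W₁ ≠ 2 := by
    intro h
    have : Odd (Nat.card ↥W₁) := Odd.of_dvd_nat hodd (Subgroup.card_dvd_of_le (W₁_le hP))
    rw [h] at this
    exact absurd this (by decide)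
  -- the setup
  have S : Setup (fittingHallOf M) U W₁ H₀ (Nat.card W₂) (Nat.card W₁) :=
    { hp := hp
      hq := hq
      hq2 := hq2
      hZ := hZ
      hZc := hZc
      hUH := fun u hu h hh => conj_mem_fittingHallOf M (U_le hP hu) hh
      hUZ := hUZ
      hWH := fun w hw h hh => conj_mem_fittingHallOf M (W₁_le hP hw) hh
      hWZ := fun w hw z hz =>
        Cfsg.Agent.Lib.Helper59.PFNine.conj_mem_of_le_normalizer hMH₀ (W₁_le hP hw) hz
      hWU := fun w hw u hu =>
        Cfsg.Agent.Lib.Helper59.PFNine.conj_mem_of_le_normalizer hP.U_normal hw hu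
      hWcard := rfl
      hidx := hidx'
      hpow := hpow'
      hchief := by
        intro N hZN hNH hUN hWN
        apply hchief N hZN hNH
        -- `M = H (U W₁)` normalizes `N`
        have hHN : fittingHallOf M ≤ Subgroup.normalizer (N : Set G) := by
          apply Inv.le_normalizer
          intro h hh n hn
          have e : h * n * h⁻¹ = ⁅h, n⁆ * n := by rw [commutatorElement_def]; group
          rw [e]
          refine N.mul_mem (hZN ?_) hn
          rw [← hZ]
          exact Subgroup.commutator_mem_commutator hh (hNH hn)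
        have hXN : U ⊔ W₁ ≤ Subgroup.normalizer (N : Set G) :=
          sup_le (Inv.le_normalizer hUN) (Inv.le_normalizer hWN)
        intro m hm
        obtain ⟨h, hh, x, hx, rfl⟩ := (isComplIn_H_UW₁ hP).2.2.2 m hm
        exact Subgroup.mul_mem _ (hHN hh) (hXN hx)
      hUodd := hUodd
      hHU := h1 }
  have hbot : H₀ = ⊥ := S.core
  have hder0 : ⁅fittingHallOf M, fittingHallOf M⁆ = ⊥ := by rw [hZ, hbot]
  have hC0 : fittingHallOf M ⊓ Subgroup.centralizer (U : Set G) = ⊥ := by rw [hCH₀, hbot]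
  refine ⟨hder0, hC0, ?_, ?_, ?_⟩
  · rw [hcard, hC0, Subgroup.card_bot, mul_one]
  · have hab := Subgroup.commutator_eq_bot_iff_le_centralizer.1 hder0
    refine ⟨⟨fun a b => Subtype.ext ?_⟩⟩
    exact (Subgroup.mem_centralizer_iff.1 (hab b.2) a a.2)
  · intro a ha
    have := hpow' a ha
    rwa [hbot, Subgroup.mem_bot] at this

end Cfsg.Agent.Lib.Helper12.PF11
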