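import Mathlib
import Cfsg.Prelude.Def_Perm
import Cfsg.Prelude.Def_Characters
import Cfsg.Agent.Lib.Helper3.Complete
import Cfsg.Agent.Lib.Helper3.EquivChar

/-!
# The permutation representation `Cfsg.permRep` over `ℂ`: character, commutant, multiplicities
-/

set_option autoImplicit false

namespace Cfsg.Agent.Lib.Helper12

open Module Representation

variable {G : Type*} [Group G] {Ω : Type*} [Fintype Ω] [MulAction G Ω]

theorem permRep_character (g : G) :
    (Cfsg.permRep ℂ G Ω).character g = (Nat.card (MulAction.fixedBy Ω g) : ℂ) := by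
  classical
  unfold Representation.character
  rw [LinearMap.trace_eq_matrix_trace ℂ (Pi.basisFun ℂ Ω)]
  rw [Matrix.trace]
  simp only [Matrix.diag_apply, LinearMap.toMatrix_apply, Pi.basisFun_apply, Pi.basisFun_repr]
  have h1 : ∀ x : Ω, (Cfsg.permRep ℂ G Ω g (Pi.single x 1) : Ω → ℂ) x = if g • x = x then 1 else 0 := by
    intro x
    change (Pi.single x (1 : ℂ) : Ω → ℂ) (g⁻¹ • x) = _
    rw [Pi.single_apply]
    have : (g⁻¹ • x = x) ↔ (g • x = x) := by rw [inv_smul_eq_iff, eq_comm]
    simp only [this]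
  simp_rw [h1]
  rw [Finset.sum_boole]
  congr 1
  rw [Nat.card_eq_fintype_card, Fintype.card_subtype]
  rfl


section inv
variable {V : Type*} [AddCommGroup V] [Module ℂ V] (ρ : Representation ℂ G V)

theorem comm_of_mem_invariants {S : V →ₗ[ℂ] V} (hS : S ∈ (ρ.linHom ρ).invariants) (g : G) (v : V) :
    S (ρ g v) = ρ g (S v) := by
  have h := (Representation.mem_invariants _ _).mp hS g
  rw [Representation.linHom_apply] at h
  have h2 := congrArg (fun T : V →ₗ[ℂ] V => T (ρ g v)) h
  simp only [LinearMap.comp_apply] at h2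
  rw [← h2]
  congr 2
  rw [← Module.End.mul_apply, ← map_mul, inv_mul_cancel, map_one, Module.End.one_apply]

theorem mem_invariants_of_comm {S : V →ₗ[ℂ] V} (hS : ∀ (g : G) (v : V), S (ρ g v) = ρ g (S v)) :
    S ∈ (ρ.linHom ρ).invariants := by
  rw [Representation.mem_invariants]
  intro g
  rw [Representation.linHom_apply]
  apply LinearMap.ext
  intro v
  simp only [LinearMap.comp_apply]
  have h1 : ρ g (ρ g⁻¹ v) = v := by
    rw [← Module.End.mul_apply, ← map_mul, mul_inv_cancel, map_one, Module.End.one_apply]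
  rw [← hS, h1]

end inv

section leftinv
variable [Finite G] {V W : Type*} [AddCommGroup V] [Module ℂ V] [AddCommGroup W] [Module ℂ W]
  {ρ : Representation ℂ G V} {σ : Representation ℂ G W}

/-- Maschke: an injective intertwining map has an equivariant left inverse -/
theorem exists_leftInverse_intertwining (φ : IntertwiningMap σ ρ) (hφ : Function.Injective φ) :
    ∃ ψ : IntertwiningMap ρ σ, ∀ w : W, ψ (φ w) = w := by
  have : NeZero (Nat.card G : ℂ) := ⟨by
    have : Nat.card G ≠ 0 := Nat.card_pos.ne'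
    exact_mod_cast this⟩
  obtain ⟨Ψ, hΨ⟩ := MonoidAlgebra.exists_leftInverse_of_injective
    (IntertwiningMap.equivLinearMapAsModule σ ρ φ) (by
      rw [LinearMap.ker_eq_bot]
      exact hφ)
  refine ⟨(IntertwiningMap.equivLinearMapAsModule ρ σ).symm Ψ, ?_⟩
  intro w
  have := congrArg (fun T => T w) hΨ
  exact this

end leftinv

section mult
variable [Fintype G] {V : Type*} [AddCommGroup V] [Module ℂ V] [FiniteDimensional ℂ V]
  (ρ : Representation ℂ G V)

open Cfsg.Agent.Lib.Helper3

/-- if the irreducible constituent `σ ≤ ρ` has multiplicity at most one, every endomorphism of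
`ρ` acts on `σ` as a scalar -/
theorem scalar_on_irreducible (S : V →ₗ[ℂ] V) (hS : ∀ (g : G) (v : V), S (ρ g v) = ρ g (S v))
    (σ : Subrepresentation ρ) [hσ : IsIrreducible σ.toRepresentation]
    (hm : Cfsg.classInner ρ.character σ.toRepresentation.character = 0 ∨
      Cfsg.classInner ρ.character σ.toRepresentation.character = 1) :
    ∃ a : ℂ, ∀ x ∈ σ.toSubmodule, S x = a • x := by
  rw [classInner_character_eq_finrank ρ σ.toRepresentation] at hm
  obtain ⟨incl, hincl⟩ : ∃ incl : IntertwiningMap σ.toRepresentation ρ,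
      ∀ x : σ.toSubmodule, incl x = (x : V) := ⟨subrepIncl σ, fun x => rfl⟩
  have hincl0 : incl ≠ 0 := by
    intro h0
    have hpos := finrank_pos_of_isIrreducible σ.toRepresentation
    obtain ⟨x, hx⟩ := Module.finrank_pos_iff_exists_ne_zero.mp hpos
    apply hx
    apply Subtype.ext
    rw [← hincl, h0]
    rfl
  have h1 : finrank ℂ (IntertwiningMap σ.toRepresentation ρ) = 1 := by
    rcases hm with h | h
    · exfalso
      have h' : finrank ℂ (IntertwiningMap σ.toRepresentation ρ) = 0 := by exact_mod_cast h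
      rw [Module.finrank_zero_iff] at h'
      exact hincl0 (Subsingleton.elim _ _)
    · exact_mod_cast h
  obtain ⟨Sint, hSint⟩ : ∃ Sint : IntertwiningMap ρ ρ, ∀ v, Sint v = S v :=
    ⟨S.intertwiningMap_of_isIntertwiningMap ρ ρ hS, fun v => rfl⟩
  obtain ⟨a, ha⟩ := (finrank_eq_one_iff_of_nonzero' incl hincl0).mp h1 (Sint.comp incl)
  refine ⟨a, fun x hx => ?_⟩
  have := congrArg (fun f : IntertwiningMap σ.toRepresentation ρ => f ⟨x, hx⟩) ha
  simp only [IntertwiningMap.smul_apply, IntertwiningMap.comp_apply, hincl, hSint] at this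
  exact this.symm

end mult

section main
variable [Fintype G] {V : Type*} [AddCommGroup V] [Module ℂ V] [FiniteDimensional ℂ V]
  (ρ : Representation ℂ G V)

open Cfsg.Agent.Lib.Helper3

theorem comm_of_multfree
    (hmf : ∀ χ : G → ℂ, Cfsg.IsIrrCharacter G χ →
      Cfsg.classInner ρ.character χ = 0 ∨ Cfsg.classInner ρ.character χ = 1)
    (S T : V →ₗ[ℂ] V) (hS : ∀ (g : G) (v : V), S (ρ g v) = ρ g (S v))
    (hT : ∀ (g : G) (v : V), T (ρ g v) = ρ g (T v)) : S ∘ₗ T = T ∘ₗ S := by
  rw [← sub_eq_zero]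
  apply eq_zero_of_vanish_on_irreducible ρ
  intro σ hσ x hx
  have := hσ
  have hm := hmf _ (isIrrCharacter_character σ.toRepresentation)
  obtain ⟨a, ha⟩ := scalar_on_irreducible ρ S hS σ hm
  obtain ⟨b, hb⟩ := scalar_on_irreducible ρ T hT σ hm
  rw [LinearMap.sub_apply, LinearMap.comp_apply, LinearMap.comp_apply, hb x hx, ha x hx,
    map_smul, map_smul, ha x hx, hb x hx, smul_smul, smul_smul, mul_comm, sub_self]

theorem multfree_of_comm
    (hcomm : ∀ S T : V →ₗ[ℂ] V, (∀ (g : G) (v : V), S (ρ g v) = ρ g (S v)) →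
      (∀ (g : G) (v : V), T (ρ g v) = ρ g (T v)) → S ∘ₗ T = T ∘ₗ S)
    (χ : G → ℂ) (hχ : Cfsg.IsIrrCharacter G χ) :
    Cfsg.classInner ρ.character χ = 0 ∨ Cfsg.classInner ρ.character χ = 1 := by
  obtain ⟨n, σ, hσ, rfl⟩ := hχ
  have := hσ
  rw [classInner_character_eq_finrank ρ σ]
  by_cases h0 : finrank ℂ (IntertwiningMap σ ρ) = 0
  · left; rw [h0]; simp
  right
  have hpos : 0 < finrank ℂ (IntertwiningMap σ ρ) := Nat.pos_of_ne_zero h0
  obtain ⟨φ₁, hφ₁⟩ := Module.finrank_pos_iff_exists_ne_zero.mp hpos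
  have hinj : Function.Injective φ₁ :=
    (IsIrreducible.injective_or_eq_zero φ₁).resolve_right hφ₁
  obtain ⟨ψ, hψ⟩ := exists_leftInverse_intertwining φ₁ hinj
  have h1 : finrank ℂ (IntertwiningMap σ ρ) = 1 := by
    rw [finrank_eq_one_iff_of_nonzero' φ₁ hφ₁]
    intro φ₂
    obtain ⟨c, hc⟩ := (IsIrreducible.algebraMap_intertwiningMap_bijective_of_isAlgClosed
      (ρ := σ)).2 (ψ.comp φ₂)
    have hc' : ∀ w, ψ (φ₂ w) = c • w := by
      intro w
      have := congrArg (fun f : IntertwiningMap σ σ => f w) hc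
      simp only [IntertwiningMap.algebraMap_apply, IntertwiningMap.smul_apply,
        IntertwiningMap.comp_apply] at this
      rw [← this]
      rfl
    refine ⟨c, ?_⟩
    have hST := hcomm (φ₁.toLinearMap ∘ₗ ψ.toLinearMap) (φ₂.toLinearMap ∘ₗ ψ.toLinearMap)
      (by
        intro g v
        simp only [LinearMap.comp_apply, IntertwiningMap.toLinearMap_apply]
        rw [IntertwiningMap.isIntertwining, IntertwiningMap.isIntertwining])
      (by
        intro g v
        simp only [LinearMap.comp_apply, IntertwiningMap.toLinearMap_apply]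
        rw [IntertwiningMap.isIntertwining, IntertwiningMap.isIntertwining])
    apply IntertwiningMap.ext
    apply LinearMap.ext
    intro w
    have := congrArg (fun f : V →ₗ[ℂ] V => f (φ₁ w)) hST
    simp only [LinearMap.comp_apply, IntertwiningMap.toLinearMap_apply, hψ, hc', map_smul] at this
    rw [IntertwiningMap.toLinearMap_smul, LinearMap.smul_apply]
    exact this
  rw [h1]; simp

end main

end Cfsg.Agent.Lib.Helper12
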