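import Mathlib
import Cfsg.Agent.Lib.Helper12.PermRepChar
import Cfsg.Agent.Lib.Helper3.IrrBasis
import Cfsg.Agent.Lib.Helper81.IrrTwist

set_option autoImplicit false
set_option linter.unusedSectionVars false

namespace Cfsg.Agent.Lib.Helper12

open Module Representation Cfsg.Agent.Lib.Helper3
open scoped ComplexConjugate

section single
variable {G : Type*} [Group G] {Ω : Type*} [Fintype Ω] [DecidableEq Ω] [MulAction G Ω]

theorem permRep_single (g : G) (y : Ω) :
    Cfsg.permRep ℂ G Ω g (Pi.single y 1) = Pi.single (g • y) 1 := by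
  funext z
  change (Pi.single y (1 : ℂ) : Ω → ℂ) (g⁻¹ • z) = _
  rw [Pi.single_apply, Pi.single_apply]
  have : (g⁻¹ • z = y) ↔ (z = g • y) := by rw [inv_smul_eq_iff]
  simp only [this]

theorem permRep_apply' (g : G) (u : Ω → ℂ) (z : Ω) :
    Cfsg.permRep ℂ G Ω g u z = u (g⁻¹ • z) := rfl

/-- the matrix of an equivariant endomorphism is constant on orbitals -/
theorem matrix_invariant (S : (Ω → ℂ) →ₗ[ℂ] (Ω → ℂ))
    (hS : ∀ (g : G) (v : Ω → ℂ), S (Cfsg.permRep ℂ G Ω g v) = Cfsg.permRep ℂ G Ω g (S v))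
    (g : G) (x y : Ω) : S (Pi.single (g • y) 1) (g • x) = S (Pi.single y 1) x := by
  rw [← permRep_single, hS, permRep_apply', inv_smul_smul]

theorem ext_single (S T : (Ω → ℂ) →ₗ[ℂ] (Ω → ℂ))
    (h : ∀ x y, S (Pi.single y 1) x = T (Pi.single y 1) x) : S = T := by
  apply LinearMap.pi_ext'
  intro y
  apply LinearMap.ext
  intro c
  funext x
  simp only [LinearMap.comp_apply, LinearMap.coe_single]
  have : (Pi.single y c : Ω → ℂ) = c • Pi.single y 1 := by
    rw [← Pi.single_smul, smul_eq_mul, mul_one]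
  rw [this, map_smul, map_smul, Pi.smul_apply, Pi.smul_apply, h]

/-- the transpose of an endomorphism of the permutation module -/
noncomputable def transposeEnd (S : (Ω → ℂ) →ₗ[ℂ] (Ω → ℂ)) : (Ω → ℂ) →ₗ[ℂ] (Ω → ℂ) :=
  Matrix.toLin' (LinearMap.toMatrix' S).transpose

theorem transposeEnd_single (S : (Ω → ℂ) →ₗ[ℂ] (Ω → ℂ)) (x y : Ω) :
    transposeEnd S (Pi.single y 1) x = S (Pi.single x 1) y := by
  unfold transposeEnd
  rw [Matrix.toLin'_apply, Matrix.mulVec_single_one, Matrix.col_apply, Matrix.transpose_apply,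
    LinearMap.toMatrix'_apply]

theorem dot_transposeEnd (S : (Ω → ℂ) →ₗ[ℂ] (Ω → ℂ)) (u v : Ω → ℂ) :
    ∑ z, S u z * v z = ∑ z, u z * transposeEnd S v z := by
  unfold transposeEnd
  rw [Matrix.toLin'_apply]
  have h1 : S u = (LinearMap.toMatrix' S).mulVec u := by
    rw [LinearMap.toMatrix'_mulVec]
  rw [h1]
  have := Matrix.dotProduct_mulVec u (LinearMap.toMatrix' S).transpose v
  rw [Matrix.vecMul_transpose] at this
  simp only [dotProduct] at this
  rw [← this]

theorem comm_of_matrix_invariant (T : (Ω → ℂ) →ₗ[ℂ] (Ω → ℂ))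
    (h : ∀ (g : G) (x y : Ω), T (Pi.single (g • y) 1) (g • x) = T (Pi.single y 1) x)
    (g : G) (v : Ω → ℂ) :
    T (Cfsg.permRep ℂ G Ω g v) = Cfsg.permRep ℂ G Ω g (T v) := by
  have : T ∘ₗ (Cfsg.permRep ℂ G Ω g) = (Cfsg.permRep ℂ G Ω g) ∘ₗ T := by
    apply ext_single
    intro x y
    rw [LinearMap.comp_apply, LinearMap.comp_apply, permRep_single, permRep_apply']
    have := h g (g⁻¹ • x) y
    rw [smul_inv_smul] at this
    exact this
  exact congrArg (fun F : (Ω → ℂ) →ₗ[ℂ] (Ω → ℂ) => F v) this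

theorem transposeEnd_comm (S : (Ω → ℂ) →ₗ[ℂ] (Ω → ℂ))
    (hS : ∀ (g : G) (v : Ω → ℂ), S (Cfsg.permRep ℂ G Ω g v) = Cfsg.permRep ℂ G Ω g (S v))
    (g : G) (v : Ω → ℂ) :
    transposeEnd S (Cfsg.permRep ℂ G Ω g v) = Cfsg.permRep ℂ G Ω g (transposeEnd S v) := by
  apply comm_of_matrix_invariant
  intro g x y
  rw [transposeEnd_single, transposeEnd_single, matrix_invariant S hS]

theorem transposeEnd_comp (S T : (Ω → ℂ) →ₗ[ℂ] (Ω → ℂ)) :
    transposeEnd (S ∘ₗ T) = transposeEnd T ∘ₗ transposeEnd S := by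
  unfold transposeEnd
  rw [LinearMap.toMatrix'_comp, Matrix.transpose_mul, Matrix.toLin'_mul]

theorem transposeEnd_eq_self_iff (S : (Ω → ℂ) →ₗ[ℂ] (Ω → ℂ)) :
    transposeEnd S = S ↔ ∀ x y, S (Pi.single y 1) x = S (Pi.single x 1) y := by
  constructor
  · intro h x y
    rw [← transposeEnd_single, h]
  · intro h
    apply ext_single
    intro x y
    rw [transposeEnd_single, h]

theorem avgMap_single [Fintype G] (c : G → ℂ) (x y : Ω) :
    avgMap (Cfsg.permRep ℂ G Ω) c (Pi.single y 1) x = ∑ g, if g • y = x then c g else 0 := by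
  rw [avgMap_apply, Finset.sum_apply]
  apply Finset.sum_congr rfl
  intro g _
  rw [Pi.smul_apply, permRep_single, Pi.single_apply, smul_eq_mul]
  by_cases h : g • y = x
  · rw [if_pos h, if_pos h.symm, mul_one]
  · rw [if_neg h, if_neg (fun h' => h h'.symm), mul_zero]

theorem transposeEnd_avgMap [Fintype G] (c : G → ℂ) :
    transposeEnd (avgMap (Cfsg.permRep ℂ G Ω) c) =
      avgMap (Cfsg.permRep ℂ G Ω) (fun g => c g⁻¹) := by
  apply ext_single
  intro x y
  rw [transposeEnd_single, avgMap_single, avgMap_single]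
  rw [← Equiv.sum_comp (Equiv.inv G)]
  apply Finset.sum_congr rfl
  intro g _
  simp only [Equiv.inv_apply]
  have : (g⁻¹ • x = y) ↔ (g • y = x) := by rw [inv_smul_eq_iff, eq_comm]
  simp only [this]

end single

section twine
variable {G : Type*} [Group G] [Fintype G] {V W : Type*} [AddCommGroup V] [Module ℂ V]
  [AddCommGroup W] [Module ℂ W] {ρ : Representation ℂ G V} {σ : Representation ℂ G W}

theorem intertwining_avgMap (φ : IntertwiningMap σ ρ) (c : G → ℂ) (w : W) :
    φ (avgMap σ c w) = avgMap ρ c (φ w) := by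
  rw [avgMap_apply, avgMap_apply, map_sum]
  apply Finset.sum_congr rfl
  intro g _
  rw [map_smul, IntertwiningMap.isIntertwining]

end twine

section forward
variable {G : Type*} [Group G] [Fintype G] {Ω : Type*} [Fintype Ω] [DecidableEq Ω] [MulAction G Ω]

theorem symm_of_swap (hsw : ∀ a b : Ω, ∃ g : G, g • a = b ∧ g • b = a)
    (S : (Ω → ℂ) →ₗ[ℂ] (Ω → ℂ))
    (hS : ∀ (g : G) (v : Ω → ℂ), S (Cfsg.permRep ℂ G Ω g v) = Cfsg.permRep ℂ G Ω g (S v))
    (x y : Ω) : S (Pi.single y 1) x = S (Pi.single x 1) y := by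
  obtain ⟨g, hg1, hg2⟩ := hsw x y
  have := matrix_invariant S hS g x y
  rw [hg1, hg2] at this
  exact this.symm

theorem comm_of_symm
    (hsym : ∀ S : (Ω → ℂ) →ₗ[ℂ] (Ω → ℂ),
      (∀ (g : G) (v : Ω → ℂ), S (Cfsg.permRep ℂ G Ω g v) = Cfsg.permRep ℂ G Ω g (S v)) →
      ∀ x y, S (Pi.single y 1) x = S (Pi.single x 1) y)
    (S T : (Ω → ℂ) →ₗ[ℂ] (Ω → ℂ))
    (hS : ∀ (g : G) (v : Ω → ℂ), S (Cfsg.permRep ℂ G Ω g v) = Cfsg.permRep ℂ G Ω g (S v))
    (hT : ∀ (g : G) (v : Ω → ℂ), T (Cfsg.permRep ℂ G Ω g v) = Cfsg.permRep ℂ G Ω g (T v)) :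
    S ∘ₗ T = T ∘ₗ S := by
  have hST : ∀ (g : G) (v : Ω → ℂ), (S ∘ₗ T) (Cfsg.permRep ℂ G Ω g v) =
      Cfsg.permRep ℂ G Ω g ((S ∘ₗ T) v) := fun g v => by
    rw [LinearMap.comp_apply, hT, hS]; rfl
  have h1 := (transposeEnd_eq_self_iff _).mpr (hsym _ hST)
  have h2 := (transposeEnd_eq_self_iff _).mpr (hsym _ hS)
  have h3 := (transposeEnd_eq_self_iff _).mpr (hsym _ hT)
  rw [transposeEnd_comp, h2, h3] at h1
  exact h1.symm

theorem real_of_symm
    (hsym : ∀ S : (Ω → ℂ) →ₗ[ℂ] (Ω → ℂ),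
      (∀ (g : G) (v : Ω → ℂ), S (Cfsg.permRep ℂ G Ω g v) = Cfsg.permRep ℂ G Ω g (S v)) →
      ∀ x y, S (Pi.single y 1) x = S (Pi.single x 1) y)
    (χ : G → ℂ) (hχ : Cfsg.IsIrrCharacter G χ)
    (hne : Cfsg.classInner (Cfsg.permRep ℂ G Ω).character χ ≠ 0) :
    ∀ g, conj (χ g) = χ g := by
  have hχ0 := hχ
  obtain ⟨n, σ, hσ, rfl⟩ := hχ
  have := hσ
  rw [classInner_character_eq_finrank (Cfsg.permRep ℂ G Ω) σ] at hne
  have hpos : 0 < finrank ℂ (IntertwiningMap σ (Cfsg.permRep ℂ G Ω)) :=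
    Nat.pos_of_ne_zero (by intro h; apply hne; rw [h]; simp)
  obtain ⟨φ, hφ⟩ := Module.finrank_pos_iff_exists_ne_zero.mp hpos
  have hinj : Function.Injective φ := (IsIrreducible.injective_or_eq_zero φ).resolve_right hφ
  have hcl : Cfsg.IsClassFunction G σ.character :=
    IsCharacter.isClassFunction (IsIrrCharacter.isCharacter hχ0)
  obtain ⟨c, hc⟩ : ∃ c : G → ℂ, c = fun g => conj (σ.character g) := ⟨_, rfl⟩
  have hcf : Cfsg.IsClassFunction G c := by
    intro g h
    rw [hc]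
    simp only
    rw [hcl g h]
  have hEcomm : ∀ (g : G) (v : Ω → ℂ), avgMap (Cfsg.permRep ℂ G Ω) c (Cfsg.permRep ℂ G Ω g v) =
      Cfsg.permRep ℂ G Ω g (avgMap (Cfsg.permRep ℂ G Ω) c v) := fun g v =>
    (congrArg (fun F : (Ω → ℂ) →ₗ[ℂ] (Ω → ℂ) => F v) (avgMap_comm (Cfsg.permRep ℂ G Ω) c hcf g)).symm
  have hEsym := (transposeEnd_eq_self_iff _).mpr (hsym _ hEcomm)
  rw [transposeEnd_avgMap] at hEsym
  have hc' : (fun g => c g⁻¹) = σ.character := by
    funext g
    rw [hc]
    simp only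
    rw [character_inv, Complex.conj_conj]
  rw [hc'] at hEsym
  have hσeq : avgMap σ σ.character = avgMap σ c := by
    apply LinearMap.ext
    intro w
    apply hinj
    rw [intertwining_avgMap, intertwining_avgMap, hEsym]
  rw [avgMap_eq_smul_of_isIrreducible σ _ hcl, avgMap_eq_smul_of_isIrreducible σ c hcf] at hσeq
  have hfr : 0 < finrank ℂ (Fin n → ℂ) := finrank_pos_of_isIrreducible σ
  obtain ⟨w, hw⟩ := Module.finrank_pos_iff_exists_ne_zero.mp hfr
  have hsc := congrArg (fun F : (Fin n → ℂ) →ₗ[ℂ] (Fin n → ℂ) => F w) hσeq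
  simp only [LinearMap.smul_apply, LinearMap.id_apply] at hsc
  have hsc2 := smul_left_injective ℂ hw hsc
  have hn0 : (finrank ℂ (Fin n → ℂ) : ℂ) ≠ 0 := by exact_mod_cast hfr.ne'
  have hsums : ∑ g : G, σ.character g * σ.character g = ∑ g : G, c g * σ.character g := by
    have := congrArg (fun z : ℂ => z * (finrank ℂ (Fin n → ℂ) : ℂ)) hsc2
    simp only [div_mul_cancel₀ _ hn0] at this
    exact this
  have h11 := classInner_irrCharacter hχ0 hχ0
  rw [if_pos rfl] at h11
  have hconjirr := Cfsg.Agent.Lib.Helper81.isIrrCharacter_conj hχ0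
  have h12 := classInner_irrCharacter hχ0 hconjirr
  have h13 : Cfsg.classInner σ.character (fun g => conj (σ.character g)) =
      Cfsg.classInner σ.character σ.character := by
    unfold Cfsg.classInner
    congr 1
    simp only [Complex.conj_conj]
    rw [hsums, hc]
    apply Finset.sum_congr rfl
    intro g _
    ring
  rw [h13, h11] at h12
  by_cases heq : σ.character = fun g => conj (σ.character g)
  · intro g
    exact (congrFun heq g).symm
  · rw [if_neg heq] at h12
    exact absurd h12 one_ne_zero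

end forward

section uniq
variable {G : Type*} [Group G] [Fintype G] {V : Type*} [AddCommGroup V] [Module ℂ V]
  [FiniteDimensional ℂ V] (ρ : Representation ℂ G V)

/-- two irreducible subrepresentations with the same character of multiplicity one coincide -/
theorem le_of_character_eq (μ σ : Subrepresentation ρ) [IsIrreducible μ.toRepresentation]
    [IsIrreducible σ.toRepresentation]
    (hchar : μ.toRepresentation.character = σ.toRepresentation.character)
    (hm : Cfsg.classInner ρ.character μ.toRepresentation.character = 1) :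
    μ.toSubmodule ≤ σ.toSubmodule := by
  obtain ⟨e⟩ := nonempty_equiv_of_character_eq σ.toRepresentation μ.toRepresentation hchar.symm
  rw [classInner_character_eq_finrank ρ μ.toRepresentation] at hm
  have h1 : finrank ℂ (IntertwiningMap μ.toRepresentation ρ) = 1 := by exact_mod_cast hm
  obtain ⟨incl, hincl⟩ : ∃ incl : IntertwiningMap μ.toRepresentation ρ,
      ∀ x : μ.toSubmodule, incl x = (x : V) := ⟨subrepIncl μ, fun x => rfl⟩
  have hincl0 : incl ≠ 0 := by
    intro h0
    have hpos := finrank_pos_of_isIrreducible μ.toRepresentation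
    obtain ⟨x, hx⟩ := Module.finrank_pos_iff_exists_ne_zero.mp hpos
    apply hx
    apply Subtype.ext
    rw [← hincl, h0]
    rfl
  obtain ⟨c, hc⟩ := (finrank_eq_one_iff_of_nonzero' incl hincl0).mp h1
    ((subrepIncl σ).comp e.toIntertwiningMap)
  intro y hy
  by_cases hy0 : y = 0
  · rw [hy0]; exact Submodule.zero_mem _
  have hcy : c • y = ((e ⟨y, hy⟩ : σ.toSubmodule) : V) := by
    have := congrArg (fun f : IntertwiningMap μ.toRepresentation ρ => f ⟨y, hy⟩) hc
    simp only [IntertwiningMap.smul_apply, IntertwiningMap.comp_apply, hincl] at this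
    rw [this]
    rfl
  have hc0 : c ≠ 0 := by
    intro h0
    rw [h0, zero_smul] at hcy
    apply hy0
    have h2 : e ⟨y, hy⟩ = 0 := Subtype.ext hcy.symm
    have h3 : (⟨y, hy⟩ : μ.toSubmodule) = 0 := by
      have := e.toLinearEquiv.injective (a₁ := ⟨y, hy⟩) (a₂ := 0)
      apply this
      rw [map_zero]
      exact h2
    exact congrArg Subtype.val h3
  have : y = c⁻¹ • ((e ⟨y, hy⟩ : σ.toSubmodule) : V) := by
    rw [← hcy, smul_smul, inv_mul_cancel₀ hc0, one_smul]
  rw [this]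
  exact Submodule.smul_mem _ _ (e ⟨y, hy⟩).2

end uniq

section backward
variable {G : Type*} [Group G] [Fintype G] {Ω : Type*} [Fintype Ω] [DecidableEq Ω] [MulAction G Ω]

theorem sum_conj_mul_self_ne_zero (x : Ω → ℂ) (hx : x ≠ 0) : ∑ z, conj (x z) * x z ≠ 0 := by
  have h1 : ∑ z, conj (x z) * x z = ((∑ z, Complex.normSq (x z) : ℝ) : ℂ) := by
    rw [Complex.ofReal_sum]
    apply Finset.sum_congr rfl
    intro z _
    rw [mul_comm, Complex.mul_conj]
  rw [h1]
  have hpos : 0 < ∑ z, Complex.normSq (x z) := by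
    obtain ⟨z0, hz0⟩ : ∃ z0, x z0 ≠ 0 := by
      by_contra hcon
      push Not at hcon
      exact hx (funext hcon)
    apply Finset.sum_pos'
    · intro z _; exact Complex.normSq_nonneg _
    · exact ⟨z0, Finset.mem_univ _, Complex.normSq_pos.mpr hz0⟩
  exact_mod_cast hpos.ne'

set_option maxHeartbeats 800000 in
theorem symm_of_multfree_real
    (hH : ∀ χ : G → ℂ, Cfsg.IsIrrCharacter G χ →
      Cfsg.classInner (Cfsg.permRep ℂ G Ω).character χ ≠ 0 →
      Cfsg.classInner (Cfsg.permRep ℂ G Ω).character χ = 1 ∧ ∀ g, conj (χ g) = χ g)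
    (S : (Ω → ℂ) →ₗ[ℂ] (Ω → ℂ))
    (hS : ∀ (g : G) (v : Ω → ℂ), S (Cfsg.permRep ℂ G Ω g v) = Cfsg.permRep ℂ G Ω g (S v)) :
    ∀ x y, S (Pi.single y 1) x = S (Pi.single x 1) y := by
  rw [← transposeEnd_eq_self_iff, ← sub_eq_zero]
  apply eq_zero_of_vanish_on_irreducible (Cfsg.permRep ℂ G Ω)
  intro σ hσ x hx
  have := hσ
  have hχ : Cfsg.IsIrrCharacter G σ.toRepresentation.character :=
    isIrrCharacter_character σ.toRepresentation
  obtain ⟨χ, hχdef⟩ : ∃ χ : G → ℂ, χ = σ.toRepresentation.character := ⟨_, rfl⟩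
  rw [← hχdef] at hχ
  -- a nonzero vector of `σ`
  have hpos := finrank_pos_of_isIrreducible σ.toRepresentation
  obtain ⟨x0', hx0'⟩ := Module.finrank_pos_iff_exists_ne_zero.mp hpos
  obtain ⟨x0, hx0mem, hx0⟩ : ∃ x0 : Ω → ℂ, x0 ∈ σ.toSubmodule ∧ x0 ≠ 0 :=
    ⟨x0', x0'.2, fun h => hx0' (Subtype.ext h)⟩
  -- `χ` is a constituent
  have hne : Cfsg.classInner (Cfsg.permRep ℂ G Ω).character χ ≠ 0 := by
    rw [hχdef, classInner_character_eq_finrank (Cfsg.permRep ℂ G Ω) σ.toRepresentation]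
    have : finrank ℂ (IntertwiningMap σ.toRepresentation (Cfsg.permRep ℂ G Ω)) ≠ 0 := by
      intro h0
      rw [Module.finrank_zero_iff] at h0
      have h1 : subrepIncl σ = 0 := Subsingleton.elim _ _
      apply hx0
      have := congrArg (fun f : IntertwiningMap σ.toRepresentation (Cfsg.permRep ℂ G Ω) =>
        f ⟨x0, hx0mem⟩) h1
      exact this
    exact_mod_cast this
  obtain ⟨h1, hreal⟩ := hH χ hχ hne
  have hS' := transposeEnd_comm S hS
  obtain ⟨a, ha⟩ := scalar_on_irreducible (Cfsg.permRep ℂ G Ω) S hS σ (Or.inr (hχdef ▸ h1))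
  obtain ⟨a', ha'⟩ := scalar_on_irreducible (Cfsg.permRep ℂ G Ω) (transposeEnd S) hS' σ
    (Or.inr (hχdef ▸ h1))
  suffices haa : a' = a by
    rw [LinearMap.sub_apply, ha' x hx, ha x hx, haa, sub_self]
  -- the operator `E`
  have hcl : Cfsg.IsClassFunction G χ := IsCharacter.isClassFunction (IsIrrCharacter.isCharacter hχ)
  obtain ⟨E, hE⟩ : ∃ E : (Ω → ℂ) →ₗ[ℂ] (Ω → ℂ), E = avgMap (Cfsg.permRep ℂ G Ω) χ := ⟨_, rfl⟩
  have hEsym : transposeEnd E = E := by
    rw [hE, transposeEnd_avgMap]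
    congr 1
    funext g
    rw [hχdef, character_inv, ← hχdef, hreal]
  -- `E` is a nonzero scalar on `σ`
  have h11 := classInner_irrCharacter hχ hχ
  rw [if_pos rfl] at h11
  obtain ⟨κ, hκ⟩ : ∃ κ : ℂ, κ = (∑ g : G, χ g * χ g) /
      (finrank ℂ σ.toSubmodule : ℂ) := ⟨_, rfl⟩
  have hsumne : ∑ g : G, χ g * χ g ≠ 0 := by
    have : ∑ g : G, χ g * χ g = (Nat.card G : ℂ) * Cfsg.classInner χ χ := by
      unfold Cfsg.classInner
      rw [← mul_assoc, mul_inv_cancel₀ card_ne_zero_complex, one_mul]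
      apply Finset.sum_congr rfl
      intro g _
      rw [hreal]
    rw [this, h11, mul_one]
    exact card_ne_zero_complex
  have hκ0 : κ ≠ 0 := by
    rw [hκ]
    apply div_ne_zero hsumne
    exact_mod_cast hpos.ne'
  have hEσ : ∀ y ∈ σ.toSubmodule, E y = κ • y := by
    intro y hy
    have h2 := avgMap_restrict (Cfsg.permRep ℂ G Ω) σ χ ⟨y, hy⟩
    have h3 := avgMap_eq_smul_of_isIrreducible σ.toRepresentation χ hcl
    rw [h3] at h2
    rw [hE]
    change _ = avgMap (Cfsg.permRep ℂ G Ω) χ y at h2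
    rw [← h2, hκ, hχdef]
    rfl
  -- the image of `E` lies in `σ`
  have hEV : ∀ v, E v ∈ σ.toSubmodule := by
    obtain ⟨ψ, hψ⟩ := exists_leftInverse_intertwining (subrepIncl σ)
      (fun u v h => Subtype.ext h)
    have hT : E - (σ.toSubmodule.subtype ∘ₗ ψ.toLinearMap) ∘ₗ E = 0 := by
      apply eq_zero_of_vanish_on_irreducible (Cfsg.permRep ℂ G Ω)
      intro μ hμ y hy
      have := hμ
      have hχμ : Cfsg.IsIrrCharacter G μ.toRepresentation.character :=
        isIrrCharacter_character μ.toRepresentation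
      rw [LinearMap.sub_apply, LinearMap.comp_apply, LinearMap.comp_apply]
      by_cases hμχ : μ.toRepresentation.character = χ
      · have hle := le_of_character_eq (Cfsg.permRep ℂ G Ω) μ σ (hμχ.trans hχdef)
          (by rw [hμχ]; exact h1)
        have hyσ := hle hy
        rw [hEσ y hyσ, map_smul, map_smul]
        have : (σ.toSubmodule.subtype) (ψ.toLinearMap y) = y := by
          have := hψ ⟨y, hyσ⟩
          change ψ y = _ at this
          rw [IntertwiningMap.toLinearMap_apply, this]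
          rfl
        rw [this, sub_self]
      · have h2 := avgMap_restrict (Cfsg.permRep ℂ G Ω) μ χ ⟨y, hy⟩
        have h3 := avgMap_eq_smul_of_isIrreducible μ.toRepresentation χ hcl
        have h4 := classInner_irrCharacter hχμ hχ
        rw [if_neg hμχ] at h4
        have h5 : ∑ g : G, χ g * μ.toRepresentation.character g = 0 := by
          unfold Cfsg.classInner at h4
          rcases mul_eq_zero.mp h4 with h | h
          · exact absurd (inv_eq_zero.mp h) card_ne_zero_complex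
          · rw [← h]
            apply Finset.sum_congr rfl
            intro g _
            rw [hreal, mul_comm]
        rw [h3, h5, zero_div, zero_smul] at h2
        have hEy : E y = 0 := by
          rw [hE]
          change _ = avgMap (Cfsg.permRep ℂ G Ω) χ y at h2
          rw [← h2]
          rfl
        rw [hEy, map_zero, map_zero, sub_self]
    intro v
    have := congrArg (fun F : (Ω → ℂ) →ₗ[ℂ] (Ω → ℂ) => F v) hT
    simp only [LinearMap.sub_apply, LinearMap.comp_apply, LinearMap.zero_apply] at this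
    rw [sub_eq_zero] at this
    rw [this]
    exact (ψ.toLinearMap (E v)).2
  -- the pairing argument
  obtain ⟨u, hu⟩ : ∃ u : Ω → ℂ, u = fun z => conj (x0 z) := ⟨_, rfl⟩
  have hN : ∑ z, u z * x0 z ≠ 0 := by
    rw [hu]
    exact sum_conj_mul_self_ne_zero x0 hx0
  have key1 : ∑ z, E u z * x0 z = κ * ∑ z, u z * x0 z := by
    rw [dot_transposeEnd E u x0, hEsym, hEσ x0 hx0mem, Finset.mul_sum]
    apply Finset.sum_congr rfl
    intro z _
    rw [Pi.smul_apply, smul_eq_mul]
    ring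
  have key2 : ∑ z, S (E u) z * x0 z = ∑ z, E u z * transposeEnd S x0 z :=
    dot_transposeEnd S (E u) x0
  rw [ha (E u) (hEV u), ha' x0 hx0mem] at key2
  have key3 : a * ∑ z, E u z * x0 z = a' * ∑ z, E u z * x0 z := by
    rw [Finset.mul_sum, Finset.mul_sum]
    rw [show ∑ z, a * (E u z * x0 z) = ∑ z, (a • E u) z * x0 z from
      Finset.sum_congr rfl (fun z _ => by rw [Pi.smul_apply, smul_eq_mul]; ring)]
    rw [key2]
    apply Finset.sum_congr rfl
    intro z _
    rw [Pi.smul_apply, smul_eq_mul]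
    ring
  have hne2 : ∑ z, E u z * x0 z ≠ 0 := by
    rw [key1]
    exact mul_ne_zero hκ0 hN
  exact (mul_right_cancel₀ hne2 key3).symm

theorem swap_of_symm
    (hsym : ∀ S : (Ω → ℂ) →ₗ[ℂ] (Ω → ℂ),
      (∀ (g : G) (v : Ω → ℂ), S (Cfsg.permRep ℂ G Ω g v) = Cfsg.permRep ℂ G Ω g (S v)) →
      ∀ x y, S (Pi.single y 1) x = S (Pi.single x 1) y)
    (a b : Ω) : ∃ g : G, g • a = b ∧ g • b = a := by
  classical
  obtain ⟨M, hM⟩ : ∃ M : Matrix Ω Ω ℂ,
      M = Matrix.of fun x y => if ∃ g : G, g • a = x ∧ g • b = y then (1 : ℂ) else 0 := ⟨_, rfl⟩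
  have hT : ∀ x y, Matrix.toLin' M (Pi.single y 1) x =
      if ∃ g : G, g • a = x ∧ g • b = y then (1 : ℂ) else 0 := by
    intro x y
    rw [Matrix.toLin'_apply, Matrix.mulVec_single_one, Matrix.col_apply, hM]
    rfl
  have hinv : ∀ (g : G) (x y : Ω), Matrix.toLin' M (Pi.single (g • y) 1) (g • x) =
      Matrix.toLin' M (Pi.single y 1) x := by
    intro g x y
    rw [hT, hT]
    have : (∃ h : G, h • a = g • x ∧ h • b = g • y) ↔ (∃ h : G, h • a = x ∧ h • b = y) := by
      constructor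
      · rintro ⟨h, h1, h2⟩
        refine ⟨g⁻¹ * h, ?_, ?_⟩
        · rw [mul_smul, h1, inv_smul_smul]
        · rw [mul_smul, h2, inv_smul_smul]
      · rintro ⟨h, h1, h2⟩
        refine ⟨g * h, ?_, ?_⟩
        · rw [mul_smul, h1]
        · rw [mul_smul, h2]
    simp only [this]
  have hcomm := comm_of_matrix_invariant (Matrix.toLin' M) hinv
  have h1 := hsym _ hcomm b a
  rw [hT, hT] at h1
  have h2 : ∃ g : G, g • a = a ∧ g • b = b := ⟨1, one_smul _ _, one_smul _ _⟩
  rw [if_pos h2] at h1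
  by_contra hcon
  rw [if_neg hcon] at h1
  exact zero_ne_one h1

end backward

end Cfsg.Agent.Lib.Helper12
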