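import Mathlib
import Cfsg.Agent.Lib.Helper12.PermRepSym

set_option autoImplicit false
set_option linter.unusedSectionVars false

namespace Cfsg.Agent.Lib.Helper12

open Module Representation Cfsg.Agent.Lib.Helper3
open scoped ComplexConjugate

section dim
variable {G : Type*} [Group G] [Fintype G] {V : Type*} [AddCommGroup V] [Module ℂ V]
  [FiniteDimensional ℂ V] (ρ : Representation ℂ G V)

theorem end_fin_one (T : (Fin 1 → ℂ) →ₗ[ℂ] (Fin 1 → ℂ)) (w : Fin 1 → ℂ) :
    T w = LinearMap.trace ℂ _ T • w := by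
  have h1 : LinearMap.trace ℂ _ T = T (Pi.single 0 1) 0 := by
    rw [LinearMap.trace_eq_matrix_trace ℂ (Pi.basisFun ℂ (Fin 1)), Matrix.trace]
    simp
  have hw : w = w 0 • Pi.single 0 1 := by
    funext i
    fin_cases i
    simp
  funext i
  fin_cases i
  rw [h1]
  conv_lhs => rw [hw]
  rw [map_smul]
  simp only [Fin.zero_eta, Fin.isValue, Pi.smul_apply, smul_eq_mul]
  ring

/-- the multiplicity of an irreducible character in a subrepresentation is at most its
multiplicity in the whole representation: nonvanishing version -/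
theorem classInner_ne_zero_of_sub (U : Subrepresentation ρ) {n : ℕ}
    (σ : Representation ℂ G (Fin n → ℂ))
    (h : Cfsg.classInner U.toRepresentation.character σ.character ≠ 0) :
    Cfsg.classInner ρ.character σ.character ≠ 0 := by
  rw [classInner_character_eq_finrank] at h ⊢
  have hpos : 0 < finrank ℂ (IntertwiningMap σ U.toRepresentation) :=
    Nat.pos_of_ne_zero (by intro h0; apply h; rw [h0]; simp)
  obtain ⟨φ, hφ⟩ := Module.finrank_pos_iff_exists_ne_zero.mp hpos
  have hne : (subrepIncl U).comp φ ≠ 0 := by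
    intro h0
    apply hφ
    apply IntertwiningMap.ext
    apply LinearMap.ext
    intro w
    apply Subtype.ext
    have := congrArg (fun F : IntertwiningMap σ ρ => F w) h0
    exact this
  have : finrank ℂ (IntertwiningMap σ ρ) ≠ 0 := by
    intro h0
    rw [Module.finrank_zero_iff] at h0
    exact hne (Subsingleton.elim _ _)
  exact_mod_cast this

/-- if every nontrivial irreducible constituent of `ρ` has degree divisible by `f`, then `f`
divides the dimension of every subrepresentation without nonzero fixed vectors -/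
theorem dvd_finrank_of_constituents (f : ℕ)
    (hf : ∀ χ : G → ℂ, Cfsg.IsIrrCharacter G χ → χ ≠ (fun _ => 1) →
      Cfsg.classInner ρ.character χ ≠ 0 → ∃ m : ℕ, χ 1 = (f : ℂ) * m)
    (U : Subrepresentation ρ)
    (hU : ∀ v ∈ U.toSubmodule, (∀ g, ρ g v = v) → v = 0) :
    f ∣ finrank ℂ U.toSubmodule := by
  classical
  have : Fintype (Cfsg.IrrCharacter G) := Fintype.ofFinite _
  have hcl : Cfsg.IsClassFunction G U.toRepresentation.character :=
    IsCharacter.isClassFunction (isCharacter_character U.toRepresentation)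
  have hexp := classFunction_expansion U.toRepresentation.character hcl
  have h1 := congrFun hexp 1
  rw [Representation.char_one, Finset.sum_apply] at h1
  have hterm : ∀ χ : Cfsg.IrrCharacter G, ∃ k : ℕ,
      Cfsg.classInner U.toRepresentation.character (χ : G → ℂ) * (χ : G → ℂ) 1 =
        ((f * k : ℕ) : ℂ) := by
    intro χ
    obtain ⟨n, σ, hσ, hchar⟩ := χ.2
    have := hσ
    by_cases h0 : Cfsg.classInner U.toRepresentation.character (χ : G → ℂ) = 0
    · exact ⟨0, by rw [h0]; simp⟩
    · by_cases htriv : (χ : G → ℂ) = fun _ => 1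
      · exfalso
        rw [← hchar] at h0 htriv
        have hn : n = 1 := by
          have h2 := congrFun htriv 1
          rw [Representation.char_one, Module.finrank_fin_fun] at h2
          exact_mod_cast h2
        subst hn
        rw [classInner_character_eq_finrank] at h0
        have hpos : 0 < finrank ℂ (IntertwiningMap σ U.toRepresentation) :=
          Nat.pos_of_ne_zero (by intro h; apply h0; rw [h]; simp)
        obtain ⟨φ, hφ⟩ := Module.finrank_pos_iff_exists_ne_zero.mp hpos
        apply hφ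
        apply IntertwiningMap.ext
        apply LinearMap.ext
        intro w
        apply Subtype.ext
        apply hU _ (φ w).2
        intro g
        have h3 : σ g w = w := by
          rw [end_fin_one (σ g) w]
          have : LinearMap.trace ℂ _ (σ g) = σ.character g := rfl
          rw [this, htriv, one_smul]
        have h4 := IntertwiningMap.isIntertwining σ U.toRepresentation φ g w
        rw [h3] at h4
        have h5 := congrArg Subtype.val h4
        exact h5.symm
      · have hne := classInner_ne_zero_of_sub ρ U σ (by rw [hchar]; exact h0)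
        rw [hchar] at hne
        obtain ⟨m, hm⟩ := hf _ χ.2 htriv hne
        refine ⟨finrank ℂ (IntertwiningMap σ U.toRepresentation) * m, ?_⟩
        rw [hm, ← hchar, classInner_character_eq_finrank]
        push_cast
        ring
  choose k hk using hterm
  have h2 : (finrank ℂ U.toSubmodule : ℂ) = ((f * ∑ χ, k χ : ℕ) : ℂ) := by
    rw [h1]
    push_cast
    rw [Finset.mul_sum]
    apply Finset.sum_congr rfl
    intro χ _
    rw [Pi.smul_apply, smul_eq_mul, hk]
    push_cast
    ring
  exact ⟨∑ χ, k χ, by exact_mod_cast h2⟩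

end dim

section tracesec
variable {G : Type*} [Group G] [Fintype G] {V : Type*} [AddCommGroup V] [Module ℂ V]
  [FiniteDimensional ℂ V] (ρ : Representation ℂ G V)

theorem pow_sub_smul_apply_of_apply_eq_zero (T : V →ₗ[ℂ] V) (μ : ℂ) (v : V) (hv : T v = 0)
    (k : ℕ) : ((T - μ • (1 : Module.End ℂ V)) ^ k) v = (-μ) ^ k • v := by
  induction k with
  | zero => simp
  | succ k ih =>
    rw [pow_succ', Module.End.mul_apply, ih, map_smul, LinearMap.sub_apply, hv,
      LinearMap.smul_apply, Module.End.one_apply, zero_sub, smul_neg, ← neg_smul, smul_smul,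
      pow_succ]
    congr 1
    ring

/-- the trace of an equivariant endomorphism killing the fixed vectors, with integral
eigenvalues, is `f` times an algebraic integer, if `f` divides the degrees of all nontrivial
constituents -/
theorem trace_eq_mul_of_comm (f : ℕ)
    (hf : ∀ χ : G → ℂ, Cfsg.IsIrrCharacter G χ → χ ≠ (fun _ => 1) →
      Cfsg.classInner ρ.character χ ≠ 0 → ∃ m : ℕ, χ 1 = (f : ℂ) * m)
    (T : V →ₗ[ℂ] V) (hT : ∀ (g : G) (v : V), T (ρ g v) = ρ g (T v))
    (hfix : ∀ v : V, (∀ g, ρ g v = v) → T v = 0)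
    (hint : ∀ μ : ℂ, Module.End.HasEigenvalue T μ → IsIntegral ℤ μ) :
    ∃ s : ℂ, IsIntegral ℤ s ∧ LinearMap.trace ℂ V T = (f : ℂ) * s := by
  classical
  have htr := Module.End.trace_eq_sum_roots_charpoly_of_splits
    (f := T) (IsAlgClosed.splits _)
  rw [Finset.sum_multiset_count] at htr
  -- multiplicities
  have hmult : ∀ μ : ℂ, μ ≠ 0 → ∃ k : ℕ, T.charpoly.roots.count μ = f * k := by
    intro μ hμ
    rw [Polynomial.count_roots, ← LinearMap.finrank_maxGenEigenspace_eq]
    obtain ⟨U, hU⟩ : ∃ U : Subrepresentation ρ,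
        U.toSubmodule = Module.End.maxGenEigenspace T μ :=
      ⟨{ toSubmodule := Module.End.maxGenEigenspace T μ
         apply_mem_toSubmodule := by
          intro g v hv
          have hc : Commute T (ρ g) := by
            apply LinearMap.ext
            intro w
            exact hT g w
          exact Module.End.mapsTo_maxGenEigenspace_of_comm hc μ hv }, rfl⟩
    have hdvd := dvd_finrank_of_constituents ρ f hf U (by
      intro v hv hfixv
      rw [hU, Module.End.mem_maxGenEigenspace] at hv
      obtain ⟨k, hk⟩ := hv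
      rw [pow_sub_smul_apply_of_apply_eq_zero T μ v (hfix v hfixv)] at hk
      rcases smul_eq_zero.mp hk with h | h
      · exact absurd h (pow_ne_zero k (neg_ne_zero.mpr hμ))
      · exact h)
    rw [hU] at hdvd
    exact hdvd
  choose! k hk using hmult
  refine ⟨∑ μ ∈ T.charpoly.roots.toFinset, k μ • μ, ?_, ?_⟩
  · apply IsIntegral.sum
    intro μ hμ
    apply IsIntegral.nsmul
    apply hint
    rw [Module.End.hasEigenvalue_iff_isRoot_charpoly]
    rw [Multiset.mem_toFinset] at hμ
    exact Polynomial.isRoot_of_mem_roots hμ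
  · rw [htr, Finset.mul_sum]
    apply Finset.sum_congr rfl
    intro μ _
    by_cases hμ : μ = 0
    · rw [hμ]; simp
    · rw [hk μ hμ, nsmul_eq_mul, nsmul_eq_mul]
      push_cast
      ring

end tracesec

section subdegree
variable {G : Type*} [Group G] [Fintype G] {Ω : Type*} [Fintype Ω] [DecidableEq Ω]
  [MulAction G Ω] [MulAction.IsPretransitive G Ω]

theorem const_of_fixed (v : Ω → ℂ) (hv : ∀ g : G, Cfsg.permRep ℂ G Ω g v = v) (x y : Ω) :
    v x = v y := by
  obtain ⟨g, rfl⟩ := MulAction.exists_smul_eq G x y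
  have := congrFun (hv g) (g • x)
  rw [permRep_apply', inv_smul_smul] at this
  exact this

theorem finrank_sumZero (a0 : Ω) :
    finrank ℂ (Cfsg.permSumZero ℂ G Ω).toSubmodule + 1 = Fintype.card Ω := by
  classical
  obtain ⟨sumL, hsumL⟩ : ∃ sumL : (Ω → ℂ) →ₗ[ℂ] ℂ, ∀ v, sumL v = ∑ x, v x :=
    ⟨{ toFun := fun v => ∑ x, v x
       map_add' := fun u v => by simp [Finset.sum_add_distrib]
       map_smul' := fun c v => by simp [Finset.mul_sum] }, fun v => rfl⟩
  have hker : LinearMap.ker sumL = (Cfsg.permSumZero ℂ G Ω).toSubmodule := by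
    ext v
    rw [LinearMap.mem_ker, hsumL]
    rfl
  have hsurj : LinearMap.range sumL = ⊤ := by
    rw [LinearMap.range_eq_top]
    intro c
    refine ⟨Pi.single a0 c, ?_⟩
    rw [hsumL, Finset.sum_pi_single']
    simp
  have h1 := LinearMap.finrank_range_add_finrank_ker sumL
  rw [hsurj, finrank_top, Module.finrank_self, hker, Module.finrank_fintype_fun_eq_card] at h1
  omega

/-- the number of points in a given orbital relation with `x` is the subdegree -/
theorem card_orbital_row (a b x : Ω) [DecidablePred fun y : Ω => ∃ g : G, g • a = x ∧ g • b = y] :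
    (Finset.univ.filter (fun y : Ω => ∃ g : G, g • a = x ∧ g • b = y)).card =
      Nat.card (MulAction.orbit (MulAction.stabilizer G a) b) := by
  classical
  obtain ⟨g0, hg0⟩ := MulAction.exists_smul_eq G a x
  have h1 : Nat.card (MulAction.orbit (MulAction.stabilizer G a) b) =
      (Finset.univ.filter (fun y : Ω => ∃ g : G, g • a = a ∧ g • b = y)).card := by
    rw [← Set.ncard_coe_finset, Nat.card_coe_set_eq]
    congr 1
    ext y
    simp only [Finset.coe_filter, Finset.mem_univ, true_and, Set.mem_ofPred_eq]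
    constructor
    · rintro ⟨h, rfl⟩
      exact ⟨(h : G), h.2, rfl⟩
    · rintro ⟨g, hga, hgb⟩
      exact ⟨⟨g, hga⟩, hgb⟩
  rw [h1]
  symm
  apply Finset.card_bij (fun y _ => g0 • y)
  · intro y hy
    rw [Finset.mem_filter] at hy ⊢
    obtain ⟨-, g, hga, hgb⟩ := hy
    refine ⟨Finset.mem_univ _, g0 * g, ?_, ?_⟩
    · rw [mul_smul, hga, hg0]
    · rw [mul_smul, hgb]
  · intro y1 _ y2 _ h
    exact MulAction.injective g0 h
  · intro y hy
    rw [Finset.mem_filter] at hy
    obtain ⟨-, g, hga, hgb⟩ := hy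
    refine ⟨g0⁻¹ • y, ?_, smul_inv_smul g0 y⟩
    rw [Finset.mem_filter]
    refine ⟨Finset.mem_univ _, g0⁻¹ * g, ?_, ?_⟩
    · rw [mul_smul, hga, ← hg0, inv_smul_smul]
    · rw [mul_smul, hgb]

set_option maxHeartbeats 800000 in
/-- Frame–Wielandt: a common divisor of the degrees of the nontrivial constituents of the
permutation character of a transitive group divides every nontrivial subdegree -/
theorem dvd_subdegree (f : ℕ)
    (hf : ∀ χ : G → ℂ, Cfsg.IsIrrCharacter G χ → χ ≠ (fun _ => 1) →
      Cfsg.classInner (Cfsg.permRep ℂ G Ω).character χ ≠ 0 → ∃ m : ℕ, χ 1 = (f : ℂ) * m)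
    (a b : Ω) (hab : b ≠ a) :
    f ∣ Nat.card (MulAction.orbit (MulAction.stabilizer G a) b) := by
  classical
  obtain ⟨n, hn⟩ : ∃ n : ℕ, n = Fintype.card Ω := ⟨_, rfl⟩
  obtain ⟨d, hd⟩ : ∃ d : ℕ, d = Nat.card (MulAction.orbit (MulAction.stabilizer G a) b) :=
    ⟨_, rfl⟩
  rw [← hd]
  -- `f` divides `n - 1`
  have hn1 : f ∣ n - 1 := by
    have h1 := dvd_finrank_of_constituents (Cfsg.permRep ℂ G Ω) f hf (Cfsg.permSumZero ℂ G Ω) (by
      intro v hv hfix
      have hconst := const_of_fixed v hfix
      have hsum : ∑ x, v x = 0 := hv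
      have h2 : ∑ x, v x = (Fintype.card Ω : ℂ) * v a := by
        rw [Finset.sum_congr rfl (fun x _ => hconst x a)]
        simp
      rw [h2] at hsum
      have hcard : (Fintype.card Ω : ℂ) ≠ 0 := by
        have : 0 < Fintype.card Ω := Fintype.card_pos_iff.mpr ⟨a⟩
        exact_mod_cast this.ne'
      have hva : v a = 0 := (mul_eq_zero.mp hsum).resolve_left hcard
      funext x
      rw [hconst x a, hva]
      rfl)
    have h2 := finrank_sumZero (G := G) a
    rw [← hn] at h2
    have : finrank ℂ (Cfsg.permSumZero ℂ G Ω).toSubmodule = n - 1 := by omega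
    rwa [this] at h1
  have hnpos : 0 < n := by rw [hn]; exact Fintype.card_pos_iff.mpr ⟨a⟩
  -- the case `f = 0`
  by_cases hf0 : f = 0
  · exfalso
    rw [hf0, zero_dvd_iff] at hn1
    have hn1' : Fintype.card Ω ≤ 1 := by omega
    exact hab (Fintype.card_le_one_iff.mp hn1' b a)
  -- the integer matrix
  obtain ⟨Mz, hMz⟩ : ∃ Mz : Matrix Ω Ω ℤ, Mz = Matrix.of fun x y =>
      (n : ℤ) * (if ∃ g : G, g • a = x ∧ g • b = y then 1 else 0) - (d : ℤ) := ⟨_, rfl⟩
  obtain ⟨M, hM⟩ : ∃ M : Matrix Ω Ω ℂ, M = Mz.map (Int.castRingHom ℂ) := ⟨_, rfl⟩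
  have hMapply : ∀ x y, M x y =
      (n : ℂ) * (if ∃ g : G, g • a = x ∧ g • b = y then 1 else 0) - (d : ℂ) := by
    intro x y
    rw [hM, Matrix.map_apply, hMz, Matrix.of_apply]
    simp only [eq_intCast]
    push_cast
    split_ifs <;> simp
  have hT : ∀ x y, Matrix.toLin' M (Pi.single y 1) x = M x y := by
    intro x y
    rw [Matrix.toLin'_apply, Matrix.mulVec_single_one, Matrix.col_apply]
  have hinv : ∀ (g : G) (x y : Ω), Matrix.toLin' M (Pi.single (g • y) 1) (g • x) =
      Matrix.toLin' M (Pi.single y 1) x := by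
    intro g x y
    rw [hT, hT, hMapply, hMapply]
    have : (∃ h : G, h • a = g • x ∧ h • b = g • y) ↔ (∃ h : G, h • a = x ∧ h • b = y) := by
      constructor
      · rintro ⟨h, h1, h2⟩
        refine ⟨g⁻¹ * h, ?_, ?_⟩
        · rw [mul_smul, h1, inv_smul_smul]
        · rw [mul_smul, h2, inv_smul_smul]
      · rintro ⟨h, h1, h2⟩
        refine ⟨g * h, ?_, ?_⟩
        · rw [mul_smul, h1]
        · rw [mul_smul, h2]
    simp only [this]
  have hcomm := comm_of_matrix_invariant (Matrix.toLin' M) hinv
  -- row sums vanish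
  have hrow : ∀ x, ∑ y, M x y = 0 := by
    intro x
    simp_rw [hMapply]
    rw [Finset.sum_sub_distrib, ← Finset.mul_sum, Finset.sum_boole, card_orbital_row a b x,
      ← hd]
    simp only [Finset.sum_const, Finset.card_univ, nsmul_eq_mul]
    rw [← hn]
    ring
  have hfix : ∀ v : Ω → ℂ, (∀ g : G, Cfsg.permRep ℂ G Ω g v = v) → Matrix.toLin' M v = 0 := by
    intro v hv
    have hconst := const_of_fixed v hv
    funext x
    rw [Matrix.toLin'_apply, Matrix.mulVec, dotProduct]
    rw [Finset.sum_congr rfl (fun y _ => by rw [hconst y a])]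
    rw [← Finset.sum_mul, hrow, zero_mul]
    rfl
  -- eigenvalues are algebraic integers
  have hint : ∀ μ : ℂ, Module.End.HasEigenvalue (Matrix.toLin' M) μ → IsIntegral ℤ μ := by
    intro μ hμ
    rw [Module.End.hasEigenvalue_iff_isRoot_charpoly, Matrix.charpoly_toLin', hM,
      Matrix.charpoly_map] at hμ
    refine ⟨Mz.charpoly, Matrix.charpoly_monic _, ?_⟩
    rw [← Polynomial.eval_map]
    exact hμ
  obtain ⟨s, hs, htr⟩ := trace_eq_mul_of_comm (Cfsg.permRep ℂ G Ω) f hf (Matrix.toLin' M) hcomm
    hfix hint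
  -- the trace
  have htr2 : LinearMap.trace ℂ (Ω → ℂ) (Matrix.toLin' M) = -((n : ℂ) * d) := by
    rw [LinearMap.trace_eq_matrix_trace ℂ (Pi.basisFun ℂ Ω), LinearMap.toMatrix_eq_toMatrix',
      LinearMap.toMatrix'_toLin', Matrix.trace]
    simp only [Matrix.diag_apply]
    have hdiag : ∀ x, M x x = -(d : ℂ) := by
      intro x
      rw [hMapply, if_neg, mul_zero, zero_sub]
      rintro ⟨g, h1, h2⟩
      exact hab (MulAction.injective g (h2.trans h1.symm))
    rw [Finset.sum_congr rfl (fun x _ => hdiag x)]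
    simp only [Finset.sum_const, Finset.card_univ, nsmul_eq_mul]
    rw [← hn]
    ring
  rw [htr2] at htr
  -- `s` is a rational algebraic integer
  have hfc : (f : ℂ) ≠ 0 := by exact_mod_cast hf0
  have hsq : s = ((-((n * d : ℕ) : ℤ) : ℚ) / (f : ℚ) : ℚ) := by
    push_cast
    rw [eq_div_iff hfc, mul_comm, ← htr]
  have h1 : IsIntegral ℤ ((-((n * d : ℕ) : ℤ) : ℚ) / (f : ℚ) : ℚ) := by
    have hinj : Function.Injective (algebraMap ℚ ℂ) := (algebraMap ℚ ℂ).injective
    rw [← isIntegral_algebraMap_iff hinj]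
    have : (algebraMap ℚ ℂ) ((-((n * d : ℕ) : ℤ) : ℚ) / (f : ℚ) : ℚ) = s := by
      rw [hsq]; rfl
    rw [this]
    exact hs
  obtain ⟨z, hz⟩ := IsIntegrallyClosed.algebraMap_eq_of_integral h1
  have hz' : (z : ℚ) * f = -((n * d : ℕ) : ℤ) := by
    have hfq : (f : ℚ) ≠ 0 := by exact_mod_cast hf0
    have : (z : ℚ) = (-((n * d : ℕ) : ℤ) : ℚ) / (f : ℚ) := by simpa using hz
    rw [this, div_mul_cancel₀ _ hfq]
  have hz'' : z * (f : ℤ) = -((n * d : ℕ) : ℤ) := by exact_mod_cast hz'
  have hdvd : (f : ℤ) ∣ ((n * d : ℕ) : ℤ) := by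
    refine ⟨-z, ?_⟩
    linarith
  have hdvd' : f ∣ n * d := by exact_mod_cast hdvd
  -- conclude with `n ≡ 1`
  obtain ⟨k, hk⟩ := hn1
  have hnk : n = f * k + 1 := by omega
  rw [hnk] at hdvd'
  have : f ∣ f * k * d + d := by
    have e : (f * k + 1) * d = f * k * d + d := by ring
    rwa [e] at hdvd'
  exact (Nat.dvd_add_right ⟨k * d, by ring⟩).mp this

end subdegree

end Cfsg.Agent.Lib.Helper12
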