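import Mathlib
import Cfsg.Agent.Lib.Helper12.PermRepFrame
import Cfsg.Agent.Lib.Helper3.PermChar
import Cfsg.Agent.Lib.Helper78.CharMore

set_option autoImplicit false
set_option linter.unusedSectionVars false

namespace Cfsg.Agent.Lib.Helper12

open Module Representation Cfsg.Agent.Lib.Helper3
open scoped ComplexConjugate

section orbits
variable {H : Type*} [Group H] [Fintype H] {Ω : Type*} [Fintype Ω] [DecidableEq Ω] [MulAction H Ω]

/-- the number of orbits is the sum of the reciprocals of the orbit lengths -/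
theorem card_orbits_eq_sum_inv :
    (Nat.card (MulAction.orbitRel.Quotient H Ω) : ℚ) =
      ∑ b : Ω, (1 : ℚ) / (Nat.card (MulAction.orbit H b) : ℚ) := by
  classical
  have : Fintype (MulAction.orbitRel.Quotient H Ω) := Fintype.ofFinite _
  have hB := MulAction.sum_card_fixedBy_eq_card_orbits_mul_card_group H Ω
  have hHpos : (0 : ℚ) < Fintype.card H := by exact_mod_cast Fintype.card_pos
  -- orbit-stabiliser
  have hos : ∀ b : Ω, (1 : ℚ) / (Nat.card (MulAction.orbit H b) : ℚ) =
      (Nat.card (MulAction.stabilizer H b) : ℚ) / Fintype.card H := by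
    intro b
    have h1 := MulAction.card_orbit_mul_card_stabilizer_eq_card_group H b
    have h2 : (Nat.card (MulAction.orbit H b) : ℚ) * (Nat.card (MulAction.stabilizer H b) : ℚ) =
        Fintype.card H := by
      rw [Nat.card_eq_fintype_card, Nat.card_eq_fintype_card]
      exact_mod_cast h1
    have hpos : (Nat.card (MulAction.orbit H b) : ℚ) ≠ 0 := by
      intro h0
      rw [h0, zero_mul] at h2
      exact hHpos.ne h2
    rw [div_eq_div_iff hpos hHpos.ne', one_mul, mul_comm]
    exact h2.symm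
  simp_rw [hos]
  rw [← Finset.sum_div, eq_div_iff hHpos.ne']
  -- double counting
  have hdc : ∑ b : Ω, (Nat.card (MulAction.stabilizer H b) : ℚ) =
      ∑ h : H, (Fintype.card (MulAction.fixedBy Ω h) : ℚ) := by
    have e1 : ∀ b : Ω, (Nat.card (MulAction.stabilizer H b) : ℚ) =
        ∑ h : H, if h • b = b then (1 : ℚ) else 0 := by
      intro b
      rw [Finset.sum_boole, Nat.card_eq_fintype_card, Fintype.card_subtype]
      rfl
    have e2 : ∀ h : H, (Fintype.card (MulAction.fixedBy Ω h) : ℚ) =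
        ∑ b : Ω, if h • b = b then (1 : ℚ) else 0 := by
      intro h
      rw [Finset.sum_boole, Fintype.card_subtype]
      rfl
    simp_rw [e1, e2]
    exact Finset.sum_comm
  rw [hdc, Nat.card_eq_fintype_card]
  exact_mod_cast hB.symm

end orbits

open MulAction in
theorem card_orbits_stabilizer' {G : Type*} [Group G] {Ω : Type*} [MulAction G Ω]
    [MulAction.IsPretransitive G Ω] (a : Ω) :
    Nat.card (MulAction.orbitRel.Quotient (MulAction.stabilizer G a) Ω) =
      Nat.card (MulAction.orbitRel.Quotient G (Ω × Ω)) := by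
  apply Nat.card_congr
  refine Equiv.ofBijective (Quotient.map' (fun b => (a, b)) ?_) ⟨?_, ?_⟩
  · intro b b' h
    obtain ⟨s, hs⟩ := h
    refine ⟨(s : G), ?_⟩
    have h1 : (s : G) • a = a := s.2
    show (s : G) • (a, b') = (a, b)
    rw [Prod.smul_mk, h1]
    congr 1
  · intro x y
    induction x using Quotient.inductionOn'
    induction y using Quotient.inductionOn'
    rename_i b b'
    intro h
    rw [Quotient.map'_mk'', Quotient.map'_mk'', Quotient.eq''] at h
    obtain ⟨g, hg⟩ := h
    have hg' : g • (a, b') = (a, b) := hg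
    rw [Prod.smul_mk, Prod.mk.injEq] at hg'
    apply Quotient.sound'
    exact ⟨⟨g, hg'.1⟩, hg'.2⟩
  · intro x
    induction x using Quotient.inductionOn'
    rename_i p
    obtain ⟨g, hg⟩ := MulAction.exists_smul_eq G a p.1
    refine ⟨Quotient.mk'' (g⁻¹ • p.2), ?_⟩
    rw [Quotient.map'_mk'']
    apply Quotient.sound'
    refine ⟨g⁻¹, ?_⟩
    show g⁻¹ • p = (a, g⁻¹ • p.2)
    ext
    · show g⁻¹ • p.1 = a
      rw [← hg, inv_smul_smul]
    · rfl

section data
variable {G : Type*} [Group G] [Fintype G] {Ω : Type*} [Fintype Ω] [DecidableEq Ω]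
  [MulAction G Ω] [MulAction.IsPretransitive G Ω]

theorem perm_data [Fintype (Cfsg.IrrCharacter G)] (a : Ω) :
    ∃ (k d : Cfsg.IrrCharacter G → ℕ),
      (∀ χ : Cfsg.IrrCharacter G,
        Cfsg.classInner (fun g : G => (Nat.card (MulAction.fixedBy Ω g) : ℂ)) (χ : G → ℂ) = k χ) ∧
      (∀ χ : Cfsg.IrrCharacter G, (χ : G → ℂ) 1 = d χ) ∧ (∀ χ, 1 ≤ d χ) ∧
      Fintype.card Ω = ∑ χ, k χ * d χ ∧
      Nat.card (MulAction.orbitRel.Quotient (MulAction.stabilizer G a) Ω) = ∑ χ, (k χ) ^ 2 ∧
      (∀ χ : Cfsg.IrrCharacter G, (χ : G → ℂ) = (fun _ => 1) → k χ = 1) := by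
  classical
  have hchar : (fun g : G => (Nat.card (MulAction.fixedBy Ω g) : ℂ)) =
      (Cfsg.permRep ℂ G Ω).character := funext (fun g => (permRep_character g).symm)
  have hk : ∀ χ : Cfsg.IrrCharacter G, ∃ k : ℕ,
      Cfsg.classInner (fun g : G => (Nat.card (MulAction.fixedBy Ω g) : ℂ)) (χ : G → ℂ) = k := by
    intro χ
    obtain ⟨n, ρ, hρ, hχ⟩ := χ.2
    refine ⟨finrank ℂ (IntertwiningMap ρ (Cfsg.permRep ℂ G Ω)), ?_⟩
    rw [hchar, ← hχ, classInner_character_eq_finrank]
  have hd : ∀ χ : Cfsg.IrrCharacter G, ∃ d : ℕ, (χ : G → ℂ) 1 = d ∧ 1 ≤ d := by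
    intro χ
    obtain ⟨n, ρ, hρ, hχ⟩ := χ.2
    refine ⟨finrank ℂ (Fin n → ℂ), ?_, ?_⟩
    · rw [← hχ, Representation.char_one]
    · exact finrank_pos_of_isIrreducible ρ
  choose k hk using hk
  choose d hd using hd
  have hclass : Cfsg.IsClassFunction G (fun g : G => (Nat.card (MulAction.fixedBy Ω g) : ℂ)) := by
    rw [hchar]
    exact IsCharacter.isClassFunction (isCharacter_character _)
  have hexp := classFunction_expansion _ hclass
  simp_rw [hk] at hexp
  refine ⟨k, d, hk, fun χ => (hd χ).1, fun χ => (hd χ).2, ?_, ?_, ?_⟩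
  · have h1 := congrFun hexp 1
    rw [Finset.sum_apply] at h1
    simp only [Pi.smul_apply, smul_eq_mul] at h1
    simp_rw [fun χ => (hd χ).1] at h1
    have h2 : (Nat.card (MulAction.fixedBy Ω (1 : G)) : ℂ) = (Fintype.card Ω : ℂ) := by
      rw [MulAction.fixedBy_one_eq_univ, Nat.card_coe_set_eq, Set.ncard_univ,
        Nat.card_eq_fintype_card]
    rw [h2] at h1
    exact_mod_cast h1
  · have h1 : Cfsg.classInner (fun g : G => (Nat.card (MulAction.fixedBy Ω g) : ℂ))
        (fun g : G => (Nat.card (MulAction.fixedBy Ω g) : ℂ)) = ∑ χ, ((k χ : ℂ)) ^ 2 := by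
      have h0 : Cfsg.classInner (fun g : G => (Nat.card (MulAction.fixedBy Ω g) : ℂ))
          (fun g : G => (Nat.card (MulAction.fixedBy Ω g) : ℂ)) =
          Cfsg.classInner (∑ χ : Cfsg.IrrCharacter G, (k χ : ℂ) • (χ : G → ℂ))
          (fun g : G => (Nat.card (MulAction.fixedBy Ω g) : ℂ)) := by
        rw [← hexp]
      rw [h0, classInner_sum_left]
      refine Finset.sum_congr rfl fun χ _ => ?_
      rw [classInner_smul_left, classInner_conj_symm, hk, Complex.conj_natCast]
      ring
    rw [classInner_card_fixedBy_self, ← card_orbits_stabilizer' a] at h1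
    exact_mod_cast h1
  · intro χ hχ
    have h1 := hk χ
    rw [hχ, classInner_card_fixedBy_one] at h1
    have h2 : Nat.card (MulAction.orbitRel.Quotient G Ω) = 1 := by
      have : Subsingleton (MulAction.orbitRel.Quotient G Ω) := by
        rw [← MulAction.pretransitive_iff_subsingleton_quotient]
        infer_instance
      have : Nonempty (MulAction.orbitRel.Quotient G Ω) := ⟨Quotient.mk'' a⟩
      exact Nat.card_unique
    rw [h2] at h1
    exact_mod_cast h1.symm

end data

theorem counting {I B : Type*} [Fintype I] [DecidableEq I] [Fintype B] [DecidableEq B]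
    (k d : I → ℕ) (o : I) (a : B) (s : B → ℕ) (f : ℕ)
    (hko : k o = 1) (hdo : d o = 1) (hd : ∀ i, 1 ≤ d i)
    (hs : ∀ b, 1 ≤ s b) (hsa : s a = 1)
    (hn : Fintype.card B = ∑ i, k i * d i)
    (hr : (∑ i, ((k i : ℚ)) ^ 2) = ∑ b, 1 / (s b : ℚ))
    (hf : ∀ i, i ≠ o → k i ≠ 0 → d i = f)
    (hdiv : ∀ b, b ≠ a → f ∣ s b) :
    (∀ i, k i ≤ 1) ∧ ∀ b, b ≠ a → s b = f := by
  -- decompositions
  have h1 : (Fintype.card B : ℚ) = 1 + ∑ i ∈ Finset.univ.erase o, (k i : ℚ) * d i := by
    rw [hn]
    push_cast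
    rw [← Finset.add_sum_erase _ _ (Finset.mem_univ o), hko, hdo]
    simp
  have h2 : (Fintype.card B : ℚ) = 1 + ((Finset.univ.erase a).card : ℚ) := by
    rw [Finset.card_erase_of_mem (Finset.mem_univ a), Finset.card_univ]
    have : 1 ≤ Fintype.card B := Fintype.card_pos_iff.mpr ⟨a⟩
    push_cast [Nat.cast_sub this]
    ring
  have h3 : ∑ i ∈ Finset.univ.erase o, (k i : ℚ) * d i =
      (f : ℚ) * ∑ i ∈ Finset.univ.erase o, (k i : ℚ) := by
    rw [Finset.mul_sum]
    refine Finset.sum_congr rfl fun i hi => ?_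
    by_cases hki : k i = 0
    · simp [hki]
    · rw [hf i (Finset.ne_of_mem_erase hi) hki]
      ring
  have h4 : ∑ i ∈ Finset.univ.erase o, ((k i : ℚ)) ^ 2 =
      ∑ b ∈ Finset.univ.erase a, 1 / (s b : ℚ) := by
    rw [← Finset.add_sum_erase _ _ (Finset.mem_univ o),
      ← Finset.add_sum_erase _ _ (Finset.mem_univ a), hko, hsa] at hr
    simp only [Nat.cast_one, one_pow, ne_eq, one_ne_zero, not_false_eq_true, div_self] at hr
    linarith
  by_cases hB : ∀ b, b = a
  · refine ⟨?_, fun b hb => absurd (hB b) hb⟩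
    have hc : (Finset.univ.erase a).card = 0 := by
      rw [Finset.card_eq_zero, Finset.eq_empty_iff_forall_notMem]
      intro b hb
      exact Finset.ne_of_mem_erase hb (hB b)
    rw [hc] at h2
    have h5 : ∑ i ∈ Finset.univ.erase o, (k i : ℚ) * d i = 0 := by
      rw [h2] at h1
      simpa using h1.symm
    have h6 := (Finset.sum_eq_zero_iff_of_nonneg (fun i _ => by positivity)).mp h5
    intro i
    by_cases hio : i = o
    · rw [hio, hko]
    · have h7 := h6 i (Finset.mem_erase.mpr ⟨hio, Finset.mem_univ i⟩)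
      have h8 : (d i : ℚ) ≠ 0 := by
        have := hd i
        positivity
      have h9 : (k i : ℚ) = 0 := by
        rcases mul_eq_zero.mp h7 with h | h
        · exact h
        · exact absurd h h8
      have : k i = 0 := by exact_mod_cast h9
      omega
  · push Not at hB
    obtain ⟨b0, hb0⟩ := hB
    have hf0 : f ≠ 0 := by
      intro h0
      have := hdiv b0 hb0
      rw [h0, zero_dvd_iff] at this
      have := hs b0
      omega
    have hfpos : (0 : ℚ) < f := by
      have : 0 < f := Nat.pos_of_ne_zero hf0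
      exact_mod_cast this
    have hfle : ∀ b, b ≠ a → f ≤ s b := fun b hb =>
      Nat.le_of_dvd (hs b) (hdiv b hb)
    -- the key identity
    have hkey : ∑ b ∈ Finset.univ.erase a, (1 / (f : ℚ) - 1 / (s b : ℚ)) +
        ∑ i ∈ Finset.univ.erase o, (((k i : ℚ)) ^ 2 - k i) = 0 := by
      rw [Finset.sum_sub_distrib, Finset.sum_sub_distrib, ← h4, Finset.sum_const, nsmul_eq_mul]
      have h5 : ((Finset.univ.erase a).card : ℚ) =
          (f : ℚ) * ∑ i ∈ Finset.univ.erase o, (k i : ℚ) := by
        rw [← h3]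
        linarith
      rw [h5]
      field_simp
      ring
    have hA : ∀ b ∈ Finset.univ.erase a, 0 ≤ 1 / (f : ℚ) - 1 / (s b : ℚ) := by
      intro b hb
      have h := hfle b (Finset.ne_of_mem_erase hb)
      have h' : (f : ℚ) ≤ s b := by exact_mod_cast h
      have := one_div_le_one_div_of_le hfpos h'
      linarith
    have hBn : ∀ i ∈ Finset.univ.erase o, 0 ≤ ((k i : ℚ)) ^ 2 - k i := by
      intro i _
      have h : k i ≤ k i ^ 2 := Nat.le_self_pow (by norm_num) _
      have h' : (k i : ℚ) ≤ (k i : ℚ) ^ 2 := by exact_mod_cast h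
      linarith
    have hA0 : ∑ b ∈ Finset.univ.erase a, (1 / (f : ℚ) - 1 / (s b : ℚ)) = 0 := by
      have := Finset.sum_nonneg hA
      have := Finset.sum_nonneg hBn
      linarith
    have hB0 : ∑ i ∈ Finset.univ.erase o, (((k i : ℚ)) ^ 2 - k i) = 0 := by
      have := Finset.sum_nonneg hA
      have := Finset.sum_nonneg hBn
      linarith
    have hA1 := (Finset.sum_eq_zero_iff_of_nonneg hA).mp hA0
    have hB1 := (Finset.sum_eq_zero_iff_of_nonneg hBn).mp hB0
    refine ⟨?_, ?_⟩
    · intro i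
      by_cases hio : i = o
      · rw [hio, hko]
      · have h7 := hB1 i (Finset.mem_erase.mpr ⟨hio, Finset.mem_univ i⟩)
        have h8 : k i ^ 2 = k i := by
          have : ((k i : ℚ)) ^ 2 = k i := by linarith
          exact_mod_cast this
        by_contra hlt
        push Not at hlt
        nlinarith
    · intro b hb
      have h7 := hA1 b (Finset.mem_erase.mpr ⟨hb, Finset.mem_univ b⟩)
      have hsb : (0 : ℚ) < s b := by
        have := hs b
        exact_mod_cast this
      have h8 : 1 / (f : ℚ) = 1 / (s b : ℚ) := by linarith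
      rw [div_eq_div_iff hfpos.ne' hsb.ne', one_mul, one_mul] at h8
      exact_mod_cast h8


section main
variable {G : Type*} [Group G] [Fintype G] {Ω : Type*} [Fintype Ω] [DecidableEq Ω]
  [MulAction G Ω] [MulAction.IsPretransitive G Ω]

/-- (Isaacs / Wielandt) if all non-principal constituents of the permutation character of a
transitive group have the same degree `f`, then the permutation character is multiplicity-free
and all nontrivial subdegrees equal `f`. -/
theorem multfree_of_const_degree (a : Ω) (f : ℕ)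
    (hf : ∀ χ : G → ℂ, Cfsg.IsIrrCharacter G χ → χ ≠ (fun _ => 1) →
      Cfsg.classInner (fun g : G => (Nat.card (MulAction.fixedBy Ω g) : ℂ)) χ ≠ 0 → χ 1 = f) :
    (∀ χ : G → ℂ, Cfsg.IsIrrCharacter G χ →
      Cfsg.classInner (fun g : G => (Nat.card (MulAction.fixedBy Ω g) : ℂ)) χ = 0 ∨
      Cfsg.classInner (fun g : G => (Nat.card (MulAction.fixedBy Ω g) : ℂ)) χ = 1) ∧
    ∀ b : Ω, b ≠ a → Nat.card (MulAction.orbit (MulAction.stabilizer G a) b) = f := by
  classical
  have : Fintype (Cfsg.IrrCharacter G) := Fintype.ofFinite _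
  obtain ⟨k, d, hk, hd, hd1, hn, hr, hk1⟩ := perm_data (G := G) a
  have hchar : (fun g : G => (Nat.card (MulAction.fixedBy Ω g) : ℂ)) =
      (Cfsg.permRep ℂ G Ω).character := funext (fun g => (permRep_character g).symm)
  let o : Cfsg.IrrCharacter G := ⟨fun _ => 1, Cfsg.Agent.Lib.Helper78.isIrrCharacter_one⟩
  have hko : k o = 1 := hk1 o rfl
  have hdo : d o = 1 := by
    have := hd o
    have h1 : ((1 : ℕ) : ℂ) = d o := by simpa [o] using this
    exact_mod_cast h1.symm
  have hs : ∀ b : Ω, 1 ≤ Nat.card (MulAction.orbit (MulAction.stabilizer G a) b) := by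
    intro b
    have : Nonempty (MulAction.orbit (MulAction.stabilizer G a) b) :=
      ⟨⟨b, MulAction.mem_orbit_self b⟩⟩
    exact Nat.card_pos
  have hsa : Nat.card (MulAction.orbit (MulAction.stabilizer G a) a) = 1 := by
    have h1 : MulAction.orbit (MulAction.stabilizer G a) a = {a} := by
      ext x
      constructor
      · rintro ⟨g, rfl⟩
        exact g.2
      · intro hx
        rw [Set.mem_singleton_iff] at hx
        rw [hx]
        exact MulAction.mem_orbit_self a
    rw [h1]
    simp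
  have hr' : (∑ i, ((k i : ℚ)) ^ 2) =
      ∑ b : Ω, 1 / (Nat.card (MulAction.orbit (MulAction.stabilizer G a) b) : ℚ) := by
    rw [← card_orbits_eq_sum_inv, hr]
    push_cast
    rfl
  have hf' : ∀ i : Cfsg.IrrCharacter G, i ≠ o → k i ≠ 0 → d i = f := by
    intro i hio hki
    have h1 := hf (i : G → ℂ) i.2 (fun h => hio (Subtype.ext h)) (by
      rw [hk i]
      exact_mod_cast hki)
    rw [hd i] at h1
    exact_mod_cast h1
  have hdiv : ∀ b : Ω, b ≠ a → f ∣ Nat.card (MulAction.orbit (MulAction.stabilizer G a) b) := by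
    intro b hb
    refine dvd_subdegree f ?_ a b hb
    intro χ hχ hχ1 hne
    rw [← hchar] at hne
    exact ⟨1, by rw [hf χ hχ hχ1 hne]; simp⟩
  obtain ⟨hc1, hc2⟩ := counting k d o a
    (fun b => Nat.card (MulAction.orbit (MulAction.stabilizer G a) b)) f hko hdo hd1 hs hsa hn hr'
    hf' hdiv
  refine ⟨?_, hc2⟩
  intro χ hχ
  have h1 := hk ⟨χ, hχ⟩
  have h2 := hc1 ⟨χ, hχ⟩
  simp only at h1
  rw [h1]
  have h3 : k ⟨χ, hχ⟩ = 0 ∨ k ⟨χ, hχ⟩ = 1 := by omega
  rcases h3 with h | h
  · left; rw [h]; simp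
  · right; rw [h]; simp

/-- a transitive group of rank at most 5 has multiplicity-free permutation character -/
theorem multfree_of_rank_le_five (a : Ω)
    (hr5 : Nat.card (MulAction.orbitRel.Quotient (MulAction.stabilizer G a) Ω) ≤ 5) :
    ∀ χ : G → ℂ, Cfsg.IsIrrCharacter G χ →
      Cfsg.classInner (fun g : G => (Nat.card (MulAction.fixedBy Ω g) : ℂ)) χ = 0 ∨
      Cfsg.classInner (fun g : G => (Nat.card (MulAction.fixedBy Ω g) : ℂ)) χ = 1 := by
  classical
  have : Fintype (Cfsg.IrrCharacter G) := Fintype.ofFinite _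
  obtain ⟨k, d, hk, hd, hd1, hn, hr, hk1⟩ := perm_data (G := G) a
  let o : Cfsg.IrrCharacter G := ⟨fun _ => 1, Cfsg.Agent.Lib.Helper78.isIrrCharacter_one⟩
  have hko : k o = 1 := hk1 o rfl
  by_contra hcon
  push Not at hcon
  obtain ⟨χ₀, hχ₀, h0, h1⟩ := hcon
  let c : Cfsg.IrrCharacter G := ⟨χ₀, hχ₀⟩
  have hkc : 2 ≤ k c := by
    have h2 := hk c
    simp only [c] at h2
    rw [h2] at h0 h1
    have h0' : k c ≠ 0 := by exact_mod_cast h0
    have h1' : k c ≠ 1 := by exact_mod_cast h1
    omega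
  have hco : c ≠ o := by
    intro h
    rw [h, hko] at hkc
    omega
  rw [hr] at hr5
  -- two-element bound
  have h2 : k o ^ 2 + k c ^ 2 ≤ ∑ i, k i ^ 2 := by
    have hsub : ({o, c} : Finset (Cfsg.IrrCharacter G)) ⊆ Finset.univ := Finset.subset_univ _
    have := Finset.sum_le_sum_of_subset (f := fun i => k i ^ 2) hsub
    rwa [Finset.sum_pair hco.symm] at this
  have hkc2 : k c = 2 := by
    rw [hko] at h2
    nlinarith
  -- three-element bound
  have h3 : ∀ i, i ≠ o → i ≠ c → k i = 0 := by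
    intro i hio hic
    have hsub : ({o, c, i} : Finset (Cfsg.IrrCharacter G)) ⊆ Finset.univ := Finset.subset_univ _
    have := Finset.sum_le_sum_of_subset (f := fun i => k i ^ 2) hsub
    rw [Finset.sum_insert (by simp [hco.symm, hio.symm]), Finset.sum_pair hic.symm] at this
    rw [hko, hkc2] at this
    by_contra hne
    have : 1 ≤ k i := Nat.pos_of_ne_zero hne
    nlinarith
  -- all nontrivial constituents have degree `d c`
  have hf : ∀ χ : G → ℂ, Cfsg.IsIrrCharacter G χ → χ ≠ (fun _ => 1) →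
      Cfsg.classInner (fun g : G => (Nat.card (MulAction.fixedBy Ω g) : ℂ)) χ ≠ 0 →
      χ 1 = (d c : ℕ) := by
    intro χ hχ hχ1 hne
    have hic : (⟨χ, hχ⟩ : Cfsg.IrrCharacter G) = c := by
      by_contra hic
      have hio : (⟨χ, hχ⟩ : Cfsg.IrrCharacter G) ≠ o := by
        intro h
        exact hχ1 (congrArg Subtype.val h)
      have h4 := h3 _ hio hic
      have h5 := hk ⟨χ, hχ⟩
      simp only at h5
      rw [h5, h4] at hne
      simp at hne
    have h6 := hd c
    have h7 : χ = χ₀ := congrArg Subtype.val hic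
    rw [h7]
    exact h6
  have := (multfree_of_const_degree a (d c) hf).1 χ₀ hχ₀
  rcases this with h | h
  · exact h0 h
  · exact h1 h

end main

end Cfsg.Agent.Lib.Helper12
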