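import Mathlib
import Cfsg.Prelude.Def_Perm
import Cfsg.Agent.S0673

set_option autoImplicit false

/-!
# Transitive groups of prime degree: invariant subspaces of the permutation module in
characteristic `p` (helper12)

Core statements on `ZMod p`: if a group `G'` of permutations of `ZMod p` containing the shift
leaves invariant a subspace `U` of `ZMod p → K` (`char K = p`) with `2 ≤ dim U ≤ p - 2`, then
every element of `G'` is an affine map, and `G'` is solvable.
-/

namespace Cfsg.Agent.Lib.Helper12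

open Polynomial Module
open Cfsg.Agent.S0673 (ev ev_apply Vr mem_Vr finrank_Vr cast_injective)

section core
variable {p : ℕ} [Fact p.Prime] {K : Type*} [Field K] [CharP K p]

/-- invariance of a subspace under a group of permutations of `ZMod p` -/
def Inv (G' : Subgroup (Equiv.Perm (ZMod p))) (U : Submodule K (ZMod p → K)) : Prop :=
  ∀ g ∈ G', ∀ f ∈ U, (fun j => f (g⁻¹ j)) ∈ U

theorem Vr_mono {r r' : ℕ} (h : r ≤ r') :
    (Vr r : Submodule K (ZMod p → K)) ≤ Vr r' := by
  intro f hf
  rw [mem_Vr] at hf ⊢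
  obtain ⟨P, hP, hf⟩ := hf
  exact ⟨P, lt_of_lt_of_le hP (by exact_mod_cast h), hf⟩

theorem ev_mem_Vr (P : K[X]) (r : ℕ) (hP : P.degree < r) :
    (ev P : ZMod p → K) ∈ (Vr r : Submodule K (ZMod p → K)) := by
  rw [mem_Vr]
  exact ⟨P, hP, fun j => rfl⟩

/-- strictness: a polynomial of exact degree `e < p` does not define a function in `Vr e` -/
theorem ev_not_mem_Vr (P : K[X]) (e : ℕ) (hP : P.degree = e) (he : e < p) :
    (ev P : ZMod p → K) ∉ (Vr e : Submodule K (ZMod p → K)) := by
  intro h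
  rw [mem_Vr] at h
  obtain ⟨Q, hQ, hf⟩ := h
  have hdeg : (P - Q).degree = e := by
    rw [degree_sub_eq_left_of_degree_lt (by rw [hP]; exact hQ), hP]
  have hne : P - Q ≠ 0 := by
    intro h0
    rw [h0, degree_zero] at hdeg
    exact absurd hdeg (by simp)
  apply hne
  apply eq_zero_of_natDegree_lt_card_of_eval_eq_zero (P - Q) (cast_injective (p := p) (K := K))
  · intro j
    rw [eval_sub, sub_eq_zero]
    exact hf j
  · rw [ZMod.card, natDegree_eq_of_degree_eq_some hdeg]
    exact he

/-- shift-invariant subspaces are the `Vr` -/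
theorem eq_Vr_of_shift (U : Submodule K (ZMod p → K))
    (hU : ∀ f ∈ U, (fun j => f (j - 1)) ∈ U) : U = Vr (finrank K U) := by
  obtain ⟨r, -, hr, hmem⟩ := Cfsg.Agent.S0673.result U hU
  rw [hr]
  ext f
  rw [hmem, mem_Vr]

theorem shift_inv_apply (j : ZMod p) :
    ((Equiv.addRight (1 : ZMod p))⁻¹ : Equiv.Perm (ZMod p)) j = j - 1 := by
  rw [Equiv.Perm.inv_def, Equiv.symm_apply_eq]
  simp

theorem eq_Vr_of_inv (G' : Subgroup (Equiv.Perm (ZMod p)))
    (hshift : Equiv.addRight (1 : ZMod p) ∈ G') (U : Submodule K (ZMod p → K))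
    (hU : Inv G' U) : U = Vr (finrank K U) := by
  apply eq_Vr_of_shift
  intro f hf
  have := hU _ hshift f hf
  simpa only [shift_inv_apply] using this


/-- the sum functional -/
noncomputable def sumL : (ZMod p → K) →ₗ[K] K where
  toFun f := ∑ j, f j
  map_add' f g := by simp [Finset.sum_add_distrib]
  map_smul' c f := by simp [Finset.mul_sum]

theorem sumL_apply (f : ZMod p → K) : sumL f = ∑ j, f j := rfl

theorem ker_sumL_eq : LinearMap.ker (sumL : (ZMod p → K) →ₗ[K] K) = Vr (p - 1) := by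
  have hinv : ∀ f ∈ LinearMap.ker (sumL : (ZMod p → K) →ₗ[K] K),
      (fun j => f (j - 1)) ∈ LinearMap.ker (sumL : (ZMod p → K) →ₗ[K] K) := by
    intro f hf
    rw [LinearMap.mem_ker, sumL_apply] at hf ⊢
    rw [← hf]
    exact Fintype.sum_equiv (Equiv.subRight 1) _ _ (fun j => rfl)
  have h1 := eq_Vr_of_shift _ hinv
  have hfin : finrank K (LinearMap.ker (sumL : (ZMod p → K) →ₗ[K] K)) = p - 1 := by
    have hrn := LinearMap.finrank_range_add_finrank_ker (sumL : (ZMod p → K) →ₗ[K] K)
    rw [Module.finrank_fintype_fun_eq_card, ZMod.card] at hrn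
    have hr1 : finrank K (LinearMap.range (sumL : (ZMod p → K) →ₗ[K] K)) ≤ 1 := by
      have := Submodule.finrank_le (LinearMap.range (sumL : (ZMod p → K) →ₗ[K] K))
      rwa [Module.finrank_self] at this
    have hlt : finrank K (LinearMap.ker (sumL : (ZMod p → K) →ₗ[K] K)) < p := by
      have hne : LinearMap.ker (sumL : (ZMod p → K) →ₗ[K] K) ≠ ⊤ := by
        intro h
        have hmem : (Pi.single 0 1 : ZMod p → K) ∈
            LinearMap.ker (sumL : (ZMod p → K) →ₗ[K] K) := by rw [h]; trivial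
        rw [LinearMap.mem_ker, sumL_apply] at hmem
        simp at hmem
      have := Submodule.finrank_lt hne
      rwa [Module.finrank_fintype_fun_eq_card, ZMod.card] at this
    omega
  rw [h1, hfin]

theorem sum_ev_eq_zero (P : K[X]) (hP : P.degree < ((p - 1 : ℕ) : WithBot ℕ)) :
    ∑ j : ZMod p, (ev P : ZMod p → K) j = 0 := by
  have : (ev P : ZMod p → K) ∈ LinearMap.ker (sumL : (ZMod p → K) →ₗ[K] K) := by
    rw [ker_sumL_eq]
    exact ev_mem_Vr P _ hP
  exact LinearMap.mem_ker.mp this

theorem sum_ev_X_pow_ne_zero : ∑ j : ZMod p, (ev (X ^ (p - 1) : K[X]) : ZMod p → K) j ≠ 0 := by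
  intro h
  have hmem : (ev (X ^ (p - 1) : K[X]) : ZMod p → K) ∈
      LinearMap.ker (sumL : (ZMod p → K) →ₗ[K] K) := LinearMap.mem_ker.mpr h
  rw [ker_sumL_eq] at hmem
  have hp := (Fact.out : p.Prime).pos
  exact ev_not_mem_Vr (X ^ (p - 1) : K[X]) (p - 1) (degree_X_pow _) (by omega) hmem

/-- the orthogonal complement for the standard form -/
def perp (U : Submodule K (ZMod p → K)) : Submodule K (ZMod p → K) where
  carrier := {f | ∀ u ∈ U, ∑ j, f j * u j = 0}
  add_mem' := by
    intro f g hf hg u hu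
    simp only [Pi.add_apply, add_mul, Finset.sum_add_distrib, hf u hu, hg u hu, add_zero]
  zero_mem' := by
    intro u _
    simp
  smul_mem' := by
    intro c f hf u hu
    simp only [Pi.smul_apply, smul_eq_mul, mul_assoc, ← Finset.mul_sum, hf u hu, mul_zero]

theorem mem_perp (U : Submodule K (ZMod p → K)) (f : ZMod p → K) :
    f ∈ perp U ↔ ∀ u ∈ U, ∑ j, f j * u j = 0 := Iff.rfl

theorem perp_inv (G' : Subgroup (Equiv.Perm (ZMod p))) (U : Submodule K (ZMod p → K))
    (hU : Inv G' U) : Inv G' (perp U) := by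
  intro g hg f hf u hu
  have hu' : (fun j => u ((g⁻¹)⁻¹ j)) ∈ U := hU _ (G'.inv_mem hg) u hu
  have := hf _ hu'
  rw [← this]
  refine Fintype.sum_equiv (g⁻¹ : Equiv.Perm (ZMod p)) _ _ (fun j => ?_)
  simp

theorem finrank_perp (G' : Subgroup (Equiv.Perm (ZMod p)))
    (hshift : Equiv.addRight (1 : ZMod p) ∈ G') (U : Submodule K (ZMod p → K))
    (hU : Inv G' U) (h1 : 1 ≤ finrank K U) (h2 : finrank K U ≤ p - 1) :
    finrank K (perp U) = p - finrank K U := by
  have hp := (Fact.out : p.Prime).pos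
  have hUeq := eq_Vr_of_inv G' hshift U hU
  have hPeq := eq_Vr_of_inv G' hshift (perp U) (perp_inv G' U hU)
  set r := finrank K U with hr
  set r' := finrank K (perp U) with hr'
  have hge : p - r ≤ r' := by
    have hle : (Vr (p - r) : Submodule K (ZMod p → K)) ≤ perp U := by
      intro f hf u hu
      rw [hUeq, mem_Vr] at hu
      rw [mem_Vr] at hf
      obtain ⟨P, hP, hfP⟩ := hf
      obtain ⟨Q, hQ, huQ⟩ := hu
      have hprod : ∀ j, f j * u j = (ev (P * Q) : ZMod p → K) j := by
        intro j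
        rw [hfP j, huQ j, ev_apply, eval_mul]
      rw [Finset.sum_congr rfl (fun j _ => hprod j)]
      apply sum_ev_eq_zero
      by_cases hP0 : P = 0
      · rw [hP0, zero_mul, degree_zero]; exact WithBot.bot_lt_coe _
      by_cases hQ0 : Q = 0
      · rw [hQ0, mul_zero, degree_zero]; exact WithBot.bot_lt_coe _
      have hnP := (natDegree_lt_iff_degree_lt hP0).mpr hP
      have hnQ := (natDegree_lt_iff_degree_lt hQ0).mpr hQ
      rw [← natDegree_lt_iff_degree_lt (mul_ne_zero hP0 hQ0)]
      have := natDegree_mul_le (p := P) (q := Q)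
      omega
    have := Submodule.finrank_mono hle
    rwa [finrank_Vr (p := p) (K := K) (p - r) (by omega), ← hr'] at this
  have hle : r' ≤ p - r := by
    by_contra hlt
    push Not at hlt
    have hm1 : (ev (X ^ (p - r) : K[X]) : ZMod p → K) ∈ perp U := by
      rw [hPeq]
      apply ev_mem_Vr
      rw [degree_X_pow]
      exact_mod_cast hlt
    have hm2 : (ev (X ^ (r - 1) : K[X]) : ZMod p → K) ∈ U := by
      rw [hUeq]
      apply ev_mem_Vr
      rw [degree_X_pow]
      have : r - 1 < r := by omega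
      exact_mod_cast this
    have h0 := hm1 _ hm2
    apply sum_ev_X_pow_ne_zero (p := p) (K := K)
    rw [← h0]
    apply Finset.sum_congr rfl
    intro j _
    rw [ev_apply, ev_apply, ev_apply, ← eval_mul, ← pow_add]
    congr 2
    omega
  omega


/-- the action of a permutation on functions, as a linear map -/
noncomputable def actL (g : Equiv.Perm (ZMod p)) : (ZMod p → K) →ₗ[K] (ZMod p → K) where
  toFun f := fun j => f (g⁻¹ j)
  map_add' _ _ := rfl
  map_smul' _ _ := rfl

theorem actL_apply (g : Equiv.Perm (ZMod p)) (f : ZMod p → K) :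
    actL g f = fun j => f (g⁻¹ j) := rfl

theorem small_case (G' : Subgroup (Equiv.Perm (ZMod p)))
    (hshift : Equiv.addRight (1 : ZMod p) ∈ G') (U : Submodule K (ZMod p → K))
    (hU : Inv G' U) (h2 : 2 ≤ finrank K U) (hsmall : 2 * (finrank K U - 1) ≤ p - 1) :
    ∀ g ∈ G', ∃ a b : ZMod p, ∀ j, g j = a * j + b := by
  have hp := (Fact.out : p.Prime)
  have hp2 : 2 ≤ p := hp.two_le
  have hUeq := eq_Vr_of_inv G' hshift U hU
  have hrp : finrank K U ≤ p := by
    have := Submodule.finrank_le U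
    rwa [Module.finrank_fintype_fun_eq_card, ZMod.card] at this
  set r := finrank K U with hr
  -- the coordinate function
  obtain ⟨x, hx⟩ : ∃ x : ZMod p → K, x = ev (X : K[X]) := ⟨_, rfl⟩
  have hxval : ∀ j, x j = (ZMod.cast j : K) := by
    intro j; rw [hx, ev_apply, eval_X]
  have hxU : x ∈ U := by
    rw [hUeq, hx]
    exact Vr_mono h2 (ev_mem_Vr X 2 (by rw [degree_X]; norm_num))
  -- the span of the translates
  obtain ⟨Xs, hXs⟩ : ∃ Xs : Submodule K (ZMod p → K),
      Xs = Submodule.span K {f | ∃ g ∈ G', f = fun j => x (g⁻¹ j)} := ⟨_, rfl⟩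
  have hXsInv : Inv G' Xs := by
    intro h hh f hf
    have hmap : Xs.map (actL h) ≤ Xs := by
      rw [hXs, Submodule.map_span, Submodule.span_le]
      rintro _ ⟨_, ⟨g, hg, rfl⟩, rfl⟩
      apply Submodule.subset_span
      refine ⟨h * g, G'.mul_mem hh hg, ?_⟩
      funext j
      simp [actL_apply, mul_inv_rev]
    exact hmap (Submodule.mem_map_of_mem hf)
  have hXsU : Xs ≤ U := by
    rw [hXs, Submodule.span_le]
    rintro _ ⟨g, hg, rfl⟩
    exact hU g hg x hxU
  have hXsEq := eq_Vr_of_inv G' hshift Xs hXsInv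
  have he1r : finrank K Xs ≤ r := Submodule.finrank_mono hXsU
  set e1 := finrank K Xs with he1
  have hxXs : x ∈ Xs := by
    rw [hXs]
    exact Submodule.subset_span ⟨1, G'.one_mem, by funext j; simp⟩
  have he1_2 : 2 ≤ e1 := by
    by_contra hlt
    push Not at hlt
    have hx1 : x ∈ (Vr 1 : Submodule K (ZMod p → K)) := by
      have : x ∈ (Vr e1 : Submodule K (ZMod p → K)) := by rw [← hXsEq]; exact hxXs
      exact Vr_mono (by omega) this
    rw [hx] at hx1
    exact ev_not_mem_Vr X 1 degree_X (by omega) hx1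
  -- e1 = 2
  have he1_eq : e1 = 2 := by
    by_contra hne
    have h3 : 3 ≤ e1 := by omega
    obtain ⟨g, hg, hgnot⟩ : ∃ g ∈ G',
        (fun j => x (g⁻¹ j)) ∉ (Vr (e1 - 1) : Submodule K (ZMod p → K)) := by
      by_contra hall
      push Not at hall
      have hle : Xs ≤ Vr (e1 - 1) := by
        rw [hXs, Submodule.span_le]
        rintro _ ⟨g, hg, rfl⟩
        exact hall g hg
      have := Submodule.finrank_mono hle
      rw [finrank_Vr (p := p) (K := K) (e1 - 1) (by omega)] at this
      omega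
    have hgXs : (fun j => x (g⁻¹ j)) ∈ Xs := by
      rw [hXs]; exact Submodule.subset_span ⟨g, hg, rfl⟩
    rw [hXsEq, mem_Vr] at hgXs
    obtain ⟨P, hPdeg, hPf⟩ := hgXs
    have hP0 : P ≠ 0 := by
      rintro rfl
      apply hgnot
      have : (fun j => x (g⁻¹ j)) = 0 := by
        funext j
        have := hPf j
        simpa using this
      rw [this]; exact Submodule.zero_mem _
    have hPn : P.natDegree = e1 - 1 := by
      have h1 := (natDegree_lt_iff_degree_lt hP0).mpr hPdeg
      by_contra hne'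
      have h2' : P.natDegree < e1 - 1 := by omega
      apply hgnot
      rw [mem_Vr]
      exact ⟨P, (natDegree_lt_iff_degree_lt hP0).mp h2', hPf⟩
    have hx2 : (ev (X ^ 2 : K[X]) : ZMod p → K) ∈ Xs := by
      rw [hXsEq]
      apply ev_mem_Vr
      rw [degree_X_pow]
      exact_mod_cast (by omega : 2 < e1)
    have hsq := hXsInv g hg _ hx2
    have hsq' : (fun j => (ev (X ^ 2 : K[X]) : ZMod p → K) (g⁻¹ j)) = ev (P * P) := by
      funext j
      have h1 := hPf j
      rw [hxval] at h1
      rw [ev_apply, eval_pow, eval_X, ev_apply, eval_mul, ← h1, pow_two]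
    rw [hsq', hXsEq] at hsq
    have hdeg : (P * P).degree = ((2 * (e1 - 1) : ℕ) : WithBot ℕ) := by
      rw [degree_eq_natDegree (mul_ne_zero hP0 hP0), natDegree_mul hP0 hP0, hPn]
      congr 1
      ring
    have hlt : 2 * (e1 - 1) < p := by omega
    exact ev_not_mem_Vr (P * P) _ hdeg hlt (Vr_mono (by omega : e1 ≤ 2 * (e1 - 1)) hsq)
  -- conclusion
  intro g hg
  have hgXs : (fun j => x ((g⁻¹)⁻¹ j)) ∈ Xs := by
    rw [hXs]; exact Submodule.subset_span ⟨g⁻¹, G'.inv_mem hg, rfl⟩
  rw [hXsEq, he1_eq, mem_Vr] at hgXs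
  obtain ⟨P, hPdeg, hPf⟩ := hgXs
  have hP1 : P.degree ≤ 1 := by
    by_cases hP0 : P = 0
    · rw [hP0, degree_zero]; exact bot_le
    · have h1 := (natDegree_lt_iff_degree_lt hP0).mpr hPdeg
      have h1' : P.natDegree ≤ 1 := by omega
      have : P.degree ≤ ((1 : ℕ) : WithBot ℕ) := degree_le_of_natDegree_le h1'
      exact_mod_cast this
  have hPform := eq_X_add_C_of_degree_le_one hP1
  obtain ⟨c, hc⟩ : ∃ c : ZMod p →+* K, ∀ z : ZMod p, c z = (ZMod.cast z : K) :=
    ⟨ZMod.castHom (dvd_refl p) K, fun z => rfl⟩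
  have hval : ∀ j : ZMod p, c (g j) = P.coeff 1 * c j + P.coeff 0 := by
    intro j
    have h1 := hPf j
    simp only [inv_inv] at h1
    rw [hxval] at h1
    rw [hc, hc, h1]
    conv_lhs => rw [hPform]
    simp
  refine ⟨g 1 - g 0, g 0, fun j => ?_⟩
  apply cast_injective (p := p) (K := K)
  have h0 := hval 0
  have h1 := hval 1
  have hj := hval j
  have hc0 : c 0 = 0 := map_zero c
  have hc1 : c 1 = 1 := map_one c
  rw [hc0] at h0
  rw [hc1] at h1
  rw [← hc, ← hc, map_add c, map_mul c, map_sub c, hj]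
  linear_combination (c j) * (h0 - h1) - h0

theorem affine_of_invariant (G' : Subgroup (Equiv.Perm (ZMod p)))
    (hshift : Equiv.addRight (1 : ZMod p) ∈ G') (U : Submodule K (ZMod p → K))
    (hU : Inv G' U) (h2 : 2 ≤ finrank K U) (hp2 : finrank K U + 2 ≤ p) :
    ∀ g ∈ G', ∃ a b : ZMod p, ∀ j, g j = a * j + b := by
  by_cases hsmall : 2 * (finrank K U - 1) ≤ p - 1
  · exact small_case G' hshift U hU h2 hsmall
  · have hperp := finrank_perp G' hshift U hU (by omega) (by omega)
    apply small_case G' hshift (perp U) (perp_inv G' U hU)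
    · rw [hperp]; omega
    · rw [hperp]; omega

end core


section affine
variable {R : Type*} [CommRing R]

open scoped commutatorElement

theorem perm_apply_inv_self {β : Type*} (f : Equiv.Perm β) (x : β) : f (f⁻¹ x) = x := by
  rw [Equiv.Perm.inv_def, Equiv.apply_symm_apply]

/-- a group of affine permutations of a commutative ring is solvable -/
theorem solvable_of_affine (G' : Subgroup (Equiv.Perm R))
    (h : ∀ g ∈ G', ∃ a b : R, ∀ j, g j = a * j + b) : Group.IsSolvable G' := by
  let T : Subgroup G' :=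
    { carrier := {g | ∃ b : R, ∀ j, (g : Equiv.Perm R) j = j + b}
      one_mem' := ⟨0, fun j => by simp⟩
      mul_mem' := by
        rintro s t ⟨bs, hs⟩ ⟨bt, ht⟩
        refine ⟨bt + bs, fun j => ?_⟩
        rw [Subgroup.coe_mul, Equiv.Perm.mul_apply, ht, hs, add_assoc]
      inv_mem' := by
        rintro s ⟨bs, hs⟩
        refine ⟨-bs, fun j => ?_⟩
        rw [Subgroup.coe_inv]
        apply (s : Equiv.Perm R).injective
        rw [perm_apply_inv_self, hs]
        ring }
  have hTmem : ∀ g : G', g ∈ T ↔ ∃ b : R, ∀ j, (g : Equiv.Perm R) j = j + b := fun g => Iff.rfl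
  have hcomm : ∀ g k : G', ⁅g, k⁆ ∈ T := by
    intro g k
    obtain ⟨a, b, hg⟩ := h g g.2
    obtain ⟨c, d, hk⟩ := h k k.2
    rw [hTmem]
    refine ⟨a * d + b - c * b - d, fun j => ?_⟩
    rw [commutatorElement_def, Subgroup.coe_mul, Subgroup.coe_mul, Subgroup.coe_mul,
      Subgroup.coe_inv, Subgroup.coe_inv, Equiv.Perm.mul_apply, Equiv.Perm.mul_apply,
      Equiv.Perm.mul_apply]
    obtain ⟨y, hy⟩ : ∃ y, y = (k : Equiv.Perm R)⁻¹ j := ⟨_, rfl⟩
    obtain ⟨z, hz⟩ : ∃ z, z = (g : Equiv.Perm R)⁻¹ y := ⟨_, rfl⟩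
    have hky : (k : Equiv.Perm R) y = j := by rw [hy, perm_apply_inv_self]
    have hgz : (g : Equiv.Perm R) z = y := by rw [hz, perm_apply_inv_self]
    rw [← hy, ← hz, hk, hg]
    rw [hk, ← hgz, hg] at hky
    rw [← hky]
    ring
  have hT : ∀ s t : G', s ∈ T → t ∈ T → ⁅s, t⁆ = 1 := by
    intro s t hs ht
    obtain ⟨bs, hs⟩ := (hTmem s).mp hs
    obtain ⟨bt, ht⟩ := (hTmem t).mp ht
    rw [commutatorElement_def]
    have hst : s * t = t * s := by
      apply Subtype.ext
      ext j
      rw [Subgroup.coe_mul, Subgroup.coe_mul, Equiv.Perm.mul_apply, Equiv.Perm.mul_apply,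
        hs, ht, hs, ht]
      ring
    rw [hst, mul_assoc, mul_assoc, ← mul_assoc s, mul_inv_cancel, one_mul, mul_inv_cancel]
  rw [Group.isSolvable_def]
  refine ⟨2, ?_⟩
  have h1 : derivedSeries G' 1 ≤ T := by
    rw [derivedSeries_succ, derivedSeries_zero, Subgroup.commutator_le]
    intro g _ k _
    exact hcomm g k
  rw [derivedSeries_succ, eq_bot_iff, Subgroup.commutator_le]
  intro s hs t ht
  rw [Subgroup.mem_bot]
  exact hT s t (h1 hs) (h1 ht)

end affine

section transport
variable {α : Type*} [Fintype α] [DecidableEq α] {p : ℕ} [Fact p.Prime]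

/-- a transitive group of prime degree contains a `p`-cycle, which parametrises the points -/
theorem exists_cycle_param (hα : Fintype.card α = p) (G : Subgroup (Equiv.Perm α))
    [MulAction.IsPretransitive G α] :
    ∃ (σ : G) (ι : ZMod p ≃ α), ∀ j, ι (j + 1) = (σ : Equiv.Perm α) (ι j) := by
  have hp := (Fact.out : p.Prime)
  have hne : Nonempty α := by
    rw [← Fintype.card_pos_iff, hα]; exact hp.pos
  obtain ⟨a0⟩ := hne
  have hdvd : p ∣ Nat.card G := by
    have h1 := MulAction.index_stabilizer_of_transitive G a0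
    rw [Nat.card_eq_fintype_card, hα] at h1
    rw [← h1]
    exact Subgroup.index_dvd_card _
  obtain ⟨σ, hσ⟩ := exists_prime_orderOf_dvd_card' p hdvd
  obtain ⟨s, hs⟩ : ∃ s : Equiv.Perm α, s = (σ : Equiv.Perm α) := ⟨_, rfl⟩
  have hords : orderOf s = p := by rw [hs, Subgroup.orderOf_coe, hσ]
  -- cycle type
  obtain ⟨n, hn⟩ := Equiv.Perm.cycleType_prime_order (σ := s) (by rw [hords]; exact hp)
  have hsum : s.cycleType.sum ≤ p := by
    rw [Equiv.Perm.sum_cycleType, ← hα]
    exact Finset.card_le_univ _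
  have hn0 : n = 0 := by
    rw [hn, hords] at hsum
    simp only [Multiset.sum_replicate, smul_eq_mul] at hsum
    have := hp.pos
    nlinarith
  have hct : s.cycleType = {p} := by
    rw [hn, hn0, hords]; rfl
  have hcyc : s.IsCycle := by
    rw [← Equiv.Perm.card_cycleType_eq_one, hct]; rfl
  have hsupp : s.support = Finset.univ := by
    apply Finset.eq_univ_of_card
    rw [← Equiv.Perm.sum_cycleType, hct, hα]; rfl
  have hmoved : ∀ y : α, s y ≠ y := by
    intro y
    rw [← Equiv.Perm.mem_support, hsupp]; exact Finset.mem_univ y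
  -- the parametrisation
  let ι0 : ZMod p → α := fun j => (s ^ j.val) a0
  have hstep : ∀ j : ZMod p, ι0 (j + 1) = s (ι0 j) := by
    intro j
    change (s ^ (j + 1).val) a0 = s ((s ^ j.val) a0)
    rw [← Equiv.Perm.mul_apply, ← pow_succ']
    have : s ^ (j + 1).val = s ^ (j.val + 1) := by
      rw [pow_eq_pow_iff_modEq, hords, ← ZMod.natCast_eq_natCast_iff]
      simp
    rw [this]
  have hsurj : Function.Surjective ι0 := by
    intro y
    obtain ⟨i, hi⟩ := hcyc.exists_pow_eq (hmoved a0) (hmoved y)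
    refine ⟨(i : ZMod p), ?_⟩
    change (s ^ ((i : ZMod p)).val) a0 = y
    rw [ZMod.val_natCast, ← hords, pow_mod_orderOf]
    exact hi
  have hbij : Function.Bijective ι0 := by
    rw [Fintype.bijective_iff_surjective_and_card]
    exact ⟨hsurj, by rw [ZMod.card, hα]⟩
  refine ⟨σ, Equiv.ofBijective ι0 hbij, fun j => ?_⟩
  rw [Equiv.ofBijective_apply, Equiv.ofBijective_apply, ← hs]
  exact hstep j

variable {K : Type*} [Field K] [CharP K p]

/-- a transitive group of prime degree `p` with a proper invariant subspace of dimension between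
`2` and `p - 2` in the permutation module (characteristic `p`) is solvable -/
theorem solvable_of_invariant (hα : Fintype.card α = p) (G : Subgroup (Equiv.Perm α))
    [MulAction.IsPretransitive G α] (W : Submodule K (α → K))
    (hW : ∀ g : G, ∀ f ∈ W, Cfsg.permRep K G α g f ∈ W)
    (h2 : 2 ≤ finrank K W) (hp2 : finrank K W + 2 ≤ p) : Group.IsSolvable G := by
  obtain ⟨σ, ι, hι⟩ := exists_cycle_param hα G
  let c : Equiv.Perm α ≃* Equiv.Perm (ZMod p) := ι.symm.permCongrHom
  have hc : ∀ (π : Equiv.Perm α) (j : ZMod p), c π j = ι.symm (π (ι j)) := by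
    intro π j
    rfl
  let G' : Subgroup (Equiv.Perm (ZMod p)) := G.map (c : Equiv.Perm α →* Equiv.Perm (ZMod p))
  have hshift : Equiv.addRight (1 : ZMod p) ∈ G' := by
    refine ⟨(σ : Equiv.Perm α), σ.2, ?_⟩
    ext j
    change c (σ : Equiv.Perm α) j = _
    rw [hc, ← hι, Equiv.symm_apply_apply]
    rfl
  let L : (α → K) ≃ₗ[K] (ZMod p → K) := LinearEquiv.funCongrLeft K K ι
  have hL : ∀ (f : α → K) (j : ZMod p), L f j = f (ι j) := fun f j => rfl
  let U : Submodule K (ZMod p → K) := W.map L.toLinearMap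
  have hUinv : Inv G' U := by
    rintro _ ⟨g, hg, rfl⟩ _ ⟨f, hf, rfl⟩
    refine ⟨Cfsg.permRep K G α ⟨g, hg⟩ f, hW ⟨g, hg⟩ f hf, ?_⟩
    funext j
    change f ((⟨g, hg⟩ : G)⁻¹ • ι j) = f (ι ((c g)⁻¹ j))
    congr 1
    rw [← map_inv, hc, Equiv.apply_symm_apply]
    rfl
  have hfin : finrank K U = finrank K W := LinearEquiv.finrank_map_eq L W
  have haff := affine_of_invariant G' hshift U hUinv (by rw [hfin]; exact h2)
    (by rw [hfin]; exact hp2)
  haveI hsolv' : Group.IsSolvable (G.map (c : Equiv.Perm α →* Equiv.Perm (ZMod p))) :=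
    solvable_of_affine G' haff
  exact Group.isSolvable_of_isSolvable_injective (f := (c.subgroupMap G).toMonoidHom)
    (c.subgroupMap G).injective

end transport

end Cfsg.Agent.Lib.Helper12
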