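import Mathlib

set_option autoImplicit false

/-!
# Transitive groups of prime degree: parametrisation by a given `p`-cycle, and the action of an
involution normalising it (helper12)
-/

namespace Cfsg.Agent.Lib.Helper12

section
variable {α : Type*} [Fintype α] [DecidableEq α] {p : ℕ} [Fact p.Prime]

/-- a permutation of order `p` of a set with `p` elements parametrises the points -/
theorem cycle_param (hα : Fintype.card α = p) (s : Equiv.Perm α) (hords : orderOf s = p) :
    ∃ ι : ZMod p ≃ α, ∀ j, ι (j + 1) = s (ι j) := by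
  have hp := (Fact.out : p.Prime)
  have hne : Nonempty α := by
    rw [← Fintype.card_pos_iff, hα]; exact hp.pos
  obtain ⟨a0⟩ := hne
  obtain ⟨n, hn⟩ := Equiv.Perm.cycleType_prime_order (σ := s) (by rw [hords]; exact hp)
  have hsum : s.cycleType.sum ≤ p := by
    rw [Equiv.Perm.sum_cycleType, ← hα]
    exact Finset.card_le_univ _
  have hn0 : n = 0 := by
    rw [hn, hords] at hsum
    simp only [Multiset.sum_replicate, smul_eq_mul] at hsum
    have := hp.pos
    nlinarith
  have hct : s.cycleType = {p} := by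
    rw [hn, hn0, hords]; rfl
  have hcyc : s.IsCycle := by
    rw [← Equiv.Perm.card_cycleType_eq_one, hct]; rfl
  have hsupp : s.support = Finset.univ := by
    apply Finset.eq_univ_of_card
    rw [← Equiv.Perm.sum_cycleType, hct, hα]; rfl
  have hmoved : ∀ y : α, s y ≠ y := by
    intro y
    rw [← Equiv.Perm.mem_support, hsupp]; exact Finset.mem_univ y
  let ι0 : ZMod p → α := fun j => (s ^ j.val) a0
  have hstep : ∀ j : ZMod p, ι0 (j + 1) = s (ι0 j) := by
    intro j
    change (s ^ (j + 1).val) a0 = s ((s ^ j.val) a0)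
    rw [← Equiv.Perm.mul_apply, ← pow_succ']
    have : s ^ (j + 1).val = s ^ (j.val + 1) := by
      rw [pow_eq_pow_iff_modEq, hords, ← ZMod.natCast_eq_natCast_iff]
      simp
    rw [this]
  have hsurj : Function.Surjective ι0 := by
    intro y
    obtain ⟨i, hi⟩ := hcyc.exists_pow_eq (hmoved a0) (hmoved y)
    refine ⟨(i : ZMod p), ?_⟩
    change (s ^ ((i : ZMod p)).val) a0 = y
    rw [ZMod.val_natCast, ← hords, pow_mod_orderOf]
    exact hi
  have hbij : Function.Bijective ι0 := by
    rw [Fintype.bijective_iff_surjective_and_card]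
    exact ⟨hsurj, by rw [ZMod.card, hα]⟩
  refine ⟨Equiv.ofBijective ι0 hbij, fun j => ?_⟩
  rw [Equiv.ofBijective_apply, Equiv.ofBijective_apply]
  exact hstep j

theorem cycle_param_pow (s : Equiv.Perm α) (ι : ZMod p ≃ α) (hι : ∀ j, ι (j + 1) = s (ι j))
    (n : ℕ) (j : ZMod p) : (s ^ n) (ι j) = ι (j + n) := by
  induction n with
  | zero => simp
  | succ n ih =>
    rw [pow_succ', Equiv.Perm.mul_apply, ih, ← hι]
    congr 1
    push_cast
    ring

/-- an involution normalising the `p`-cycle acts as `j ↦ -j + c` -/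
theorem involution_normalizing (hp2 : p ≠ 2) (s t : Equiv.Perm α) (ι : ZMod p ≃ α)
    (hι : ∀ j, ι (j + 1) = s (ι j)) (ht2 : t * t = 1) (ht1 : t ≠ 1) (k : ℕ)
    (hk : t * s = s ^ k * t) : ∃ c : ZMod p, ∀ j, t (ι j) = ι (-j + c) := by
  have hp := (Fact.out : p.Prime)
  obtain ⟨τ, hτ⟩ : ∃ τ : ZMod p → ZMod p, ∀ j, τ j = ι.symm (t (ι j)) := ⟨_, fun _ => rfl⟩
  have hτ' : ∀ j, t (ι j) = ι (τ j) := by
    intro j; rw [hτ, Equiv.apply_symm_apply]
  have hstep : ∀ j, τ (j + 1) = τ j + k := by
    intro j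
    apply ι.injective
    rw [← hτ', hι, ← Equiv.Perm.mul_apply, hk, Equiv.Perm.mul_apply, hτ',
      cycle_param_pow s ι hι]
  have hnat : ∀ n : ℕ, τ (n : ZMod p) = (k : ZMod p) * n + τ 0 := by
    intro n
    induction n with
    | zero => simp
    | succ n ih =>
      push_cast
      rw [hstep, ih]
      ring
  have hall : ∀ j : ZMod p, τ j = (k : ZMod p) * j + τ 0 := by
    intro j
    have := hnat j.val
    rwa [ZMod.natCast_zmod_val] at this
  have hinv : ∀ j, τ (τ j) = j := by
    intro j
    apply ι.injective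
    rw [← hτ', ← hτ', ← Equiv.Perm.mul_apply, ht2, Equiv.Perm.one_apply]
  obtain ⟨m, hm⟩ : ∃ m : ZMod p, m = (k : ZMod p) := ⟨_, rfl⟩
  obtain ⟨c, hc⟩ : ∃ c : ZMod p, c = τ 0 := ⟨_, rfl⟩
  rw [← hm, ← hc] at hall
  have h0 := hinv 0
  have h1 := hinv 1
  rw [hall 0, hall] at h0
  rw [hall 1, hall] at h1
  have hm2 : (m - 1) * (m + 1) = 0 := by linear_combination h1 - h0
  have h2ne : (2 : ZMod p) ≠ 0 := by
    intro h2
    have : ((2 : ℕ) : ZMod p) = 0 := by exact_mod_cast h2
    rw [ZMod.natCast_eq_zero_iff] at this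
    have := (Nat.prime_dvd_prime_iff_eq hp Nat.prime_two).mp this
    exact hp2 this
  rcases mul_eq_zero.mp hm2 with hm1 | hm1
  · exfalso
    have hm1' : m = 1 := by linear_combination hm1
    rw [hm1'] at h0 hall
    have hc0 : c = 0 := by
      have h2c : (2 : ZMod p) * c = 0 := by linear_combination h0
      rcases mul_eq_zero.mp h2c with h | h
      · exact absurd h h2ne
      · exact h
    apply ht1
    ext a
    obtain ⟨j, rfl⟩ := ι.surjective a
    rw [hτ', hall, hc0]
    simp
  · refine ⟨c, fun j => ?_⟩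
    have hm1' : m = -1 := by linear_combination hm1
    rw [hτ', hall, hm1']
    congr 1
    ring

end

end Cfsg.Agent.Lib.Helper12
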