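import Mathlib
import Cfsg.Agent.Lib.Helper12.PrimeDegree2

/-!
# Transitive groups of prime degree: the Sylow `p`-subgroup and an involution normalising it
-/

set_option autoImplicit false

namespace Cfsg.Agent.Lib.Helper12

open MulAction

variable {α : Type*} [Fintype α] [DecidableEq α] {p : ℕ} [Fact p.Prime]

omit [DecidableEq α] [Fact p.Prime] in
theorem card_eq_mul_card_stabilizer (hα : Fintype.card α = p) (G : Subgroup (Equiv.Perm α))
    [MulAction.IsPretransitive G α] (a : α) : Nat.card G = p * Nat.card (stabilizer G a) := by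
  have h1 := MulAction.index_stabilizer_of_transitive G a
  have h2 := (stabilizer G a).card_mul_index
  have hα' : Nat.card α = p := by rw [Nat.card_eq_fintype_card, hα]
  rw [h1, hα'] at h2
  rw [← h2, mul_comm]

theorem not_dvd_card_stabilizer (hα : Fintype.card α = p) (G : Subgroup (Equiv.Perm α))
    [MulAction.IsPretransitive G α] (a : α) : ¬ p ∣ Nat.card (stabilizer G a) := by
  have hp := (Fact.out : p.Prime)
  have hdvd : Nat.card G ∣ (p).factorial := by
    have := Subgroup.card_subgroup_dvd_card G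
    rwa [Nat.card_eq_fintype_card (α := Equiv.Perm α), Fintype.card_perm, hα] at this
  intro hd
  rw [card_eq_mul_card_stabilizer hα G a] at hdvd
  have h1 : p * Nat.card (stabilizer G a) ∣ p * (p - 1).factorial := by
    rwa [Nat.mul_factorial_pred hp.pos.ne']
  have h2 := (Nat.mul_dvd_mul_iff_left hp.pos).mp h1
  have h3 := hd.trans h2
  rw [hp.dvd_factorial] at h3
  have := hp.pos
  omega

theorem card_sylow_eq (hα : Fintype.card α = p) (G : Subgroup (Equiv.Perm α))
    [MulAction.IsPretransitive G α] (P : Sylow p G) : Nat.card P = p := by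
  have hp := (Fact.out : p.Prime)
  obtain ⟨a00⟩ : Nonempty α := by
    rw [← Fintype.card_pos_iff, hα]; exact hp.pos
  rw [Sylow.card_eq_multiplicity, card_eq_mul_card_stabilizer hα G a00]
  have hm0 : Nat.card (stabilizer G a00) ≠ 0 := Nat.card_pos.ne'
  rw [Nat.factorization_mul hp.ne_zero hm0, Finsupp.add_apply, hp.factorization_self,
    Nat.factorization_eq_zero_of_not_dvd (not_dvd_card_stabilizer hα G a00), pow_one]

/-- generator of the Sylow `p`-subgroup, an involution normalising it, and coordinates in which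
they act as `j ↦ j + 1` and `j ↦ -j + c` -/
theorem sylow_setup (hα : Fintype.card α = p) (hp2 : p ≠ 2) (G : Subgroup (Equiv.Perm α))
    [MulAction.IsPretransitive G α] (P : Sylow p G)
    (heven : Even (Nat.card (Subgroup.normalizer ((P : Subgroup G) : Set G)))) :
    ∃ (σ t : G) (ι : ZMod p ≃ α) (c : ZMod p), orderOf σ = p ∧
      (∀ j, ι (j + 1) = σ • ι j) ∧ (∀ j, t • ι j = ι (-j + c)) := by
  classical
  have hp := (Fact.out : p.Prime)
  have hPcard : Nat.card P = p := card_sylow_eq hα G P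
  have : IsCyclic P := isCyclic_of_prime_card hPcard
  obtain ⟨gP, hgP⟩ := IsCyclic.exists_generator (α := P)
  have hordg : orderOf gP = p := by
    rw [orderOf_eq_card_of_forall_mem_zpowers hgP, hPcard]
  obtain ⟨σG, hσG⟩ : ∃ σG : G, σG = (gP : G) := ⟨_, rfl⟩
  obtain ⟨s, hs⟩ : ∃ s : Equiv.Perm α, s = (σG : Equiv.Perm α) := ⟨_, rfl⟩
  have hordσ : orderOf σG = p := by
    rw [hσG, Subgroup.orderOf_coe, hordg]
  have hords : orderOf s = p := by
    rw [hs, Subgroup.orderOf_coe, hordσ]
  obtain ⟨ι, hι⟩ := cycle_param hα s hords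
  have : Fact (Nat.Prime 2) := ⟨Nat.prime_two⟩
  obtain ⟨tN, htN⟩ := exists_prime_orderOf_dvd_card'
    (G := Subgroup.normalizer ((P : Subgroup G) : Set G)) 2 heven.two_dvd
  obtain ⟨tG, htG⟩ : ∃ tG : G, tG = (tN : G) := ⟨_, rfl⟩
  have htG2 : tG * tG = 1 := by
    have := pow_orderOf_eq_one tN
    rw [htN, pow_two] at this
    rw [htG]
    exact congrArg Subtype.val this
  have htG1 : tG ≠ 1 := by
    intro h1
    have : tN = 1 := Subtype.ext (by rw [← htG, h1]; rfl)
    rw [this, orderOf_one] at htN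
    omega
  obtain ⟨k, hk⟩ : ∃ k : ℕ, tG * σG = σG ^ k * tG := by
    have hmemN : tG ∈ Subgroup.normalizer ((P : Subgroup G) : Set G) := by
      rw [htG]; exact tN.2
    have hconj : tG * σG * tG⁻¹ ∈ (P : Subgroup G) := by
      rw [Subgroup.mem_normalizer_iff] at hmemN
      exact (hmemN σG).mp (by rw [hσG]; exact gP.2)
    have hz : (⟨tG * σG * tG⁻¹, hconj⟩ : P) ∈ Subgroup.zpowers gP := hgP _
    have hfo : IsOfFinOrder gP := isOfFinOrder_of_finite gP
    rw [← hfo.mem_powers_iff_mem_zpowers, Submonoid.mem_powers_iff] at hz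
    obtain ⟨k, hk⟩ := hz
    refine ⟨k, ?_⟩
    have hk' := congrArg (fun z : P => (z : G)) hk
    simp only [Subgroup.coe_pow] at hk'
    rw [← hσG] at hk'
    rw [hk']
    group
  obtain ⟨tP, htP⟩ : ∃ tP : Equiv.Perm α, tP = (tG : Equiv.Perm α) := ⟨_, rfl⟩
  have htP2 : tP * tP = 1 := by
    rw [htP, ← Subgroup.coe_mul, htG2]; rfl
  have htP1 : tP ≠ 1 := by
    intro h1
    apply htG1
    apply Subtype.ext
    rw [← htP, h1]; rfl
  have hkP : tP * s = s ^ k * tP := by
    rw [htP, hs, ← Subgroup.coe_mul, hk]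
    rfl
  obtain ⟨c, hc⟩ := involution_normalizing hp2 s tP ι hι htP2 htP1 k hkP
  refine ⟨σG, tG, ι, c, hordσ, ?_, ?_⟩
  · intro j
    rw [hι, hs]; rfl
  · intro j
    rw [← hc, htP]; rfl

end Cfsg.Agent.Lib.Helper12
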