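import Mathlib
import Cfsg.Agent.Lib.Helper12.PrimeDegree3

/-!
# Transitive groups of prime degree: the normaliser of the Sylow `p`-subgroup
-/

set_option autoImplicit false

namespace Cfsg.Agent.Lib.Helper12

open MulAction

variable {α : Type*} [Fintype α] [DecidableEq α] {p : ℕ} [Fact p.Prime]

/-- the normaliser of a Sylow `p`-subgroup of a transitive group of prime degree `p` has order
dividing `p * (p - 1)` -/
theorem card_normalizer_dvd (hα : Fintype.card α = p) (G : Subgroup (Equiv.Perm α))
    [MulAction.IsPretransitive G α] (P : Sylow p G) :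
    Nat.card (Subgroup.normalizer ((P : Subgroup G) : Set G)) ∣ p * (p - 1) := by
  classical
  have hp := (Fact.out : p.Prime)
  have hPcard := card_sylow_eq hα G P
  have : IsCyclic P := isCyclic_of_prime_card hPcard
  obtain ⟨σ, hσ⟩ := IsCyclic.exists_generator (α := P)
  have hord : orderOf σ = p := by
    rw [orderOf_eq_card_of_forall_mem_zpowers hσ, hPcard]
  obtain ⟨s, hs⟩ : ∃ s : Equiv.Perm α, s = ((σ : G) : Equiv.Perm α) := ⟨_, rfl⟩
  have hords : orderOf s = p := by
    rw [hs, Subgroup.orderOf_coe, Subgroup.orderOf_coe, hord]
  obtain ⟨n, hn⟩ := Equiv.Perm.cycleType_prime_order (σ := s) (by rw [hords]; exact hp)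
  have hsum : s.cycleType.sum ≤ p := by
    rw [Equiv.Perm.sum_cycleType, ← hα]
    exact Finset.card_le_univ _
  have hn0 : n = 0 := by
    rw [hn, hords, Multiset.sum_replicate, smul_eq_mul] at hsum
    have : (n + 1) * p ≤ 1 * p := by rw [one_mul]; exact hsum
    have := Nat.le_of_mul_le_mul_right this hp.pos
    omega
  have hct : s.cycleType = {p} := by
    rw [hn, hn0, hords]; rfl
  have hcent : Nat.card (Subgroup.centralizer {s}) = p := by
    rw [Equiv.Perm.nat_card_centralizer, hct, hα]
    simp
  have hCdvd : Nat.card (Subgroup.centralizer ((P : Subgroup G) : Set G)) ∣ p := by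
    have hle : (Subgroup.centralizer ((P : Subgroup G) : Set G)).map G.subtype ≤
        Subgroup.centralizer {s} := by
      rintro _ ⟨g, hg, rfl⟩
      rw [Subgroup.mem_centralizer_iff]
      intro h hh
      rw [Set.mem_singleton_iff] at hh
      subst hh
      have := hg (σ : G) σ.2
      rw [hs]
      exact congrArg Subtype.val this
    have := Subgroup.card_dvd_of_le hle
    rwa [Subgroup.card_map_of_injective G.subtype_injective, hcent] at this
  have key := Subgroup.card_dvd_of_injective _
    (QuotientGroup.kerLift_injective (P : Subgroup G).normalizerMonoidHom)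
  rw [Subgroup.normalizerMonoidHom_ker, ← Subgroup.index, IsCyclic.card_mulAut, hPcard,
    Nat.totient_prime hp] at key
  have hN := Subgroup.card_mul_index
    ((Subgroup.centralizer ((P : Subgroup G) : Set G)).subgroupOf
      (Subgroup.normalizer ((P : Subgroup G) : Set G)))
  have hCN : Nat.card ((Subgroup.centralizer ((P : Subgroup G) : Set G)).subgroupOf
      (Subgroup.normalizer ((P : Subgroup G) : Set G))) =
      Nat.card (Subgroup.centralizer ((P : Subgroup G) : Set G)) :=
    Nat.card_congr (Subgroup.subgroupOfEquivOfLe (Subgroup.centralizer_le_normalizer _)).toEquiv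
  rw [hCN] at hN
  rw [← hN]
  exact Nat.mul_dvd_mul hCdvd key

/-- `p` divides the order of the normaliser of a Sylow `p`-subgroup -/
theorem dvd_card_normalizer (hα : Fintype.card α = p) (G : Subgroup (Equiv.Perm α))
    [MulAction.IsPretransitive G α] (P : Sylow p G) :
    p ∣ Nat.card (Subgroup.normalizer ((P : Subgroup G) : Set G)) := by
  have hPcard := card_sylow_eq hα G P
  have := Subgroup.card_dvd_of_le (Subgroup.le_normalizer (H := (P : Subgroup G)))
  rwa [hPcard] at this

omit [DecidableEq α] in
/-- a normal subgroup of a transitive group of prime degree is trivial or has order divisible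
by `p` -/
theorem normal_eq_bot_or_dvd_card (hα : Fintype.card α = p) (G : Subgroup (Equiv.Perm α))
    [MulAction.IsPretransitive G α] (K : Subgroup G) [K.Normal] :
    K = ⊥ ∨ p ∣ Nat.card K := by
  have hp := (Fact.out : p.Prime)
  have hprim : IsPreprimitive G α :=
    IsPreprimitive.of_prime_card (by rw [Nat.card_eq_fintype_card, hα]; exact hp)
  by_cases hfix : MulAction.fixedPoints K α = ⊤
  · left
    rw [Subgroup.eq_bot_iff_forall]
    intro k hk
    apply Subtype.ext
    apply Equiv.ext
    intro a
    have ha : a ∈ MulAction.fixedPoints K α := by rw [hfix]; trivial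
    exact ha ⟨k, hk⟩
  · right
    have htr : IsPretransitive K α := IsQuasiPreprimitive.isPretransitive_of_normal hfix
    obtain ⟨a0⟩ : Nonempty α := by
      rw [← Fintype.card_pos_iff, hα]; exact hp.pos
    have h1 := MulAction.index_stabilizer_of_transitive K a0
    have h2 := (stabilizer K a0).index_dvd_card
    rwa [h1, Nat.card_eq_fintype_card, hα] at h2

/-- if the Sylow `p`-subgroup of a transitive group of prime degree `p` is self-normalising,
the group has order `p` (Burnside's transfer theorem) -/
theorem card_eq_of_card_normalizer_eq (hα : Fintype.card α = p) (G : Subgroup (Equiv.Perm α))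
    [MulAction.IsPretransitive G α] (P : Sylow p G)
    (hN : Nat.card (Subgroup.normalizer ((P : Subgroup G) : Set G)) = p) : Nat.card G = p := by
  classical
  have hp := (Fact.out : p.Prime)
  have hPcard := card_sylow_eq hα G P
  have : IsCyclic P := isCyclic_of_prime_card hPcard
  have hNP : Subgroup.normalizer ((P : Subgroup G) : Set G) = (P : Subgroup G) := by
    symm
    apply Subgroup.eq_of_le_of_card_ge Subgroup.le_normalizer
    rw [hN, hPcard]
  have hPC : Subgroup.normalizer ((P : Subgroup G) : Set G) ≤
      Subgroup.centralizer ((P : Subgroup G) : Set G) := by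
    rw [hNP]
    intro x hx
    rw [Subgroup.mem_centralizer_iff]
    intro y hy
    have hcomm : ∀ u v : P, u * v = v * u := by
      have : IsMulCommutative P := IsCyclic.isMulCommutative
      exact fun u v => mul_comm' u v
    have := hcomm ⟨y, hy⟩ ⟨x, hx⟩
    exact congrArg Subtype.val this
  have hcompl := MonoidHom.ker_transferSylow_isComplement' P hPC
  have hcard := hcompl.card_mul_card
  rcases normal_eq_bot_or_dvd_card hα G (MonoidHom.transferSylow P hPC).ker with hK | hK
  · rw [hK, Subgroup.card_bot, one_mul, hPcard] at hcard
    exact hcard.symm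
  · exfalso
    obtain ⟨a0⟩ : Nonempty α := by
      rw [← Fintype.card_pos_iff, hα]; exact hp.pos
    rw [hPcard, card_eq_mul_card_stabilizer hα G a0, mul_comm] at hcard
    have := Nat.eq_of_mul_eq_mul_left hp.pos hcard
    rw [this] at hK
    exact not_dvd_card_stabilizer hα G a0 hK

end Cfsg.Agent.Lib.Helper12
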