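import Mathlib
import Cfsg.Agent.Lib.Helper12.PermRepFrame
import Cfsg.Agent.Lib.Helper12.PermRepRank
import Cfsg.Agent.Lib.Helper78.CharMore

/-!
# Rank 3 groups of Wielandt type (helper12)

Toolkit for the adjacency operator of an orbital of a transitive group on the permutation module,
and the determination of the subdegrees of a primitive rank 3 group of degree `2m` whose
permutation character is `1 + χ₁ + χ₂` with `χ₁(1) = m - 1`, `χ₂(1) = m`.
-/

set_option autoImplicit false
set_option linter.unusedSectionVars false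

namespace Cfsg.Agent.Lib.Helper12

open Module Representation Cfsg.Agent.Lib.Helper3 MulAction
open scoped ComplexConjugate

section arith

theorem sq_eq_one_int {x : ℤ} (h : x ^ 2 = 1) : x = 1 ∨ x = -1 := by
  have h1 : (x - 1) * (x + 1) = 0 := by ring_nf; linarith
  rcases mul_eq_zero.mp h1 with h | h
  · left; linarith
  · right; linarith

theorem wielandt_arith (m k l : ℕ) (α β γ t : ℤ) (hm : 2 ≤ m) (hk : 1 ≤ k) (hl : 1 ≤ l)
    (hkl : k + l + 1 = 2 * m)
    (hα : α = 0 ∨ α = k)
    (hcount : (k:ℤ)^2 = α + β * k + γ * l)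
    (ht : t = β - γ)
    (hrs : ((k:ℤ) + m * t) * (k + (m - 1) * t) = α - γ) :
    k = 1 ∨ l = 1 ∨ ∃ a : ℕ, 0 < a ∧ m = 2*a^2 + 2*a + 1 ∧
      (k = a*(2*a+1) ∨ k = (a+1)*(2*a+1)) := by
  have hl' : (l : ℤ) = 2 * m - 1 - k := by
    have : ((k + l + 1 : ℕ) : ℤ) = ((2 * m : ℕ) : ℤ) := by rw [hkl]
    push_cast at this
    linarith
  have hm' : (2 : ℤ) ≤ m := by exact_mod_cast hm
  have hk' : (1 : ℤ) ≤ k := by exact_mod_cast hk
  have hlpos : (1 : ℤ) ≤ l := by exact_mod_cast hl
  -- main identity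
  have hmain : (m : ℤ) * (2 * (k:ℤ)^2 + 4 * (m - 1) * k * t + (2 * m - 1) * (m - 1) * t^2 - 2 * α)
      = 0 := by
    have hβ : β = t + γ := by linarith
    rw [hβ, hl'] at hcount
    linear_combination (2 * (m:ℤ) - 1) * hrs + hcount
  have hmne : (m : ℤ) ≠ 0 := by linarith
  have hmain' : 2 * (k:ℤ)^2 + 4 * (m - 1) * k * t + (2 * m - 1) * (m - 1) * t^2 = 2 * α := by
    have := (mul_eq_zero.mp hmain).resolve_left hmne
    linarith
  rcases hα with h0 | hαk
  · exfalso
    rw [h0] at hmain'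
    have hsq : (2 * (k:ℤ) + 2 * (m - 1) * t)^2 + 2 * (m - 1) * t^2 = 0 := by
      linear_combination 2 * hmain'
    have h1 : 0 ≤ (2 * (k:ℤ) + 2 * (m - 1) * t)^2 := sq_nonneg _
    have h2 : 0 ≤ 2 * ((m:ℤ) - 1) * t^2 := mul_nonneg (by linarith) (sq_nonneg t)
    have h3 : 2 * ((m:ℤ) - 1) * t^2 = 0 := by linarith
    have h4 : t^2 = 0 := by
      have : 2 * ((m:ℤ) - 1) ≠ 0 := by
        intro h; linarith
      exact (mul_eq_zero.mp h3).resolve_left this
    have h5 : t = 0 := by simpa using h4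
    rw [h5] at hsq
    have : (2 * (k:ℤ))^2 = 0 := by linarith
    have : (2 * (k:ℤ)) = 0 := by simpa using this
    linarith
  · rw [hαk] at hmain'
    have hsq : (2 * (k:ℤ) + 2 * (m - 1) * t - 1)^2 + 2 * (m - 1) * (t * (t + 2)) = 1 := by
      linear_combination 2 * hmain'
    -- restrict `t`
    have ht_range : t = 0 ∨ t = -1 ∨ t = -2 := by
      by_contra hcon
      push Not at hcon
      obtain ⟨h0, h1, h2⟩ := hcon
      have : 3 ≤ t * (t + 2) := by
        rcases lt_or_gt_of_ne h0 with h | h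
        · have : t ≤ -3 := by omega
          nlinarith
        · nlinarith
      have h3 : 0 ≤ (2 * (k:ℤ) + 2 * (m - 1) * t - 1)^2 := sq_nonneg _
      nlinarith
    rcases ht_range with rfl | rfl | rfl
    · left
      have h1 : (2 * (k:ℤ) - 1)^2 = 1 := by linarith
      rcases sq_eq_one_int h1 with h | h
      · have : (k:ℤ) = 1 := by linarith
        exact_mod_cast this
      · have : (k:ℤ) = 0 := by linarith
        omega
    · right; right
      have h1 : (2 * (k:ℤ) - 2 * m + 1)^2 = 2 * m - 1 := by linarith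
      -- `u = |2k - 2m + 1|`
      obtain ⟨u, hu⟩ : ∃ u : ℕ, (u : ℤ) ^ 2 = 2 * m - 1 ∧
          ((2 * (k:ℤ) - 2 * m + 1) = u ∨ (2 * (k:ℤ) - 2 * m + 1) = -u) := by
        refine ⟨(2 * (k:ℤ) - 2 * m + 1).natAbs, ?_, ?_⟩
        · rw [← h1, Int.natAbs_sq]
        · rcases Int.natAbs_eq (2 * (k:ℤ) - 2 * m + 1) with h | h
          · left; exact h
          · right; exact h
      obtain ⟨hu2, hu3⟩ := hu
      -- `u` is odd
      have hodd : u % 2 = 1 := by
        have h2 : ((u ^ 2 : ℕ) : ℤ) = 2 * m - 1 := by push_cast; exact hu2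
        have h3 : u ^ 2 + 1 = 2 * m := by
          have : ((u ^ 2 + 1 : ℕ) : ℤ) = ((2 * m : ℕ) : ℤ) := by push_cast; linarith
          exact_mod_cast this
        rcases Nat.even_or_odd u with he | ho
        · exfalso
          obtain ⟨w, hw⟩ := he
          rw [hw] at h3
          have : (w + w) ^ 2 + 1 = 2 * (2 * w ^ 2) + 1 := by ring
          omega
        · exact Nat.odd_iff.mp ho
      obtain ⟨a, ha⟩ : ∃ a : ℕ, u = 2 * a + 1 := ⟨u / 2, by omega⟩
      subst ha
      have hm2 : (m : ℤ) = 2 * (a:ℤ)^2 + 2 * a + 1 := by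
        push_cast at hu2
        linarith
      have hm3 : m = 2 * a ^ 2 + 2 * a + 1 := by exact_mod_cast hm2
      refine ⟨a, ?_, hm3, ?_⟩
      · rcases Nat.eq_zero_or_pos a with h | h
        · subst h
          omega
        · exact h
      · rcases hu3 with h | h
        · right
          have : (k : ℤ) = ((a:ℤ) + 1) * (2 * a + 1) := by
            push_cast at h
            rw [hm2] at h
            linarith
          exact_mod_cast this
        · left
          have : (k : ℤ) = (a:ℤ) * (2 * a + 1) := by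
            push_cast at h
            rw [hm2] at h
            linarith
          exact_mod_cast this
    · right; left
      have h1 : (2 * (k:ℤ) - 4 * m + 3)^2 = 1 := by linarith
      rcases sq_eq_one_int h1 with h | h
      · exfalso
        have : (k:ℤ) = 2 * m - 1 := by linarith
        linarith
      · have : (k:ℤ) = 2 * m - 2 := by linarith
        have : (l : ℤ) = 1 := by linarith
        exact_mod_cast this

end arith

section three
variable {G : Type*} [Group G] [Fintype G]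

theorem trivial_character_eq :
    (Representation.trivial ℂ G ℂ).character = fun _ => (1 : ℂ) := by
  funext g
  unfold Representation.character
  have : (Representation.trivial ℂ G ℂ) g = LinearMap.id := rfl
  rw [this, LinearMap.trace_id, Module.finrank_self]
  simp

/-- no nonzero intertwiners between irreducibles with different characters -/
theorem intertwining_eq_zero_of_character_ne {V W : Type*} [AddCommGroup V] [Module ℂ V]
    [FiniteDimensional ℂ V] [AddCommGroup W] [Module ℂ W] [FiniteDimensional ℂ W]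
    (σ : Representation ℂ G V) (τ : Representation ℂ G W)
    (hσ : Cfsg.IsIrrCharacter G σ.character) (hτ : Cfsg.IsIrrCharacter G τ.character)
    (hne : σ.character ≠ τ.character) (f : IntertwiningMap σ τ) : f = 0 := by
  have h1 := classInner_character_eq_finrank τ σ
  rw [classInner_irrCharacter hτ hσ, if_neg (fun h => hne h.symm)] at h1
  have h2 : finrank ℂ (IntertwiningMap σ τ) = 0 := by exact_mod_cast h1.symm
  rw [Module.finrank_zero_iff] at h2
  exact Subsingleton.elim _ _

/-- a multiplicity-one irreducible constituent: a nonzero injective intertwiner, on which every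
commuting endomorphism acts by a scalar, together with an equivariant left inverse -/
theorem exists_constituent_data {V : Type*} [AddCommGroup V] [Module ℂ V] [FiniteDimensional ℂ V]
    (ρ : Representation ℂ G V) {W : Type*} [AddCommGroup W] [Module ℂ W] [FiniteDimensional ℂ W]
    (σ : Representation ℂ G W) [σ.IsIrreducible]
    (hmult : Cfsg.classInner ρ.character σ.character = 1)
    (T : V →ₗ[ℂ] V) (hT : ∀ (g : G) (v : V), T (ρ g v) = ρ g (T v)) :
    ∃ (φ : IntertwiningMap σ ρ) (ψ : IntertwiningMap ρ σ) (r : ℂ),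
      Function.Injective φ ∧ (∀ w, ψ (φ w) = w) ∧ ∀ w, T (φ w) = r • φ w := by
  rw [classInner_character_eq_finrank] at hmult
  have h1 : finrank ℂ (IntertwiningMap σ ρ) = 1 := by exact_mod_cast hmult
  have hpos : 0 < finrank ℂ (IntertwiningMap σ ρ) := by omega
  obtain ⟨φ, hφ⟩ := Module.finrank_pos_iff_exists_ne_zero.mp hpos
  have hinj : Function.Injective φ :=
    (IsIrreducible.injective_or_eq_zero φ).resolve_right hφ
  obtain ⟨ψ, hψ⟩ := exists_leftInverse_intertwining φ hinj
  obtain ⟨Tint, hTint⟩ : ∃ Tint : IntertwiningMap ρ ρ, ∀ v, Tint v = T v :=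
    ⟨T.intertwiningMap_of_isIntertwiningMap ρ ρ hT, fun v => rfl⟩
  obtain ⟨r, hr⟩ := (finrank_eq_one_iff_of_nonzero' φ hφ).mp h1 (Tint.comp φ)
  refine ⟨φ, ψ, r, hinj, hψ, fun w => ?_⟩
  have := congrArg (fun f : IntertwiningMap σ ρ => f w) hr
  simp only [IntertwiningMap.smul_apply, IntertwiningMap.comp_apply, hTint] at this
  exact this.symm

theorem trace_three_constituents {V : Type*} [AddCommGroup V]
    [Module ℂ V] [FiniteDimensional ℂ V] (ρ : Representation ℂ G V) (χ₁ χ₂ : G → ℂ)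
    (h₁ : Cfsg.IsIrrCharacter G χ₁) (h₂ : Cfsg.IsIrrCharacter G χ₂)
    (hρ : ρ.character = fun g => 1 + χ₁ g + χ₂ g)
    (hne : χ₁ ≠ χ₂) (h1 : χ₁ ≠ fun _ => 1) (h2 : χ₂ ≠ fun _ => 1)
    (T : V →ₗ[ℂ] V) (hT : ∀ (g : G) (v : V), T (ρ g v) = ρ g (T v))
    (v₀ : V) (hv₀ : v₀ ≠ 0) (hfix : ∀ g, ρ g v₀ = v₀) (k : ℂ) (hTv₀ : T v₀ = k • v₀)
    (L : V →ₗ[ℂ] ℂ) (hL : ∀ (g : G) (v : V), L (ρ g v) = L v) :
    ∃ (r s : ℂ) (x₁ x₂ : V) (n₁ n₂ : ℕ), χ₁ 1 = n₁ ∧ χ₂ 1 = n₂ ∧ x₁ ≠ 0 ∧ x₂ ≠ 0 ∧
      L x₁ = 0 ∧ L x₂ = 0 ∧ T x₁ = r • x₁ ∧ T x₂ = s • x₂ ∧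
      LinearMap.trace ℂ V T = k + n₁ * r + n₂ * s := by
  classical
  have h₁' := h₁
  have h₂' := h₂
  obtain ⟨n₁, σ₁, hσ₁, hc₁⟩ := h₁'
  obtain ⟨n₂, σ₂, hσ₂, hc₂⟩ := h₂'
  have := hσ₁
  have := hσ₂
  have hone : Cfsg.IsIrrCharacter G (fun _ : G => (1 : ℂ)) :=
    Cfsg.Agent.Lib.Helper78.isIrrCharacter_one
  -- the trivial representation
  obtain ⟨σ₀, hσ₀, hc₀⟩ : ∃ σ₀ : Representation ℂ G ℂ, (∀ g z, σ₀ g z = z) ∧
      σ₀.character = fun _ => (1 : ℂ) :=
    ⟨Representation.trivial ℂ G ℂ, fun g z => rfl, trivial_character_eq⟩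
  have hirr₀ : Cfsg.IsIrrCharacter G σ₀.character := by rw [hc₀]; exact hone
  have hirr₁ : Cfsg.IsIrrCharacter G σ₁.character := by rw [hc₁]; exact h₁
  have hirr₂ : Cfsg.IsIrrCharacter G σ₂.character := by rw [hc₂]; exact h₂
  -- multiplicities
  have hsum : ρ.character = (fun _ => (1 : ℂ)) + χ₁ + χ₂ := by
    rw [hρ]; rfl
  have hm₁ : Cfsg.classInner ρ.character σ₁.character = 1 := by
    rw [hc₁, hsum, classInner_add_left, classInner_add_left, classInner_irrCharacter hone h₁,
      classInner_irrCharacter h₁ h₁, classInner_irrCharacter h₂ h₁,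
      if_neg (fun h => h1 h.symm), if_pos rfl, if_neg (fun h => hne h.symm)]
    ring
  have hm₂ : Cfsg.classInner ρ.character σ₂.character = 1 := by
    rw [hc₂, hsum, classInner_add_left, classInner_add_left, classInner_irrCharacter hone h₂,
      classInner_irrCharacter h₁ h₂, classInner_irrCharacter h₂ h₂,
      if_neg (fun h => h2 h.symm), if_pos rfl, if_neg hne]
    ring
  obtain ⟨φ₁, ψ₁, r, hinj₁, hψ₁, hr⟩ := exists_constituent_data ρ σ₁ hm₁ T hT
  obtain ⟨φ₂, ψ₂, s, hinj₂, hψ₂, hs⟩ := exists_constituent_data ρ σ₂ hm₂ T hT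
  -- the constants
  obtain ⟨φ₀, hφ₀⟩ : ∃ φ₀ : IntertwiningMap σ₀ ρ, ∀ z : ℂ, φ₀ z = z • v₀ :=
    ⟨(LinearMap.toSpanSingleton ℂ V v₀).intertwiningMap_of_isIntertwiningMap σ₀ ρ (by
      intro g z
      rw [hσ₀, LinearMap.toSpanSingleton_apply, map_smul, hfix]), fun z => rfl⟩
  have hinj₀ : Function.Injective φ₀ := by
    intro z z' h
    rw [hφ₀, hφ₀] at h
    exact smul_left_injective ℂ hv₀ h
  obtain ⟨ψ₀, hψ₀⟩ := exists_leftInverse_intertwining φ₀ hinj₀
  -- the invariant functional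
  obtain ⟨Lint, hLint⟩ : ∃ Lint : IntertwiningMap ρ σ₀, ∀ v, Lint v = L v :=
    ⟨L.intertwiningMap_of_isIntertwiningMap ρ σ₀ (by
      intro g v
      rw [hσ₀, hL]), fun v => rfl⟩
  -- cross terms
  have hne01 : σ₀.character ≠ σ₁.character := by rw [hc₀, hc₁]; exact fun h => h1 h.symm
  have hne02 : σ₀.character ≠ σ₂.character := by rw [hc₀, hc₂]; exact fun h => h2 h.symm
  have hne12 : σ₁.character ≠ σ₂.character := by rw [hc₁, hc₂]; exact hne
  have c01 : ∀ w, ψ₀ (φ₁ w) = 0 := fun w => by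
    have := intertwining_eq_zero_of_character_ne σ₁ σ₀ hirr₁ hirr₀ hne01.symm (ψ₀.comp φ₁)
    exact congrArg (fun f : IntertwiningMap σ₁ σ₀ => f w) this
  have c02 : ∀ w, ψ₀ (φ₂ w) = 0 := fun w => by
    have := intertwining_eq_zero_of_character_ne σ₂ σ₀ hirr₂ hirr₀ hne02.symm (ψ₀.comp φ₂)
    exact congrArg (fun f : IntertwiningMap σ₂ σ₀ => f w) this
  have c10 : ∀ z, ψ₁ (φ₀ z) = 0 := fun z => by
    have := intertwining_eq_zero_of_character_ne σ₀ σ₁ hirr₀ hirr₁ hne01 (ψ₁.comp φ₀)
    exact congrArg (fun f : IntertwiningMap σ₀ σ₁ => f z) this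
  have c12 : ∀ w, ψ₁ (φ₂ w) = 0 := fun w => by
    have := intertwining_eq_zero_of_character_ne σ₂ σ₁ hirr₂ hirr₁ hne12.symm (ψ₁.comp φ₂)
    exact congrArg (fun f : IntertwiningMap σ₂ σ₁ => f w) this
  have c20 : ∀ z, ψ₂ (φ₀ z) = 0 := fun z => by
    have := intertwining_eq_zero_of_character_ne σ₀ σ₂ hirr₀ hirr₂ hne02 (ψ₂.comp φ₀)
    exact congrArg (fun f : IntertwiningMap σ₀ σ₂ => f z) this
  have c21 : ∀ w, ψ₂ (φ₁ w) = 0 := fun w => by
    have := intertwining_eq_zero_of_character_ne σ₁ σ₂ hirr₁ hirr₂ hne12 (ψ₂.comp φ₁)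
    exact congrArg (fun f : IntertwiningMap σ₁ σ₂ => f w) this
  have cL1 : ∀ w, L (φ₁ w) = 0 := fun w => by
    have := intertwining_eq_zero_of_character_ne σ₁ σ₀ hirr₁ hirr₀ hne01.symm (Lint.comp φ₁)
    have h := congrArg (fun f : IntertwiningMap σ₁ σ₀ => f w) this
    simp only [IntertwiningMap.comp_apply, hLint] at h
    exact h
  have cL2 : ∀ w, L (φ₂ w) = 0 := fun w => by
    have := intertwining_eq_zero_of_character_ne σ₂ σ₀ hirr₂ hirr₀ hne02.symm (Lint.comp φ₂)
    have h := congrArg (fun f : IntertwiningMap σ₂ σ₀ => f w) this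
    simp only [IntertwiningMap.comp_apply, hLint] at h
    exact h
  -- degrees
  have hd₁ : χ₁ 1 = n₁ := by rw [← hc₁, Representation.char_one, Module.finrank_fin_fun]
  have hd₂ : χ₂ 1 = n₂ := by rw [← hc₂, Representation.char_one, Module.finrank_fin_fun]
  have hn₁ : 0 < n₁ := by
    have := finrank_pos_of_isIrreducible σ₁
    rwa [Module.finrank_fin_fun] at this
  have hn₂ : 0 < n₂ := by
    have := finrank_pos_of_isIrreducible σ₂
    rwa [Module.finrank_fin_fun] at this
  -- the block decomposition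
  obtain ⟨Φ, hΦ⟩ : ∃ Φ : ℂ × ((Fin n₁ → ℂ) × (Fin n₂ → ℂ)) →ₗ[ℂ] V,
      ∀ z w₁ w₂, Φ (z, (w₁, w₂)) = φ₀ z + (φ₁ w₁ + φ₂ w₂) :=
    ⟨φ₀.toLinearMap.coprod (φ₁.toLinearMap.coprod φ₂.toLinearMap), fun z w₁ w₂ => by
      simp [LinearMap.coprod_apply]⟩
  have hΦinj : Function.Injective Φ := by
    rw [← LinearMap.ker_eq_bot, LinearMap.ker_eq_bot']
    rintro ⟨z, w₁, w₂⟩ h
    rw [hΦ] at h
    have e0 := congrArg ψ₀ h
    rw [map_add, map_add, hψ₀, c01, c02, map_zero, add_zero, add_zero] at e0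
    have e1 := congrArg ψ₁ h
    rw [map_add, map_add, hψ₁, c10, c12, map_zero, add_zero, zero_add] at e1
    have e2 := congrArg ψ₂ h
    rw [map_add, map_add, hψ₂, c20, c21, map_zero, zero_add, zero_add] at e2
    rw [e0, e1, e2]
    rfl
  have hdimV : finrank ℂ V = 1 + n₁ + n₂ := by
    have h3 := congrFun hρ 1
    rw [Representation.char_one, hd₁, hd₂] at h3
    exact_mod_cast h3
  have hdimX : finrank ℂ (ℂ × ((Fin n₁ → ℂ) × (Fin n₂ → ℂ))) = 1 + n₁ + n₂ := by
    rw [Module.finrank_prod, Module.finrank_prod, Module.finrank_self, Module.finrank_fin_fun,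
      Module.finrank_fin_fun]
    ring
  obtain ⟨e, he⟩ : ∃ e : (ℂ × ((Fin n₁ → ℂ) × (Fin n₂ → ℂ))) ≃ₗ[ℂ] V, ∀ x, e x = Φ x :=
    ⟨LinearEquiv.ofInjectiveOfFinrankEq Φ hΦinj (by rw [hdimX, hdimV]), fun x => rfl⟩
  obtain ⟨D, hD⟩ : ∃ D : (ℂ × ((Fin n₁ → ℂ) × (Fin n₂ → ℂ))) →ₗ[ℂ]
      (ℂ × ((Fin n₁ → ℂ) × (Fin n₂ → ℂ))),
      D = LinearMap.prodMap (k • LinearMap.id)
        (LinearMap.prodMap (r • LinearMap.id) (s • LinearMap.id)) := ⟨_, rfl⟩
  have hTD : T = e.conj D := by
    apply LinearMap.ext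
    intro v
    obtain ⟨⟨z, w₁, w₂⟩, rfl⟩ := e.surjective v
    rw [LinearEquiv.conj_apply, LinearMap.comp_apply, LinearMap.comp_apply,
      LinearEquiv.coe_coe, LinearEquiv.coe_coe, LinearEquiv.symm_apply_apply, hD]
    simp only [LinearMap.prodMap_apply, LinearMap.smul_apply, LinearMap.id_apply]
    rw [he, he, hΦ, hΦ, map_add, map_add, hr, hs, hφ₀, map_smul, hTv₀, hφ₀, map_smul, map_smul,
      smul_smul, smul_eq_mul, mul_comm]
  have htrace : LinearMap.trace ℂ V T = k + n₁ * r + n₂ * s := by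
    rw [hTD, LinearMap.trace_conj', hD, LinearMap.trace_prodMap', LinearMap.trace_prodMap',
      map_smul, map_smul, map_smul, LinearMap.trace_id, LinearMap.trace_id, LinearMap.trace_id,
      Module.finrank_self, Module.finrank_fin_fun, Module.finrank_fin_fun]
    simp only [smul_eq_mul, Nat.cast_one, mul_one]
    ring
  -- nonzero vectors
  obtain ⟨w₁, hw₁⟩ : ∃ w₁ : Fin n₁ → ℂ, w₁ ≠ 0 := ⟨fun _ => 1, by
    intro h
    have := congrFun h ⟨0, hn₁⟩
    simp at this⟩
  obtain ⟨w₂, hw₂⟩ : ∃ w₂ : Fin n₂ → ℂ, w₂ ≠ 0 := ⟨fun _ => 1, by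
    intro h
    have := congrFun h ⟨0, hn₂⟩
    simp at this⟩
  refine ⟨r, s, φ₁ w₁, φ₂ w₂, n₁, n₂, hd₁, hd₂, ?_, ?_, cL1 w₁, cL2 w₂, hr w₁, hs w₂, htrace⟩
  · intro h
    apply hw₁
    apply hinj₁
    rw [h, map_zero]
  · intro h
    apply hw₂
    apply hinj₂
    rw [h, map_zero]

end three

/-- the orbital of the pair `(a, b)` -/
def Orb (G : Type*) [Group G] {Ω : Type*} [MulAction G Ω] (a b x y : Ω) : Prop :=
  ∃ g : G, g • a = x ∧ g • b = y

section orbital
variable {G : Type*} [Group G] {Ω : Type*} [MulAction G Ω]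

theorem orb_smul_iff (a b x y : Ω) (g : G) : Orb G a b (g • x) (g • y) ↔ Orb G a b x y := by
  constructor
  · rintro ⟨h, h1, h2⟩
    refine ⟨g⁻¹ * h, ?_, ?_⟩
    · rw [mul_smul, h1, inv_smul_smul]
    · rw [mul_smul, h2, inv_smul_smul]
  · rintro ⟨h, h1, h2⟩
    refine ⟨g * h, ?_, ?_⟩
    · rw [mul_smul, h1]
    · rw [mul_smul, h2]

theorem orb_irrefl {a b : Ω} (hab : b ≠ a) (x : Ω) : ¬ Orb G a b x x := by
  rintro ⟨g, h1, h2⟩
  exact hab (MulAction.injective g (h2.trans h1.symm))

theorem orb_base_iff (a b y : Ω) : Orb G a b a y ↔ y ∈ orbit (stabilizer G a) b := by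
  constructor
  · rintro ⟨g, h1, h2⟩
    exact ⟨⟨g, h1⟩, h2⟩
  · rintro ⟨h, rfl⟩
    exact ⟨(h : G), h.2, rfl⟩

/-- a `G`-invariant function of pairs takes only three values when the rank is three -/
theorem invariant_three_valued [IsPretransitive G Ω] {R : Type*} (M : Ω → Ω → R)
    (hM : ∀ (g : G) (x y : Ω), M (g • x) (g • y) = M x y) (a b c : Ω)
    (hall : ∀ y, y = a ∨ y ∈ orbit (stabilizer G a) b ∨ y ∈ orbit (stabilizer G a) c)
    (x y : Ω) [Decidable (x = y)] [Decidable (Orb G a b x y)] :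
    M x y = if x = y then M a a else if Orb G a b x y then M a b else M a c := by
  obtain ⟨g, rfl⟩ := exists_smul_eq G a x
  split_ifs with h1 h2
  · rw [← h1, hM]
  · obtain ⟨h, h3, h4⟩ := h2
    rw [← h3, ← h4, hM]
  · rcases hall (g⁻¹ • y) with h3 | h3 | h3
    · exfalso
      apply h1
      rw [← h3, smul_inv_smul]
    · exfalso
      apply h2
      rw [← orb_base_iff] at h3
      have := (orb_smul_iff a b a (g⁻¹ • y) g).mpr h3
      rwa [smul_inv_smul] at this
    · obtain ⟨h, h4⟩ := h3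
      have h5 : y = (g * (h : G)) • c := by
        rw [mul_smul]
        have : (h : G) • c = g⁻¹ • y := h4
        rw [this, smul_inv_smul]
      have h6 : g • a = (g * (h : G)) • a := by
        rw [mul_smul]
        congr 1
        exact h.2.symm
      rw [h5, h6, hM]

end orbital

section adj
variable {G : Type*} [Group G] [Fintype G] {Ω : Type*} [Fintype Ω] [DecidableEq Ω]
  [MulAction G Ω] [MulAction.IsPretransitive G Ω]

open scoped Classical in
/-- the adjacency matrix of an orbital, over `ℤ` -/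
noncomputable def adjZ (G : Type*) [Group G] {Ω : Type*} [MulAction G Ω] (a b : Ω) :
    Matrix Ω Ω ℤ :=
  Matrix.of fun x y => if Orb G a b x y then 1 else 0

open scoped Classical in
theorem adjZ_apply (a b x y : Ω) : adjZ G a b x y = if Orb G a b x y then 1 else 0 := rfl

theorem adjZ_smul (a b x y : Ω) (g : G) : adjZ G a b (g • x) (g • y) = adjZ G a b x y := by
  classical
  rw [adjZ_apply, adjZ_apply]
  simp only [orb_smul_iff]

theorem adjZ_diag {a b : Ω} (hab : b ≠ a) (x : Ω) : adjZ G a b x x = 0 := by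
  classical
  rw [adjZ_apply, if_neg (orb_irrefl hab x)]

theorem adjZ_row_sum (a b x : Ω) :
    ∑ y, adjZ G a b x y = (Nat.card (orbit (stabilizer G a) b) : ℤ) := by
  classical
  simp_rw [adjZ_apply]
  rw [Finset.sum_boole]
  have := card_orbital_row (G := G) a b x
  unfold Orb
  have h2 : ((Finset.univ.filter (fun y : Ω => ∃ g : G, g • a = x ∧ g • b = y)).card : ℤ) =
      (Nat.card (orbit (stabilizer G a) b) : ℤ) := by
    rw [← this]
  convert h2
  rfl

theorem adjZ_sq_smul (a b x y : Ω) (g : G) :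
    (adjZ G a b * adjZ G a b) (g • x) (g • y) = (adjZ G a b * adjZ G a b) x y := by
  rw [Matrix.mul_apply, Matrix.mul_apply]
  rw [← Equiv.sum_comp (MulAction.toPerm g)]
  apply Finset.sum_congr rfl
  intro z _
  rw [MulAction.toPerm_apply, adjZ_smul, adjZ_smul]

theorem adjZ_sq_row_sum (a b x : Ω) :
    ∑ y, (adjZ G a b * adjZ G a b) x y = (Nat.card (orbit (stabilizer G a) b) : ℤ) ^ 2 := by
  simp_rw [Matrix.mul_apply]
  rw [Finset.sum_comm]
  simp_rw [← Finset.mul_sum, adjZ_row_sum]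
  rw [← Finset.sum_mul, adjZ_row_sum]
  ring

theorem card_orb_row (a b x : Ω) [DecidablePred fun y : Ω => Orb G a b x y] :
    (Finset.univ.filter (fun y : Ω => Orb G a b x y)).card =
      Nat.card (orbit (stabilizer G a) b) := by
  classical
  rw [← card_orbital_row (G := G) a b x]
  unfold Orb
  congr

/-- the three structure constants of the square of the adjacency matrix -/
theorem adjZ_sq_eq (a b c : Ω) (hab : b ≠ a)
    (hall : ∀ y, y = a ∨ y ∈ orbit (stabilizer G a) b ∨ y ∈ orbit (stabilizer G a) c) :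
    adjZ G a b * adjZ G a b =
      (adjZ G a b * adjZ G a b) a a • (1 : Matrix Ω Ω ℤ) +
      (adjZ G a b * adjZ G a b) a b • adjZ G a b +
      (adjZ G a b * adjZ G a b) a c •
        (Matrix.of (fun _ _ => (1 : ℤ)) - (1 : Matrix Ω Ω ℤ) - adjZ G a b) := by
  classical
  ext x y
  rw [invariant_three_valued (fun x y => (adjZ G a b * adjZ G a b) x y)
    (fun g x y => adjZ_sq_smul a b x y g) a b c hall x y]
  simp only [Matrix.add_apply, Matrix.smul_apply, Matrix.sub_apply, Matrix.of_apply, smul_eq_mul,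
    Matrix.one_apply]
  split_ifs with h1 h2
  · subst h1
    rw [adjZ_diag hab]
    ring
  · rw [adjZ_apply, if_pos h2]
    ring
  · rw [adjZ_apply, if_neg h2]
    ring

theorem card_partition (a b : Ω) (hab : b ≠ a)
    [DecidablePred fun y : Ω => y ≠ a ∧ ¬ Orb G a b a y] :
    Nat.card (orbit (stabilizer G a) b) +
      (Finset.univ.filter (fun y : Ω => y ≠ a ∧ ¬ Orb G a b a y)).card + 1 = Fintype.card Ω := by
  classical
  have h2 : (Finset.univ.filter (fun y : Ω => Orb G a b a y)).card =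
      Nat.card (orbit (stabilizer G a) b) := card_orb_row a b a
  rw [← h2, ← Finset.card_univ (α := Ω)]
  have h3 : (Finset.univ : Finset Ω) = insert a ((Finset.univ.filter (fun y : Ω => Orb G a b a y)) ∪
      (Finset.univ.filter (fun y : Ω => y ≠ a ∧ ¬ Orb G a b a y))) := by
    ext y
    simp only [Finset.mem_univ, Finset.mem_insert, Finset.mem_union, Finset.mem_filter, true_and,
      true_iff]
    by_cases hy : y = a
    · left; exact hy
    · by_cases ho : Orb G a b a y
      · right; left; exact ho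
      · right; right; exact ⟨hy, ho⟩
  have hdisj : Disjoint (Finset.univ.filter (fun y : Ω => Orb G a b a y))
      (Finset.univ.filter (fun y : Ω => y ≠ a ∧ ¬ Orb G a b a y)) := by
    rw [Finset.disjoint_filter]
    intro y _ h1 h2
    exact h2.2 h1
  have hnot : a ∉ ((Finset.univ.filter (fun y : Ω => Orb G a b a y)) ∪
      (Finset.univ.filter (fun y : Ω => y ≠ a ∧ ¬ Orb G a b a y))) := by
    simp only [Finset.mem_union, Finset.mem_filter, Finset.mem_univ, true_and, not_or]
    exact ⟨orb_irrefl hab a, fun h => h.1 rfl⟩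
  conv_rhs => rw [h3]
  rw [Finset.card_insert_of_notMem hnot, Finset.card_union_of_disjoint hdisj]

theorem adjZ_sq_count (a b c : Ω) (hab : b ≠ a)
    (hall : ∀ y, y = a ∨ y ∈ orbit (stabilizer G a) b ∨ y ∈ orbit (stabilizer G a) c)
    [DecidablePred fun y : Ω => y ≠ a ∧ ¬ Orb G a b a y] :
    (Nat.card (orbit (stabilizer G a) b) : ℤ) ^ 2 =
      (adjZ G a b * adjZ G a b) a a +
      (adjZ G a b * adjZ G a b) a b * (Nat.card (orbit (stabilizer G a) b) : ℤ) +
      (adjZ G a b * adjZ G a b) a c *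
        ((Finset.univ.filter (fun y : Ω => y ≠ a ∧ ¬ Orb G a b a y)).card : ℤ) := by
  classical
  rw [← adjZ_sq_row_sum a b a]
  have h3v := fun y => invariant_three_valued (fun x y => (adjZ G a b * adjZ G a b) x y)
    (fun g x y => adjZ_sq_smul a b x y g) a b c hall a y
  rw [Finset.sum_congr rfl (fun y _ => h3v y)]
  have hterm : ∀ y : Ω, (if a = y then (adjZ G a b * adjZ G a b) a a
      else if Orb G a b a y then (adjZ G a b * adjZ G a b) a b
      else (adjZ G a b * adjZ G a b) a c) =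
      (adjZ G a b * adjZ G a b) a a * (if y = a then 1 else 0) +
      (adjZ G a b * adjZ G a b) a b * (if Orb G a b a y then 1 else 0) +
      (adjZ G a b * adjZ G a b) a c * (if y ≠ a ∧ ¬ Orb G a b a y then 1 else 0) := by
    intro y
    by_cases hy : y = a
    · subst hy
      rw [if_pos rfl, if_pos rfl, if_neg (orb_irrefl hab y), if_neg (fun h => h.1 rfl)]
      ring
    · rw [if_neg (fun h => hy h.symm), if_neg hy]
      by_cases ho : Orb G a b a y
      · rw [if_pos ho, if_pos ho, if_neg (fun h => h.2 ho)]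
        ring
      · rw [if_neg ho, if_neg ho, if_pos ⟨hy, ho⟩]
        ring
  rw [Finset.sum_congr rfl (fun y _ => hterm y)]
  rw [Finset.sum_add_distrib, Finset.sum_add_distrib, ← Finset.mul_sum, ← Finset.mul_sum,
    ← Finset.mul_sum, Finset.sum_boole, Finset.sum_boole, Finset.sum_boole]
  have h2 : (Finset.univ.filter (fun y : Ω => Orb G a b a y)).card =
      Nat.card (orbit (stabilizer G a) b) := card_orb_row a b a
  rw [h2]
  have h4 : (Finset.univ.filter (fun y : Ω => y = a)).card = 1 := by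
    rw [Finset.filter_eq' Finset.univ a, if_pos (Finset.mem_univ a), Finset.card_singleton]
  rw [h4]
  simp only [Nat.cast_one, mul_one]

theorem adjZ_sq_diag (a b : Ω) :
    (adjZ G a b * adjZ G a b) a a = 0 ∨
      (adjZ G a b * adjZ G a b) a a = (Nat.card (orbit (stabilizer G a) b) : ℤ) := by
  classical
  rw [Matrix.mul_apply]
  by_cases hba : Orb G a b b a
  · right
    have hterm : ∀ z, adjZ G a b a z * adjZ G a b z a = adjZ G a b a z := by
      intro z
      rw [adjZ_apply, adjZ_apply]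
      by_cases hz : Orb G a b a z
      · rw [if_pos hz]
        obtain ⟨h, h1, h2⟩ := hz
        have h3 := (orb_smul_iff a b b a h).mpr hba
        rw [h1, h2] at h3
        rw [if_pos h3]
        ring
      · rw [if_neg hz]
        ring
    rw [Finset.sum_congr rfl (fun z _ => hterm z), adjZ_row_sum]
  · left
    apply Finset.sum_eq_zero
    intro z _
    rw [adjZ_apply, adjZ_apply]
    by_cases hz : Orb G a b a z
    · obtain ⟨h, h1, h2⟩ := hz
      have h3 : ¬ Orb G a b z a := by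
        intro h4
        apply hba
        have h4' : Orb G a b (h • b) (h • a) := by rw [h1, h2]; exact h4
        exact (orb_smul_iff a b b a h).mp h4'
      rw [if_neg h3]
      ring
    · rw [if_neg hz]
      ring

end adj

section opsec
variable {G : Type*} [Group G] [Fintype G] {Ω : Type*} [Fintype Ω] [DecidableEq Ω]
  [MulAction G Ω] [MulAction.IsPretransitive G Ω]

/-- the adjacency operator of an orbital on the permutation module -/
noncomputable def adjOp (G : Type*) [Group G] {Ω : Type*} [Fintype Ω] [DecidableEq Ω]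
    [MulAction G Ω] (a b : Ω) : (Ω → ℂ) →ₗ[ℂ] (Ω → ℂ) :=
  Matrix.toLin' ((adjZ G a b).map (Int.castRingHom ℂ))

theorem adjOp_apply (a b : Ω) (v : Ω → ℂ) (x : Ω) :
    adjOp G a b v x = ∑ y, (adjZ G a b x y : ℂ) * v y := by
  unfold adjOp
  rw [Matrix.toLin'_apply, Matrix.mulVec, dotProduct]
  rfl

theorem adjOp_comm (a b : Ω) (g : G) (v : Ω → ℂ) :
    adjOp G a b (Cfsg.permRep ℂ G Ω g v) = Cfsg.permRep ℂ G Ω g (adjOp G a b v) := by
  apply comm_of_matrix_invariant
  intro g x y
  rw [adjOp_apply, adjOp_apply]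
  simp only [Pi.single_apply, mul_ite, mul_one, mul_zero, Finset.sum_ite_eq', Finset.mem_univ,
    if_true]
  rw [adjZ_smul]

theorem adjOp_const (a b : Ω) :
    adjOp G a b (fun _ => 1) =
      (Nat.card (orbit (stabilizer G a) b) : ℂ) • (fun _ => (1 : ℂ)) := by
  funext x
  rw [adjOp_apply]
  simp only [mul_one, Pi.smul_apply, smul_eq_mul]
  have := adjZ_row_sum (G := G) a b x
  have h2 : ((∑ y, adjZ G a b x y : ℤ) : ℂ) = (Nat.card (orbit (stabilizer G a) b) : ℂ) := by
    rw [this]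
    simp
  rw [← h2]
  push_cast
  rfl

theorem adjOp_trace {a b : Ω} (hab : b ≠ a) :
    LinearMap.trace ℂ (Ω → ℂ) (adjOp G a b) = 0 := by
  unfold adjOp
  rw [LinearMap.trace_eq_matrix_trace ℂ (Pi.basisFun ℂ Ω), LinearMap.toMatrix_eq_toMatrix',
    LinearMap.toMatrix'_toLin', Matrix.trace]
  apply Finset.sum_eq_zero
  intro x _
  rw [Matrix.diag_apply, Matrix.map_apply, adjZ_diag hab]
  simp

theorem adjOp_sq (a b c : Ω) (hab : b ≠ a)
    (hall : ∀ y, y = a ∨ y ∈ orbit (stabilizer G a) b ∨ y ∈ orbit (stabilizer G a) c)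
    (v : Ω → ℂ) (hv : ∑ x, v x = 0) :
    adjOp G a b (adjOp G a b v) =
      (((adjZ G a b * adjZ G a b) a a : ℂ) - ((adjZ G a b * adjZ G a b) a c : ℂ)) • v +
      (((adjZ G a b * adjZ G a b) a b : ℂ) - ((adjZ G a b * adjZ G a b) a c : ℂ)) •
        adjOp G a b v := by
  have hE := adjZ_sq_eq (G := G) a b c hab hall
  obtain ⟨α, hα⟩ : ∃ α : ℤ, α = (adjZ G a b * adjZ G a b) a a := ⟨_, rfl⟩
  obtain ⟨β, hβ⟩ : ∃ β : ℤ, β = (adjZ G a b * adjZ G a b) a b := ⟨_, rfl⟩
  obtain ⟨γ, hγ⟩ : ∃ γ : ℤ, γ = (adjZ G a b * adjZ G a b) a c := ⟨_, rfl⟩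
  rw [← hα, ← hβ, ← hγ] at hE ⊢
  have h1 : adjOp G a b (adjOp G a b v) =
      Matrix.toLin' ((adjZ G a b * adjZ G a b).map (Int.castRingHom ℂ)) v := by
    unfold adjOp
    rw [Matrix.map_mul, Matrix.toLin'_mul]
    rfl
  rw [h1, hE]
  funext x
  rw [Matrix.toLin'_apply, Matrix.mulVec, dotProduct]
  simp only [Matrix.map_apply, Matrix.add_apply, Matrix.smul_apply, Matrix.sub_apply,
    Matrix.of_apply, smul_eq_mul, Matrix.one_apply, Pi.add_apply, Pi.smul_apply]
  rw [adjOp_apply]
  have hterm : ∀ y : Ω, (Int.castRingHom ℂ) (α * (if x = y then 1 else 0) + β * adjZ G a b x y +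
      γ * (1 - (if x = y then 1 else 0) - adjZ G a b x y)) * v y =
      (α : ℂ) * (if x = y then v y else 0) + (β : ℂ) * ((adjZ G a b x y : ℂ) * v y) +
      (γ : ℂ) * (v y - (if x = y then v y else 0) - (adjZ G a b x y : ℂ) * v y) := by
    intro y
    simp only [eq_intCast]
    split_ifs <;> push_cast <;> ring
  rw [Finset.sum_congr rfl (fun y _ => hterm y)]
  rw [Finset.sum_add_distrib, Finset.sum_add_distrib, ← Finset.mul_sum, ← Finset.mul_sum,
    ← Finset.mul_sum, Finset.sum_sub_distrib, Finset.sum_sub_distrib, hv,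
    Finset.sum_ite_eq Finset.univ x, if_pos (Finset.mem_univ x)]
  ring

end opsec

section prim

theorem rank3_cases {G : Type*} [Group G] {Ω : Type*} [MulAction G Ω] [Finite Ω] (a b : Ω) (hab : b ≠ a)
    (hrank : Nat.card (orbitRel.Quotient (stabilizer G a) Ω) = 3) :
    ∃ c : Ω, c ≠ a ∧ c ∉ orbit (stabilizer G a) b ∧
      ∀ y, y = a ∨ y ∈ orbit (stabilizer G a) b ∨ y ∈ orbit (stabilizer G a) c := by
  classical
  have : Fintype (orbitRel.Quotient (stabilizer G a) Ω) := Fintype.ofFinite _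
  rw [Nat.card_eq_fintype_card] at hrank
  have horba : ∀ y, y ∈ orbit (stabilizer G a) a → y = a := by
    rintro y ⟨h, rfl⟩
    exact h.2
  let qa : orbitRel.Quotient (stabilizer G a) Ω := Quotient.mk'' a
  let qb : orbitRel.Quotient (stabilizer G a) Ω := Quotient.mk'' b
  have hqab : qa ≠ qb := by
    intro h
    have h1 : b ∈ orbit (stabilizer G a) a := by
      have := Quotient.exact' h.symm
      exact this
    exact hab (horba b h1)
  have hcard2 : ({qa, qb} : Finset (orbitRel.Quotient (stabilizer G a) Ω)).card = 2 :=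
    Finset.card_pair hqab
  obtain ⟨qc, hqc⟩ : ∃ qc, qc ∉ ({qa, qb} : Finset (orbitRel.Quotient (stabilizer G a) Ω)) := by
    by_contra hcon
    push Not at hcon
    have : ({qa, qb} : Finset (orbitRel.Quotient (stabilizer G a) Ω)) = Finset.univ :=
      Finset.eq_univ_iff_forall.mpr hcon
    rw [this, Finset.card_univ] at hcard2
    omega
  obtain ⟨c, hc⟩ : ∃ c, (Quotient.mk'' c : orbitRel.Quotient (stabilizer G a) Ω) = qc :=
    Quotient.exists_rep qc
  subst hc
  have hca : (Quotient.mk'' c : orbitRel.Quotient (stabilizer G a) Ω) ≠ qa := by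
    intro h
    apply hqc
    rw [h]
    simp
  have hcb : (Quotient.mk'' c : orbitRel.Quotient (stabilizer G a) Ω) ≠ qb := by
    intro h
    apply hqc
    rw [h]
    simp
  have hcard3 : ({Quotient.mk'' c, qa, qb} :
      Finset (orbitRel.Quotient (stabilizer G a) Ω)).card = 3 := by
    rw [Finset.card_insert_of_notMem hqc, hcard2]
  have huniv : ({Quotient.mk'' c, qa, qb} :
      Finset (orbitRel.Quotient (stabilizer G a) Ω)) = Finset.univ := by
    apply Finset.eq_univ_of_card
    rw [hcard3, hrank]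
  refine ⟨c, ?_, ?_, ?_⟩
  · intro h
    apply hca
    rw [h]
  · intro h
    apply hcb
    exact Quotient.sound' h
  · intro y
    have hy : (Quotient.mk'' y : orbitRel.Quotient (stabilizer G a) Ω) ∈
        ({Quotient.mk'' c, qa, qb} : Finset (orbitRel.Quotient (stabilizer G a) Ω)) := by
      rw [huniv]; exact Finset.mem_univ _
    rw [Finset.mem_insert, Finset.mem_insert, Finset.mem_singleton] at hy
    rcases hy with h | h | h
    · right; right
      exact Quotient.exact' h
    · left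
      exact horba y (Quotient.exact' h)
    · right; left
      exact Quotient.exact' h

/-- in a primitive action, if a point stabiliser fixes a second point it fixes all points -/
theorem stabilizer_fixes_all {G : Type*} [Group G] {Ω : Type*} [MulAction G Ω] [Finite Ω]
    (hprim : IsPreprimitive G Ω) (a c : Ω) (hca : c ≠ a)
    (hfix : ∀ h : G, h • a = a → h • c = c) :
    ∀ (x : Ω) (h : G), h • a = a → h • x = x := by
  have : Nontrivial Ω := ⟨⟨c, a, hca⟩⟩
  have hcoatom := IsPreprimitive.isCoatom_stabilizer_of_isPreprimitive (G := G) a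
  have hle : stabilizer G a ≤ stabilizer G c := fun h hh => hfix h hh
  have hne : stabilizer G c ≠ ⊤ := by
    intro htop
    obtain ⟨g, hg⟩ := exists_smul_eq G c a
    have : g ∈ stabilizer G c := by rw [htop]; trivial
    rw [mem_stabilizer_iff] at this
    exact hca (this.symm.trans hg)
  have heq : stabilizer G c = stabilizer G a := by
    rcases eq_or_lt_of_le hle with h | h
    · exact h.symm
    · exact absurd (hcoatom.2 _ h) hne
  have hiff : ∀ h : G, h • c = c ↔ h • a = a := by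
    intro h
    rw [← mem_stabilizer_iff, ← mem_stabilizer_iff, heq]
  -- the set of points with the same stabiliser
  let A : Set Ω := {x | ∀ h : G, h • x = x ↔ h • a = a}
  have haA : a ∈ A := fun h => Iff.rfl
  have hcA : c ∈ A := hiff
  have hAuniv : A = Set.univ := by
    by_contra hA
    obtain ⟨g, hg1, hg2⟩ := IsPreprimitive.exists_mem_smul_and_notMem_smul (G := G)
      (Set.toFinite A) ⟨a, haA⟩ hA hca.symm
    apply hg2
    rw [Set.mem_smul_set_iff_inv_smul_mem] at hg1 ⊢
    intro h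
    have h1 := hg1 h
    -- `h g⁻¹ c = g⁻¹ c ↔ (g h g⁻¹) c = c`
    have e1 : h • g⁻¹ • c = g⁻¹ • c ↔ (g * h * g⁻¹) • c = c := by
      rw [mul_smul, mul_smul, eq_inv_smul_iff]
    have e2 : h • g⁻¹ • a = g⁻¹ • a ↔ (g * h * g⁻¹) • a = a := by
      rw [mul_smul, mul_smul, eq_inv_smul_iff]
    rw [e1, hiff, ← e2, h1]
  intro x h hh
  have hx : x ∈ A := by rw [hAuniv]; trivial
  exact (hx h).mpr hh

theorem card_orbits_of_trivial {H : Type*} [Group H] {Ω : Type*} [MulAction H Ω]
    (htriv : ∀ (x : Ω) (h : H), h • x = x) :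
    Nat.card (orbitRel.Quotient H Ω) = Nat.card Ω := by
  symm
  apply Nat.card_congr
  refine Equiv.ofBijective (fun x => (Quotient.mk'' x : orbitRel.Quotient H Ω)) ⟨?_, ?_⟩
  · intro x y hxy
    have := Quotient.exact' hxy
    obtain ⟨h, hh⟩ := this
    rw [← hh]
    exact (htriv y h)
  · intro q
    obtain ⟨x, hx⟩ := Quotient.exists_rep q
    exact ⟨x, hx⟩

end prim

end Cfsg.Agent.Lib.Helper12
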