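import Mathlib
import Cfsg.Agent.Lib.Helper12.Rank3
import Cfsg.Agent.Lib.Helper3.PermChar

/-!
# Subdegrees of rank 3 groups of Wielandt type (helper12)
-/

set_option autoImplicit false
set_option linter.unusedSectionVars false

namespace Cfsg.Agent.Lib.Helper12

open Module Representation Cfsg.Agent.Lib.Helper3 MulAction
open scoped ComplexConjugate

section main
variable {G : Type*} [Group G] [Fintype G] {Ω : Type*} [Fintype Ω] [DecidableEq Ω]
  [MulAction G Ω]

theorem wielandt_rank3_subdegree (hprim : IsPreprimitive G Ω) {m : ℕ}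
    (hm : Fintype.card Ω = 2 * m) (a₀ : Ω)
    (hrank : Nat.card (orbitRel.Quotient (stabilizer G a₀) Ω) = 3) (χ₁ χ₂ : G → ℂ)
    (h₁ : Cfsg.IsIrrCharacter G χ₁) (h₂ : Cfsg.IsIrrCharacter G χ₂)
    (hπ : (fun g : G => (Nat.card (fixedBy Ω g) : ℂ)) = fun g => 1 + χ₁ g + χ₂ g)
    (hd₁ : χ₁ 1 = (m : ℂ) - 1) (hd₂ : χ₂ 1 = m) (b : Ω) (hb : b ≠ a₀) :
    ∃ a : ℕ, 0 < a ∧ m = 2 * a ^ 2 + 2 * a + 1 ∧
      (Nat.card (orbit (stabilizer G a₀) b) = a * (2 * a + 1) ∨
       Nat.card (orbit (stabilizer G a₀) b) = (a + 1) * (2 * a + 1)) := by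
  classical
  have : IsPretransitive G Ω := hprim.toIsPretransitive
  have hρ : (Cfsg.permRep ℂ G Ω).character = fun g => 1 + χ₁ g + χ₂ g := by
    rw [← hπ]
    funext g
    exact permRep_character g
  have hone : Cfsg.IsIrrCharacter G (fun _ : G => (1 : ℂ)) :=
    Cfsg.Agent.Lib.Helper78.isIrrCharacter_one
  -- the characters are distinct
  have hne : χ₁ ≠ χ₂ := by
    intro h
    rw [h, hd₂] at hd₁
    have : (m : ℂ) - 1 ≠ m := by
      intro h'
      have : (-1 : ℂ) = 0 := by linear_combination h'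
      norm_num at this
    exact this hd₁.symm
  have hmult1 : Cfsg.classInner (fun g : G => (Nat.card (fixedBy Ω g) : ℂ)) (fun _ => (1 : ℂ)) = 1 := by
    rw [classInner_card_fixedBy_one]
    have : Subsingleton (orbitRel.Quotient G Ω) := by
      rw [← pretransitive_iff_subsingleton_quotient]
      infer_instance
    have : Nonempty (orbitRel.Quotient G Ω) := ⟨Quotient.mk'' a₀⟩
    rw [Nat.card_unique]
    simp
  have hsum : (fun g : G => (Nat.card (fixedBy Ω g) : ℂ)) = (fun _ => (1 : ℂ)) + χ₁ + χ₂ := by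
    rw [hπ]; rfl
  rw [hsum, classInner_add_left, classInner_add_left, classInner_irrCharacter hone hone,
    classInner_irrCharacter h₁ hone, classInner_irrCharacter h₂ hone, if_pos rfl] at hmult1
  have h1 : χ₁ ≠ fun _ => 1 := by
    intro h
    rw [if_pos h] at hmult1
    split_ifs at hmult1 <;> norm_num at hmult1
  have h2 : χ₂ ≠ fun _ => 1 := by
    intro h
    rw [if_pos h] at hmult1
    split_ifs at hmult1 <;> norm_num at hmult1
  -- the third orbit
  obtain ⟨c, hca, hcb, hall⟩ := rank3_cases (G := G) a₀ b hb hrank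
  -- notation
  obtain ⟨k, hk⟩ : ∃ k : ℕ, k = Nat.card (orbit (stabilizer G a₀) b) := ⟨_, rfl⟩
  obtain ⟨l, hl⟩ : ∃ l : ℕ, l = (Finset.univ.filter
      (fun y : Ω => y ≠ a₀ ∧ ¬ Orb G a₀ b a₀ y)).card := ⟨_, rfl⟩
  obtain ⟨α, hα⟩ : ∃ α : ℤ, α = (adjZ G a₀ b * adjZ G a₀ b) a₀ a₀ := ⟨_, rfl⟩
  obtain ⟨β, hβ⟩ : ∃ β : ℤ, β = (adjZ G a₀ b * adjZ G a₀ b) a₀ b := ⟨_, rfl⟩
  obtain ⟨γ, hγ⟩ : ∃ γ : ℤ, γ = (adjZ G a₀ b * adjZ G a₀ b) a₀ c := ⟨_, rfl⟩
  have hkl : k + l + 1 = 2 * m := by
    rw [hk, hl, ← hm]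
    exact card_partition (G := G) a₀ b hb
  have hcount : (k : ℤ) ^ 2 = α + β * k + γ * l := by
    rw [hk, hl, hα, hβ, hγ]
    exact adjZ_sq_count (G := G) a₀ b c hb hall
  have hαcase : α = 0 ∨ α = k := by
    rw [hk, hα]
    exact adjZ_sq_diag (G := G) a₀ b
  have hk1 : 1 ≤ k := by
    rw [hk]
    have : Nonempty (orbit (stabilizer G a₀) b) := ⟨⟨b, mem_orbit_self b⟩⟩
    exact Nat.card_pos
  have hcmem : c ∈ Finset.univ.filter (fun y : Ω => y ≠ a₀ ∧ ¬ Orb G a₀ b a₀ y) := by
    rw [Finset.mem_filter]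
    refine ⟨Finset.mem_univ _, hca, ?_⟩
    rw [orb_base_iff]
    exact hcb
  have hl1 : 1 ≤ l := by
    rw [hl]
    exact Finset.card_pos.mpr ⟨c, hcmem⟩
  -- the sum functional
  obtain ⟨L, hL⟩ : ∃ L : (Ω → ℂ) →ₗ[ℂ] ℂ, ∀ v, L v = ∑ x, v x :=
    ⟨{ toFun := fun v => ∑ x, v x
       map_add' := fun u v => by simp [Finset.sum_add_distrib]
       map_smul' := fun c v => by simp [Finset.mul_sum] }, fun v => rfl⟩
  have hLinv : ∀ (g : G) (v : Ω → ℂ), L (Cfsg.permRep ℂ G Ω g v) = L v := by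
    intro g v
    rw [hL, hL]
    simp_rw [permRep_apply']
    exact Equiv.sum_comp (MulAction.toPerm g⁻¹) v
  have hv₀ : (fun _ : Ω => (1 : ℂ)) ≠ 0 := by
    intro h
    have := congrFun h a₀
    simp at this
  have hfix : ∀ g : G, Cfsg.permRep ℂ G Ω g (fun _ => (1 : ℂ)) = fun _ => (1 : ℂ) := by
    intro g
    funext x
    rw [permRep_apply']
  obtain ⟨r, s, x₁, x₂, n₁, n₂, hn₁, hn₂, hx₁, hx₂, hLx₁, hLx₂, hTx₁, hTx₂, htr⟩ :=
    trace_three_constituents (Cfsg.permRep ℂ G Ω) χ₁ χ₂ h₁ h₂ hρ hne h1 h2 (adjOp G a₀ b)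
      (fun g v => adjOp_comm a₀ b g v) (fun _ => (1 : ℂ)) hv₀ hfix (k : ℂ)
      (by rw [hk]; exact adjOp_const a₀ b) L hLinv
  rw [adjOp_trace hb] at htr
  -- degrees
  have hn₁' : n₁ + 1 = m := by
    rw [hd₁] at hn₁
    have : ((n₁ + 1 : ℕ) : ℂ) = (m : ℂ) := by push_cast; linear_combination -hn₁
    exact_mod_cast this
  have hn₂' : n₂ = m := by
    rw [hd₂] at hn₂
    exact_mod_cast hn₂.symm
  -- the quadratic equation
  have hquad : ∀ (x : Ω → ℂ) (μ : ℂ), x ≠ 0 → L x = 0 → adjOp G a₀ b x = μ • x →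
      μ * μ = ((α : ℂ) - γ) + ((β : ℂ) - γ) * μ := by
    intro x μ hx hLx hTx
    have h3 := adjOp_sq (G := G) a₀ b c hb hall x (by rw [← hL]; exact hLx)
    rw [← hα, ← hβ, ← hγ, hTx, map_smul, hTx, smul_smul, smul_smul, ← add_smul] at h3
    exact smul_left_injective ℂ hx h3
  have hqr := hquad x₁ r hx₁ hLx₁ hTx₁
  have hqs := hquad x₂ s hx₂ hLx₂ hTx₂
  have hkc : (0 : ℂ) = k + (n₁ : ℂ) * r + (n₂ : ℂ) * s := htr
  have hn₁c : (n₁ : ℂ) = (m : ℂ) - 1 := by
    rw [← hn₁']; push_cast; ring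
  have hn₂c : (n₂ : ℂ) = (m : ℂ) := by rw [hn₂']
  rw [hn₁c, hn₂c] at hkc
  have hklc : (k : ℂ) + l + 1 = 2 * m := by exact_mod_cast hkl
  -- the integral relation
  have hrel : ∃ t : ℤ, t = β - γ ∧ ((k : ℤ) + m * t) * (k + (m - 1) * t) = α - γ := by
    by_cases hrs : r = s
    · exfalso
      -- `r` is rational and integral
      rw [← hrs] at hkc
      have hden : ((k : ℂ) + l) ≠ 0 := by
        have : 0 < k + l := by omega
        exact_mod_cast this.ne'
      have hr1 : r * ((k : ℂ) + l) = -k := by linear_combination -hkc + r * hklc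
      have hrq : r = ((-(k : ℤ) : ℚ) / ((k + l : ℕ) : ℚ) : ℚ) := by
        push_cast
        rw [eq_div_iff hden]
        exact hr1
      have hint : IsIntegral ℤ r := by
        obtain ⟨t', ht'⟩ : ∃ t' : ℤ, t' = β - γ := ⟨_, rfl⟩
        obtain ⟨c', hc'⟩ : ∃ c' : ℤ, c' = α - γ := ⟨_, rfl⟩
        have hqr' : r * r = (c' : ℂ) + (t' : ℂ) * r := by
          rw [ht', hc']; push_cast; exact hqr
        refine ⟨Polynomial.X ^ 2 - (Polynomial.C t' * Polynomial.X + Polynomial.C c'), ?_, ?_⟩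
        · have hdeg : (Polynomial.C t' * Polynomial.X + Polynomial.C c' :
              Polynomial ℤ).degree < 2 := by
            apply lt_of_le_of_lt (Polynomial.degree_add_le _ _)
            rw [max_lt_iff]
            constructor
            · apply lt_of_le_of_lt (Polynomial.degree_C_mul_X_le _)
              norm_num
            · apply lt_of_le_of_lt Polynomial.degree_C_le
              norm_num
          exact Polynomial.monic_X_pow_sub hdeg
        · rw [Polynomial.eval₂_sub, Polynomial.eval₂_add, Polynomial.eval₂_mul,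
            Polynomial.eval₂_pow, Polynomial.eval₂_X, Polynomial.eval₂_C, Polynomial.eval₂_C]
          simp only [eq_intCast]
          linear_combination hqr'
      have hint' : IsIntegral ℤ ((-(k : ℤ) : ℚ) / ((k + l : ℕ) : ℚ) : ℚ) := by
        have hinj : Function.Injective (algebraMap ℚ ℂ) := (algebraMap ℚ ℂ).injective
        rw [← isIntegral_algebraMap_iff hinj]
        have : (algebraMap ℚ ℂ) ((-(k : ℤ) : ℚ) / ((k + l : ℕ) : ℚ) : ℚ) = r := by
          rw [hrq]; rfl
        rw [this]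
        exact hint
      obtain ⟨z, hz⟩ := IsIntegrallyClosed.algebraMap_eq_of_integral hint'
      have hklq : ((k + l : ℕ) : ℚ) ≠ 0 := by
        have : 0 < k + l := by omega
        exact_mod_cast this.ne'
      have hz' : (z : ℚ) * ((k + l : ℕ) : ℚ) = -(k : ℤ) := by
        have : (z : ℚ) = (-(k : ℤ) : ℚ) / ((k + l : ℕ) : ℚ) := by simpa using hz
        rw [this, div_mul_cancel₀ _ hklq]
      have hz'' : z * ((k + l : ℕ) : ℤ) = -(k : ℤ) := by exact_mod_cast hz'
      -- `k + l` divides `k`, impossible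
      have hzneg : z < 0 := by
        by_contra hz0
        push Not at hz0
        have : 0 ≤ z * ((k + l : ℕ) : ℤ) := mul_nonneg hz0 (by positivity)
        have hk' : (1 : ℤ) ≤ k := by exact_mod_cast hk1
        linarith
      have hz1 : z ≤ -1 := by omega
      have hl' : (1 : ℤ) ≤ l := by exact_mod_cast hl1
      have hk' : (1 : ℤ) ≤ k := by exact_mod_cast hk1
      push_cast at hz''
      nlinarith
    · -- Vieta
      have hsum : r + s = (β : ℂ) - γ := by
        have h3 : (r - s) * (r + s - ((β : ℂ) - γ)) = 0 := by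
          linear_combination hqr - hqs
        rcases mul_eq_zero.mp h3 with h | h
        · exact absurd (sub_eq_zero.mp h) hrs
        · linear_combination h
      refine ⟨β - γ, rfl, ?_⟩
      have hr : r = (k : ℂ) + m * ((β : ℂ) - γ) := by
        linear_combination hkc + (m : ℂ) * hsum
      have hs : s = -(k : ℂ) - ((m : ℂ) - 1) * ((β : ℂ) - γ) := by
        linear_combination hsum - hr
      have hprod : ((k : ℂ) + m * ((β : ℂ) - γ)) * ((k : ℂ) + ((m : ℂ) - 1) * ((β : ℂ) - γ)) =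
          (α : ℂ) - γ := by
        rw [hr] at hqr
        linear_combination hqr
      exact_mod_cast hprod
  obtain ⟨t, ht, hrel'⟩ := hrel
  have hm2 : 2 ≤ m := by omega
  rcases wielandt_arith m k l α β γ t hm2 hk1 hl1 hkl hαcase hcount ht hrel' with h | h | h
  · exfalso
    have hfixb : ∀ g : G, g • a₀ = a₀ → g • b = b := by
      intro g hg
      have hcard : Nat.card (orbit (stabilizer G a₀) b) = 1 := by rw [← hk]; exact h
      have : Subsingleton (orbit (stabilizer G a₀) b) :=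
        (Nat.card_eq_one_iff_unique.mp hcard).1
      have h1 : (⟨(⟨g, hg⟩ : stabilizer G a₀) • b, mem_orbit _ _⟩ :
          orbit (stabilizer G a₀) b) = ⟨b, mem_orbit_self b⟩ := Subsingleton.elim _ _
      exact congrArg Subtype.val h1
    have hallfix := stabilizer_fixes_all hprim a₀ b hb hfixb
    have hcardq := card_orbits_of_trivial (H := stabilizer G a₀) (Ω := Ω)
      (fun x h => hallfix x h h.2)
    rw [hrank, Nat.card_eq_fintype_card, hm] at hcardq
    omega
  · exfalso
    have hfixc : ∀ g : G, g • a₀ = a₀ → g • c = c := by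
      intro g hg
      have hgc : g • c ∈ Finset.univ.filter (fun y : Ω => y ≠ a₀ ∧ ¬ Orb G a₀ b a₀ y) := by
        rw [Finset.mem_filter]
        refine ⟨Finset.mem_univ _, ?_, ?_⟩
        · intro h'
          apply hca
          have : g • c = g • a₀ := by rw [h', hg]
          exact MulAction.injective g this
        · intro h'
          have : Orb G a₀ b (g • a₀) (g • c) := by rw [hg]; exact h'
          rw [orb_smul_iff, orb_base_iff] at this
          exact hcb this
      rw [hl] at h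
      obtain ⟨y, hy⟩ := Finset.card_eq_one.mp h
      rw [hy, Finset.mem_singleton] at hgc hcmem
      rw [hgc, hcmem]
    have hallfix := stabilizer_fixes_all hprim a₀ c hca hfixc
    have hcardq := card_orbits_of_trivial (H := stabilizer G a₀) (Ω := Ω)
      (fun x h => hallfix x h h.2)
    rw [hrank, Nat.card_eq_fintype_card, hm] at hcardq
    omega
  · rw [← hk]
    exact h

end main

end Cfsg.Agent.Lib.Helper12
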