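-- helper12: solvable regular linear groups of type II (no irreducible cyclic normal subgroup):
-- a subgroup of index two, or `SL(2,3)` on `25` points, or `SL(2,3) × C₅` on `121` points.
import Mathlib
import Cfsg.Agent.S0684
import Cfsg.Agent.S0685
import Cfsg.Agent.S0688
import Cfsg.Agent.Lib.Helper35.Sharp2Nonsolv
import Cfsg.Agent.Lib.Helper53.SL2Action
import Cfsg.Agent.Lib.Helper53.SL23Recog
import Cfsg.Agent.Lib.Helper65.IndexTwo
import Cfsg.Agent.Lib.Helper65.RegLinIndexTwo

set_option autoImplicit false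

namespace Cfsg.Agent.Lib.Helper12.RegSolvTypeII

open QuaternionGroup

/-! ### an odd automorphism of `Q₈` -/

/-- the automorphism of `Q₈` interchanging `i = a 1` and `j = xa 0` -/
def swapFun : QuaternionGroup 2 → QuaternionGroup 2
  | .a i => if i = 0 then a 0 else if i = 1 then xa 0 else if i = 2 then a 2 else xa 2
  | .xa i => if i = 0 then a 1 else if i = 1 then xa 3 else if i = 2 then a 3 else xa 1

theorem swapFun_swapFun : ∀ x, swapFun (swapFun x) = x := by decide
theorem swapFun_mul : ∀ x y, swapFun (x * y) = swapFun x * swapFun y := by decide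

/-- the automorphism of `Q₈` interchanging `i` and `j` -/
def swapAut : MulAut (QuaternionGroup 2) where
  toFun := swapFun
  invFun := swapFun
  left_inv := swapFun_swapFun
  right_inv := swapFun_swapFun
  map_mul' := swapFun_mul

theorem sign_swapAut : Equiv.Perm.sign (MulAut.toPerm (QuaternionGroup 2) swapAut) = -1 := by
  decide

/-- the sign of an automorphism of `Q₈` as a permutation of its eight elements -/
def signHom : MulAut (QuaternionGroup 2) →* ℤˣ :=
  Equiv.Perm.sign.comp (MulAut.toPerm (QuaternionGroup 2))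

theorem signHom_swapAut : signHom swapAut = -1 := sign_swapAut

theorem card_mulAut_q8_le : Nat.card (MulAut (QuaternionGroup 2)) ≤ 24 := by
  have h := Cfsg.Agent.S0688.card_aut_q8 (⊤ : Subgroup (MulAut (QuaternionGroup 2)))
    (Subgroup.mem_top _) (Subgroup.mem_top _)
  rw [Subgroup.card_top] at h
  omega

section abstract

variable {H : Type*} [Group H] [Finite H]

open Cfsg.Agent.Lib.Helper65.IndexTwo

/-- a homomorphism onto a subgroup of `Aut(Q₈)` of order `4, 8, 16, 24` gives a subgroup of index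
two -/
theorem exists_index_two_of_range (φ : H →* MulAut (QuaternionGroup 2))
    (hg : Nat.card φ.range = 4 ∨ Nat.card φ.range = 8 ∨ Nat.card φ.range = 16 ∨
      Nat.card φ.range = 24) : ∃ M : Subgroup H, M.index = 2 := by
  have h2grp : ∀ k : ℕ, 1 ≤ k → Nat.card φ.range = 2 ^ k → ∃ M : Subgroup H, M.index = 2 := by
    intro k hk hcard
    have hP : IsPGroup 2 φ.range := IsPGroup.of_card hcard
    have hnt : Nontrivial φ.range := by
      rw [← Finite.one_lt_card_iff_nontrivial, hcard]
      exact Nat.one_lt_two_pow (by omega)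
    exact exists_index_two_of_surjective φ.rangeRestrict φ.rangeRestrict_surjective
      (exists_index_two_of_two_group hP hnt)
  rcases hg with h | h | h | h
  · exact h2grp 2 (by norm_num) (by rw [h]; norm_num)
  · exact h2grp 3 (by norm_num) (by rw [h]; norm_num)
  · exact h2grp 4 (by norm_num) (by rw [h]; norm_num)
  · have htop : φ.range = ⊤ := by
      apply Subgroup.eq_of_le_of_card_ge le_top
      rw [Subgroup.card_top, h]
      exact card_mulAut_q8_le
    obtain ⟨x, hx⟩ : swapAut ∈ φ.range := by rw [htop]; exact Subgroup.mem_top _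
    have hsurj : Function.Surjective (signHom.comp φ) := by
      intro y
      rcases Int.units_eq_one_or y with rfl | rfl
      · exact ⟨1, map_one _⟩
      · refine ⟨x, ?_⟩
        rw [MonoidHom.comp_apply, hx, signHom_swapAut]
    apply exists_index_two_of_surjective (signHom.comp φ) hsurj
    exact ⟨⊥, by rw [Subgroup.index_bot, card_units_int]⟩

/-- a normal `Q₈` and an element of order three not centralising it generate `SL(2,3)` -/
theorem exists_sl23 (Q : Subgroup H) [hQn : Q.Normal] (e : Q ≃* QuaternionGroup 2) (t : H)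
    (ht3 : t ^ 3 = 1) (q : H) (hq : q ∈ Q) (htq : t * q * t⁻¹ ≠ q) :
    ∃ u v t' : H, u ∈ Q ∧ v ∈ Q ∧ (t' = t ∨ t' = t⁻¹) ∧
      Nonempty (↥(Subgroup.closure ({u, v, t'} : Set H)) ≃*
        Matrix.SpecialLinearGroup (Fin 2) (ZMod 3)) := by
  set β : MulAut Q := MulAut.conjNormal t with hβ
  have hβne : β ≠ 1 := by
    intro h1
    apply htq
    have h2 : ((β ⟨q, hq⟩ : Q) : H) = t * q * t⁻¹ := MulAut.conjNormal_apply t ⟨q, hq⟩
    rw [← h2, h1]
    rfl
  have hβ3 : β ^ 3 = 1 := by rw [hβ, ← map_pow, ht3, map_one]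
  have hodd : (orderOf β).Coprime 2 :=
    Nat.Coprime.coprime_dvd_left (orderOf_dvd_of_pow_eq_one hβ3) (by norm_num)
  obtain ⟨γ, u, v, hγ, hu4, hvv, hvu, hγu, hγv, hu2, -, hγ3⟩ :=
    Cfsg.Agent.Lib.Helper53.q8_group_aut_odd e β hodd hβne
  obtain ⟨t', ht', hγt'⟩ : ∃ t' : H, (t' = t ∨ t' = t⁻¹) ∧ γ = MulAut.conjNormal t' := by
    rcases hγ with h | h
    · exact ⟨t, Or.inl rfl, h⟩
    · exact ⟨t⁻¹, Or.inr rfl, by rw [h, hβ, map_inv]⟩
  have ht'3 : t' ^ 3 = 1 := by
    rcases ht' with rfl | rfl
    · exact ht3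
    · rw [inv_pow, ht3, inv_one]
  have hu4' : (u : H) ^ (2 * 2) = 1 := by
    have := congrArg Subtype.val hu4
    simpa using this
  have hvv' : (v : H) * (v : H) = (u : H) ^ 2 := by
    have := congrArg Subtype.val hvv
    simpa using this
  have hvu' : (v : H) * (u : H) * (v : H)⁻¹ = (u : H)⁻¹ := by
    have := congrArg Subtype.val hvu
    simpa using this
  have htu' : t' * (u : H) * t'⁻¹ = (v : H) := by
    have h1 : ((γ u : Q) : H) = t' * (u : H) * t'⁻¹ := by
      rw [hγt']
      exact MulAut.conjNormal_apply t' u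
    rw [← h1, hγu]
  have htv' : t' * (v : H) * t'⁻¹ = (u : H) * (v : H) := by
    have h1 : ((γ v : Q) : H) = t' * (v : H) * t'⁻¹ := by
      rw [hγt']
      exact MulAut.conjNormal_apply t' v
    rw [← h1, hγv]
    rfl
  have hu2' : (u : H) ^ 2 ≠ 1 := by
    intro h
    apply hu2
    apply Subtype.ext
    simpa using h
  have ht'1 : t' ≠ 1 := by
    intro h1
    rw [h1, one_mul, inv_one, mul_one] at htu'
    rw [← htu', mul_inv_cancel_right] at hvu'
    apply hu2'
    rw [pow_two]
    calc (u : H) * (u : H) = (u : H) * (u : H)⁻¹ := by rw [← hvu']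
      _ = 1 := mul_inv_cancel _
  exact ⟨u, v, t', u.2, v.2, ht', Cfsg.Agent.Lib.Helper53.closure_mulEquiv_SL23 (u : H) (v : H) t'
    hu4' hvv' hvu' ht'3 htu' htv' hu2' ht'1⟩

/-- internal direct products -/
theorem prod_equiv (S Y : Subgroup H) (hcomm : ∀ s ∈ S, ∀ y ∈ Y, s * y = y * s)
    (hdisj : S ⊓ Y = ⊥) (hcard : Nat.card H = Nat.card S * Nat.card Y) :
    Nonempty (H ≃* S × Y) := by
  have hcm : ∀ (s : S) (y : Y), Commute (S.subtype s) (Y.subtype y) :=
    fun s y => hcomm s s.2 y y.2
  set ψ : S × Y →* H := MonoidHom.noncommCoprod S.subtype Y.subtype hcm with hψ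
  have hψinj : Function.Injective ψ := by
    rw [hψ, MonoidHom.noncommCoprod_injective]
    refine ⟨S.subtype_injective, Y.subtype_injective, ?_⟩
    rw [Subgroup.range_subtype, Subgroup.range_subtype, disjoint_iff]
    exact hdisj
  have hbij : Function.Bijective ψ := by
    apply Function.Injective.bijective_of_nat_card_le hψinj
    rw [hcard, Nat.card_prod]
  exact ⟨(MulEquiv.ofBijective ψ hbij).symm⟩

end abstract

section linear

variable {p : ℕ} [Fact p.Prime] {V : Type*} [AddCommGroup V] [Module (ZMod p) V] [Finite V]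

/-- **Type II**: a solvable linear group regular on the non-zero vectors without irreducible cyclic
normal subgroup has a subgroup of index two, or is `SL(2,3)` on `25` points, or `SL(2,3) × C₅` on
`121` points. -/
theorem typeII (H : Subgroup (V ≃ₗ[ZMod p] V))
    (hreg : ∀ v w : V, v ≠ 0 → w ≠ 0 → ∃! h : H, (h : V ≃ₗ[ZMod p] V) v = w)
    (hI : ∀ A : Subgroup H, A.Normal → IsCyclic A → ∃ W : Submodule (ZMod p) V,
      W ≠ ⊥ ∧ W ≠ ⊤ ∧ ∀ a ∈ A, ∀ v ∈ W, ((a : H) : V ≃ₗ[ZMod p] V) v ∈ W)
    (hsolv : Group.IsSolvable H) :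
    (∃ M : Subgroup H, M.index = 2) ∨
    (Nat.card V = 25 ∧ Nonempty (H ≃* Matrix.SpecialLinearGroup (Fin 2) (ZMod 3))) ∨
    (Nat.card V = 121 ∧
      Nonempty (H ≃* Matrix.SpecialLinearGroup (Fin 2) (ZMod 3) × Multiplicative (ZMod 5))) := by
  classical
  have hp : p.Prime := Fact.out
  have hfinGL : Finite (V ≃ₗ[ZMod p] V) := Finite.of_injective (fun e => (e : V → V))
    (fun e f h => LinearEquiv.ext (congrFun h))
  have hfpf : ∀ h : H, ∀ v : V, v ≠ 0 → (h : V ≃ₗ[ZMod p] V) v = v → h = 1 := by
    intro h v hv hhv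
    obtain ⟨h0, -, huniq⟩ := hreg v v hv hv
    rw [huniq h hhv, huniq 1 (by simp)]
  have hVnt : Nontrivial V := by
    obtain ⟨W, hW1, hW2, -⟩ := hI ⊥ inferInstance inferInstance
    by_contra hnt
    rw [not_nontrivial_iff_subsingleton] at hnt
    exact hW1 (Subsingleton.elim _ _)
  have hcyc : ∀ B : Subgroup H, IsMulCommutative B → IsCyclic B :=
    fun B hB => Cfsg.Agent.S0684.isCyclic_of_fpf H B hfpf
  obtain ⟨A, hA⟩ := exists_maximal_of_wellFoundedGT
    (fun B : Subgroup H => B.Normal ∧ IsMulCommutative B) ⟨⊥, inferInstance, inferInstance⟩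
  obtain ⟨⟨hAn, hAc⟩, hAmax'⟩ := hA
  have hAmax : ∀ B : Subgroup H, B.Normal → IsMulCommutative B → A ≤ B → B = A :=
    fun B hBn hBc hAB => le_antisymm (hAmax' ⟨hBn, hBc⟩ hAB) hAB
  obtain ⟨-, hC⟩ := Cfsg.Agent.S0685.result H hreg hI A hAn hAc hAmax
  obtain ⟨Q, hQn, ⟨e⟩⟩ := Cfsg.Agent.S0688.exists_normal_q8 hsolv hcyc A hAn hAc hAmax hC
  have hV := Cfsg.Agent.S0688.result H hreg hI hsolv
  have hHcard : Nat.card H = Nat.card V - 1 := Cfsg.Agent.Lib.Helper65.RegLin.card_of_reg H hreg
  -- the action on `Q`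
  set φ : H →* MulAut (QuaternionGroup 2) :=
    (MulAut.congr e).toMonoidHom.comp (MulAut.conjNormal (H := Q)) with hφ
  have hconj : ∀ q : Q, φ (q : H) = MulAut.conj (e q) := by
    intro q
    rw [hφ, MonoidHom.comp_apply, MulAut.conjNormal_val]
    apply MulEquiv.ext
    intro x
    show e (MulAut.conj q (e.symm x)) = MulAut.conj (e q) x
    rw [MulAut.conj_apply, MulAut.conj_apply, map_mul, map_mul, map_inv, e.apply_symm_apply]
  have hker_iff : ∀ c : H, c ∈ φ.ker ↔ MulAut.conjNormal (H := Q) c = 1 := by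
    intro c
    rw [MonoidHom.mem_ker, hφ, MonoidHom.comp_apply]
    constructor
    · intro hc
      apply (MulAut.congr e).injective
      rw [map_one]
      exact hc
    · intro hc
      rw [hc]
      exact map_one _
  have hker : ∀ c ∈ φ.ker, ∀ q ∈ Q, c * q = q * c := by
    intro c hc q hq
    have h1 := (hker_iff c).mp hc
    have h2 : ((MulAut.conjNormal (H := Q) c) ⟨q, hq⟩ : H) = c * q * c⁻¹ :=
      MulAut.conjNormal_apply c ⟨q, hq⟩
    rw [h1] at h2
    have h3 : q = c * q * c⁻¹ := h2
    calc c * q = c * q * c⁻¹ * c := by group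
      _ = q * c := by rw [← h3]
  have hnotker : ∀ c : H, c ∉ φ.ker → ∃ q ∈ Q, c * q * c⁻¹ ≠ q := by
    intro c hc
    by_contra hcon
    push Not at hcon
    apply hc
    rw [hker_iff]
    apply MulEquiv.ext
    intro x
    apply Subtype.ext
    rw [MulAut.conjNormal_apply]
    exact hcon x x.2
  have hgr := Cfsg.Agent.S0688.card_aut_q8 φ.range
    ⟨((e.symm (a 1) : Q) : H), by rw [hconj, e.apply_symm_apply]⟩
    ⟨((e.symm (xa 0) : Q) : H), by rw [hconj, e.apply_symm_apply]⟩
  have hidx : Nat.card H = Nat.card φ.range * Nat.card φ.ker := by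
    rw [← Subgroup.index_ker, mul_comm, Subgroup.card_mul_index]
  by_cases h12 : Nat.card φ.range = 12
  swap
  · left
    apply exists_index_two_of_range φ
    rcases hgr with h | h | h | h | h
    · exact Or.inl h
    · exact Or.inr (Or.inl h)
    · exact absurd h h12
    · exact Or.inr (Or.inr (Or.inl h))
    · exact Or.inr (Or.inr (Or.inr h))
  right
  rw [h12] at hidx
  -- the quaternion generators
  let ι : QuaternionGroup 2 →* H := Q.subtype.comp e.symm.toMonoidHom
  have hιQ : ∀ x, ι x ∈ Q := fun x => (e.symm x).2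
  have hιinj : Function.Injective ι := by
    intro x y hxy
    apply e.symm.injective
    apply Subtype.ext
    exact hxy
  have r1 : ι (a 1) * ι (a 1) = ι (a 2) := by
    rw [← map_mul]; congr 1
  have r2 : ι (xa 0) * ι (xa 0) = ι (a 2) := by
    rw [← map_mul]; congr 1
  have r3 : ι (a 1) * ι (xa 0) = ι (a 2) * (ι (xa 0) * ι (a 1)) := by
    rw [← map_mul, ← map_mul, ← map_mul]; congr 1
  have r4 : ι (a 2) * ι (a 2) = 1 := by
    rw [← map_mul, ← map_one ι]; congr 1
  have r5 : ι (a 2) ≠ 1 := by
    intro h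
    rw [← map_one ι] at h
    have := hιinj h
    revert this
    decide
  have hz : orderOf (ι (a 1) * ι (a 1)) = 2 := by
    rw [r1]
    have : Fact (Nat.Prime 2) := ⟨Nat.prime_two⟩
    apply orderOf_eq_prime
    · rw [pow_two, r4]
    · exact r5
  obtain ⟨W, hVW, hMdvd, -⟩ := Cfsg.Agent.Lib.Helper35.Sharp2.card_dvd_of_quaternion H hfpf
    (ι (a 1)) (ι (xa 0)) hz (by rw [r1, r2]) (by rw [r1]; exact r3) φ.ker
    (fun x hx => (hker x hx _ (hιQ _)).symm) (fun x hx => (hker x hx _ (hιQ _)).symm)
  have h3 : Fact (Nat.Prime 3) := ⟨Nat.prime_three⟩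
  have hcard23 : Nat.card (Matrix.SpecialLinearGroup (Fin 2) (ZMod 3)) = 24 := by
    rw [Nat.card_eq_fintype_card]
    exact Cfsg.Agent.Lib.Helper53.card_SL23
  -- an element of order three outside the kernel
  have hexists_t : 3 ∣ Nat.card H → ¬ 3 ∣ Nat.card φ.ker →
      ∃ u v t' : H, u ∈ Q ∧ v ∈ Q ∧ t' ^ 3 = 1 ∧
        Nonempty (↥(Subgroup.closure ({u, v, t'} : Set H)) ≃*
          Matrix.SpecialLinearGroup (Fin 2) (ZMod 3)) := by
    intro hdvd hndvd
    obtain ⟨t, ht⟩ := exists_prime_orderOf_dvd_card' (G := H) 3 hdvd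
    have ht3 : t ^ 3 = 1 := by rw [← ht]; exact pow_orderOf_eq_one t
    have htk : t ∉ φ.ker := by
      intro htk
      apply hndvd
      rw [← ht]
      exact Subgroup.orderOf_dvd_natCard _ htk
    obtain ⟨q, hq, htq⟩ := hnotker t htk
    obtain ⟨u, v, t', hu, hv, ht', hS⟩ := exists_sl23 Q e t ht3 q hq htq
    refine ⟨u, v, t', hu, hv, ?_, hS⟩
    rcases ht' with rfl | rfl
    · exact ht3
    · rw [inv_pow, ht3, inv_one]
  rcases hV with hV | hV | hV | hV
  · -- 25 points
    left
    refine ⟨hV, ?_⟩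
    have hH24 : Nat.card H = 24 := by rw [hHcard, hV]
    have hk2 : Nat.card φ.ker = 2 := by omega
    obtain ⟨u, v, t', -, -, -, ⟨εS⟩⟩ := hexists_t (by rw [hH24]; norm_num) (by rw [hk2]; norm_num)
    have hScard : Nat.card (Subgroup.closure ({u, v, t'} : Set H)) = 24 := by
      rw [Nat.card_congr εS.toEquiv, hcard23]
    have htop : Subgroup.closure ({u, v, t'} : Set H) = ⊤ := by
      apply Subgroup.eq_top_of_card_eq
      rw [hScard, hH24]
    exact ⟨(Subgroup.topEquiv.symm.trans (MulEquiv.subgroupCongr htop.symm)).trans εS⟩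
  · -- 49 points: impossible
    exfalso
    have hH48 : Nat.card H = 48 := by rw [hHcard, hV]
    have hk4 : Nat.card φ.ker = 4 := by omega
    have hW7 : Nat.card W = 7 := by
      rw [hV] at hVW
      nlinarith
    rw [hk4, hW7] at hMdvd
    revert hMdvd
    decide
  · -- 121 points
    right
    refine ⟨hV, ?_⟩
    have hH120 : Nat.card H = 120 := by rw [hHcard, hV]
    have hk10 : Nat.card φ.ker = 10 := by omega
    obtain ⟨u, v, t', hu, hv, ht'3, ⟨εS⟩⟩ :=
      hexists_t (by rw [hH120]; norm_num) (by rw [hk10]; norm_num)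
    have hScard : Nat.card (Subgroup.closure ({u, v, t'} : Set H)) = 24 := by
      rw [Nat.card_congr εS.toEquiv, hcard23]
    -- the normal subgroup of order five
    have h5 : Fact (Nat.Prime 5) := ⟨by norm_num⟩
    let P : Sylow 5 φ.ker := default
    have hP5 : Nat.card P = 5 := by
      obtain ⟨k, hk⟩ := IsPGroup.iff_card.mp P.2
      have hdvd : Nat.card P ∣ 10 := by
        rw [← hk10]
        exact Subgroup.card_subgroup_dvd_card _
      have h5dvd : 5 ∣ Nat.card P := P.dvd_card_of_dvd_card (by rw [hk10]; norm_num)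
      rw [hk] at hdvd h5dvd ⊢
      have hk1 : k ≠ 0 := by
        rintro rfl
        norm_num at h5dvd
      have hk2 : k < 2 := by
        by_contra hge
        push Not at hge
        have : 5 ^ 2 ∣ 10 := (pow_dvd_pow 5 hge).trans hdvd
        norm_num at this
      have : k = 1 := by omega
      rw [this, pow_one]
    have hPidx : (P : Subgroup φ.ker).index = 2 := by
      have := Subgroup.card_mul_index (P : Subgroup φ.ker)
      rw [hP5, hk10] at this
      omega
    have hPn : (P : Subgroup φ.ker).Normal := Subgroup.normal_of_index_eq_two hPidx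
    have hchar : (P : Subgroup φ.ker).Characteristic := Sylow.characteristic_of_normal P hPn
    have hYn : ((P : Subgroup φ.ker).map φ.ker.subtype).Normal :=
      ConjAct.normal_of_characteristic_of_normal
    set Y : Subgroup H := (P : Subgroup φ.ker).map φ.ker.subtype with hY
    have hYk : Y ≤ φ.ker := Subgroup.map_subtype_le _
    have hY5 : Nat.card Y = 5 := by
      rw [hY, Subgroup.card_map_of_injective φ.ker.subtype_injective, hP5]
    have hYcyc : IsCyclic Y := isCyclic_of_prime_card hY5
    -- `t'` centralises `Y`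
    have hκ : MulAut.conjNormal (H := Y) t' = 1 := by
      have h4 : (MulAut.conjNormal (H := Y) t') ^ 4 = 1 := by
        have hc : Nat.card (MulAut Y) = 4 := by
          rw [IsCyclic.card_mulAut, hY5, Nat.totient_prime h5.out]
        rw [← hc]
        exact pow_card_eq_one'
      have h3' : (MulAut.conjNormal (H := Y) t') ^ 3 = 1 := by
        rw [← map_pow, ht'3, map_one]
      calc MulAut.conjNormal (H := Y) t'
          = (MulAut.conjNormal (H := Y) t') ^ 4 * ((MulAut.conjNormal (H := Y) t') ^ 3)⁻¹ := by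
            group
        _ = 1 := by rw [h4, h3', inv_one, mul_one]
    have ht'Y : ∀ y ∈ Y, t' * y = y * t' := by
      intro y hy
      have h1 : ((MulAut.conjNormal (H := Y) t' ⟨y, hy⟩ : Y) : H) = t' * y * t'⁻¹ :=
        MulAut.conjNormal_apply t' ⟨y, hy⟩
      rw [hκ] at h1
      have h2 : y = t' * y * t'⁻¹ := h1
      calc t' * y = t' * y * t'⁻¹ * t' := by group
        _ = y * t' := by rw [← h2]
    have hcommS : ∀ s ∈ Subgroup.closure ({u, v, t'} : Set H), ∀ y ∈ Y, s * y = y * s := by
      intro s hs y hy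
      have hle : Subgroup.closure ({u, v, t'} : Set H) ≤ Subgroup.centralizer (Y : Set H) := by
        rw [Subgroup.closure_le]
        intro x hx
        rw [SetLike.mem_coe, Subgroup.mem_centralizer_iff]
        intro y' hy'
        rcases hx with rfl | rfl | rfl
        · exact hker y' (hYk hy') _ hu
        · exact hker y' (hYk hy') _ hv
        · exact (ht'Y y' hy').symm
      exact (Subgroup.mem_centralizer_iff.mp (hle hs) y hy).symm
    have hdisj : Subgroup.closure ({u, v, t'} : Set H) ⊓ Y = ⊥ := by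
      apply disjoint_iff.mp
      apply Subgroup.disjoint_of_coprime_natCard
      rw [hScard, hY5]
      norm_num
    obtain ⟨ε⟩ := prod_equiv (Subgroup.closure ({u, v, t'} : Set H)) Y hcommS hdisj
      (by rw [hScard, hY5, hH120])
    have εY : Y ≃* Multiplicative (ZMod 5) := by
      have := (zmodCyclicMulEquiv hYcyc).symm
      rw [hY5] at this
      exact this
    exact ⟨ε.trans (MulEquiv.prodCongr εS εY)⟩
  · -- 529 points: impossible
    exfalso
    have hH528 : Nat.card H = 528 := by rw [hHcard, hV]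
    have hk44 : Nat.card φ.ker = 44 := by omega
    have hW23 : Nat.card W = 23 := by
      rw [hV] at hVW
      nlinarith
    rw [hk44, hW23] at hMdvd
    revert hMdvd
    decide

end linear

end Cfsg.Agent.Lib.Helper12.RegSolvTypeII
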