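import Mathlib
import Cfsg.Agent.Lib.Helper53.SL2Pres.Defs

/-!
# S2286 module [XMAP1] (helper12): the additive map `X : K → G`

Sheet `notes/helper53_S2286_modules.lean.txt`.  Helper lemmas about `pp` (`pp_add`, `pp_congr`,
`pp_single`, `pp_succ`) and the exact sheet statement `exists_X_add`.
-/

set_option autoImplicit false

namespace Cfsg.Agent.Lib.Helper12.SL2Pres

open Cfsg.Agent.Lib.Helper53 Cfsg.Agent.Lib.Helper53.Steinberg Cfsg.Agent.Lib.Helper53.SL2Pres

variable {G : Type*} [Group G] {K : Type*} [Field K]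

/-- ordered product of pointwise products of two commuting families -/
theorem prod_ofFn_mul_of_commute {e : ℕ} (f g : Fin e → G) (hc : ∀ i j, Commute (g i) (f j)) :
    (List.ofFn fun i => f i * g i).prod = (List.ofFn f).prod * (List.ofFn g).prod := by
  induction e with
  | zero => simp
  | succ n ih =>
    rw [List.ofFn_succ, List.ofFn_succ (f := f), List.ofFn_succ (f := g)]
    simp only [List.prod_cons]
    rw [ih (fun i => f i.succ) (fun i => g i.succ) (fun i j => hc _ _)]
    have h1 : Commute (g 0) (List.ofFn fun i : Fin n => f i.succ).prod := by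
      apply Commute.list_prod_right
      intro x hx
      rw [List.mem_ofFn] at hx
      obtain ⟨j, rfl⟩ := hx
      exact hc _ _
    calc f 0 * g 0 * ((List.ofFn fun i : Fin n => f i.succ).prod *
            (List.ofFn fun i : Fin n => g i.succ).prod)
        = f 0 * (g 0 * (List.ofFn fun i : Fin n => f i.succ).prod) *
            (List.ofFn fun i : Fin n => g i.succ).prod := by simp only [mul_assoc]
      _ = f 0 * ((List.ofFn fun i : Fin n => f i.succ).prod * g 0) *
            (List.ofFn fun i : Fin n => g i.succ).prod := by rw [h1.eq]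
      _ = _ := by simp only [mul_assoc]

theorem uc_uc (h u : G) (m j : ℕ) : uc h (uc h u m) j = uc h u (j + m) := by
  simp only [uc, pow_add, mul_inv_rev]
  group

/-- recursion for `pp` -/
theorem pp_succ (h u : G) {e : ℕ} (c : Fin (e + 1) → ℕ) :
    pp h u c = u ^ c 0 * pp h (uc h u 1) (fun i : Fin e => c i.succ) := by
  unfold pp
  rw [List.ofFn_succ, List.prod_cons]
  congr 1
  · simp [uc_zero]
  · congr 1
    congr 1
    funext i
    rw [uc_uc]
    simp

theorem pp_zero_fun (h u : G) {e : ℕ} : pp h u (fun _ : Fin e => 0) = 1 := by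
  unfold pp
  apply List.prod_eq_one
  intro x hx
  rw [List.mem_ofFn] at hx
  obtain ⟨j, rfl⟩ := hx
  simp

theorem pp_single (h u : G) {e : ℕ} (i0 : Fin e) : pp h u (Pi.single i0 1) = uc h u i0 := by
  induction e generalizing u with
  | zero => exact i0.elim0
  | succ n ih =>
    rw [pp_succ]
    refine Fin.cases ?_ ?_ i0
    · have : (fun i : Fin n => (Pi.single (0 : Fin (n+1)) 1 : Fin (n+1) → ℕ) i.succ) = fun _ => 0 := by
        funext i
        simp [Fin.succ_ne_zero]
      rw [this, pp_zero_fun]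
      simp [uc_zero]
    · intro j
      have : (fun i : Fin n => (Pi.single j.succ 1 : Fin (n+1) → ℕ) i.succ) = Pi.single j 1 := by
        funext i
        simp [Pi.single_apply]
      rw [this, ih, uc_uc]
      have h0 : (Pi.single j.succ 1 : Fin (n+1) → ℕ) 0 = 0 := by
        simp [(Fin.succ_ne_zero j).symm]
      rw [h0]
      simp

theorem pp_add (h u : G) (hcomm : ∀ i j : ℕ, Commute (uc h u i) (uc h u j)) {e : ℕ}
    (d d' : Fin e → ℕ) : pp h u (d + d') = pp h u d * pp h u d' := by
  unfold pp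
  rw [← prod_ofFn_mul_of_commute]
  · congr 1
    congr 1
    funext i
    simp [pow_add]
  · intro i j
    exact (hcomm i j).pow_pow _ _

theorem pp_congr (h u : G) {e : ℕ} (d d' : Fin e → ℕ)
    (hd : ∀ i : Fin e, uc h u i ^ d i = uc h u i ^ d' i) : pp h u d = pp h u d' := by
  unfold pp
  congr 1
  congr 1
  funext i
  exact hd i

theorem uc_pow_eq_one (h u : G) {n : ℕ} (hu : u ^ n = 1) (i : ℕ) : uc h u i ^ n = 1 := by
  unfold uc
  rw [conj_pow, hu]
  simp

/-- **S2286-[XMAP1]**, exact sheet statement. -/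
theorem exists_X_add (D : FieldData K) (h u : G) (hup : u ^ D.p = 1)
    (hcomm : ∀ i j : ℕ, Commute (uc h u i) (uc h u j)) :
    ∃ X : K → G, (∀ a b, X a * X b = X (a + b)) ∧ X 1 = u ∧
      (∀ d : Fin D.e → ℕ, X (∑ i, (d i : K) * (D.lam ^ 2) ^ (i : ℕ)) = pp h u d) := by
  classical
  -- well-definedness
  have hwd : ∀ d d' : Fin D.e → ℕ,
      ∑ i, (d i : K) * (D.lam ^ 2) ^ (i : ℕ) = ∑ i, (d' i : K) * (D.lam ^ 2) ^ (i : ℕ) →
      pp h u d = pp h u d' := by
    intro d d' hdd
    apply pp_congr
    intro i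
    have h0 : ∑ i, (((fun i => (d i : ℤ) - (d' i : ℤ)) i : ℤ) : K) * (D.lam ^ 2) ^ (i : ℕ) = 0 := by
      have : ∀ i : Fin D.e, ((((d i : ℤ) - (d' i : ℤ) : ℤ)) : K) * (D.lam ^ 2) ^ (i : ℕ) =
          (d i : K) * (D.lam ^ 2) ^ (i : ℕ) - (d' i : K) * (D.lam ^ 2) ^ (i : ℕ) := by
        intro i
        push_cast
        ring
      simp only [this, Finset.sum_sub_distrib, hdd, sub_self]
    have h1 := D.hind _ h0 i
    have h2 : d' i ≡ d i [MOD D.p] := (Nat.modEq_iff_dvd).mpr h1
    have h3 : d' i ≡ d i [MOD orderOf (uc h u i)] :=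
      h2.of_dvd (orderOf_dvd_of_pow_eq_one (uc_pow_eq_one h u hup i))
    exact (pow_eq_pow_iff_modEq.mpr h3).symm
  refine ⟨fun a => pp h u (Classical.choose (D.hrep a)), ?_, ?_, ?_⟩
  · intro a b
    have ha := Classical.choose_spec (D.hrep a)
    have hb := Classical.choose_spec (D.hrep b)
    have hab := Classical.choose_spec (D.hrep (a + b))
    show pp h u _ * pp h u _ = pp h u _
    rw [← pp_add h u hcomm]
    apply hwd
    rw [← hab]
    conv_rhs => rw [ha, hb]
    rw [← Finset.sum_add_distrib]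
    apply Finset.sum_congr rfl
    intro i _
    simp only [Pi.add_apply]
    push_cast
    ring
  · have h1 := Classical.choose_spec (D.hrep 1)
    show pp h u _ = u
    have h2 : pp h u (Pi.single (⟨0, D.he⟩ : Fin D.e) 1) = u := by
      rw [pp_single]
      exact uc_zero h u
    refine (hwd _ _ ?_).trans h2
    rw [← h1]
    rw [Finset.sum_eq_single (⟨0, D.he⟩ : Fin D.e)]
    · simp
    · intro j _ hj
      simp [hj]
    · intro hn
      exact absurd (Finset.mem_univ _) hn
  · intro d
    show pp h u _ = pp h u d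
    apply hwd
    exact (Classical.choose_spec (D.hrep (∑ i, (d i : K) * (D.lam ^ 2) ^ (i : ℕ)))).symm

end Cfsg.Agent.Lib.Helper12.SL2Pres
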