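import Mathlib
import Cfsg.Agent.Lib.Helper53.SL2Pres.Defs
import Cfsg.Agent.Lib.Helper12.SL2PresXmap1

/-!
# S2286 module [XMAP2] (helper12): `h X(a) h⁻¹ = X(β a)`

Sheet `notes/helper53_S2286_modules.lean.txt`.
-/

set_option autoImplicit false

namespace Cfsg.Agent.Lib.Helper12.SL2Pres

open Cfsg.Agent.Lib.Helper53 Cfsg.Agent.Lib.Helper53.Steinberg Cfsg.Agent.Lib.Helper53.SL2Pres

variable {G : Type*} [Group G] {K : Type*} [Field K]

section additive
variable (X : K → G) (hadd : ∀ a b, X a * X b = X (a + b))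
include hadd

theorem X_zero_of_add : X 0 = 1 := by
  have := hadd 0 0
  rw [add_zero] at this
  exact mul_eq_left.mp this |>.symm ▸ rfl

theorem X_nsmul_of_add (n : ℕ) (a : K) : X ((n : K) * a) = X a ^ n := by
  induction n with
  | zero => simp [X_zero_of_add X hadd]
  | succ n ih =>
    rw [pow_succ, ← ih, hadd]
    congr 1
    push_cast
    ring

theorem prod_ofFn_X {e : ℕ} (f : Fin e → K) :
    (List.ofFn fun i => X (f i)).prod = X (∑ i, f i) := by
  induction e with
  | zero => simp [X_zero_of_add X hadd]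
  | succ n ih =>
    rw [List.ofFn_succ, List.prod_cons, ih (fun i => f i.succ), hadd, Fin.sum_univ_succ]

end additive

theorem uc_add (h u : G) (m n : ℕ) : uc h u (m + n) = h ^ m * uc h u n * (h ^ m)⁻¹ := by
  simp only [uc, pow_add, mul_inv_rev]
  group

/-- conjugating `pp` by a power of `h` -/
theorem conj_pp (h u : G) (m : ℕ) {e : ℕ} (c : Fin e → ℕ) :
    h ^ m * pp h u c * (h ^ m)⁻¹ = pp h (uc h u m) c := by
  have := map_pp (MulAut.conj (h ^ m)).toMonoidHom h u c
  simp only [MulEquiv.coe_toMonoidHom, MulAut.conj_apply] at this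
  rw [this]
  congr 1
  · group

/-- **S2286-[XMAP2]**, exact sheet statement. -/
theorem X_conj (D : FieldData K) (h u : G) (X : K → G) (hadd : ∀ a b, X a * X b = X (a + b))
    (hform : ∀ d : Fin D.e → ℕ, X (∑ i, (d i : K) * (D.lam ^ 2) ^ (i : ℕ)) = pp h u d)
    (hpoly : uc h u D.e = pp h u D.b) :
    ∀ a, h * X a * h⁻¹ = X (D.lam ^ 2 * a) := by
  classical
  -- pp of a shifted family in terms of X, given the values of `uc` on the relevant indices
  have hpp : ∀ (m : ℕ) (c : Fin D.e → ℕ),
      (∀ j : Fin D.e, uc h u ((j : ℕ) + m) = X ((D.lam ^ 2) ^ ((j : ℕ) + m))) →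
      pp h (uc h u m) c = X ((D.lam ^ 2) ^ m * ∑ j, (c j : K) * (D.lam ^ 2) ^ (j : ℕ)) := by
    intro m c hj
    unfold pp
    have : (fun i : Fin D.e => uc h (uc h u m) i ^ c i) =
        fun i : Fin D.e => X ((c i : K) * (D.lam ^ 2) ^ ((i : ℕ) + m)) := by
      funext i
      rw [uc_uc, hj i, X_nsmul_of_add X hadd]
    rw [this, prod_ofFn_X X hadd]
    congr 1
    rw [Finset.mul_sum]
    apply Finset.sum_congr rfl
    intro i _
    rw [pow_add]
    ring
  -- Step 1
  have step1 : ∀ i : ℕ, uc h u i = X ((D.lam ^ 2) ^ i) := by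
    intro i
    induction i using Nat.strong_induction_on with
    | _ i ih =>
      by_cases hi : i < D.e
      · have h1 := hform (Pi.single (⟨i, hi⟩ : Fin D.e) 1)
        rw [pp_single] at h1
        rw [← h1]
        congr 1
        rw [Finset.sum_eq_single (⟨i, hi⟩ : Fin D.e)]
        · simp
        · intro j _ hj
          simp [hj]
        · intro hn
          exact absurd (Finset.mem_univ _) hn
      · replace hi := not_lt.mp hi
        obtain ⟨m, rfl⟩ := Nat.exists_eq_add_of_le' hi
        rw [uc_add, hpoly, conj_pp, hpp m D.b, ← D.hb, ← pow_add]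
        intro j
        exact ih _ (by omega)
  -- Step 2
  intro a
  obtain ⟨d, hd⟩ := D.hrep a
  have h1 : X a = pp h u d := by rw [hd]; exact hform d
  have h2 := conj_pp h u 1 d
  rw [pow_one] at h2
  rw [h1, h2, hpp 1 d (fun j => step1 _), pow_one, ← hd]

end Cfsg.Agent.Lib.Helper12.SL2Pres
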