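-- helper12: a linear group with an irreducible abelian normal subgroup acts semilinearly over the
-- field generated by that subgroup (type I of Passman / Huppert).
import Mathlib

set_option autoImplicit false

namespace Cfsg.Agent.Lib.Helper12.SemilinField

universe u

variable {p : ℕ} [Fact p.Prime] {V : Type u} [AddCommGroup V] [Module (ZMod p) V]

/-- the endomorphism of an element of a linear group -/
def toE (H : Subgroup (V ≃ₗ[ZMod p] V)) (h : H) : Module.End (ZMod p) V :=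
  ((h : V ≃ₗ[ZMod p] V) : V →ₗ[ZMod p] V)

theorem toE_apply (H : Subgroup (V ≃ₗ[ZMod p] V)) (h : H) (v : V) :
    toE H h v = (h : V ≃ₗ[ZMod p] V) v := rfl

theorem toE_mul (H : Subgroup (V ≃ₗ[ZMod p] V)) (h k : H) : toE H (h * k) = toE H h * toE H k := by
  apply LinearMap.ext
  intro v
  rfl

/-- the set of endomorphisms coming from a subgroup -/
def gens (H : Subgroup (V ≃ₗ[ZMod p] V)) (A : Subgroup H) : Set (Module.End (ZMod p) V) :=
  {x | ∃ a ∈ A, toE H a = x}

/-- the subalgebra generated by a subgroup -/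
def alg (H : Subgroup (V ≃ₗ[ZMod p] V)) (A : Subgroup H) : Subalgebra (ZMod p) (Module.End (ZMod p) V) :=
  Algebra.adjoin (ZMod p) (gens H A)

theorem gens_comm (H : Subgroup (V ≃ₗ[ZMod p] V)) (A : Subgroup H) (hAc : IsMulCommutative A) :
    ∀ x ∈ gens H A, ∀ y ∈ gens H A, x * y = y * x := by
  rintro x ⟨a, ha, rfl⟩ y ⟨b, hb, rfl⟩
  rw [← toE_mul, ← toE_mul]
  have := hAc.is_comm.comm ⟨a, ha⟩ ⟨b, hb⟩
  have h2 : a * b = b * a := congrArg Subtype.val this
  rw [h2]

theorem conj_gens (H : Subgroup (V ≃ₗ[ZMod p] V)) (A : Subgroup H) (hAn : A.Normal) (h : H) :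
    (LinearEquiv.conjAlgEquiv (ZMod p) (h : V ≃ₗ[ZMod p] V)) '' gens H A = gens H A := by
  apply Set.eq_of_subset_of_subset
  · rintro _ ⟨_, ⟨a, ha, rfl⟩, rfl⟩
    refine ⟨h * a * h⁻¹, hAn.conj_mem a ha h, ?_⟩
    apply LinearMap.ext
    intro v
    rw [LinearEquiv.conjAlgEquiv_apply]
    rfl
  · rintro _ ⟨a, ha, rfl⟩
    refine ⟨toE H (h⁻¹ * a * h⁻¹⁻¹), ⟨h⁻¹ * a * h⁻¹⁻¹, hAn.conj_mem a ha h⁻¹, rfl⟩, ?_⟩
    apply LinearMap.ext
    intro v
    rw [LinearEquiv.conjAlgEquiv_apply]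
    show (h : V ≃ₗ[ZMod p] V) (((h⁻¹ * a * h⁻¹⁻¹ : H) : V ≃ₗ[ZMod p] V)
      ((h : V ≃ₗ[ZMod p] V).symm v)) = toE H a v
    rw [inv_inv]
    show (h : V ≃ₗ[ZMod p] V) ((h : V ≃ₗ[ZMod p] V).symm ((a : V ≃ₗ[ZMod p] V)
      ((h : V ≃ₗ[ZMod p] V) ((h : V ≃ₗ[ZMod p] V).symm v)))) = toE H a v
    rw [LinearEquiv.apply_symm_apply, LinearEquiv.apply_symm_apply]
    rfl

theorem map_alg (H : Subgroup (V ≃ₗ[ZMod p] V)) (A : Subgroup H) (hAn : A.Normal) (h : H) :
    (alg H A).map ((LinearEquiv.conjAlgEquiv (ZMod p) (h : V ≃ₗ[ZMod p] V)) : _ →ₐ[ZMod p] _)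
      = alg H A := by
  rw [alg, AlgHom.map_adjoin]
  congr 1
  exact conj_gens H A hAn h

/-- conjugation by `h` as an automorphism of the subalgebra -/
noncomputable def conjAlg (H : Subgroup (V ≃ₗ[ZMod p] V)) (A : Subgroup H) (hAn : A.Normal) (h : H) :
    alg H A ≃ₐ[ZMod p] alg H A :=
  ((LinearEquiv.conjAlgEquiv (ZMod p) (h : V ≃ₗ[ZMod p] V)).subalgebraMap (alg H A)).trans
    (Subalgebra.equivOfEq _ _ (map_alg H A hAn h))

theorem conjAlg_apply (H : Subgroup (V ≃ₗ[ZMod p] V)) (A : Subgroup H) (hAn : A.Normal) (h : H)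
    (r : alg H A) (v : V) :
    ((conjAlg H A hAn h r : alg H A) : Module.End (ZMod p) V) v
      = (h : V ≃ₗ[ZMod p] V) ((r : Module.End (ZMod p) V) ((h : V ≃ₗ[ZMod p] V).symm v)) := by
  have : ((conjAlg H A hAn h r : alg H A) : Module.End (ZMod p) V)
      = LinearEquiv.conjAlgEquiv (ZMod p) (h : V ≃ₗ[ZMod p] V) (r : Module.End (ZMod p) V) := rfl
  rw [this, LinearEquiv.conjAlgEquiv_apply]
  rfl

section irreducible

variable (H : Subgroup (V ≃ₗ[ZMod p] V)) (A : Subgroup H) (hAc : IsMulCommutative A)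
  (hirr : ∀ W : Submodule (ZMod p) V,
    (∀ a ∈ A, ∀ v ∈ W, ((a : H) : V ≃ₗ[ZMod p] V) v ∈ W) → W = ⊥ ∨ W = ⊤)

include hAc in
theorem alg_comm (r s : alg H A) : r * s = s * r := by
  have h := Algebra.isMulCommutative_adjoin (ZMod p) (gens_comm H A hAc)
  exact h.is_comm.comm r s

include hAc in
/-- elements of the subalgebra commute with the generators -/
theorem alg_comm_gen (r : Module.End (ZMod p) V) (hr : r ∈ alg H A) (a : H) (ha : a ∈ A) (v : V) :
    r ((a : V ≃ₗ[ZMod p] V) v) = (a : V ≃ₗ[ZMod p] V) (r v) := by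
  have hmem : toE H a ∈ alg H A := Algebra.subset_adjoin ⟨a, ha, rfl⟩
  have := alg_comm H A hAc ⟨r, hr⟩ ⟨toE H a, hmem⟩
  have h2 : r * toE H a = toE H a * r := congrArg Subtype.val this
  exact LinearMap.congr_fun h2 v

include hAc hirr in
/-- nonzero elements of the subalgebra are injective -/
theorem ker_eq_bot (r : Module.End (ZMod p) V) (hr : r ∈ alg H A) (hr0 : r ≠ 0) :
    LinearMap.ker r = ⊥ := by
  rcases hirr (LinearMap.ker r) (by
    intro a ha v hv
    rw [LinearMap.mem_ker] at hv ⊢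
    rw [alg_comm_gen H A hAc r hr a ha, hv, map_zero]) with h | h
  · exact h
  · exfalso
    apply hr0
    apply LinearMap.ext
    intro v
    have : v ∈ LinearMap.ker r := by rw [h]; exact Submodule.mem_top
    exact LinearMap.mem_ker.mp this

include hAc hirr in
theorem eq_zero_of_apply_eq_zero (r : Module.End (ZMod p) V) (hr : r ∈ alg H A) (v : V)
    (hv : v ≠ 0) (h : r v = 0) : r = 0 := by
  by_contra hr0
  have := ker_eq_bot H A hAc hirr r hr hr0
  have hv' : v ∈ LinearMap.ker r := LinearMap.mem_ker.mpr h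
  rw [this, Submodule.mem_bot] at hv'
  exact hv hv'

/-- evaluation at a vector -/
def ev (v₀ : V) : alg H A →+ V where
  toFun r := (r : Module.End (ZMod p) V) v₀
  map_zero' := rfl
  map_add' _ _ := rfl

include hAc hirr in
theorem ev_injective (v₀ : V) (hv₀ : v₀ ≠ 0) : Function.Injective (ev H A v₀) := by
  rw [injective_iff_map_eq_zero]
  intro r hr
  apply Subtype.ext
  exact eq_zero_of_apply_eq_zero H A hAc hirr r r.2 v₀ hv₀ hr

include hirr in
theorem ev_surjective (v₀ : V) (hv₀ : v₀ ≠ 0) : Function.Surjective (ev H A v₀) := by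
  set W : Submodule (ZMod p) V :=
    Submodule.map (LinearMap.applyₗ (R := ZMod p) (M := V) (M₂ := V) v₀)
      (Subalgebra.toSubmodule (alg H A)) with hW
  have hmem : ∀ w : V, w ∈ W ↔ ∃ r ∈ alg H A, r v₀ = w := by
    intro w
    rw [hW, Submodule.mem_map]
    rfl
  rcases hirr W (by
    intro a ha v hv
    rw [hmem] at hv ⊢
    obtain ⟨r, hr, rfl⟩ := hv
    refine ⟨toE H a * r, ?_, rfl⟩
    exact (alg H A).mul_mem (Algebra.subset_adjoin ⟨a, ha, rfl⟩) hr) with h | h
  · exfalso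
    have : v₀ ∈ W := (hmem v₀).mpr ⟨1, (alg H A).one_mem, rfl⟩
    rw [h, Submodule.mem_bot] at this
    exact hv₀ this
  · intro w
    have : w ∈ W := by rw [h]; exact Submodule.mem_top
    obtain ⟨r, hr, hrw⟩ := (hmem w).mp this
    exact ⟨⟨r, hr⟩, hrw⟩

end irreducible

/-- transport of a semilinear description along `Shrink` to universe zero -/
theorem transport {R : Type u} [Field R] [Finite R] (H : Subgroup (V ≃ₗ[ZMod p] V)) (e₀ : V ≃+ R)
    (hsemi : ∀ h : H, ∃ (a : R) (σ : R ≃+* R), ∀ v : V,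
      e₀ ((h : V ≃ₗ[ZMod p] V) v) = a * σ (e₀ v)) :
    ∃ (F : Type) (_ : Field F) (_ : Fintype F) (e : V ≃+ F),
      ∀ h : H, ∃ (a : F) (σ : F ≃+* F), ∀ v : V, e ((h : V ≃ₗ[ZMod p] V) v) = a * σ (e v) := by
  classical
  have hsmall : Small.{0} R := inferInstance
  let ψ : Shrink.{0} R ≃+* R := Shrink.ringEquiv R
  have hfin : Finite (Shrink.{0} R) := Finite.of_equiv R ψ.symm.toEquiv
  refine ⟨Shrink.{0} R, inferInstance, Fintype.ofFinite _, e₀.trans ψ.symm.toAddEquiv, ?_⟩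
  intro h
  obtain ⟨a, σ, hσ⟩ := hsemi h
  refine ⟨ψ.symm a, (ψ.trans σ).trans ψ.symm, ?_⟩
  intro v
  show ψ.symm (e₀ ((h : V ≃ₗ[ZMod p] V) v)) = ψ.symm a * ψ.symm (σ (ψ (ψ.symm (e₀ v))))
  rw [hσ, map_mul, RingEquiv.apply_symm_apply]

section main

variable [Finite V] [Nontrivial V] (H : Subgroup (V ≃ₗ[ZMod p] V)) (A : Subgroup H)

/-- **Type I**: a linear group with an irreducible abelian normal subgroup acts semilinearly on a
field structure on `V`. -/
theorem exists_semilinear (hAn : A.Normal) (hAc : IsMulCommutative A)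
    (hirr : ∀ W : Submodule (ZMod p) V,
      (∀ a ∈ A, ∀ v ∈ W, ((a : H) : V ≃ₗ[ZMod p] V) v ∈ W) → W = ⊥ ∨ W = ⊤) :
    ∃ (F : Type) (_ : Field F) (_ : Fintype F) (e : V ≃+ F),
      ∀ h : H, ∃ (a : F) (σ : F ≃+* F), ∀ v : V, e ((h : V ≃ₗ[ZMod p] V) v) = a * σ (e v) := by
  classical
  obtain ⟨v₀, hv₀⟩ := exists_ne (0 : V)
  have hfinE : Finite (Module.End (ZMod p) V) :=
    Finite.of_injective (fun f : Module.End (ZMod p) V => (f : V → V)) DFunLike.coe_injective
  letI instCR : CommRing (alg H A) :=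
    { (inferInstance : Ring (alg H A)) with mul_comm := alg_comm H A hAc }
  haveI instNT : Nontrivial (alg H A) := by
    refine ⟨⟨0, 1, ?_⟩⟩
    intro h01
    have h2 : (0 : Module.End (ZMod p) V) = 1 := congrArg Subtype.val h01
    have h3 := LinearMap.congr_fun h2 v₀
    exact hv₀ h3.symm
  haveI instNZD : NoZeroDivisors (alg H A) := by
    refine ⟨?_⟩
    intro r s hrs
    by_contra hcon
    push Not at hcon
    obtain ⟨hr0, hs0⟩ := hcon
    have hr0' : (r : Module.End (ZMod p) V) ≠ 0 := fun h => hr0 (Subtype.ext h)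
    have hker := ker_eq_bot H A hAc hirr r r.2 hr0'
    apply hs0
    apply Subtype.ext
    apply LinearMap.ext
    intro v
    have h2 : (r : Module.End (ZMod p) V) * (s : Module.End (ZMod p) V) = 0 :=
      congrArg Subtype.val hrs
    have h3 : (r : Module.End (ZMod p) V) ((s : Module.End (ZMod p) V) v) = 0 :=
      LinearMap.congr_fun h2 v
    have h4 : (s : Module.End (ZMod p) V) v ∈ LinearMap.ker (r : Module.End (ZMod p) V) :=
      LinearMap.mem_ker.mpr h3
    rw [hker, Submodule.mem_bot] at h4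
    exact h4
  haveI instDom : IsDomain (alg H A) := NoZeroDivisors.to_isDomain _
  letI instFT : Fintype (alg H A) := Fintype.ofFinite _
  letI instF : Field (alg H A) := Fintype.fieldOfDomain (alg H A)
  let e₀ : (alg H A) ≃+ V :=
    AddEquiv.ofBijective (ev H A v₀)
      ⟨ev_injective H A hAc hirr v₀ hv₀, ev_surjective H A hirr v₀ hv₀⟩
  have he₀ : ∀ r : alg H A, e₀ r = (r : Module.End (ZMod p) V) v₀ := fun r => rfl
  apply transport H e₀.symm
  intro h
  refine ⟨e₀.symm ((h : V ≃ₗ[ZMod p] V) v₀), (conjAlg H A hAn h).toRingEquiv, ?_⟩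
  intro v
  apply e₀.injective
  rw [AddEquiv.apply_symm_apply]
  set a := e₀.symm ((h : V ≃ₗ[ZMod p] V) v₀) with ha
  set r := e₀.symm v with hr
  have ha' : (a : Module.End (ZMod p) V) v₀ = (h : V ≃ₗ[ZMod p] V) v₀ := by
    rw [← he₀, ha, AddEquiv.apply_symm_apply]
  have hr' : (r : Module.End (ZMod p) V) v₀ = v := by
    rw [← he₀, hr, AddEquiv.apply_symm_apply]
  have hcomm : a * (conjAlg H A hAn h).toRingEquiv r = (conjAlg H A hAn h).toRingEquiv r * a :=
    alg_comm H A hAc _ _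
  rw [hcomm, he₀]
  show (h : V ≃ₗ[ZMod p] V) v
    = ((conjAlg H A hAn h r : alg H A) : Module.End (ZMod p) V) ((a : Module.End (ZMod p) V) v₀)
  rw [conjAlg_apply, ha', LinearEquiv.symm_apply_apply, hr']

end main

end Cfsg.Agent.Lib.Helper12.SemilinField
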