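import Mathlib

/-!
Engine for verifying that an explicitly generated subgroup of `GL(2, p)` acts regularly on the
non-zero vectors, by table-driven kernel computation with natural numbers.
-/

set_option autoImplicit false

namespace Cfsg.Agent.Lib.Helper12

open Matrix

/-- the vector with natural number coordinates -/
def nvec (p : ℕ) (v : ℕ × ℕ) : Fin 2 → ZMod p := ![(v.1 : ZMod p), (v.2 : ZMod p)]

/-- the matrix with natural number entries -/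
def nmat (p : ℕ) (m : ℕ × ℕ × ℕ × ℕ) : Matrix (Fin 2) (Fin 2) (ZMod p) :=
  !![(m.1 : ZMod p), (m.2.1 : ZMod p); (m.2.2.1 : ZMod p), (m.2.2.2 : ZMod p)]

/-- matrix action on coordinates -/
def nact (p : ℕ) (m : ℕ × ℕ × ℕ × ℕ) (v : ℕ × ℕ) : ℕ × ℕ :=
  ((m.1 * v.1 + m.2.1 * v.2) % p, (m.2.2.1 * v.1 + m.2.2.2 * v.2) % p)

/-- the coordinates of a vector -/
def ncoord (p : ℕ) (v : Fin 2 → ZMod p) : ℕ × ℕ := ((v 0).val, (v 1).val)

/-- the check for the "second column" function -/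
def CheckF (p : ℕ) (gens : List (ℕ × ℕ × ℕ × ℕ)) (Fn : ℕ × ℕ → ℕ × ℕ) : Prop :=
  ∀ m ∈ gens, ∀ a ∈ List.range p, ∀ c ∈ List.range p, (a, c) ≠ (0, 0) →
    Fn (nact p m (a, c)) = nact p m (Fn (a, c))

instance (p : ℕ) (gens : List (ℕ × ℕ × ℕ × ℕ)) (Fn : ℕ × ℕ → ℕ × ℕ) :
    Decidable (CheckF p gens Fn) := by
  unfold CheckF; infer_instance

/-- the check for the spanning tree of the orbit of the first basis vector -/
def CheckT (p : ℕ) (gens : List (ℕ × ℕ × ℕ × ℕ)) (par : ℕ × ℕ → (ℕ × ℕ × ℕ × ℕ) × (ℕ × ℕ))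
    (dep : ℕ × ℕ → ℕ) : Prop :=
  ∀ a ∈ List.range p, ∀ c ∈ List.range p, (a, c) ≠ (0, 0) → (a, c) = (1, 0) ∨
    ((par (a, c)).1 ∈ gens ∧ (par (a, c)).2.1 < p ∧ (par (a, c)).2.2 < p ∧
      (par (a, c)).2 ≠ (0, 0) ∧ dep (par (a, c)).2 < dep (a, c) ∧
      nact p (par (a, c)).1 (par (a, c)).2 = (a, c))

instance (p : ℕ) (gens : List (ℕ × ℕ × ℕ × ℕ)) (par : ℕ × ℕ → (ℕ × ℕ × ℕ × ℕ) × (ℕ × ℕ))
    (dep : ℕ × ℕ → ℕ) : Decidable (CheckT p gens par dep) := by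
  unfold CheckT; infer_instance

section
variable {p : ℕ} [Fact p.Prime]

theorem nmat_mulVec (m : ℕ × ℕ × ℕ × ℕ) (v : ℕ × ℕ) :
    nmat p m *ᵥ nvec p v = nvec p (nact p m v) := by
  funext i
  fin_cases i
  · simp [nmat, nvec, nact, Matrix.mulVec, dotProduct, Fin.sum_univ_two, ZMod.natCast_mod]
  · simp [nmat, nvec, nact, Matrix.mulVec, dotProduct, Fin.sum_univ_two, ZMod.natCast_mod]

theorem nvec_ncoord (v : Fin 2 → ZMod p) : nvec p (ncoord p v) = v := by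
  have : NeZero p := ⟨(Fact.out : p.Prime).ne_zero⟩
  funext i
  fin_cases i
  · simp [nvec, ncoord]
  · simp [nvec, ncoord]

theorem ncoord_nvec {v : ℕ × ℕ} (h1 : v.1 < p) (h2 : v.2 < p) : ncoord p (nvec p v) = v := by
  have e1 : ((v.1 : ZMod p)).val = v.1 := ZMod.val_natCast_of_lt h1
  have e2 : ((v.2 : ZMod p)).val = v.2 := ZMod.val_natCast_of_lt h2
  change ((v.1 : ZMod p).val, (v.2 : ZMod p).val) = v
  rw [e1, e2]

theorem ncoord_lt (v : Fin 2 → ZMod p) : (ncoord p v).1 < p ∧ (ncoord p v).2 < p := by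
  have : NeZero p := ⟨(Fact.out : p.Prime).ne_zero⟩
  exact ⟨ZMod.val_lt _, ZMod.val_lt _⟩

theorem ncoord_ne_zero {v : Fin 2 → ZMod p} (hv : v ≠ 0) : ncoord p v ≠ (0, 0) := by
  intro h
  apply hv
  rw [← nvec_ncoord v, h]
  funext i
  fin_cases i <;> simp [nvec]

theorem nact_lt (m : ℕ × ℕ × ℕ × ℕ) (v : ℕ × ℕ) : (nact p m v).1 < p ∧ (nact p m v).2 < p :=
  ⟨Nat.mod_lt _ (Fact.out : p.Prime).pos, Nat.mod_lt _ (Fact.out : p.Prime).pos⟩

/-- a matrix fixing both basis vectors is the identity -/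
theorem eq_one_of_mulVec (M : Matrix (Fin 2) (Fin 2) (ZMod p))
    (h1 : M *ᵥ nvec p (1, 0) = nvec p (1, 0)) (h2 : M *ᵥ nvec p (0, 1) = nvec p (0, 1)) : M = 1 := by
  have a0 := congrFun h1 0
  have a1 := congrFun h1 1
  have b0 := congrFun h2 0
  have b1 := congrFun h2 1
  simp [nvec, Matrix.mulVec, dotProduct, Fin.sum_univ_two] at a0 a1 b0 b1
  ext i j
  fin_cases i <;> fin_cases j <;> simp [a0, a1, b0, b1]

theorem engine (gens : List (ℕ × ℕ × ℕ × ℕ)) (S : Set (GL (Fin 2) (ZMod p)))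
    (hS : ∀ g ∈ S, ∃ m ∈ gens, (g : Matrix (Fin 2) (Fin 2) (ZMod p)) = nmat p m)
    (hS' : ∀ m ∈ gens, ∃ g ∈ S, (g : Matrix (Fin 2) (Fin 2) (ZMod p)) = nmat p m)
    (Fn : ℕ × ℕ → ℕ × ℕ) (hF1 : Fn (1, 0) = (0, 1)) (hF : CheckF p gens Fn)
    (par : ℕ × ℕ → (ℕ × ℕ × ℕ × ℕ) × (ℕ × ℕ)) (dep : ℕ × ℕ → ℕ) (hT : CheckT p gens par dep) :
    Nat.card (Subgroup.closure S) = p ^ 2 - 1 ∧
      ∀ v w : Fin 2 → ZMod p, v ≠ 0 → w ≠ 0 →
        ∃! h : Subgroup.closure S,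
          ((h : GL (Fin 2) (ZMod p)) : Matrix (Fin 2) (Fin 2) (ZMod p)) *ᵥ v = w := by
  classical
  have hp : p.Prime := Fact.out
  have hp1 : 1 < p := hp.one_lt
  set H := Subgroup.closure S with hH
  let F : (Fin 2 → ZMod p) → (Fin 2 → ZMod p) := fun v => nvec p (Fn (ncoord p v))
  -- invertibility
  have hinvl : ∀ (h : GL (Fin 2) (ZMod p)) (v : Fin 2 → ZMod p),
      ((h⁻¹ : GL (Fin 2) (ZMod p)) : Matrix (Fin 2) (Fin 2) (ZMod p)) *ᵥ
        ((h : Matrix (Fin 2) (Fin 2) (ZMod p)) *ᵥ v) = v := by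
    intro h v
    rw [Matrix.mulVec_mulVec, ← Matrix.GeneralLinearGroup.coe_mul, inv_mul_cancel]
    simp
  have hne : ∀ (h : GL (Fin 2) (ZMod p)) (v : Fin 2 → ZMod p), v ≠ 0 →
      (h : Matrix (Fin 2) (Fin 2) (ZMod p)) *ᵥ v ≠ 0 := by
    intro h v hv h0
    apply hv
    rw [← hinvl h v, h0, Matrix.mulVec_zero]
  -- generators commute with F
  have hFgen : ∀ g ∈ S, ∀ v : Fin 2 → ZMod p, v ≠ 0 →
      (g : Matrix (Fin 2) (Fin 2) (ZMod p)) *ᵥ F v = F ((g : Matrix (Fin 2) (Fin 2) (ZMod p)) *ᵥ v) := by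
    intro g hg v hv
    obtain ⟨m, hm, hgm⟩ := hS g hg
    have hlt := ncoord_lt v
    have hv' := ncoord_ne_zero hv
    have key := hF m hm (ncoord p v).1 (List.mem_range.mpr hlt.1) (ncoord p v).2
      (List.mem_range.mpr hlt.2) hv'
    have e1 : (g : Matrix (Fin 2) (Fin 2) (ZMod p)) *ᵥ v = nvec p (nact p m (ncoord p v)) := by
      rw [hgm]
      conv_lhs => rw [← nvec_ncoord v]
      rw [nmat_mulVec]
    change (g : Matrix (Fin 2) (Fin 2) (ZMod p)) *ᵥ nvec p (Fn (ncoord p v)) =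
      nvec p (Fn (ncoord p ((g : Matrix (Fin 2) (Fin 2) (ZMod p)) *ᵥ v)))
    rw [e1, ncoord_nvec (nact_lt m _).1 (nact_lt m _).2, hgm, nmat_mulVec]
    exact congrArg (nvec p) key.symm
  -- all elements of H commute with F
  have hFall : ∀ h ∈ H, ∀ v : Fin 2 → ZMod p, v ≠ 0 →
      (h : Matrix (Fin 2) (Fin 2) (ZMod p)) *ᵥ F v = F ((h : Matrix (Fin 2) (Fin 2) (ZMod p)) *ᵥ v) := by
    intro h hh
    induction hh using Subgroup.closure_induction with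
    | mem g hg => exact hFgen g hg
    | one => intro v _; simp
    | mul h₁ h₂ _ _ ih₁ ih₂ =>
      intro v hv
      rw [Matrix.GeneralLinearGroup.coe_mul, ← Matrix.mulVec_mulVec, ih₂ v hv,
        ih₁ _ (hne h₂ v hv), Matrix.mulVec_mulVec]
    | inv h₁ _ ih =>
      intro v hv
      set u := ((h₁⁻¹ : GL (Fin 2) (ZMod p)) : Matrix (Fin 2) (Fin 2) (ZMod p)) *ᵥ v with hu
      have hu0 : u ≠ 0 := hne h₁⁻¹ v hv
      have h1 : (h₁ : Matrix (Fin 2) (Fin 2) (ZMod p)) *ᵥ u = v := by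
        have := hinvl h₁⁻¹ v
        rwa [inv_inv] at this
      have h2 := ih u hu0
      rw [h1] at h2
      rw [← h2, hinvl]
  -- transitivity
  have htrans : ∀ w : Fin 2 → ZMod p, w ≠ 0 →
      ∃ h ∈ H, (h : Matrix (Fin 2) (Fin 2) (ZMod p)) *ᵥ nvec p (1, 0) = w := by
    have aux : ∀ n : ℕ, ∀ x : ℕ × ℕ, x.1 < p → x.2 < p → x ≠ (0, 0) → dep x = n →
        ∃ h ∈ H, (h : Matrix (Fin 2) (Fin 2) (ZMod p)) *ᵥ nvec p (1, 0) = nvec p x := by
      intro n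
      induction n using Nat.strong_induction_on with
      | _ n ih =>
        intro x hx1 hx2 hx0 hdep
        obtain ⟨a, c⟩ := x
        rcases hT a (List.mem_range.mpr hx1) c (List.mem_range.mpr hx2) hx0 with h | h
        · refine ⟨1, H.one_mem, ?_⟩
          rw [h]; simp
        · obtain ⟨hm, hl1, hl2, hne0, hdlt, hact⟩ := h
          obtain ⟨h', hh', hh'e⟩ := ih (dep (par (a, c)).2) (hdep ▸ hdlt) (par (a, c)).2 hl1 hl2 hne0 rfl
          obtain ⟨g, hg, hgm⟩ := hS' _ hm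
          refine ⟨g * h', H.mul_mem (Subgroup.subset_closure hg) hh', ?_⟩
          rw [Matrix.GeneralLinearGroup.coe_mul, ← Matrix.mulVec_mulVec, hh'e, hgm, nmat_mulVec, hact]
    intro w hw
    have hlt := ncoord_lt w
    obtain ⟨h, hh, he⟩ := aux _ (ncoord p w) hlt.1 hlt.2 (ncoord_ne_zero hw) rfl
    exact ⟨h, hh, by rw [he, nvec_ncoord]⟩
  -- e2 = F e1
  have he1 : ncoord p (nvec p (1, 0)) = (1, 0) := ncoord_nvec (p := p) (v := (1, 0)) hp1 hp.pos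
  have hFe1 : F (nvec p (1, 0)) = nvec p (0, 1) := by
    change nvec p (Fn (ncoord p (nvec p (1, 0)))) = _
    rw [he1, hF1]
  have he1ne : nvec p (1, 0) ≠ (0 : Fin 2 → ZMod p) := by
    intro h
    have := congrArg (ncoord p) h
    rw [he1] at this
    have h0 : ncoord p (0 : Fin 2 → ZMod p) = (0, 0) := by
      simp [ncoord]
    rw [h0] at this
    exact absurd (congrArg Prod.fst this) one_ne_zero
  -- freeness at e1
  have hfree : ∀ h ∈ H, (h : Matrix (Fin 2) (Fin 2) (ZMod p)) *ᵥ nvec p (1, 0) = nvec p (1, 0) →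
      h = 1 := by
    intro h hh hfix
    have h2 := hFall h hh _ he1ne
    rw [hfix, hFe1] at h2
    have := eq_one_of_mulVec _ hfix h2
    apply Units.ext
    exact this
  -- existence and uniqueness
  have hexu : ∀ v w : Fin 2 → ZMod p, v ≠ 0 → w ≠ 0 →
      ∃! h : H, ((h : GL (Fin 2) (ZMod p)) : Matrix (Fin 2) (Fin 2) (ZMod p)) *ᵥ v = w := by
    intro v w hv hw
    obtain ⟨hv', hhv', hv'e⟩ := htrans v hv
    obtain ⟨hw', hhw', hw'e⟩ := htrans w hw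
    refine ⟨⟨hw' * hv'⁻¹, H.mul_mem hhw' (H.inv_mem hhv')⟩, ?_, ?_⟩
    · change ((hw' * hv'⁻¹ : GL (Fin 2) (ZMod p)) : Matrix (Fin 2) (Fin 2) (ZMod p)) *ᵥ v = w
      rw [Matrix.GeneralLinearGroup.coe_mul, ← Matrix.mulVec_mulVec, ← hv'e, hinvl, hw'e]
    · rintro ⟨k, hk⟩ hkv
      change (k : Matrix (Fin 2) (Fin 2) (ZMod p)) *ᵥ v = w at hkv
      apply Subtype.ext
      change k = hw' * hv'⁻¹
      have h1 : hw'⁻¹ * k * hv' = 1 := by
        apply hfree _ (H.mul_mem (H.mul_mem (H.inv_mem hhw') hk) hhv')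
        rw [Matrix.GeneralLinearGroup.coe_mul, Matrix.GeneralLinearGroup.coe_mul,
          ← Matrix.mulVec_mulVec, ← Matrix.mulVec_mulVec, hv'e, hkv, ← hw'e, hinvl]
      have : k = hw' * (hw'⁻¹ * k * hv') * hv'⁻¹ := by group
      rw [this, h1, mul_one]
  refine ⟨?_, hexu⟩
  -- the cardinality
  let e : H → {v : Fin 2 → ZMod p // v ≠ 0} := fun h =>
    ⟨((h : GL (Fin 2) (ZMod p)) : Matrix (Fin 2) (Fin 2) (ZMod p)) *ᵥ nvec p (1, 0), hne _ _ he1ne⟩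
  have hbij : Function.Bijective e := by
    constructor
    · intro h₁ h₂ h12
      have h12' : ((h₁ : GL (Fin 2) (ZMod p)) : Matrix (Fin 2) (Fin 2) (ZMod p)) *ᵥ nvec p (1, 0) =
          ((h₂ : GL (Fin 2) (ZMod p)) : Matrix (Fin 2) (Fin 2) (ZMod p)) *ᵥ nvec p (1, 0) :=
        congrArg Subtype.val h12
      obtain ⟨k, _, hk⟩ := hexu (nvec p (1, 0)) _ he1ne (hne h₂.1 _ he1ne)
      rw [hk h₁ h12', hk h₂ rfl]
    · rintro ⟨w, hw⟩
      obtain ⟨k, hk, _⟩ := hexu (nvec p (1, 0)) w he1ne hw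
      exact ⟨k, Subtype.ext hk⟩
  rw [Nat.card_congr (Equiv.ofBijective e hbij)]
  have : NeZero p := ⟨hp.ne_zero⟩
  rw [Nat.card_eq_fintype_card, Fintype.card_subtype_compl, Fintype.card_subtype_eq]
  simp [ZMod.card]

end

end Cfsg.Agent.Lib.Helper12
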