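import Mathlib

/-!
# S0977 modules [ARITH-P1] and [ARITH-P4] (helper12, for helper72)

Two finite arithmetic facts (no positive perfect square among the values of two quadratic forms on
small boxes), proved by a kernel-checked exhaustive search with an integer square root certificate.
-/

set_option autoImplicit false

namespace Cfsg.Agent.Lib.Helper12.Simple4320

/-- binary search for the integer square root (no correctness proof needed: it only produces a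
certificate which is then checked) -/
def bsq : ℕ → ℕ → ℕ → ℕ → ℕ
  | 0, lo, _, _ => lo
  | f + 1, lo, hi, n =>
    if ((lo + hi) / 2) * ((lo + hi) / 2) ≤ n then bsq f ((lo + hi) / 2) hi n
    else bsq f lo ((lo + hi) / 2) n

/-- `n` is certified not to be a positive perfect square -/
def notSq (n : ℤ) : Bool :=
  decide (n ≤ 0) ||
    (decide (((bsq 8 0 256 n.toNat : ℕ) : ℤ) * ((bsq 8 0 256 n.toNat : ℕ) : ℤ) < n) &&
      decide (n < (((bsq 8 0 256 n.toNat : ℕ) : ℤ) + 1) * (((bsq 8 0 256 n.toNat : ℕ) : ℤ) + 1)))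

theorem false_of_notSq {n : ℤ} (h : notSq n = true) {c : ℕ} (hc : 0 < c) (hn : n = (c : ℤ) ^ 2) :
    False := by
  unfold notSq at h
  rw [Bool.or_eq_true, Bool.and_eq_true, decide_eq_true_eq, decide_eq_true_eq,
    decide_eq_true_eq] at h
  have hc' : (1 : ℤ) ≤ c := by exact_mod_cast hc
  rcases h with h | ⟨h1, h2⟩
  · rw [hn] at h
    nlinarith
  · set k : ℤ := ((bsq 8 0 256 n.toNat : ℕ) : ℤ) with hk
    have hk0 : 0 ≤ k := by rw [hk]; exact Int.natCast_nonneg _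
    rw [hn] at h1 h2
    have h3 : k < c := by
      by_contra hcon
      push Not at hcon
      nlinarith
    have h4 : (c : ℤ) < k + 1 := by
      by_contra hcon
      push Not at hcon
      nlinarith
    omega

/-- the value of the first form -/
def val1 (a b l : ℕ) : ℤ :=
  864 + 54 * ((2 * ((a : ℤ) - 2) + 2 * ((b : ℤ) - 2) + ((l : ℤ) - 9) - 1) *
      (2 * ((a : ℤ) - 2) + 2 * ((b : ℤ) - 2) + ((l : ℤ) - 9) - 1))
    - 216 * ((2 * ((a : ℤ) - 2)) * (2 * ((a : ℤ) - 2)))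
    - 216 * ((2 * ((b : ℤ) - 2)) * (2 * ((b : ℤ) - 2)))
    - 96 * (((l : ℤ) - 9) * ((l : ℤ) - 9))

def chk1 : Bool :=
  (List.range 5).all fun a => (List.range 5).all fun b => (List.range 19).all fun l =>
    notSq (val1 a b l)

theorem chk1_true : chk1 = true := by decide

/-- the value of the second form -/
def val4 (i j l : ℕ) : ℤ :=
  864 + 54 * (((i : ℤ) - 16) * ((i : ℤ) - 16)) + 54 * (((j : ℤ) - 16) * ((j : ℤ) - 16))
    - 96 * (((l : ℤ) - 9) * ((l : ℤ) - 9))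
    - 36 * ((1 + ((i : ℤ) - 16) + ((j : ℤ) - 16) - ((l : ℤ) - 9)) *
        (1 + ((i : ℤ) - 16) + ((j : ℤ) - 16) - ((l : ℤ) - 9)))

def chk4row (i : ℕ) : Bool :=
  (List.range 33).all fun j => (List.range 19).all fun l => notSq (val4 i j l)

theorem chk4row_true : ∀ i < 33, chk4row i = true := by decide +kernel

/-- **S0977-[ARITH-P1]** -/
theorem arith_P1 {v1 v2 v3 v4 : ℤ} {c : ℕ} (h1 : |v1| ≤ 16) (h2 : |v2| ≤ 4) (h3 : |v3| ≤ 4)
    (h4 : |v4| ≤ 9) (e2 : Even v2) (e3 : Even v3) (hlin : 1 + v1 - v2 - v3 - v4 = 0) (hc : 0 < c)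
    (hkey : 864 + 54 * v1 ^ 2 - 216 * v2 ^ 2 - 216 * v3 ^ 2 - 96 * v4 ^ 2 = (c : ℤ) ^ 2) :
    False := by
  obtain ⟨a, ha⟩ := e2
  obtain ⟨b, hb⟩ := e3
  rw [abs_le] at h2 h3 h4
  obtain ⟨ia, hia⟩ : ∃ ia : ℕ, (ia : ℤ) = a + 2 := ⟨(a + 2).toNat, by omega⟩
  obtain ⟨ib, hib⟩ : ∃ ib : ℕ, (ib : ℤ) = b + 2 := ⟨(b + 2).toNat, by omega⟩
  obtain ⟨il, hil⟩ : ∃ il : ℕ, (il : ℤ) = v4 + 9 := ⟨(v4 + 9).toNat, by omega⟩
  have hia5 : ia < 5 := by omega
  have hib5 : ib < 5 := by omega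
  have hil19 : il < 19 := by omega
  have hchk := chk1_true
  unfold chk1 at hchk
  rw [List.all_eq_true] at hchk
  have h5 := hchk ia (List.mem_range.2 hia5)
  rw [List.all_eq_true] at h5
  have h6 := h5 ib (List.mem_range.2 hib5)
  rw [List.all_eq_true] at h6
  have h7 := h6 il (List.mem_range.2 hil19)
  refine false_of_notSq h7 hc ?_
  rw [← hkey]
  unfold val1
  have e1 : (ia : ℤ) - 2 = a := by omega
  have e2' : (ib : ℤ) - 2 = b := by omega
  have e3' : (il : ℤ) - 9 = v4 := by omega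
  rw [e1, e2', e3']
  have hv1 : v1 = (a + a) + (b + b) + v4 - 1 := by linarith
  subst ha hb hv1
  ring

/-- **S0977-[ARITH-P4]** -/
theorem arith_P4 {v1 v2 v3 v4 : ℤ} {c : ℕ} (h1 : |v1| ≤ 16) (h2 : |v2| ≤ 16) (h3 : |v3| ≤ 9)
    (h4 : |v4| ≤ 24) (hlin : 1 + v1 + v2 - v3 - v4 = 0) (hc : 0 < c)
    (hkey : 864 + 54 * v1 ^ 2 + 54 * v2 ^ 2 - 96 * v3 ^ 2 - 36 * v4 ^ 2 = (c : ℤ) ^ 2) :
    False := by
  rw [abs_le] at h1 h2 h3
  obtain ⟨i, hi⟩ : ∃ i : ℕ, (i : ℤ) = v1 + 16 := ⟨(v1 + 16).toNat, by omega⟩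
  obtain ⟨j, hj⟩ : ∃ j : ℕ, (j : ℤ) = v2 + 16 := ⟨(v2 + 16).toNat, by omega⟩
  obtain ⟨l, hl⟩ : ∃ l : ℕ, (l : ℤ) = v3 + 9 := ⟨(v3 + 9).toNat, by omega⟩
  have hi33 : i < 33 := by omega
  have hj33 : j < 33 := by omega
  have hl19 : l < 19 := by omega
  have h5 := chk4row_true i hi33
  unfold chk4row at h5
  rw [List.all_eq_true] at h5
  have h6 := h5 j (List.mem_range.2 hj33)
  rw [List.all_eq_true] at h6
  have h7 := h6 l (List.mem_range.2 hl19)
  refine false_of_notSq h7 hc ?_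
  rw [← hkey]
  unfold val4
  have e1 : (i : ℤ) - 16 = v1 := by omega
  have e2 : (j : ℤ) - 16 = v2 := by omega
  have e3 : (l : ℤ) - 9 = v3 := by omega
  rw [e1, e2, e3]
  have hv4 : v4 = 1 + v1 + v2 - v3 := by linarith
  subst hv4
  ring

end Cfsg.Agent.Lib.Helper12.Simple4320
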