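import Mathlib

set_option autoImplicit false
set_option linter.unusedSectionVars false

namespace Cfsg.Agent.Lib.Helper12

section power
variable {ι : Type*} [Fintype ι] [DecidableEq ι] {T : Type*} [Group T]

/-- a non-abelian simple group has trivial centre -/
theorem exists_not_commute_of_simple [IsSimpleGroup T] (hT : ¬ IsMulCommutative T) {t : T}
    (ht : t ≠ 1) : ∃ s : T, t * s * t⁻¹ * s⁻¹ ≠ 1 := by
  by_contra hcon
  push Not at hcon
  have hcomm : ∀ s : T, s * t = t * s := by
    intro s
    have := hcon s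
    have h2 : t * s * t⁻¹ = s := by
      have h3 : t * s * t⁻¹ * s⁻¹ * s = 1 * s := by rw [this]
      rw [inv_mul_cancel_right, one_mul] at h3
      exact h3
    calc s * t = (t * s * t⁻¹) * t := by rw [h2]
      _ = t * s := by group
  have hmem : t ∈ Subgroup.center T := by
    rw [Subgroup.mem_center_iff]
    exact hcomm
  rcases IsSimpleGroup.eq_bot_or_eq_top_of_normal (Subgroup.center T) inferInstance with h | h
  · rw [h, Subgroup.mem_bot] at hmem
    exact ht hmem
  · apply hT
    constructor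
    constructor
    intro a b
    have : a ∈ Subgroup.center T := by rw [h]; trivial
    rw [Subgroup.mem_center_iff] at this
    exact (this b).symm

/-- a normal subgroup of a power of a non-abelian simple group with a non-trivial `i`-th
coordinate contains the `i`-th factor -/
theorem mulSingle_mem_of_normal [IsSimpleGroup T] (hT : ¬ IsMulCommutative T)
    (M : Subgroup (ι → T)) [hM : M.Normal] {x : ι → T} (hx : x ∈ M) {i : ι} (hxi : x i ≠ 1)
    (t : T) : Pi.mulSingle i t ∈ M := by
  let D : Subgroup T := M.comap (MonoidHom.mulSingle (fun _ => T) i)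
  have hDn : D.Normal := hM.comap _
  obtain ⟨s, hs⟩ := exists_not_commute_of_simple hT hxi
  have hmem : x i * s * (x i)⁻¹ * s⁻¹ ∈ D := by
    change Pi.mulSingle i (x i * s * (x i)⁻¹ * s⁻¹) ∈ M
    have h1 : Pi.mulSingle i (x i * s * (x i)⁻¹ * s⁻¹) =
        x * ((Pi.mulSingle i s) * x⁻¹ * (Pi.mulSingle i s)⁻¹) := by
      funext j
      by_cases hj : j = i
      · subst hj
        simp [mul_assoc]
      · simp [Pi.mulSingle_eq_of_ne hj]
    rw [h1]
    exact M.mul_mem hx (hM.conj_mem _ (M.inv_mem hx) _)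
  rcases IsSimpleGroup.eq_bot_or_eq_top_of_normal D hDn with h | h
  · rw [h, Subgroup.mem_bot] at hmem
    exact absurd hmem hs
  · have : t ∈ D := by rw [h]; trivial
    exact this

theorem mulSingle_conj (g : ι → T) (i : ι) (t : T) :
    g * Pi.mulSingle i t * g⁻¹ = Pi.mulSingle i (g i * t * (g i)⁻¹) := by
  funext j
  by_cases hj : j = i
  · subst hj
    simp
  · simp [Pi.mulSingle_eq_of_ne hj]

theorem range_mulSingle_normal (i : ι) :
    (MonoidHom.mulSingle (fun _ : ι => T) i).range.Normal := by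
  constructor
  rintro x ⟨t, rfl⟩ g
  exact ⟨g i * t * (g i)⁻¹, (mulSingle_conj g i t).symm⟩

/-- an automorphism of a power of a non-abelian simple group maps each factor onto a factor -/
theorem aut_power_factor [IsSimpleGroup T] (hT : ¬ IsMulCommutative T)
    (φ : (ι → T) ≃* (ι → T)) (i : ι) :
    ∃ (j : ι) (ψ : T →* T), Function.Bijective ψ ∧
      ∀ t : T, φ (Pi.mulSingle i t) = Pi.mulSingle j (ψ t) := by
  -- the image of the `i`-th factor
  let Mi : Subgroup (ι → T) := (MonoidHom.mulSingle (fun _ : ι => T) i).range.map φ.toMonoidHom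
  have hMi : Mi.Normal := by
    have := range_mulSingle_normal (T := T) i
    exact Subgroup.Normal.map this _ φ.surjective
  have hmemMi : ∀ t : T, φ (Pi.mulSingle i t) ∈ Mi := fun t => ⟨_, ⟨t, rfl⟩, rfl⟩
  obtain ⟨t₀, ht₀⟩ := exists_ne (1 : T)
  have hx : φ (Pi.mulSingle i t₀) ≠ 1 := by
    intro h
    have h1 : Pi.mulSingle i t₀ = (1 : ι → T) := by
      apply φ.injective
      rw [h, map_one]
    have := congrFun h1 i
    simp at this
    exact ht₀ this
  obtain ⟨j, hj⟩ : ∃ j, φ (Pi.mulSingle i t₀) j ≠ 1 := by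
    by_contra hcon
    push Not at hcon
    exact hx (funext hcon)
  have hNj : ∀ t' : T, Pi.mulSingle j t' ∈ Mi :=
    fun t' => mulSingle_mem_of_normal hT Mi (hmemMi t₀) hj t'
  -- the pull-back of the `j`-th factor
  let D : Subgroup T := (MonoidHom.mulSingle (fun _ : ι => T) j).range.comap
    (φ.toMonoidHom.comp (MonoidHom.mulSingle (fun _ : ι => T) i))
  have hDn : D.Normal := (range_mulSingle_normal (T := T) j).comap _
  have hDne : D ≠ ⊥ := by
    obtain ⟨y, ⟨t, rfl⟩, hy⟩ := hNj t₀
    intro hbot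
    have ht : t ∈ D := ⟨t₀, hy.symm⟩
    rw [hbot, Subgroup.mem_bot] at ht
    rw [ht] at hy
    have h2 : (Pi.mulSingle j t₀ : ι → T) = 1 := by
      rw [← hy]
      simp
    have := congrFun h2 j
    simp at this
    exact ht₀ this
  have hDtop : D = ⊤ := (IsSimpleGroup.eq_bot_or_eq_top_of_normal D hDn).resolve_left hDne
  have hform : ∀ t : T, ∃ t' : T, φ (Pi.mulSingle i t) = Pi.mulSingle j t' := by
    intro t
    have : t ∈ D := by rw [hDtop]; trivial
    obtain ⟨t', ht'⟩ := this
    exact ⟨t', ht'.symm⟩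
  let ψ : T →* T := (Pi.evalMonoidHom (fun _ : ι => T) j).comp
    (φ.toMonoidHom.comp (MonoidHom.mulSingle (fun _ : ι => T) i))
  have hψ : ∀ t : T, φ (Pi.mulSingle i t) = Pi.mulSingle j (ψ t) := by
    intro t
    obtain ⟨t', ht'⟩ := hform t
    have : ψ t = t' := by
      change φ (Pi.mulSingle i t) j = t'
      rw [ht']
      simp
    rw [this, ht']
  refine ⟨j, ψ, ⟨?_, ?_⟩, hψ⟩
  · rw [injective_iff_map_eq_one]
    intro t ht
    have h1 := hψ t
    rw [ht] at h1
    have h2 : Pi.mulSingle i t = (1 : ι → T) := by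
      apply φ.injective
      rw [h1, map_one]
      simp
    have := congrFun h2 i
    simpa using this
  · intro t'
    obtain ⟨y, ⟨t, rfl⟩, hy⟩ := hNj t'
    refine ⟨t, ?_⟩
    have h1 : φ (Pi.mulSingle i t) = Pi.mulSingle j t' := hy
    rw [hψ t] at h1
    have := congrFun h1 j
    simpa using this

/-- automorphisms of a power of a non-abelian simple group: wreath product structure -/
theorem aut_power_structure [IsSimpleGroup T] (hT : ¬ IsMulCommutative T)
    (φ : (ι → T) ≃* (ι → T)) :
    ∃ (σ : ι → ι) (ψ : ι → (T →* T)), Function.Bijective σ ∧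
      (∀ i, Function.Bijective (ψ i)) ∧ ∀ (x : ι → T) (i : ι), φ x (σ i) = ψ i (x i) := by
  choose σ ψ hψbij hψ using aut_power_factor hT φ
  have hformula : ∀ (x : ι → T) (i : ι), φ x (σ i) = ψ i (x i) := by
    intro x i
    obtain ⟨y, hy⟩ : ∃ y : ι → T, y = Function.update x i 1 := ⟨_, rfl⟩
    have hyi : y i = 1 := by rw [hy]; simp
    have hx : x = Pi.mulSingle i (x i) * y := by
      funext k
      by_cases hk : k = i
      · subst hk
        simp [hyi]
      · simp [Pi.mulSingle_eq_of_ne hk, hy, Function.update_of_ne hk]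
    have hcomm : ∀ s : T, y * Pi.mulSingle i s = Pi.mulSingle i s * y := by
      intro s
      funext k
      by_cases hk : k = i
      · subst hk
        simp [hyi]
      · simp [Pi.mulSingle_eq_of_ne hk]
    have hc : φ y (σ i) = 1 := by
      by_contra hne
      obtain ⟨s', hs'⟩ := exists_not_commute_of_simple hT hne
      obtain ⟨s, rfl⟩ := (hψbij i).2 s'
      apply hs'
      have h1 := congrArg (fun z => φ z (σ i)) (hcomm s)
      simp only [map_mul, Pi.mul_apply, hψ, Pi.mulSingle_eq_same] at h1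
      rw [h1]
      group
    conv_lhs => rw [hx]
    rw [map_mul, Pi.mul_apply, hψ, Pi.mulSingle_eq_same, hc, mul_one]
  refine ⟨σ, ψ, ?_, hψbij, hformula⟩
  have hinj : Function.Injective σ := by
    intro i i' h
    by_contra hne
    obtain ⟨t₀, ht₀⟩ := exists_ne (1 : T)
    have h1 := hformula (Pi.mulSingle i t₀) i
    have h2 := hformula (Pi.mulSingle i t₀) i'
    rw [Pi.mulSingle_eq_same] at h1
    rw [Pi.mulSingle_eq_of_ne (Ne.symm hne), map_one, ← h, h1] at h2
    have := (hψbij i).1 (h2.trans (map_one (ψ i)).symm)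
    exact ht₀ this
  exact Finite.injective_iff_bijective.mp hinj

end power

section scott
variable {ι : Type*} [Fintype ι] [DecidableEq ι] {T : Type*} [Group T]

/-- two coordinates of a subgroup of a power are linked if triviality of the first forces
triviality of the second -/
def Linked (L : Subgroup (ι → T)) (i j : ι) : Prop := ∀ x ∈ L, x i = 1 → x j = 1

theorem linked_refl (L : Subgroup (ι → T)) (i : ι) : Linked L i i := fun _ _ h => h

theorem linked_trans {L : Subgroup (ι → T)} {i j k : ι} (h1 : Linked L i j) (h2 : Linked L j k) :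
    Linked L i k := fun x hx h => h2 x hx (h1 x hx h)

/-- linked coordinates of a subdirect power of a simple group differ by an automorphism -/
theorem linked_hom [IsSimpleGroup T] (L : Subgroup (ι → T))
    (hsub : ∀ (i : ι) (t : T), ∃ x ∈ L, x i = t) {i j : ι} (h : Linked L i j) :
    ∃ ψ : T →* T, Function.Bijective ψ ∧ ∀ x ∈ L, x j = ψ (x i) := by
  choose f hfL hf using hsub i
  have key : ∀ x ∈ L, x j = f (x i) j := by
    intro x hx
    have h1 : x * (f (x i))⁻¹ ∈ L := L.mul_mem hx (L.inv_mem (hfL _))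
    have h2 : (x * (f (x i))⁻¹) i = 1 := by
      rw [Pi.mul_apply, Pi.inv_apply, hf, mul_inv_cancel]
    have h3 := h _ h1 h2
    rw [Pi.mul_apply, Pi.inv_apply, mul_inv_eq_one] at h3
    exact h3
  let ψ : T →* T :=
    { toFun := fun t => f t j
      map_one' := by
        have := key 1 L.one_mem
        rw [Pi.one_apply, Pi.one_apply] at this
        exact this.symm
      map_mul' := by
        intro t s
        have := key (f t * f s) (L.mul_mem (hfL t) (hfL s))
        rw [Pi.mul_apply, Pi.mul_apply, hf, hf] at this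
        exact this.symm }
  have hψ : ∀ x ∈ L, x j = ψ (x i) := key
  have hsurj : Function.Surjective ψ := by
    intro t'
    obtain ⟨x, hx, hxj⟩ := hsub j t'
    exact ⟨x i, by rw [← hψ x hx, hxj]⟩
  refine ⟨ψ, ⟨?_, hsurj⟩, hψ⟩
  rw [← MonoidHom.ker_eq_bot_iff]
  rcases IsSimpleGroup.eq_bot_or_eq_top_of_normal ψ.ker inferInstance with hk | hk
  · exact hk
  · exfalso
    obtain ⟨t₀, ht₀⟩ := exists_ne (1 : T)
    obtain ⟨s, hs⟩ := hsurj t₀
    have : s ∈ ψ.ker := by rw [hk]; trivial
    rw [MonoidHom.mem_ker] at this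
    rw [this] at hs
    exact ht₀ hs.symm

theorem linked_symm [IsSimpleGroup T] (L : Subgroup (ι → T))
    (hsub : ∀ (i : ι) (t : T), ∃ x ∈ L, x i = t) {i j : ι} (h : Linked L i j) : Linked L j i := by
  obtain ⟨ψ, hψ, hform⟩ := linked_hom L hsub h
  intro x hx hxj
  rw [hform x hx] at hxj
  exact hψ.1 (hxj.trans (map_one ψ).symm)

/-- pairwise non-linked coordinates of a subdirect power of a non-abelian simple group are
independent -/
theorem exists_mem_of_not_linked [IsSimpleGroup T] (hT : ¬ IsMulCommutative T)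
    (L : Subgroup (ι → T)) (hsub : ∀ (i : ι) (t : T), ∃ x ∈ L, x i = t) (S : Finset ι)
    (hS : ∀ i ∈ S, ∀ j ∈ S, i ≠ j → ¬ Linked L i j) (f : ι → T) :
    ∃ x ∈ L, ∀ i ∈ S, x i = f i := by
  induction S using Finset.induction_on generalizing f with
  | empty => exact ⟨1, L.one_mem, fun i hi => absurd hi (Finset.notMem_empty i)⟩
  | insert r S' hr ih =>
    have hS' : ∀ i ∈ S', ∀ j ∈ S', i ≠ j → ¬ Linked L i j := fun i hi j hj =>
      hS i (Finset.mem_insert_of_mem hi) j (Finset.mem_insert_of_mem hj)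
    have IH : ∀ f : ι → T, ∃ x ∈ L, ∀ i ∈ S', x i = f i := fun f => ih hS' f
    -- single coordinates are realised with trivial `r`-coordinate
    have C1 : ∀ i ∈ S', ∀ t : T, ∃ z ∈ L, z r = 1 ∧ z i = t ∧ ∀ k ∈ S', k ≠ i → z k = 1 := by
      intro i hi
      have hri : r ≠ i := fun h => hr (h ▸ hi)
      let D : Subgroup T :=
        { carrier := {t | ∃ z ∈ L, z r = 1 ∧ z i = t ∧ ∀ k ∈ S', k ≠ i → z k = 1}
          one_mem' := ⟨1, L.one_mem, rfl, rfl, fun _ _ _ => rfl⟩
          mul_mem' := by
            rintro t s ⟨z, hz, hzr, hzi, hzk⟩ ⟨w, hw, hwr, hwi, hwk⟩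
            refine ⟨z * w, L.mul_mem hz hw, ?_, ?_, ?_⟩
            · rw [Pi.mul_apply, hzr, hwr, mul_one]
            · rw [Pi.mul_apply, hzi, hwi]
            · intro k hk hki
              rw [Pi.mul_apply, hzk k hk hki, hwk k hk hki, mul_one]
          inv_mem' := by
            rintro t ⟨z, hz, hzr, hzi, hzk⟩
            refine ⟨z⁻¹, L.inv_mem hz, ?_, ?_, ?_⟩
            · rw [Pi.inv_apply, hzr, inv_one]
            · rw [Pi.inv_apply, hzi]
            · intro k hk hki
              rw [Pi.inv_apply, hzk k hk hki, inv_one] }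
      have hDn : D.Normal := by
        constructor
        rintro t ⟨z, hz, hzr, hzi, hzk⟩ s
        obtain ⟨u, hu, hui⟩ := IH (Pi.mulSingle i s)
        refine ⟨u * z * u⁻¹, L.mul_mem (L.mul_mem hu hz) (L.inv_mem hu), ?_, ?_, ?_⟩
        · rw [Pi.mul_apply, Pi.mul_apply, Pi.inv_apply, hzr, mul_one, mul_inv_cancel]
        · rw [Pi.mul_apply, Pi.mul_apply, Pi.inv_apply, hzi, hui i hi, Pi.mulSingle_eq_same]
        · intro k hk hki
          rw [Pi.mul_apply, Pi.mul_apply, Pi.inv_apply, hzk k hk hki, mul_one, mul_inv_cancel]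
      -- `D` is non-trivial
      have hnl : ¬ Linked L r i :=
        hS r (Finset.mem_insert_self r S') i (Finset.mem_insert_of_mem hi) hri
      unfold Linked at hnl
      push Not at hnl
      obtain ⟨x₀, hx₀, hx₀r, hx₀i⟩ := hnl
      obtain ⟨s, hs⟩ := exists_not_commute_of_simple hT hx₀i
      obtain ⟨u, hu, hui⟩ := IH (Pi.mulSingle i s)
      have hmem : x₀ i * s * (x₀ i)⁻¹ * s⁻¹ ∈ D := by
        refine ⟨x₀ * u * x₀⁻¹ * u⁻¹,
          L.mul_mem (L.mul_mem (L.mul_mem hx₀ hu) (L.inv_mem hx₀)) (L.inv_mem hu), ?_, ?_, ?_⟩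
        · simp only [Pi.mul_apply, Pi.inv_apply, hx₀r]
          group
        · simp only [Pi.mul_apply, Pi.inv_apply, hui i hi, Pi.mulSingle_eq_same]
        · intro k hk hki
          simp only [Pi.mul_apply, Pi.inv_apply, hui k hk, Pi.mulSingle_eq_of_ne hki]
          group
      have hDtop : D = ⊤ := by
        rcases IsSimpleGroup.eq_bot_or_eq_top_of_normal D hDn with h | h
        · rw [h, Subgroup.mem_bot] at hmem
          exact absurd hmem hs
        · exact h
      intro t
      have : t ∈ D := by rw [hDtop]; trivial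
      exact this
    -- arbitrary values on `S'` are realised with trivial `r`-coordinate
    have C2 : ∀ S'' : Finset ι, S'' ⊆ S' → ∀ f : ι → T, ∃ z ∈ L, z r = 1 ∧
        (∀ i ∈ S'', z i = f i) ∧ ∀ i ∈ S', i ∉ S'' → z i = 1 := by
      intro S''
      induction S'' using Finset.induction_on with
      | empty =>
        intro _ f
        exact ⟨1, L.one_mem, rfl, fun i hi => absurd hi (Finset.notMem_empty i), fun _ _ _ => rfl⟩
      | insert i₁ S₂ hi₁ ih2 =>
        intro hsub' f
        have hi₁S' : i₁ ∈ S' := hsub' (Finset.mem_insert_self _ _)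
        obtain ⟨z₂, hz₂, hz₂r, hz₂S, hz₂c⟩ :=
          ih2 (fun i hi => hsub' (Finset.mem_insert_of_mem hi)) f
        obtain ⟨z₁, hz₁, hz₁r, hz₁i, hz₁k⟩ := C1 i₁ hi₁S' (f i₁)
        refine ⟨z₁ * z₂, L.mul_mem hz₁ hz₂, ?_, ?_, ?_⟩
        · rw [Pi.mul_apply, hz₁r, hz₂r, mul_one]
        · intro i hi
          rw [Finset.mem_insert] at hi
          rcases hi with rfl | hi
          · rw [Pi.mul_apply, hz₁i, hz₂c i hi₁S' hi₁, mul_one]
          · have hne : i ≠ i₁ := fun h => hi₁ (h ▸ hi)
            rw [Pi.mul_apply, hz₁k i (hsub' (Finset.mem_insert_of_mem hi)) hne, one_mul,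
              hz₂S i hi]
        · intro i hiS' hi
          rw [Finset.mem_insert, not_or] at hi
          rw [Pi.mul_apply, hz₁k i hiS' hi.1, hz₂c i hiS' hi.2, mul_one]
    -- conclusion
    obtain ⟨y, hy, hyr⟩ := hsub r (f r)
    obtain ⟨z, hz, hzr, hzS, -⟩ := C2 S' (Finset.Subset.refl _) (fun i => f i * (y i)⁻¹)
    refine ⟨z * y, L.mul_mem hz hy, ?_⟩
    intro i hi
    rw [Finset.mem_insert] at hi
    rcases hi with rfl | hi
    · rw [Pi.mul_apply, hzr, one_mul, hyr]
    · rw [Pi.mul_apply, hzS i hi, inv_mul_cancel_right]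

end scott

end Cfsg.Agent.Lib.Helper12
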