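import Mathlib

/-!
# S2772 (helper12): Sims' theorem in local form, vocabulary for the step `q = 3`

`EA A`: `A` has exponent `2` (so it is elementary abelian).  `omZ Q = Ω₁Z(Q)`.
`NoCommon G S x`: no non-trivial subgroup of `S` is normalized by `G` and by `x`.
-/

set_option autoImplicit false

namespace Cfsg.Agent.Lib.Helper12.SimsLoc

variable {H : Type*} [Group H]

/-- exponent `2` -/
def EA (A : Subgroup H) : Prop := ∀ a ∈ A, a * a = 1

theorem EA.comm {A : Subgroup H} (hA : EA A) {a b : H} (ha : a ∈ A) (hb : b ∈ A) :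
    a * b = b * a := by
  have h1 := hA a ha
  have h2 := hA b hb
  have h3 := hA (a * b) (mul_mem ha hb)
  calc a * b = (b * b) * (a * b) * (a * a) := by rw [h1, h2, one_mul, mul_one]
    _ = b * (b * a) * (b * a) * a := by group
    _ = b * ((a * b) * (a * b))⁻¹ * a := by
        rw [h3]; have : b * a * (b * a) = 1 := by
          have := hA (b * a) (mul_mem hb ha); exact this
        rw [mul_assoc b (b * a), this]; simp
    _ = b * a := by rw [h3]; simp

theorem EA.inv {A : Subgroup H} (hA : EA A) {a : H} (ha : a ∈ A) : a⁻¹ = a :=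
  inv_eq_of_mul_eq_one_left (hA a ha)

theorem EA.mono {A B : Subgroup H} (hB : EA B) (h : A ≤ B) : EA A := fun a ha => hB a (h ha)

/-- `Ω₁Z(Q)`: the elements of `Q` of square `1` commuting with `Q` -/
def omZ (Q : Subgroup H) : Subgroup H where
  carrier := {v | v ∈ Q ∧ (∀ u ∈ Q, v * u = u * v) ∧ v * v = 1}
  one_mem' := ⟨one_mem _, fun u _ => by simp, by simp⟩
  mul_mem' := by
    rintro a b ⟨ha, hac, ha2⟩ ⟨hb, hbc, hb2⟩
    refine ⟨mul_mem ha hb, fun u hu => ?_, ?_⟩
    · rw [mul_assoc, hbc u hu, ← mul_assoc, hac u hu, mul_assoc]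
    · calc a * b * (a * b) = a * (b * a) * b := by group
        _ = a * (a * b) * b := by rw [hbc a ha]
        _ = (a * a) * (b * b) := by group
        _ = 1 := by rw [ha2, hb2, one_mul]
  inv_mem' := by
    rintro a ⟨ha, hac, ha2⟩
    have hinv : a⁻¹ = a := inv_eq_of_mul_eq_one_left ha2
    rw [hinv]
    exact ⟨ha, hac, ha2⟩

theorem mem_omZ {Q : Subgroup H} {v : H} :
    v ∈ omZ Q ↔ v ∈ Q ∧ (∀ u ∈ Q, v * u = u * v) ∧ v * v = 1 := Iff.rfl

theorem omZ_le (Q : Subgroup H) : omZ Q ≤ Q := fun _ hv => hv.1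

theorem omZ_EA (Q : Subgroup H) : EA (omZ Q) := fun _ hv => hv.2.2

/-- no non-trivial subgroup of `S` is normalized by `G` and by `x` -/
def NoCommon (G S : Subgroup H) (x : H) : Prop :=
  ∀ N : Subgroup H, N ≤ S → N ≠ ⊥ → (∀ g ∈ G, ∀ u ∈ N, g * u * g⁻¹ ∈ N) →
    (∀ u ∈ N, x * u * x⁻¹ ∈ N) → False

end Cfsg.Agent.Lib.Helper12.SimsLoc
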