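import Mathlib
import Cfsg.Prelude.Def_Amalgam
import Cfsg.Agent.Lib.Helper46.Ambient
import Cfsg.Agent.Lib.Helper12.SimsLocDefs
import Cfsg.Agent.Lib.Helper12.AmalGen
import Cfsg.Agent.Lib.Helper12.AmalVTQuot
import Cfsg.Agent.Lib.Helper59.SimsFront

/-!
# S2772 (helper12): Sims' theorem in local form, front-end

`sims_local hS hQ3` : the statement of S2772, modulo the statement of S2858 (`hS`) and the step
`q = 3` (`hQ3 : Q3Stmt`, proved in `SimsLocQ3` from the modules of `SimsLocSHEET.md`).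
-/

set_option autoImplicit false

namespace Cfsg.Agent.Lib.Helper12.SimsLoc

open Cfsg Cfsg.Agent.Lib.Helper46 Cfsg.Agent.Lib.Helper59.SimsFront
  Cfsg.Agent.Lib.Helper44.SimsFront Cfsg.Agent.Lib.Helper42.SimsFront

universe u

/-- the statement of the step `q = 3` -/
def Q3Stmt : Prop :=
  ∀ {H : Type u} [Group H] [Finite H] (G S Q : Subgroup H) (x : H)
    (_ : Q ≤ S) (_ : S ≤ G) (_ : IsPGroup 2 ↥S)
    (q : ℕ) (_ : q.Prime) (_ : q ≠ 2)
    (_ : Nat.card ↥G = q * Nat.card ↥S) (_ : Nat.card ↥S = 2 * Nat.card ↥Q)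
    (_ : ∀ g ∈ G, ∀ u ∈ Q, g * u * g⁻¹ ∈ Q)
    (_ : ∀ g ∈ G, (∀ u ∈ Q, g * u = u * g) → g ∈ Q)
    (_ : ∀ N : Subgroup H, N ≤ G → IsPGroup 2 ↥N → (∀ g ∈ G, ∀ u ∈ N, g * u * g⁻¹ ∈ N) → N ≤ Q)
    (_ : ∀ s ∈ S, x * s * x⁻¹ ∈ S)
    (_ : NoCommon G S x), q = 3

/-- arithmetic: the `2`-part -/
theorem two_part {k n i q : ℕ} (hi : ¬ 2 ∣ i) (hq : ¬ 2 ∣ q)
    (h : 2 ^ n * i = 2 ^ k * (2 * q)) : 2 ^ n = 2 * 2 ^ k ∧ i = q := by
  have hci : Nat.Coprime 2 i := (Nat.Prime.coprime_iff_not_dvd Nat.prime_two).2 hi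
  have hcq : Nat.Coprime 2 q := (Nat.Prime.coprime_iff_not_dvd Nat.prime_two).2 hq
  have e : 2 ^ k * (2 * q) = 2 ^ (k + 1) * q := by ring
  rw [e] at h
  have h1 : 2 ^ (k + 1) ∣ 2 ^ n := by
    apply (Nat.Coprime.pow_left (k + 1) hci).dvd_of_dvd_mul_right
    exact ⟨q, h⟩
  have h2 : 2 ^ n ∣ 2 ^ (k + 1) := by
    apply (Nat.Coprime.pow_left n hcq).dvd_of_dvd_mul_right
    exact ⟨i, h.symm⟩
  have h3 : 2 ^ n = 2 ^ (k + 1) := Nat.dvd_antisymm h2 h1
  refine ⟨by rw [h3]; ring, ?_⟩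
  rw [h3] at h
  exact Nat.eq_of_mul_eq_mul_left (by positivity) h

theorem mem_normalizer_of_conj_mem {H : Type*} [Group H] [Finite H] {N : Subgroup H} {x : H}
    (h : ∀ u ∈ N, x * u * x⁻¹ ∈ N) : x ∈ Subgroup.normalizer (N : Set H) := by
  rw [Subgroup.mem_normalizer_iff]
  intro u
  refine ⟨h u, fun hu => ?_⟩
  -- conjugation by `x` is an injective self-map of the finite set `N`
  let f : ↥N → ↥N := fun n => ⟨x * n * x⁻¹, h n n.2⟩
  have hf : Function.Injective f := by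
    intro a b hab
    have := congrArg Subtype.val hab
    simp only [f] at this
    apply Subtype.ext
    exact mul_left_cancel (mul_right_cancel this)
  obtain ⟨n, hn⟩ := (Finite.injective_iff_surjective.1 hf) ⟨x * u * x⁻¹, hu⟩
  have := congrArg Subtype.val hn
  simp only [f] at this
  have : (n : H) = u := mul_left_cancel (mul_right_cancel this)
  rw [← this]
  exact n.2

/-- **S2772** modulo `S2858` and the step `q = 3` -/
theorem sims_local (hS : S2858Stmt.{u}) (hQ3 : Q3Stmt.{u}) {H : Type u} [Group H] [Finite H]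
    [IsSimpleGroup H] (G : Subgroup H) (hG : IsCoatom G)
    (hchar : Subgroup.centralizer (Cfsg.pCore 2 ↥G : Set ↥G) ≤ Cfsg.pCore 2 ↥G) (S : Sylow 2 ↥G)
    (hN : ¬ Subgroup.normalizer (((S : Subgroup ↥G).map G.subtype : Subgroup H) : Set H) ≤ G)
    (q : ℕ) (hq : q.Prime) (hD : Nonempty (↥G ⧸ Cfsg.pCore 2 ↥G ≃* DihedralGroup q)) :
    Nonempty (↥G ≃* Equiv.Perm (Fin 4)) ∨
      Nonempty (↥G ≃* Equiv.Perm (Fin 4) × Multiplicative (ZMod 2)) := by
  classical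
  have : Fact (Nat.Prime 2) := ⟨Nat.prime_two⟩
  obtain ⟨T, hTdef⟩ : ∃ T : Subgroup H, T = (S : Subgroup ↥G).map G.subtype := ⟨_, rfl⟩
  rw [← hTdef] at hN
  obtain ⟨Q, hQdef⟩ : ∃ Q : Subgroup H, Q = pCoreOf 2 G := ⟨_, rfl⟩
  have hTG : T ≤ G := hTdef ▸ Subgroup.map_subtype_le _
  have hQT : Q ≤ T := by
    rw [hQdef, hTdef]
    exact Subgroup.map_mono (pCore_le_sylow S)
  have two : IsPGroup 2 ↥T := hTdef ▸ S.isPGroup'.map G.subtype
  obtain ⟨x, hxN, hxG⟩ := SetLike.not_le_iff_exists.1 hN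
  have hnorm : (Cfsg.pCore 2 ↥G).Normal := Cfsg.Agent.Lib.Helper46.pCore_normal
  -- cardinalities
  have cQ : Nat.card ↥Q = Nat.card ↥(Cfsg.pCore 2 ↥G) := by
    rw [hQdef]; unfold pCoreOf
    exact Subgroup.card_map_of_injective G.subtype_injective
  have cT : Nat.card ↥T = Nat.card ↥(S : Subgroup ↥G) := by
    rw [hTdef]
    exact Subgroup.card_map_of_injective G.subtype_injective
  have cquot : Nat.card (↥G ⧸ Cfsg.pCore 2 ↥G) = 2 * q := by
    obtain ⟨e⟩ := hD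
    rw [Nat.card_congr e.toEquiv, DihedralGroup.nat_card]
  have cG : Nat.card ↥G = Nat.card ↥Q * (2 * q) := by
    rw [Subgroup.card_eq_card_quotient_mul_card_subgroup (Cfsg.pCore 2 ↥G), cquot, cQ]
    ring
  obtain ⟨k, hk⟩ := (IsPGroup.iff_card (p := 2)).1 (pCore_isPGroup (p := 2) (G := ↥G))
  have hQk : Nat.card ↥Q = 2 ^ k := cQ.trans hk
  -- `q ≠ 2`
  have hq2 : q ≠ 2 := by
    rintro rfl
    have hGp : IsPGroup 2 ↥G := IsPGroup.of_card (n := k + 2) (by rw [cG, hQk]; ring)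
    have htop : (⊤ : Subgroup ↥G) ≤ Cfsg.pCore 2 ↥G :=
      le_pCore (inferInstance : (⊤ : Subgroup ↥G).Normal) (hGp.to_subgroup ⊤)
    have : Nat.card ↥(Cfsg.pCore 2 ↥G) = Nat.card ↥G := by
      rw [top_le_iff.1 htop]
      exact Subgroup.card_top
    rw [← cQ, cG] at this
    have hpos : 0 < Nat.card ↥Q := Nat.card_pos
    nlinarith
  have hqodd : ¬ 2 ∣ q := by
    intro h2
    exact hq2 ((Nat.prime_dvd_prime_iff_eq Nat.prime_two hq).1 h2).symm
  -- `|T| = 2 |Q|`, `|G| = q |T|`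
  obtain ⟨n, hn⟩ := (IsPGroup.iff_card (p := 2)).1 S.isPGroup'
  have hidx := Subgroup.card_mul_index (S : Subgroup ↥G)
  have hodd : ¬ 2 ∣ (S : Subgroup ↥G).index := S.not_dvd_index
  have hnum := two_part (k := k) (n := n) hodd hqodd (by rw [← hn, hidx, cG, hQk])
  have hTQ : Nat.card ↥T = 2 * Nat.card ↥Q := by rw [cT, hn, hQk]; exact hnum.1
  have hGT : Nat.card ↥G = q * Nat.card ↥T := by
    rw [cT, ← hidx, hnum.2]; ring
  -- basic facts
  have hGne : G ≠ ⊤ := hG.1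
  have hxT : ∀ s ∈ T, x * s * x⁻¹ ∈ T := fun s hs =>
    ((Subgroup.mem_normalizer_iff.1 hxN) s).1 hs
  have hQn : ∀ g ∈ G, ∀ u ∈ Q, g * u * g⁻¹ ∈ Q := by
    intro g hg u hu
    have := le_normalizer_pCoreOf (p := 2) G hg
    rw [← hQdef] at this
    exact ((Subgroup.mem_normalizer_iff.1 this) u).1 hu
  have hcent : ∀ g ∈ G, (∀ u ∈ Q, g * u = u * g) → g ∈ Q := by
    intro g hg hc
    rw [hQdef]
    refine ⟨⟨g, hg⟩, hchar ?_, rfl⟩
    rw [Subgroup.mem_centralizer_iff]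
    intro u hu
    apply Subtype.ext
    have huQ : (u : H) ∈ Q := by rw [hQdef]; exact ⟨u, hu, rfl⟩
    exact (hc _ huQ).symm
  have hQmax : ∀ N : Subgroup H, N ≤ G → IsPGroup 2 ↥N →
      (∀ g ∈ G, ∀ u ∈ N, g * u * g⁻¹ ∈ N) → N ≤ Q := by
    intro N hNG hN2 hNn
    rw [hQdef]
    exact Cfsg.Agent.Lib.Helper12.Amal.VTQ.le_Qof hNG
      (Cfsg.Agent.Lib.Helper12.Amal.VTQ.le_normalizer_of_conj_mem hNn) hN2
  have hno : NoCommon G T x := by
    intro N hNT hN1 hNG hNx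
    have h1 : G ≤ Subgroup.normalizer (N : Set H) :=
      Cfsg.Agent.Lib.Helper12.Amal.VTQ.le_normalizer_of_conj_mem hNG
    have h2 : x ∈ Subgroup.normalizer (N : Set H) := mem_normalizer_of_conj_mem hNx
    have h3 : Subgroup.normalizer (N : Set H) = ⊤ := by
      rcases hG.le_iff.1 h1 with h | h
      · exact h
      · exact absurd (h ▸ h2) hxG
    have hNn : N.Normal := Subgroup.normalizer_eq_top_iff.1 h3
    rcases hNn.eq_bot_or_eq_top with h | h
    · exact hN1 h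
    · apply hGne
      rw [eq_top_iff, ← h]
      exact hNT.trans hTG
  have hq3 : q = 3 := hQ3 G T Q x hQT hTG two q hq hq2 hGT hTQ hQn hcent hQmax hxT hno
  subst hq3
  -- the amalgam `(G, x G x⁻¹; T)`
  obtain ⟨P₂, hP₂⟩ : ∃ P₂ : Subgroup H, P₂ = G.map (MulAut.conj x).toMonoidHom := ⟨_, rfl⟩
  have hxTeq : T.map (MulAut.conj x).toMonoidHom = T := by
    apply le_antisymm
    · rintro _ ⟨s, hs, rfl⟩
      exact hxT s hs
    · intro s hs
      have hx' := Subgroup.inv_mem _ hxN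
      have := ((Subgroup.mem_normalizer_iff.1 hx') s).1 hs
      refine ⟨x⁻¹ * s * x⁻¹⁻¹, this, ?_⟩
      simp [MulAut.conj_apply, mul_assoc]
  have hT₂ : T ≤ P₂ := by
    rw [hP₂, ← hxTeq]
    exact Subgroup.map_mono hTG
  have finG : Finite ↥G := inferInstance
  have cP₂ : Nat.card ↥P₂ = Nat.card ↥G := by
    rw [hP₂]
    exact Subgroup.card_map_of_injective (MulAut.conj x).injective
  have hTpos : 0 < Nat.card ↥T := Nat.card_pos
  have idx₁ : T.relIndex G = 3 := by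
    have := Cfsg.Agent.Lib.Helper12.Amal.card_mul_relIndex' hTG
    rw [hGT] at this
    have h3 : Nat.card ↥T * T.relIndex G = Nat.card ↥T * 3 := by rw [this]; ring
    exact Nat.eq_of_mul_eq_mul_left hTpos h3
  have idx₂ : T.relIndex P₂ = 3 := by
    have := Cfsg.Agent.Lib.Helper12.Amal.card_mul_relIndex' hT₂
    rw [cP₂, hGT] at this
    have h3 : Nat.card ↥T * T.relIndex P₂ = Nat.card ↥T * 3 := by rw [this]; ring
    exact Nat.eq_of_mul_eq_mul_left hTpos h3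
  -- `P₂ ≰ G`
  have hP₂G : ¬ P₂ ≤ G := by
    intro hle
    have heq : P₂ = G := Subgroup.eq_of_le_of_card_ge hle (by rw [cP₂])
    have hxn : x ∈ Subgroup.normalizer (G : Set H) := by
      apply mem_normalizer_of_conj_mem
      intro u hu
      rw [← heq, hP₂]
      exact ⟨u, hu, rfl⟩
    have h3 : Subgroup.normalizer (G : Set H) = ⊤ := by
      rcases hG.le_iff.1 (Subgroup.le_normalizer (H := G)) with h | h
      · exact h
      · exact absurd (h ▸ hxn) hxG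
    have hGn : G.Normal := Subgroup.normalizer_eq_top_iff.1 h3
    rcases hGn.eq_bot_or_eq_top with h | h
    · have : Nat.card ↥G = 1 := by rw [h]; exact Subgroup.card_bot
      rw [hGT] at this
      have := Nat.eq_one_of_mul_eq_one_right this
      omega
    · exact hGne h
  have hgen : G ⊔ P₂ = ⊤ := by
    rcases hG.le_iff.1 (le_sup_left : G ≤ G ⊔ P₂) with h | h
    · exact h
    · exact absurd (h ▸ (le_sup_right : P₂ ≤ G ⊔ P₂)) hP₂G
  have hT : T = G ⊓ P₂ := by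
    have hle : T ≤ G ⊓ P₂ := le_inf hTG hT₂
    by_contra hne
    -- `T < G ⊓ P₂ ≤ G`, index `3` prime
    have hmul := Subgroup.relIndex_mul_relIndex T (G ⊓ P₂) G hle inf_le_left
    rw [idx₁] at hmul
    have h1 : T.relIndex (G ⊓ P₂) ≠ 1 := by
      rw [Ne, Subgroup.relIndex_eq_one]
      intro h
      exact hne (le_antisymm hle h)
    have hdvd : T.relIndex (G ⊓ P₂) ∣ 3 := ⟨_, hmul.symm⟩
    rcases (Nat.dvd_prime (by norm_num : Nat.Prime 3)).1 hdvd with h | h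
    · exact h1 h
    · rw [h] at hmul
      have h4 : (G ⊓ P₂).relIndex G = 1 := by omega
      have h5 : G ≤ G ⊓ P₂ := Subgroup.relIndex_eq_one.1 h4
      have h6 : G ≤ P₂ := h5.trans inf_le_right
      have heq : G = P₂ := Subgroup.eq_of_le_of_card_ge h6 (by rw [cP₂])
      exact hP₂G heq.ge
  have core : ∀ N : Subgroup H, N.Normal → N ≤ T → N = ⊥ := by
    intro N hNn hNT
    rcases hNn.eq_bot_or_eq_top with h | h
    · exact h
    · exfalso
      apply hGne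
      rw [eq_top_iff, ← h]
      exact hNT.trans hTG
  have hTne : T ≠ ⊥ := by
    intro h
    rw [h, Subgroup.card_bot] at hTQ
    omega
  have hnn : ¬ ((T.subgroupOf G).Normal ∨ (T.subgroupOf P₂).Normal) := by
    intro hn
    exact hTne (eq_bot_of_normal G P₂ T hTG hT₂ hgen core x hP₂ hxTeq hn)
  push Not at hnn
  obtain ⟨hs₁, -, -, hq₁⟩ := local_facts G T hTG idx₁ two hnn.1
  have finP₂ : Finite ↥P₂ := inferInstance
  obtain ⟨hs₂, -, -, hq₂⟩ := local_facts P₂ T hT₂ idx₂ two hnn.2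
  have h5 := h5_auto G P₂ T hTG hT₂ hgen core two hTne x hP₂ hxTeq
  have h1 : ∀ P ∈ ({G, P₂} : Set (Subgroup H)),
      P ⊓ Subgroup.centralizer (Cfsg.pCoreOf 2 P : Set H) ≤ Cfsg.pCoreOf 2 P := by
    intro P hP
    rcases hP with rfl | hP
    · intro g hg
      rw [Subgroup.mem_inf] at hg
      rw [← hQdef]
      apply hcent g hg.1
      intro u hu
      rw [hQdef] at hu
      exact ((Subgroup.mem_centralizer_iff.1 hg.2) u hu).symm
    · rw [Set.mem_singleton_iff] at hP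
      subst hP
      have hcore : Cfsg.pCoreOf 2 P = Q.map (MulAut.conj x).toMonoidHom := by
        rw [hP₂, hQdef]
        exact pCoreOf_map G (MulAut.conj x)
      intro g hg
      rw [Subgroup.mem_inf] at hg
      obtain ⟨hgP, hgC⟩ := hg
      rw [hP₂] at hgP
      obtain ⟨g₀, hg₀, rfl⟩ := hgP
      rw [hcore]
      refine ⟨g₀, hcent g₀ hg₀ ?_, rfl⟩
      intro u hu
      have hu' : (MulAut.conj x).toMonoidHom u ∈ Cfsg.pCoreOf 2 P := by
        rw [hcore]; exact ⟨u, hu, rfl⟩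
      have := (Subgroup.mem_centralizer_iff.1 hgC) _ hu'
      simp only [MulEquiv.coe_toMonoidHom, MulAut.conj_apply] at this
      have e : x * (g₀ * u) * x⁻¹ = x * (u * g₀) * x⁻¹ := by
        calc x * (g₀ * u) * x⁻¹ = x * g₀ * x⁻¹ * (x * u * x⁻¹) := by group
          _ = x * u * x⁻¹ * (x * g₀ * x⁻¹) := this.symm
          _ = x * (u * g₀) * x⁻¹ := by group
      exact mul_left_cancel (mul_right_cancel e)
  have h2 : ∀ P ∈ ({G, P₂} : Set (Subgroup H)),
      ∃ S : Sylow 2 ↥P, (S : Subgroup ↥P) = T.subgroupOf P := by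
    intro P hP
    rcases hP with rfl | rfl
    · exact hs₁
    · exact hs₂
  have h4 : ∀ P ∈ ({G, P₂} : Set (Subgroup H)),
      Nonempty (↥P ⧸ Cfsg.pCore 2 ↥P ≃* Equiv.Perm (Fin 3)) := by
    intro P hP
    rcases hP with rfl | rfl
    · exact hq₁
    · exact hq₂
  rcases hS G P₂ hgen T hT h1 h2 core h4 h5 with ⟨⟨e⟩, -⟩ | ⟨⟨e⟩, -⟩
  · exact Or.inl ⟨e⟩
  · exact Or.inr ⟨e.trans MulEquiv.prodComm⟩

end Cfsg.Agent.Lib.Helper12.SimsLoc
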