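import Mathlib
import Cfsg.Agent.Lib.Helper12.SimsLocDefs

/-!
# S2772, module [SL-W2] (helper12, hedge): an element of odd prime order `q` acting non-trivially on a
module whose commutator lies in a subgroup of order `≤ 4` forces `q = 3`
-/

set_option autoImplicit false

namespace Cfsg.Agent.Lib.Helper12.SimsLocW2

open Cfsg.Agent.Lib.Helper12.SimsLoc

variable {H : Type*} [Group H] [Finite H]

/-- [SL-W2] -/
theorem q_three_of_small_comm (G Q V W : Subgroup H)
    (hQG : Q ≤ G) (twoQ : IsPGroup 2 ↥Q) (q : ℕ) (hq : q.Prime) (hq2 : q ≠ 2)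
    (hqG : q ∣ Nat.card ↥G)
    (hVn : ∀ g ∈ G, ∀ v ∈ V, g * v * g⁻¹ ∈ V) (hVE : EA V)
    (hfaith : ∀ g ∈ G, (∀ v ∈ V, g * v = v * g) → g ∈ Q)
    (hWV : W ≤ V) (hW4 : Nat.card ↥W ≤ 4)
    (hW : ∀ g ∈ G, ∀ v ∈ V, g * v * g⁻¹ * v⁻¹ ∈ W) : q = 3 := by
  classical
  have : Fact q.Prime := ⟨hq⟩
  -- an element of order `q`
  obtain ⟨d₀, hd₀⟩ := exists_prime_orderOf_dvd_card' (G := ↥G) q hqG
  obtain ⟨d, hdG, hdo⟩ : ∃ d : H, d ∈ G ∧ orderOf d = q :=
    ⟨(d₀ : H), d₀.2, by rw [Subgroup.orderOf_coe]; exact hd₀⟩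
  have hdq : d ^ q = 1 := hdo ▸ pow_orderOf_eq_one d
  -- `d ∉ Q`
  have hdQ : d ∉ Q := by
    intro hd
    obtain ⟨k, hk⟩ := twoQ ⟨d, hd⟩
    have hk' : d ^ 2 ^ k = 1 := by
      have := congrArg Subtype.val hk
      simpa using this
    have h1 : q ∣ 2 ^ k := hdo ▸ orderOf_dvd_of_pow_eq_one hk'
    have h2 : q ∣ 2 := hq.dvd_of_dvd_pow h1
    exact hq2 ((Nat.prime_dvd_prime_iff_eq hq Nat.prime_two).1 h2)
  have hnc : ¬ ∀ v ∈ V, d * v = v * d := fun h => hdQ (hfaith d hdG h)
  -- `d` normalizes `W`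
  have hdW : ∀ c ∈ W, d * c * d⁻¹ ∈ W := by
    intro c hc
    have := mul_mem (hW d hdG c (hWV hc)) hc
    rwa [inv_mul_cancel_right] at this
  have hdkW : ∀ k : ℕ, ∀ c ∈ W, d ^ k * c * (d ^ k)⁻¹ ∈ W := by
    intro k
    induction k with
    | zero => intro c hc; simpa using hc
    | succ k ih =>
      intro c hc
      have := hdW _ (ih c hc)
      have e : d * (d ^ k * c * (d ^ k)⁻¹) * d⁻¹ = d ^ (k + 1) * c * (d ^ (k + 1))⁻¹ := by
        rw [pow_succ']; group
      rwa [e] at this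
  -- `d` does not centralize `W`
  have hex : ∃ c₀ ∈ W, d * c₀ * d⁻¹ ≠ c₀ := by
    by_contra hcon
    push Not at hcon
    apply hnc
    intro v hv
    obtain ⟨c, hcdef⟩ : ∃ c, c = d * v * d⁻¹ * v⁻¹ := ⟨_, rfl⟩
    have hcW : c ∈ W := hcdef ▸ hW d hdG v hv
    have hcfix : d * c * d⁻¹ = c := hcon c hcW
    have hdv : d * v * d⁻¹ = c * v := by rw [hcdef]; group
    have hpow : ∀ k : ℕ, d ^ k * v * (d ^ k)⁻¹ = c ^ k * v := by
      intro k
      induction k with
      | zero => simp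
      | succ k ih =>
        have hck : d * c ^ k * d⁻¹ = c ^ k := by
          have : d * c ^ k * d⁻¹ = (d * c * d⁻¹) ^ k := by
            rw [conj_pow]
          rw [this, hcfix]
        calc d ^ (k + 1) * v * (d ^ (k + 1))⁻¹ = d * (d ^ k * v * (d ^ k)⁻¹) * d⁻¹ := by
              rw [pow_succ']; group
          _ = d * (c ^ k * v) * d⁻¹ := by rw [ih]
          _ = (d * c ^ k * d⁻¹) * (d * v * d⁻¹) := by group
          _ = c ^ k * (c * v) := by rw [hck, hdv]
          _ = c ^ (k + 1) * v := by rw [pow_succ]; group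
    have h1 := hpow q
    rw [hdq] at h1
    have hcq : c ^ q = 1 := by
      have : v = c ^ q * v := by simpa using h1
      have h2 : c ^ q * v = 1 * v := by rw [one_mul]; exact this.symm
      exact mul_right_cancel h2
    have hc2 : c ^ 2 = 1 := by rw [pow_two]; exact hVE c (hWV hcW)
    have hc1 : c = 1 := by
      have hodd : ¬ 2 ∣ q := fun h2 =>
        hq2 ((Nat.prime_dvd_prime_iff_eq Nat.prime_two hq).1 h2).symm
      have ho : orderOf c ∣ Nat.gcd 2 q :=
        Nat.dvd_gcd (orderOf_dvd_of_pow_eq_one hc2) (orderOf_dvd_of_pow_eq_one hcq)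
      have hg : Nat.gcd 2 q = 1 := (Nat.Prime.coprime_iff_not_dvd Nat.prime_two).2 hodd
      rw [hg, Nat.dvd_one, orderOf_eq_one_iff] at ho
      exact ho
    have : d * v * d⁻¹ = v := by rw [hdv, hc1, one_mul]
    calc d * v = d * v * d⁻¹ * d := by group
      _ = v * d := by rw [this]
  obtain ⟨c₀, hc₀W, hc₀⟩ := hex
  have hc₀1 : c₀ ≠ 1 := by
    rintro rfl
    apply hc₀
    group
  -- the conjugates `d^k c₀ d^{-k}`, `k < q`, are pairwise distinct
  have key : ∀ i j : ℕ, i < j → j < q →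
      d ^ i * c₀ * (d ^ i)⁻¹ = d ^ j * c₀ * (d ^ j)⁻¹ → False := by
    intro i j hij hjq he
    obtain ⟨m, hm⟩ : ∃ m, j = i + m := ⟨j - i, by omega⟩
    have hm0 : 0 < m := by omega
    have hmq : m < q := by omega
    have h1 : d ^ m * c₀ * (d ^ m)⁻¹ = c₀ := by
      rw [hm, pow_add] at he
      have : d ^ i * c₀ * (d ^ i)⁻¹ = d ^ i * (d ^ m * c₀ * (d ^ m)⁻¹) * (d ^ i)⁻¹ := by
        rw [he]; group
      have h2 := mul_left_cancel (mul_right_cancel this)
      exact h2.symm
    have hcop : Nat.Coprime m (orderOf d) := by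
      rw [hdo]
      apply Nat.Coprime.symm
      rw [Nat.Prime.coprime_iff_not_dvd hq]
      intro hdvd
      have := Nat.le_of_dvd hm0 hdvd
      omega
    have hall : ∀ s : ℕ, (d ^ m) ^ s * c₀ * ((d ^ m) ^ s)⁻¹ = c₀ := by
      intro s
      induction s with
      | zero => simp
      | succ s ih =>
        calc (d ^ m) ^ (s + 1) * c₀ * ((d ^ m) ^ (s + 1))⁻¹
            = d ^ m * ((d ^ m) ^ s * c₀ * ((d ^ m) ^ s)⁻¹) * (d ^ m)⁻¹ := by
              rw [pow_succ']; group
          _ = d ^ m * c₀ * (d ^ m)⁻¹ := by rw [ih]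
          _ = c₀ := h1
    obtain ⟨s, hs⟩ := exists_pow_eq_self_of_coprime hcop
    apply hc₀
    have h3 := hall s
    rw [hs] at h3
    exact h3
  -- pigeonhole
  let f : Option (Fin q) → ↥W := fun o =>
    match o with
    | none => 1
    | some k => ⟨d ^ (k : ℕ) * c₀ * (d ^ (k : ℕ))⁻¹, hdkW k c₀ hc₀W⟩
  have hf : Function.Injective f := by
    intro a b hab
    match a, b with
    | none, none => rfl
    | none, some k =>
      exfalso
      have := congrArg Subtype.val hab
      simp only [f] at this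
      apply hc₀1
      have h2 : d ^ (k : ℕ) * c₀ * (d ^ (k : ℕ))⁻¹ = d ^ (k : ℕ) * 1 * (d ^ (k : ℕ))⁻¹ := by
        rw [← this]; simp
      exact mul_left_cancel (mul_right_cancel h2)
    | some k, none =>
      exfalso
      have := congrArg Subtype.val hab
      simp only [f] at this
      apply hc₀1
      have h2 : d ^ (k : ℕ) * c₀ * (d ^ (k : ℕ))⁻¹ = d ^ (k : ℕ) * 1 * (d ^ (k : ℕ))⁻¹ := by
        rw [this]; simp
      exact mul_left_cancel (mul_right_cancel h2)
    | some i, some j =>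
      have := congrArg Subtype.val hab
      simp only [f] at this
      congr 1
      apply Fin.ext
      by_contra hne
      rcases Nat.lt_or_gt_of_ne hne with h | h
      · exact key i j h j.2 this
      · exact key j i h i.2 this.symm
  have hcard := Nat.card_le_card_of_injective f hf
  rw [Nat.card_eq_fintype_card, Fintype.card_option, Fintype.card_fin] at hcard
  have hq3 : q ≤ 3 := by omega
  have hq2' := hq.two_le
  omega

end Cfsg.Agent.Lib.Helper12.SimsLocW2
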