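import Mathlib
import Cfsg.Agent.Lib.Helper12.SimsLocDefs
import Cfsg.Agent.Lib.Helper12.SimsLocW2
import Cfsg.Agent.Lib.Helper73.SimsLocJ
import Cfsg.Agent.Lib.Helper42.SimsLocT
import Cfsg.Agent.Lib.Helper19.SimsLocW1

/-!
# S2772 (helper12): the step `q = 3`, assembly of the modules [SL-J] (helper73), [SL-T] (helper42),
[SL-W1] (helper19), [SL-W2] (helper12), modulo [SL-C] (`CStmt`)
-/

set_option autoImplicit false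

namespace Cfsg.Agent.Lib.Helper12.SimsLoc

universe u

/-- the statement of [SL-C] -/
def CStmt : Prop :=
  ∀ {H : Type u} [Group H] [Finite H] (G S Q : Subgroup H) (x : H)
    (_ : Q ≤ S) (_ : S ≤ G) (_ : S ≠ ⊥) (_ : IsPGroup 2 ↥S)
    (q : ℕ) (_ : q.Prime) (_ : Nat.card ↥G = q * Nat.card ↥S)
    (_ : ∀ g ∈ G, ∀ u ∈ Q, g * u * g⁻¹ ∈ Q)
    (_ : ∀ g ∈ G, (∀ u ∈ Q, g * u = u * g) → g ∈ Q)
    (_ : ∀ N : Subgroup H, N ≤ G → IsPGroup 2 ↥N → (∀ g ∈ G, ∀ u ∈ N, g * u * g⁻¹ ∈ N) → N ≤ Q)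
    (_ : ∀ s ∈ S, x * s * x⁻¹ ∈ S)
    (_ : NoCommon G S x),
    ∀ g ∈ G, (∀ v ∈ omZ Q, g * v = v * g) → g ∈ Q

variable {H : Type u} [Group H] [Finite H]

/-- assembly: `q = 3`, modulo [SL-C] -/
theorem q_eq_three_of (hC : CStmt.{u}) (G S Q : Subgroup H) (x : H)
    (hQS : Q ≤ S) (hSG : S ≤ G) (two : IsPGroup 2 ↥S)
    (q : ℕ) (hq : q.Prime) (hq2 : q ≠ 2)
    (hGS : Nat.card ↥G = q * Nat.card ↥S) (hSQ : Nat.card ↥S = 2 * Nat.card ↥Q)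
    (hQn : ∀ g ∈ G, ∀ u ∈ Q, g * u * g⁻¹ ∈ Q)
    (hcent : ∀ g ∈ G, (∀ u ∈ Q, g * u = u * g) → g ∈ Q)
    (hQmax : ∀ N : Subgroup H, N ≤ G → IsPGroup 2 ↥N → (∀ g ∈ G, ∀ u ∈ N, g * u * g⁻¹ ∈ N) → N ≤ Q)
    (hx : ∀ s ∈ S, x * s * x⁻¹ ∈ S)
    (hno : NoCommon G S x) : q = 3 := by
  have hS1 : S ≠ ⊥ := by
    intro h
    rw [h, Subgroup.card_bot] at hSQ
    omega
  -- `S` is not normal in `G`
  have hSnn : ∃ g ∈ G, ∃ s ∈ S, g * s * g⁻¹ ∉ S := by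
    by_contra hcon
    push Not at hcon
    have hle := hQmax S hSG two hcon
    have h1 := Subgroup.card_le_of_le hle
    have hpos : 0 < Nat.card ↥Q := Nat.card_pos
    omega
  obtain ⟨A, hAS, hAE, hAQ, hAmax⟩ :=
    Cfsg.Agent.Lib.Helper73.SimsLocJ.exists_max_ea_not_le G S Q x hQS hS1 two hQn hx hno
  have hVn : ∀ g ∈ G, ∀ v ∈ omZ Q, g * v * g⁻¹ ∈ omZ Q := by
    rintro g hg v ⟨hvQ, hvc, hv2⟩
    refine ⟨hQn g hg v hvQ, fun u hu => ?_, ?_⟩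
    · have hu' : g⁻¹ * u * g⁻¹⁻¹ ∈ Q := hQn g⁻¹ (inv_mem hg) u hu
      have := hvc _ hu'
      calc g * v * g⁻¹ * u = g * (v * (g⁻¹ * u * g⁻¹⁻¹)) * g⁻¹ := by group
        _ = g * ((g⁻¹ * u * g⁻¹⁻¹) * v) * g⁻¹ := by rw [this]
        _ = u * (g * v * g⁻¹) := by group
    · calc g * v * g⁻¹ * (g * v * g⁻¹) = g * (v * v) * g⁻¹ := by group
        _ = 1 := by rw [hv2]; group
  have hVc : ∀ v ∈ omZ Q, ∀ u ∈ Q, v * u = u * v := fun v hv => hv.2.1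
  obtain ⟨a, ha, haQ, hcard⟩ :=
    Cfsg.Agent.Lib.Helper42.SimsLocT.exists_transvection S Q A (omZ Q) hQS hSQ hAS hAE hAQ hAmax
      (omZ_le Q) hVc (omZ_EA Q)
  have hfaith := hC G S Q x hQS hSG hS1 two q hq hGS hQn hcent hQmax hx hno
  obtain ⟨W, hWV, hW4, hW⟩ :=
    Cfsg.Agent.Lib.Helper19.SimsLoc.exists_small_comm G S Q (omZ Q) hQS hSG q hq hGS hSQ hSnn hVn
      (omZ_EA Q) hVc a ha haQ hcard
  exact Cfsg.Agent.Lib.Helper12.SimsLocW2.q_three_of_small_comm G Q (omZ Q) W (hQS.trans hSG)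
    (two.to_le hQS) q hq hq2 ⟨_, hGS⟩ hVn (omZ_EA Q) hfaith hWV hW4 hW

end Cfsg.Agent.Lib.Helper12.SimsLoc
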