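import Mathlib
import Cfsg.Agent.Lib.Helper12.SimsLocQ3
import Cfsg.Agent.Lib.Helper12.SimsLocFront
import Cfsg.Agent.Lib.Helper21.SimsLocC

/-!
# S2772 (helper12): the step `q = 3`, hypothesis-free (`q3Stmt : Q3Stmt`)
-/

set_option autoImplicit false

namespace Cfsg.Agent.Lib.Helper12.SimsLoc

universe u

theorem cStmt : CStmt.{u} := by
  intro H _ _ G S Q x hQS hSG hS1 two q hq hGS hQn hcent hQmax hx hno
  exact Cfsg.Agent.Lib.Helper21.SimsLocC.cent_omZ_le G S Q x hQS hSG hS1 two q hq hGS hQn hcent hQmax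
    hx hno

theorem q3Stmt : Q3Stmt.{u} := by
  intro H _ _ G S Q x hQS hSG two q hq hq2 hGS hSQ hQn hcent hQmax hx hno
  exact q_eq_three_of cStmt G S Q x hQS hSG two q hq hq2 hGS hSQ hQn hcent hQmax hx hno

end Cfsg.Agent.Lib.Helper12.SimsLoc
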