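import Mathlib
import Cfsg.Agent.Lib.Helper7.StemThree

/-!
# S2049 module [PABEL] (helper12, for helper8): killing the `p`-part of the kernel of a stem
extension over an abelian Sylow `p`-subgroup of rank 2 (`p` odd)

General-`p` version of helper7's `ker_eq_bot_three_abelian`.
-/

set_option autoImplicit false
set_option linter.unusedVariables false

namespace Cfsg.Agent.Lib.Helper12.Stem

open Subgroup
open scoped commutatorElement
open Cfsg.Agent.Lib.Helper7.Stem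

universe u v

variable {Γ : Type u} {G : Type v} [Group Γ] [Group G]

/-- an element killed by `2` and by an odd prime is trivial -/
theorem eq_one_of_sq_of_pow_prime {x : Γ} (p : ℕ) (hp : p.Prime) (hp2 : p ≠ 2)
    (h2 : x * x = 1) (hxp : x ^ p = 1) : x = 1 := by
  have h2' : x ^ 2 = 1 := by rw [pow_two]; exact h2
  have hcop : Nat.Coprime 2 p := (Nat.coprime_primes Nat.prime_two hp).2 (Ne.symm hp2)
  have h3 : orderOf x ∣ Nat.gcd 2 p :=
    Nat.dvd_gcd (orderOf_dvd_of_pow_eq_one h2') (orderOf_dvd_of_pow_eq_one hxp)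
  rw [hcop, Nat.dvd_one] at h3
  exact orderOf_eq_one_iff.mp h3

section ppow

variable (σ : Γ →* G) (hc : σ.ker ≤ center Γ) (p : ℕ) (hexp : ∀ k ∈ σ.ker, k ^ p = 1)
include hc hexp

theorem ppow_eq_of_map_eq {x x' : Γ} (h : σ x = σ x') : x ^ p = x' ^ p := by
  have hk : x⁻¹ * x' ∈ σ.ker := by
    rw [MonoidHom.mem_ker, map_mul, map_inv, h, inv_mul_cancel]
  have hcom : Commute x (x⁻¹ * x') := Subgroup.mem_center_iff.mp (hc hk) x
  have e : x' = x * (x⁻¹ * x') := by group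
  rw [e, hcom.mul_pow, hexp _ hk, mul_one]

theorem ppow_eq_of_conj {x x' g : Γ} (hx : x ^ p ∈ σ.ker) (h : σ x' * σ g = σ g * σ x) :
    x' ^ p = x ^ p := by
  have h1 : σ x' = σ (g * x * g⁻¹) := by
    rw [map_mul, map_mul, map_inv, ← h]; group
  rw [ppow_eq_of_map_eq σ hc p hexp h1]
  have hcen := Subgroup.mem_center_iff.mp (hc hx) g
  rw [conj_pow, hcen]; group

/-- A lift of an element of odd prime order `p` that is conjugate to its inverse has order dividing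
`p`. -/
theorem ppow_eq_one_of_real (hp : p.Prime) (hp2 : p ≠ 2) {a t : G} (ha : a ^ p = 1)
    (hta : t * a = a⁻¹ * t) {a' : Γ}
    (ha' : σ a' = a) (hsurj : Function.Surjective σ) : a' ^ p = 1 := by
  obtain ⟨t', ht'⟩ := hsurj t
  have hker : a' ^ p ∈ σ.ker := by rw [MonoidHom.mem_ker, map_pow, ha', ha]
  have h1 : (a'⁻¹) ^ p = a' ^ p :=
    ppow_eq_of_conj σ hc p hexp hker (g := t') (by rw [map_inv, ha', ht', hta])
  rw [inv_pow] at h1
  have h2 : a' ^ p * a' ^ p = 1 := by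
    nth_rewrite 1 [← h1]
    exact inv_mul_cancel _
  exact eq_one_of_sq_of_pow_prime p hp hp2 h2 (hexp _ hker)

end ppow

theorem ker_eq_bot_p_abelian [Finite Γ] [Finite G] (p : ℕ) (hp : p.Prime) (hp2 : p ≠ 2)
    (σ : Γ →* G) (hσ : Cfsg.IsStemExtension σ) (hexp : ∀ k ∈ σ.ker, k ^ p = 1)
    (a b t t' : G) (ha : a ^ p = 1) (hb : b ^ p = 1) (hab : a * b = b * a)
    (hta : t * a = a⁻¹ * t) (htb : t * b = b * t) (ht'b : t' * b = b⁻¹ * t')
    (hP : p ^ 2 ≤ Nat.card ↥(zpowers a ⊔ zpowers b))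
    (m : ℕ) (hG : Nat.card G = p ^ 2 * m) (hm : Nat.Coprime m p) : σ.ker = ⊥ := by
  have hcen := hσ.2.1
  have hsurj := hσ.1
  have hp0 : 0 < p := hp.pos
  obtain ⟨a', ha'⟩ := hsurj a
  obtain ⟨b', hb'⟩ := hsurj b
  obtain ⟨τ, hτ⟩ := hsurj t
  have hap : a' ^ p = 1 := ppow_eq_one_of_real σ hcen p hexp hp hp2 ha hta ha' hsurj
  have hbp : b' ^ p = 1 := ppow_eq_one_of_real σ hcen p hexp hp hp2 hb ht'b hb' hsurj
  -- the lifts commute
  have hκker : ⁅a', b'⁆ ∈ σ.ker := by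
    rw [MonoidHom.mem_ker, map_commutatorElement, ha', hb', commutatorElement_def, hab]
    group
  have hκcen : ⁅a', b'⁆ ∈ center Γ := hcen hκker
  have hκc := Subgroup.mem_center_iff.mp hκcen
  have hk1 : a' * (τ * a' * τ⁻¹) ∈ σ.ker := by
    rw [MonoidHom.mem_ker, map_mul, map_mul, map_mul, map_inv, ha', hτ, hta]
    group
  have hk2 : b'⁻¹ * (τ * b' * τ⁻¹) ∈ σ.ker := by
    rw [MonoidHom.mem_ker, map_mul, map_inv, map_mul, map_mul, map_inv, hb', hτ, htb]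
    group
  have e1 : τ * a' * τ⁻¹ = a'⁻¹ * (a' * (τ * a' * τ⁻¹)) := by group
  have e2 : τ * b' * τ⁻¹ = b' * (b'⁻¹ * (τ * b' * τ⁻¹)) := by group
  have hconj : τ * ⁅a', b'⁆ * τ⁻¹ = ⁅τ * a' * τ⁻¹, τ * b' * τ⁻¹⁆ := by
    rw [commutatorElement_def, commutatorElement_def]; group
  have h1 : τ * ⁅a', b'⁆ * τ⁻¹ = ⁅a', b'⁆ := by
    rw [hκc τ]; group
  have h2 : ⁅τ * a' * τ⁻¹, τ * b' * τ⁻¹⁆ = ⁅a'⁻¹, b'⁆ := by
    rw [e1, e2]
    exact commutatorElement_mul_central (hcen hk1) (hcen hk2)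
  have h3 : ⁅a'⁻¹, b'⁆ = (⁅a', b'⁆)⁻¹ := by
    have : ⁅a'⁻¹, b'⁆ = a'⁻¹ * (⁅a', b'⁆)⁻¹ * a' := by
      rw [commutatorElement_def, commutatorElement_def]; group
    rw [this, Subgroup.mem_center_iff.mp (Subgroup.inv_mem _ hκcen) a'⁻¹]
    group
  have hκinv : ⁅a', b'⁆ = (⁅a', b'⁆)⁻¹ := by
    rw [← h3, ← h2, ← hconj, h1]
  have hκsq : ⁅a', b'⁆ * ⁅a', b'⁆ = 1 := by
    nth_rewrite 1 [hκinv]
    exact inv_mul_cancel _
  have hκ1 : ⁅a', b'⁆ = 1 := eq_one_of_sq_of_pow_prime p hp hp2 hκsq (hexp _ hκker)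
  have hcomm : a' * b' = b' * a' := by
    have := commutatorElement_eq_one_iff_mul_comm.mp hκ1
    exact this
  -- the complement
  set Q := zpowers a' ⊔ zpowers b' with hQ
  have hca : Nat.card ↥(zpowers a') ≤ p := by
    rw [Nat.card_zpowers]
    exact Nat.le_of_dvd hp0 (orderOf_dvd_of_pow_eq_one hap)
  have hb_norm : ∀ q ∈ zpowers a', b' * q * b'⁻¹ ∈ zpowers a' := by
    intro q hq
    have hcq : Commute b' q := by
      obtain ⟨k, rfl⟩ := mem_zpowers_iff.mp hq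
      exact (Commute.zpow_right (show Commute b' a' from hcomm.symm) k)
    have : b' * q * b'⁻¹ = q := by rw [hcq.eq]; group
    rw [this]; exact hq
  have hcQ : Nat.card ↥Q ≤ p * Nat.card ↥(zpowers a') :=
    card_sup_zpowers_le hp0 (by rw [hbp]; exact one_mem _) hb_norm
  have hcQ9 : Nat.card ↥Q ≤ p ^ 2 := by
    rw [pow_two]
    exact hcQ.trans (Nat.mul_le_mul_left p hca)
  have hmap : Q.map σ = zpowers a ⊔ zpowers b := by
    rw [hQ, Subgroup.map_sup, MonoidHom.map_zpowers, MonoidHom.map_zpowers, ha', hb']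
  have hcP : p ^ 2 ≤ Nat.card ↥(Q.map σ) := by rw [hmap]; exact hP
  have hQker : Q ⊓ σ.ker = ⊥ := inf_ker_eq_bot_of_card_le σ Q (hcQ9.trans hcP)
  have hcardP : Nat.card ↥(Q.map σ) = p ^ 2 := le_antisymm ((card_map_le σ Q).trans hcQ9) hcP
  have hidx : (Q.map σ).index = m := by
    have := (Q.map σ).card_mul_index
    rw [hcardP, hG] at this
    exact Nat.eq_of_mul_eq_mul_left (pow_pos hp0 2) this
  rw [eq_bot_iff]
  intro x hx
  rw [mem_bot]
  have h1 := pow_index_eq_one_of_compl σ hσ Q hQker x hx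
  rw [hidx] at h1
  have h2 := hexp x hx
  have h3 : orderOf x ∣ Nat.gcd m p := Nat.dvd_gcd (orderOf_dvd_of_pow_eq_one h1)
    (orderOf_dvd_of_pow_eq_one h2)
  rw [hm, Nat.dvd_one] at h3
  exact orderOf_eq_one_iff.mp h3

end Cfsg.Agent.Lib.Helper12.Stem
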