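import Mathlib
import Cfsg.Agent.Lib.Helper7.StemThreeB

/-!
# S2049 module [PEXTRA] (helper12, for helper8): killing the `p`-part of the kernel of a stem
extension over an extraspecial Sylow `p`-subgroup of order `p³` and exponent `p`

General-`p` version of helper7's `ker_eq_bot_three_extraspecial`, with a single normalising element
`r` acting on `a, b` by the exponents `i, j`.
-/

set_option autoImplicit false
set_option linter.unusedVariables false

namespace Cfsg.Agent.Lib.Helper12.Stem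

open Subgroup
open scoped commutatorElement
open Cfsg.Agent.Lib.Helper7.Stem

universe u v

variable {Γ : Type u} {G : Type v} [Group Γ] [Group G]

/-- **Lemma L**, first step. -/
theorem pow_mul_of_comm_central {x y z : Γ} (hzx : Commute z x) (hzy : Commute z y)
    (h : x * y = z * y * x) (m : ℕ) : x ^ m * y = z ^ m * y * x ^ m := by
  induction m with
  | zero => simp
  | succ m ih =>
    have hc1 : x * z ^ m = z ^ m * x := ((hzx.pow_left m).eq).symm
    calc x ^ (m + 1) * y = x * (x ^ m * y) := by rw [pow_succ']; group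
      _ = x * (z ^ m * y * x ^ m) := by rw [ih]
      _ = (x * z ^ m) * y * x ^ m := by group
      _ = (z ^ m * x) * y * x ^ m := by rw [hc1]
      _ = z ^ m * (x * y) * x ^ m := by group
      _ = z ^ m * (z * y * x) * x ^ m := by rw [h]
      _ = z ^ (m + 1) * y * x ^ (m + 1) := by rw [pow_succ z, pow_succ' x]; group

/-- **Lemma L**: if `z` commutes with `x` and `y` and `x y = z y x` then
`x^m y^n = z^(m n) y^n x^m`. -/
theorem pow_mul_pow_of_comm_central {x y z : Γ} (hzx : Commute z x) (hzy : Commute z y)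
    (h : x * y = z * y * x) (m n : ℕ) : x ^ m * y ^ n = z ^ (m * n) * y ^ n * x ^ m := by
  induction n with
  | zero => simp
  | succ n ih =>
    have h1 := pow_mul_of_comm_central hzx hzy h m
    have hc1 : y ^ n * z ^ m = z ^ m * y ^ n := ((hzy.pow_pow m n).eq).symm
    calc x ^ m * y ^ (n + 1) = (x ^ m * y ^ n) * y := by rw [pow_succ]; group
      _ = (z ^ (m * n) * y ^ n * x ^ m) * y := by rw [ih]
      _ = z ^ (m * n) * y ^ n * (x ^ m * y) := by group
      _ = z ^ (m * n) * y ^ n * (z ^ m * y * x ^ m) := by rw [h1]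
      _ = z ^ (m * n) * (y ^ n * z ^ m) * y * x ^ m := by group
      _ = z ^ (m * n) * (z ^ m * y ^ n) * y * x ^ m := by rw [hc1]
      _ = (z ^ (m * n) * z ^ m) * (y ^ n * y) * x ^ m := by group
      _ = z ^ (m * (n + 1)) * y ^ (n + 1) * x ^ m := by
          rw [← pow_add, ← pow_succ, mul_add, mul_one]

theorem commutatorElement_pow_pow {x y z : Γ} (hzx : Commute z x) (hzy : Commute z y)
    (h : x * y = z * y * x) (m n : ℕ) : ⁅x ^ m, y ^ n⁆ = z ^ (m * n) := by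
  rw [commutatorElement_def, pow_mul_pow_of_comm_central hzx hzy h m n]
  group

theorem conj_commutatorElement (g x y : Γ) :
    g * ⁅x, y⁆ * g⁻¹ = ⁅g * x * g⁻¹, g * y * g⁻¹⁆ := by
  rw [commutatorElement_def, commutatorElement_def]; group

/-- `x ^ n = x`, `x ^ p = 1`, `n ≢ 1 (mod p)` imply `x = 1`. -/
theorem eq_one_of_pow_eq_self {x : Γ} (p : ℕ) (hp : p.Prime) (hxp : x ^ p = 1) {n : ℕ}
    (h : x ^ n = x) (hn : (n : ZMod p) ≠ 1) : x = 1 := by
  by_contra hx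
  have hdvd : orderOf x ∣ p := orderOf_dvd_of_pow_eq_one hxp
  have ho : orderOf x = p := by
    rcases (Nat.dvd_prime hp).1 hdvd with h1 | h1
    · exact absurd (orderOf_eq_one_iff.mp h1) hx
    · exact h1
  have h1 : x ^ n = x ^ 1 := by rw [pow_one]; exact h
  rw [pow_eq_pow_iff_modEq, ho] at h1
  apply hn
  have := (ZMod.natCast_eq_natCast_iff n 1 p).2 h1
  rw [this, Nat.cast_one]

theorem ker_eq_bot_p_extraspecial [Finite Γ] [Finite G] (p : ℕ) (hp : p.Prime)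
    (σ : Γ →* G) (hσ : Cfsg.IsStemExtension σ) (hexp : ∀ k ∈ σ.ker, k ^ p = 1)
    (a b w r : G) (i j : ℕ)
    (ha : a ^ p = 1) (hb : b ^ p = 1) (hw : w ^ p = 1) (hwdef : a * b = w * b * a)
    (haw : a * w = w * a) (hbw : b * w = w * b)
    (hra : r * a = a ^ i * r) (hrb : r * b = b ^ j * r)
    (hi : (i : ZMod p) ≠ 1) (hj : (j : ZMod p) ≠ 1)
    (hiij : (i : ZMod p) ^ 2 * (j : ZMod p) ≠ 1) (hijj : (i : ZMod p) * (j : ZMod p) ^ 2 ≠ 1)
    (hP : p ^ 3 ≤ Nat.card ↥(zpowers w ⊔ zpowers a ⊔ zpowers b))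
    (m : ℕ) (hG : Nat.card G = p ^ 3 * m) (hm : Nat.Coprime m p) : σ.ker = ⊥ := by
  have hcen := hσ.2.1
  have hsurj := hσ.1
  have hp0 : 0 < p := hp.pos
  obtain ⟨a', ha'⟩ := hsurj a
  obtain ⟨b', hb'⟩ := hsurj b
  obtain ⟨ρ, hρ⟩ := hsurj r
  -- relations in `G`
  have hwG : ⁅a, b⁆ = w := by rw [commutatorElement_def, hwdef]; group
  have hraG : r * a * r⁻¹ = a ^ i := by rw [hra]; group
  have hrbG : r * b * r⁻¹ = b ^ j := by rw [hrb]; group
  have hLG : ⁅a ^ i, b ^ j⁆ = w ^ (i * j) :=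
    commutatorElement_pow_pow (show Commute w a from haw.symm) (show Commute w b from hbw.symm)
      hwdef i j
  have hrwG : r * w * r⁻¹ = w ^ (i * j) := by
    calc r * w * r⁻¹ = r * ⁅a, b⁆ * r⁻¹ := by rw [hwG]
      _ = ⁅r * a * r⁻¹, r * b * r⁻¹⁆ := conj_commutatorElement r a b
      _ = ⁅a ^ i, b ^ j⁆ := by rw [hraG, hrbG]
      _ = w ^ (i * j) := hLG
  -- the lift of `w`
  obtain ⟨w', hw'def⟩ : ∃ w' : Γ, w' = ⁅a', b'⁆ := ⟨_, rfl⟩
  have hw' : σ w' = w := by rw [hw'def, map_commutatorElement, ha', hb', hwG]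
  have hαker : ⁅a', w'⁆ ∈ σ.ker := by
    rw [MonoidHom.mem_ker, map_commutatorElement, ha', hw', commutatorElement_eq_one_iff_mul_comm]
    exact haw
  have hβker : ⁅b', w'⁆ ∈ σ.ker := by
    rw [MonoidHom.mem_ker, map_commutatorElement, hb', hw', commutatorElement_eq_one_iff_mul_comm]
    exact hbw
  -- conjugation by `ρ`
  obtain ⟨k1, hk1def⟩ : ∃ k1, k1 = (a' ^ i)⁻¹ * (ρ * a' * ρ⁻¹) := ⟨_, rfl⟩
  obtain ⟨k2, hk2def⟩ : ∃ k2, k2 = (b' ^ j)⁻¹ * (ρ * b' * ρ⁻¹) := ⟨_, rfl⟩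
  obtain ⟨c, hcdef⟩ : ∃ c, c = (w' ^ (i * j))⁻¹ * (ρ * w' * ρ⁻¹) := ⟨_, rfl⟩
  have hk1 : k1 ∈ σ.ker := by
    rw [hk1def, MonoidHom.mem_ker, map_mul, map_inv, map_pow, map_mul, map_mul, map_inv, ha', hρ,
      hraG, inv_mul_cancel]
  have hk2 : k2 ∈ σ.ker := by
    rw [hk2def, MonoidHom.mem_ker, map_mul, map_inv, map_pow, map_mul, map_mul, map_inv, hb', hρ,
      hrbG, inv_mul_cancel]
  have hc : c ∈ σ.ker := by
    rw [hcdef, MonoidHom.mem_ker, map_mul, map_inv, map_pow, map_mul, map_mul, map_inv, hw', hρ,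
      hrwG, inv_mul_cancel]
  have eA : ρ * a' * ρ⁻¹ = a' ^ i * k1 := by rw [hk1def]; group
  have eB : ρ * b' * ρ⁻¹ = b' ^ j * k2 := by rw [hk2def]; group
  have eW : ρ * w' * ρ⁻¹ = w' ^ (i * j) * c := by rw [hcdef]; group
  -- `α = [a', w'] = 1`
  have hα1 : ⁅a', w'⁆ = 1 := by
    obtain ⟨α, hαdef⟩ : ∃ α : Γ, α = ⁅a', w'⁆ := ⟨_, rfl⟩
    rw [← hαdef] at hαker ⊢
    have hαc := mem_center_iff.mp (hcen hαker)
    have h1 : ρ * α * ρ⁻¹ = α := by rw [hαc ρ]; group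
    have h2 : ρ * α * ρ⁻¹ = ⁅ρ * a' * ρ⁻¹, ρ * w' * ρ⁻¹⁆ := by
      rw [hαdef]; exact conj_commutatorElement ρ a' w'
    have h3 : ⁅ρ * a' * ρ⁻¹, ρ * w' * ρ⁻¹⁆ = ⁅a' ^ i, w' ^ (i * j)⁆ := by
      rw [eA, eW]; exact commutatorElement_mul_central (hcen hk1) (hcen hc)
    have hrel : a' * w' = α * w' * a' := by rw [hαdef, commutatorElement_def]; group
    have h4 : ⁅a' ^ i, w' ^ (i * j)⁆ = α ^ (i * (i * j)) :=
      commutatorElement_pow_pow (show Commute α a' from (hαc a').symm)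
        (show Commute α w' from (hαc w').symm) hrel i (i * j)
    have h5 : α ^ (i * (i * j)) = α := by rw [← h4, ← h3, ← h2, h1]
    refine eq_one_of_pow_eq_self p hp (hexp _ hαker) h5 ?_
    push_cast
    rw [← mul_assoc, ← pow_two]
    exact hiij
  -- `β = [b', w'] = 1`
  have hβ1 : ⁅b', w'⁆ = 1 := by
    obtain ⟨β, hβdef⟩ : ∃ β : Γ, β = ⁅b', w'⁆ := ⟨_, rfl⟩
    rw [← hβdef] at hβker ⊢
    have hβc := mem_center_iff.mp (hcen hβker)
    have h1 : ρ * β * ρ⁻¹ = β := by rw [hβc ρ]; group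
    have h2 : ρ * β * ρ⁻¹ = ⁅ρ * b' * ρ⁻¹, ρ * w' * ρ⁻¹⁆ := by
      rw [hβdef]; exact conj_commutatorElement ρ b' w'
    have h3 : ⁅ρ * b' * ρ⁻¹, ρ * w' * ρ⁻¹⁆ = ⁅b' ^ j, w' ^ (i * j)⁆ := by
      rw [eB, eW]; exact commutatorElement_mul_central (hcen hk2) (hcen hc)
    have hrel : b' * w' = β * w' * b' := by rw [hβdef, commutatorElement_def]; group
    have h4 : ⁅b' ^ j, w' ^ (i * j)⁆ = β ^ (j * (i * j)) :=
      commutatorElement_pow_pow (show Commute β b' from (hβc b').symm)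
        (show Commute β w' from (hβc w').symm) hrel j (i * j)
    have h5 : β ^ (j * (i * j)) = β := by rw [← h4, ← h3, ← h2, h1]
    refine eq_one_of_pow_eq_self p hp (hexp _ hβker) h5 ?_
    push_cast
    have : (j : ZMod p) * ((i : ZMod p) * (j : ZMod p)) = (i : ZMod p) * (j : ZMod p) ^ 2 := by ring
    rw [this]
    exact hijj
  have haw' : a' * w' = w' * a' := commutatorElement_eq_one_iff_mul_comm.mp hα1
  have hbw' : b' * w' = w' * b' := commutatorElement_eq_one_iff_mul_comm.mp hβ1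
  have hrelab : a' * b' = w' * b' * a' := by rw [hw'def, commutatorElement_def]; group
  have hL := pow_mul_pow_of_comm_central (show Commute w' a' from haw'.symm)
    (show Commute w' b' from hbw'.symm) hrelab
  -- orders of the lifts
  have hap : a' ^ p = 1 := by
    have hker : a' ^ p ∈ σ.ker := by rw [MonoidHom.mem_ker, map_pow, ha', ha]
    have hc' := mem_center_iff.mp (hcen hker)
    have h1 : ρ * a' ^ p * ρ⁻¹ = a' ^ p := by rw [hc' ρ]; group
    have h2 : (ρ * a' * ρ⁻¹) ^ p = ρ * a' ^ p * ρ⁻¹ := conj_pow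
    have h3 : (a' ^ i * k1) ^ p = (a' ^ p) ^ i := by
      have hk1c : Commute (a' ^ i) k1 := mem_center_iff.mp (hcen hk1) (a' ^ i)
      rw [hk1c.mul_pow, hexp k1 hk1, mul_one, ← pow_mul, ← pow_mul, mul_comm]
    have h4 : (a' ^ p) ^ i = a' ^ p := by rw [← h3, ← eA, h2, h1]
    exact eq_one_of_pow_eq_self p hp (hexp _ hker) h4 hi
  have hbp : b' ^ p = 1 := by
    have hker : b' ^ p ∈ σ.ker := by rw [MonoidHom.mem_ker, map_pow, hb', hb]
    have hc' := mem_center_iff.mp (hcen hker)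
    have h1 : ρ * b' ^ p * ρ⁻¹ = b' ^ p := by rw [hc' ρ]; group
    have h2 : (ρ * b' * ρ⁻¹) ^ p = ρ * b' ^ p * ρ⁻¹ := conj_pow
    have h3 : (b' ^ j * k2) ^ p = (b' ^ p) ^ j := by
      have hk2c : Commute (b' ^ j) k2 := mem_center_iff.mp (hcen hk2) (b' ^ j)
      rw [hk2c.mul_pow, hexp k2 hk2, mul_one, ← pow_mul, ← pow_mul, mul_comm]
    have h4 : (b' ^ p) ^ j = b' ^ p := by rw [← h3, ← eB, h2, h1]
    exact eq_one_of_pow_eq_self p hp (hexp _ hker) h4 hj
  have hwp : w' ^ p = 1 := by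
    have h1 := hL p 1
    rw [hap, pow_one, mul_one, one_mul, mul_one] at h1
    have h2 : w' ^ p * b' = 1 * b' := by rw [one_mul]; exact h1.symm
    exact mul_right_cancel h2
  -- the chain
  set Q0 := zpowers w' with hQ0
  set Q1 := Q0 ⊔ zpowers a' with hQ1
  set Q2 := Q1 ⊔ zpowers b' with hQ2
  have hc0 : Nat.card ↥Q0 ≤ p := by
    rw [hQ0, Nat.card_zpowers]
    exact Nat.le_of_dvd hp0 (orderOf_dvd_of_pow_eq_one hwp)
  have hw'Q0 : w' ∈ Q0 := mem_zpowers w'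
  have ha'Q1 : a' ∈ Q1 := (le_sup_right : zpowers a' ≤ Q1) (mem_zpowers a')
  have hQ0Q1 : Q0 ≤ Q1 := le_sup_left
  have ha_norm : ∀ q ∈ Q0, a' * q * a'⁻¹ ∈ Q0 := by
    intro q hq
    have hcq : Commute a' q := by
      obtain ⟨k, rfl⟩ := mem_zpowers_iff.mp hq
      exact (Commute.zpow_right (show Commute a' w' from haw') k)
    have : a' * q * a'⁻¹ = q := by rw [hcq.eq]; group
    rw [this]; exact hq
  have hc1 : Nat.card ↥Q1 ≤ p * Nat.card ↥Q0 :=
    card_sup_zpowers_le hp0 (by rw [hap]; exact one_mem _) ha_norm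
  have hb_norm : ∀ q ∈ Q1, b' * q * b'⁻¹ ∈ Q1 := by
    apply conj_sup_zpowers_mem
    · intro q hq
      have hcq : Commute b' q := by
        obtain ⟨k, rfl⟩ := mem_zpowers_iff.mp hq
        exact (Commute.zpow_right (show Commute b' w' from hbw') k)
      have : b' * q * b'⁻¹ = q := by rw [hcq.eq]; group
      rw [this]; exact hQ0Q1 hq
    · have e : b' * a' * b'⁻¹ = w'⁻¹ * a' := by rw [hw'def, commutatorElement_def]; group
      rw [e]; exact Q1.mul_mem (Q1.inv_mem (hQ0Q1 hw'Q0)) ha'Q1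
  have hc2 : Nat.card ↥Q2 ≤ p * Nat.card ↥Q1 :=
    card_sup_zpowers_le hp0 (by rw [hbp]; exact one_mem _) hb_norm
  have hcQ : Nat.card ↥Q2 ≤ p ^ 3 := by
    calc Nat.card ↥Q2 ≤ p * Nat.card ↥Q1 := hc2
      _ ≤ p * (p * Nat.card ↥Q0) := Nat.mul_le_mul_left p hc1
      _ ≤ p * (p * p) := Nat.mul_le_mul_left p (Nat.mul_le_mul_left p hc0)
      _ = p ^ 3 := by ring
  have hmap : Q2.map σ = zpowers w ⊔ zpowers a ⊔ zpowers b := by
    rw [hQ2, hQ1, hQ0, Subgroup.map_sup, Subgroup.map_sup, MonoidHom.map_zpowers,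
      MonoidHom.map_zpowers, MonoidHom.map_zpowers, ha', hb', hw']
  have hcP : p ^ 3 ≤ Nat.card ↥(Q2.map σ) := by rw [hmap]; exact hP
  have hQker : Q2 ⊓ σ.ker = ⊥ := inf_ker_eq_bot_of_card_le σ Q2 (hcQ.trans hcP)
  have hcardP : Nat.card ↥(Q2.map σ) = p ^ 3 := le_antisymm ((card_map_le σ Q2).trans hcQ) hcP
  have hidx : (Q2.map σ).index = m := by
    have := (Q2.map σ).card_mul_index
    rw [hcardP, hG] at this
    exact Nat.eq_of_mul_eq_mul_left (pow_pos hp0 3) this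
  rw [eq_bot_iff]
  intro x hx
  rw [mem_bot]
  have h1 := pow_index_eq_one_of_compl σ hσ Q2 hQker x hx
  rw [hidx] at h1
  have h2 := hexp x hx
  have h3 : orderOf x ∣ Nat.gcd m p := Nat.dvd_gcd (orderOf_dvd_of_pow_eq_one h1)
    (orderOf_dvd_of_pow_eq_one h2)
  rw [hm, Nat.dvd_one] at h3
  exact orderOf_eq_one_iff.mp h3

end Cfsg.Agent.Lib.Helper12.Stem
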