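-- helper12: MODULE A for the Suzuki order theorem (helper6, board #2547): counting pairs of
-- involutions with fixed-point-free product in a Zassenhaus-like group, and the structure of the
-- centraliser of such a product.
import Mathlib
import Cfsg.Agent.Lib.Helper90.Invert
import Cfsg.Agent.Lib.Helper6.SuzOrd0
import Cfsg.Agent.Lib.Helper12.DegP1A

set_option autoImplicit false

namespace Cfsg.Agent.Lib.Helper12.ZassCount

open MulAction

section defs

variable {H : Type*} [Group H]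

/-- involutions -/
def IsInv (j : H) : Prop := j ≠ 1 ∧ j * j = 1

theorem IsInv.inv_eq {j : H} (hj : IsInv j) : j⁻¹ = j := inv_eq_of_mul_eq_one_left hj.2

theorem IsInv.orderOf_eq {j : H} (hj : IsInv j) : orderOf j = 2 :=
  orderOf_eq_prime (by rw [pow_two]; exact hj.2) hj.1

theorem IsInv.conj {j : H} (hj : IsInv j) (h : H) : IsInv (h * j * h⁻¹) := by
  refine ⟨?_, ?_⟩
  · intro h1
    apply hj.1
    have := congrArg (fun w => h⁻¹ * w * h) h1
    simpa [mul_assoc] using this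
  · calc h * j * h⁻¹ * (h * j * h⁻¹) = h * (j * j) * h⁻¹ := by group
      _ = 1 := by rw [hj.2]; group

/-- fixed-point-free on `Λ` -/
def Fpf (Λ : Type*) [MulAction H Λ] (g : H) : Prop := ∀ x : Λ, g • x ≠ x

theorem Fpf.ne_one {Λ : Type*} [MulAction H Λ] [Nonempty Λ] {g : H} (hg : Fpf Λ g) : g ≠ 1 := by
  rintro rfl
  exact hg (Classical.arbitrary Λ) (one_smul _ _)

theorem Fpf.conj {Λ : Type*} [MulAction H Λ] {g : H} (hg : Fpf Λ g) (h : H) :
    Fpf Λ (h * g * h⁻¹) := by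
  intro x hx
  apply hg (h⁻¹ • x)
  rw [mul_smul, mul_smul] at hx
  rw [eq_inv_smul_iff]
  exact hx

/-- fixed-point-free products of two involutions -/
def FP (Λ : Type*) [MulAction H Λ] (g : H) : Prop :=
  Fpf Λ g ∧ ∃ j₁ j₂ : H, IsInv j₁ ∧ IsInv j₂ ∧ g = j₁ * j₂

theorem FP.conj {Λ : Type*} [MulAction H Λ] {g : H} (hg : FP Λ g) (h : H) :
    FP Λ (h * g * h⁻¹) := by
  obtain ⟨hf, j₁, j₂, h1, h2, rfl⟩ := hg
  refine ⟨hf.conj h, h * j₁ * h⁻¹, h * j₂ * h⁻¹, h1.conj h, h2.conj h, ?_⟩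
  group

/-- the hypotheses used for the structure of the centraliser of a fixed-point-free product of two
involutions -/
structure THyp (H Λ : Type*) [Group H] [MulAction H Λ] : Prop where
  fix3 : ∀ (h : H) (a b c : Λ), a ≠ b → a ≠ c → b ≠ c → h • a = a → h • b = b → h • c = c → h = 1
  invFix : ∀ j : H, IsInv j → ∃! c : Λ, j • c = c
  centInv : ∀ j : H, IsInv j → IsPGroup 2 ↥(Subgroup.centralizer ({j} : Set H))

/-- helper6's abstract counting systems satisfy `THyp` -/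
theorem THyp.of_ASys {Λ : Type*} [MulAction H Λ] [Finite Λ] {N d : ℕ}
    (S : Cfsg.Agent.Lib.Helper6.SuzOrd.ASys H Λ N d) : THyp H Λ where
  fix3 := fun h a b c hab hac hbc ha hb hc => S.h3 h a b c hab hbc hac ha hb hc
  invFix := fun j hj => S.fix_unique hj.1 hj.2
  centInv := by
    intro j hj g
    have hg : (g : H) * j = j * g := by
      have := g.2
      rw [Subgroup.mem_centralizer_iff] at this
      exact (this j rfl).symm
    obtain ⟨k, hk⟩ := S.cent_inv j g hj.1 hj.2 hg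
    exact ⟨k, Subtype.ext (by simpa using hk)⟩

/-- `W = N_H(C_H(j₁ j₂)) ∩ C_H(j₁)` -/
abbrev WW (j₁ j₂ : H) : Subgroup H :=
  Subgroup.normalizer ((Subgroup.centralizer (singleton (j₁ * j₂) : Set H) : Subgroup H) : Set H) ⊓
    Subgroup.centralizer (singleton j₁ : Set H)

end defs

section centralizer

theorem eq_one_of_odd_of_two_pow {H : Type*} [Group H] {t : H} {k : ℕ} (hodd : Odd (orderOf t))
    (h2 : t ^ 2 ^ k = 1) : t = 1 := by
  rw [← orderOf_eq_one_iff]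
  exact Nat.Coprime.eq_one_of_dvd (Nat.Coprime.pow_right k hodd.coprime_two_right)
    (orderOf_dvd_of_pow_eq_one h2)

/-- square roots in a group of odd order -/
theorem exists_sq_eq {H : Type*} [Group H] {t : H} (hodd : Odd (orderOf t)) :
    ∃ k : ℕ, (t ^ k) * (t ^ k) = t := by
  obtain ⟨m, hm⟩ := hodd
  refine ⟨m + 1, ?_⟩
  rw [← pow_add]
  have : m + 1 + (m + 1) = orderOf t + 1 := by omega
  rw [this, pow_succ, pow_orderOf_eq_one, one_mul]

variable {H Λ : Type*} [Group H] [MulAction H Λ] [Finite H]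
  (hyp : THyp H Λ) {j₁ j₂ : H} (h1 : IsInv j₁) (h2 : IsInv j₂) (hg : Fpf Λ (j₁ * j₂))

local notation "T" => Subgroup.centralizer ({j₁ * j₂} : Set H)

omit [Finite H] in
theorem mem_T {t : H} : t ∈ T ↔ t * (j₁ * j₂) = j₁ * j₂ * t := by
  rw [Subgroup.mem_centralizer_iff]
  constructor
  · intro h
    exact (h _ rfl).symm
  · rintro h _ rfl
    exact h.symm

omit [Finite H] in
theorem mem_centralizer_singleton {x t : H} :
    t ∈ Subgroup.centralizer ({x} : Set H) ↔ t * x = x * t := by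
  rw [Subgroup.mem_centralizer_iff]
  constructor
  · intro h
    exact (h _ rfl).symm
  · rintro h _ rfl
    exact h.symm

omit [Finite H] in
include h1 h2 in
theorem conj_g : j₁ * (j₁ * j₂) * j₁⁻¹ = (j₁ * j₂)⁻¹ := by
  rw [mul_inv_rev, h1.inv_eq, h2.inv_eq, ← mul_assoc, h1.2, one_mul]

omit [Finite H] in
include hyp hg in
/-- no involution centralises `g` -/
theorem not_isInv_of_mem_T {i : H} (hi : i ∈ T) : ¬ IsInv i := by
  intro hinv
  obtain ⟨c, hc, huniq⟩ := hyp.invFix i hinv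
  rw [mem_T] at hi
  apply hg c
  apply huniq
  rw [← mul_smul, hi, mul_smul, hc]

include hyp hg in
theorem T_odd : Odd (Nat.card T) := by
  rw [← Nat.not_even_iff_odd]
  intro heven
  have : Fact (Nat.Prime 2) := ⟨Nat.prime_two⟩
  obtain ⟨x, hx⟩ := exists_prime_orderOf_dvd_card' (G := T) 2 heven.two_dvd
  apply not_isInv_of_mem_T hyp hg x.2
  rw [← Subgroup.orderOf_coe] at hx
  refine ⟨?_, ?_⟩
  · intro h
    rw [h, orderOf_one] at hx
    omega
  · rw [← pow_two, ← hx]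
    exact pow_orderOf_eq_one _

include hyp hg in
theorem orderOf_odd_of_mem_T {t : H} (ht : t ∈ T) : Odd (orderOf t) := by
  have h := orderOf_dvd_natCard (⟨t, ht⟩ : T)
  rw [Subgroup.orderOf_mk] at h
  exact (T_odd hyp hg).of_dvd_nat h

omit [Finite H] in
include h1 h2 in
theorem conj_mem_T {t : H} (ht : t ∈ T) : j₁ * t * j₁⁻¹ ∈ T := by
  rw [mem_T] at ht ⊢
  have hc := conj_g h1 h2
  -- `j₁ t j₁⁻¹` commutes with `g⁻¹ = j₁ g j₁⁻¹`, hence with `g`
  have h3 : j₁ * t * j₁⁻¹ * (j₁ * j₂)⁻¹ = (j₁ * j₂)⁻¹ * (j₁ * t * j₁⁻¹) := by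
    rw [← hc]
    calc j₁ * t * j₁⁻¹ * (j₁ * (j₁ * j₂) * j₁⁻¹) = j₁ * (t * (j₁ * j₂)) * j₁⁻¹ := by group
      _ = j₁ * (j₁ * j₂ * t) * j₁⁻¹ := by rw [ht]
      _ = j₁ * (j₁ * j₂) * j₁⁻¹ * (j₁ * t * j₁⁻¹) := by group
  calc j₁ * t * j₁⁻¹ * (j₁ * j₂)
      = (j₁ * j₂) * ((j₁ * j₂)⁻¹ * (j₁ * t * j₁⁻¹)) * (j₁ * j₂) := by group
    _ = (j₁ * j₂) * (j₁ * t * j₁⁻¹ * (j₁ * j₂)⁻¹) * (j₁ * j₂) := by rw [h3]
    _ = j₁ * j₂ * (j₁ * t * j₁⁻¹) := by group

omit [Finite H] in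
include h1 h2 in
theorem j₁_mem_normalizer : j₁ ∈ Subgroup.normalizer (T : Set H) := by
  intro t
  constructor
  · exact conj_mem_T h1 h2
  · intro ht
    have h3 := conj_mem_T h1 h2 ht
    have e : j₁ * (j₁ * t * j₁⁻¹) * j₁⁻¹ = t := by
      rw [h1.inv_eq]
      calc j₁ * (j₁ * t * j₁) * j₁ = (j₁ * j₁) * t * (j₁ * j₁) := by group
        _ = t := by rw [h1.2, one_mul, mul_one]
    rwa [e] at h3

include hyp h1 hg in
theorem eq_one_of_mem_T_of_comm {t : H} (ht : t ∈ T) (hc : j₁ * t = t * j₁) : t = 1 := by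
  -- `t` lies in the 2-group `C(j₁)` and in the odd order group `T`
  have hmem : t ∈ Subgroup.centralizer ({j₁} : Set H) := by
    rw [mem_centralizer_singleton]
    exact hc.symm
  obtain ⟨k, hk⟩ := (hyp.centInv j₁ h1) ⟨t, hmem⟩
  have hk' : t ^ 2 ^ k = 1 := by
    have := congrArg Subtype.val hk
    simpa using this
  exact eq_one_of_odd_of_two_pow (orderOf_odd_of_mem_T hyp hg ht) hk'

include hyp h1 h2 hg in
/-- `j₁` inverts `T` -/
theorem T_inverted : ∀ t ∈ T, j₁ * t * j₁⁻¹ = t⁻¹ :=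
  Cfsg.Agent.Lib.Helper90.inverts_of_fixedPointFree T j₁ h1.2 (j₁_mem_normalizer h1 h2)
    (fun _ hk hc => eq_one_of_mem_T_of_comm hyp h1 hg hk hc)

include hyp h1 h2 hg in
/-- `T` is abelian -/
theorem T_comm {s t : H} (hs : s ∈ T) (ht : t ∈ T) : s * t = t * s :=
  Cfsg.Agent.Lib.Helper90.commute_of_inverts T j₁ (T_inverted hyp h1 h2 hg) hs ht

omit [Finite H] in
include hyp in
/-- a non-identity element fixes at most two points -/
theorem eq_of_fixed {h : H} (hh : h ≠ 1) {a b c : Λ} (ha : h • a = a) (hb : h • b = b)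
    (hc : h • c = c) (hab : a ≠ b) : c = a ∨ c = b := by
  by_contra hcon
  push Not at hcon
  exact hh (hyp.fix3 h a b c hab (Ne.symm hcon.1) (Ne.symm hcon.2) ha hb hc)

include hyp hg in
/-- the non-identity elements of `T` are fixed-point-free -/
theorem T_fpf {t : H} (ht : t ∈ T) (ht1 : t ≠ 1) : Fpf Λ t := by
  intro x hx
  set g := j₁ * j₂ with hgdef
  have hcomm : t * g = g * t := mem_T.mp ht
  -- `g x` and `g (g x)` are fixed by `t`
  have hx1 : t • (g • x) = g • x := by rw [← mul_smul, hcomm, mul_smul, hx]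
  have hx2 : t • (g • (g • x)) = g • (g • x) := by rw [← mul_smul, hcomm, mul_smul, hx1]
  have hne : x ≠ g • x := fun h => hg x h.symm
  have hgg : g • (g • x) = x := by
    rcases eq_of_fixed hyp ht1 hx hx1 hx2 hne with h | h
    · exact h
    · exact absurd h (hg (g • x))
  -- `g` has odd order, so it is a power of `g * g`
  have hgT : g ∈ T := mem_T.mpr rfl
  obtain ⟨k, hk⟩ := exists_sq_eq (orderOf_odd_of_mem_T hyp hg hgT)
  have hpow : ∀ n : ℕ, (g * g) ^ n • x = x := by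
    intro n
    induction n with
    | zero => rw [pow_zero, one_smul]
    | succ n ih => rw [pow_succ, mul_smul, mul_smul, hgg, ih]
  have : g = (g * g) ^ k := by
    rw [(Commute.refl g).mul_pow k]
    exact hk.symm
  apply hg x
  rw [this]
  exact hpow k

include hyp h1 h2 hg in
/-- `j₁ t` is an involution for `t ∈ T` -/
theorem isInv_mul {t : H} (ht : t ∈ T) : IsInv (j₁ * t) := by
  refine ⟨?_, ?_⟩
  · intro h
    have : t = j₁ := by
      have h' := congrArg (fun w => j₁ * w) h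
      simp only [← mul_assoc, h1.2, one_mul, mul_one] at h'
      exact h'
    rw [this] at ht
    exact not_isInv_of_mem_T hyp hg ht h1
  · have h3 := T_inverted hyp h1 h2 hg t ht
    rw [h1.inv_eq] at h3
    calc j₁ * t * (j₁ * t) = (j₁ * t * j₁) * t := by group
      _ = 1 := by rw [h3, inv_mul_cancel]

include hyp h1 h2 hg in
theorem T_FP {t : H} (ht : t ∈ T) (ht1 : t ≠ 1) : FP Λ t := by
  refine ⟨T_fpf hyp hg ht ht1, j₁, j₁ * t, h1, isInv_mul hyp h1 h2 hg ht, ?_⟩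
  rw [← mul_assoc, h1.2, one_mul]

include hyp h1 h2 hg in
/-- `T` is the centraliser of each of its non-identity elements -/
theorem T_cent {t : H} (ht : t ∈ T) (ht1 : t ≠ 1) : Subgroup.centralizer ({t} : Set H) = T := by
  have hi := isInv_mul hyp h1 h2 hg ht
  have ht' : t = j₁ * (j₁ * t) := by rw [← mul_assoc, h1.2, one_mul]
  have hf : Fpf Λ (j₁ * (j₁ * t)) := by
    rw [← ht']
    exact T_fpf hyp hg ht ht1
  have hgT : j₁ * j₂ ∈ T := mem_T.mpr rfl
  ext s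
  constructor
  · intro hs
    -- `s` and `g` both lie in the abelian group `C(t)`
    rw [ht'] at hs
    have hg' : j₁ * j₂ ∈ Subgroup.centralizer ({j₁ * (j₁ * t)} : Set H) := by
      rw [← ht', mem_centralizer_singleton]
      exact (mem_T.mp ht).symm
    exact mem_T.mpr (T_comm hyp h1 hi hf hs hg')
  · intro hs
    rw [mem_centralizer_singleton]
    exact T_comm hyp h1 h2 hg hs ht

omit [Finite H] in
include h1 h2 in
/-- the elements inverting `g` -/
theorem inverting_iff {i : H} :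
    i * (j₁ * j₂) * i⁻¹ = (j₁ * j₂)⁻¹ ↔ ∃ t ∈ T, i = j₁ * t := by
  have hc := conj_g h1 h2
  constructor
  · intro h
    refine ⟨j₁ * i, ?_, ?_⟩
    · rw [mem_T]
      have : j₁ * i * (j₁ * j₂) * (j₁ * i)⁻¹ = j₁ * j₂ := by
        calc j₁ * i * (j₁ * j₂) * (j₁ * i)⁻¹ = j₁ * (i * (j₁ * j₂) * i⁻¹) * j₁⁻¹ := by group
          _ = j₁ * (j₁ * (j₁ * j₂) * j₁⁻¹) * j₁⁻¹ := by rw [h, hc]
          _ = (j₁ * j₁) * (j₁ * j₂) * (j₁⁻¹ * j₁⁻¹) := by group
          _ = j₁ * j₂ := by rw [h1.inv_eq, h1.2, one_mul, mul_one]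
      calc j₁ * i * (j₁ * j₂) = (j₁ * i * (j₁ * j₂) * (j₁ * i)⁻¹) * (j₁ * i) := by group
        _ = j₁ * j₂ * (j₁ * i) := by rw [this]
    · rw [← mul_assoc, h1.2, one_mul]
  · rintro ⟨t, ht, rfl⟩
    rw [mem_T] at ht
    calc j₁ * t * (j₁ * j₂) * (j₁ * t)⁻¹ = j₁ * (t * (j₁ * j₂)) * t⁻¹ * j₁⁻¹ := by group
      _ = j₁ * (j₁ * j₂ * t) * t⁻¹ * j₁⁻¹ := by rw [ht]
      _ = j₁ * (j₁ * j₂) * j₁⁻¹ := by group
      _ = (j₁ * j₂)⁻¹ := hc

include hyp h1 h2 hg in
/-- the pairs of involutions with product `g` are parametrised by `T` -/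
theorem card_pairs_with :
    Nat.card {p : H × H // IsInv p.1 ∧ IsInv p.2 ∧ p.1 * p.2 = j₁ * j₂} = Nat.card T := by
  symm
  apply Nat.card_congr
  have hgT : j₁ * j₂ ∈ T := mem_T.mpr rfl
  refine Equiv.ofBijective
    (fun t : T => ⟨(j₁ * t, (j₁ * t) * (j₁ * j₂)), isInv_mul hyp h1 h2 hg t.2, ?_, ?_⟩) ⟨?_, ?_⟩
  · -- the second component is `j₁ (t g)`
    have : j₁ * (t : H) * (j₁ * j₂) = j₁ * ((t : H) * (j₁ * j₂)) := by group
    rw [this]
    exact isInv_mul hyp h1 h2 hg (Subgroup.mul_mem _ t.2 hgT)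
  · have h3 := (isInv_mul hyp h1 h2 hg t.2).2
    show j₁ * (t : H) * (j₁ * (t : H) * (j₁ * j₂)) = j₁ * j₂
    calc j₁ * (t : H) * (j₁ * (t : H) * (j₁ * j₂))
        = (j₁ * (t : H) * (j₁ * (t : H))) * (j₁ * j₂) := by group
      _ = j₁ * j₂ := by rw [h3, one_mul]
  · intro s t hst
    have := congrArg (fun p => p.1.1) hst
    simp only at this
    exact Subtype.ext (mul_left_cancel this)
  · rintro ⟨⟨i₁, i₂⟩, hi1, hi2, hprod⟩
    simp only at hi1 hi2 hprod
    have hinv : i₁ * (j₁ * j₂) * i₁⁻¹ = (j₁ * j₂)⁻¹ := by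
      rw [← hprod, mul_inv_rev, hi1.inv_eq, hi2.inv_eq]
      calc i₁ * (i₁ * i₂) * i₁ = (i₁ * i₁) * i₂ * i₁ := by group
        _ = i₂ * i₁ := by rw [hi1.2, one_mul]
    obtain ⟨t, ht, rfl⟩ := (inverting_iff h1 h2).mp hinv
    refine ⟨⟨t, ht⟩, ?_⟩
    apply Subtype.ext
    apply Prod.ext
    · rfl
    · show j₁ * t * (j₁ * j₂) = i₂
      rw [← hprod, ← mul_assoc, hi1.2, one_mul]

local notation "W" => WW j₁ j₂

include hyp h1 hg in
theorem T_inf_W : T ⊓ W = ⊥ := by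
  rw [eq_bot_iff]
  intro t htt
  obtain ⟨ht, htW⟩ := Subgroup.mem_inf.mp htt
  obtain ⟨-, htc⟩ := Subgroup.mem_inf.mp htW
  rw [Subgroup.mem_bot]
  rw [mem_centralizer_singleton] at htc
  exact eq_one_of_mem_T_of_comm hyp h1 hg ht htc.symm

include hyp h1 h2 hg in
/-- `T` is a TI-subgroup -/
theorem T_TI (h : H) {t : H} (ht : t ∈ T) (ht1 : t ≠ 1) (hht : h * t * h⁻¹ ∈ T) :
    h ∈ Subgroup.normalizer (T : Set H) := by
  have hne : h * t * h⁻¹ ≠ 1 := by
    intro h'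
    apply ht1
    have := congrArg (fun w => h⁻¹ * w * h) h'
    simpa [mul_assoc] using this
  have hc1 := T_cent hyp h1 h2 hg ht ht1
  have hc2 := T_cent hyp h1 h2 hg hht hne
  intro x
  show x ∈ T ↔ h * x * h⁻¹ ∈ T
  rw [← hc2]
  nth_rewrite 1 [hc2, ← hc1]
  rw [mem_centralizer_singleton, mem_centralizer_singleton]
  constructor
  · intro hx
    calc h * x * h⁻¹ * (h * t * h⁻¹) = h * (x * t) * h⁻¹ := by group
      _ = h * (t * x) * h⁻¹ := by rw [hx]
      _ = h * t * h⁻¹ * (h * x * h⁻¹) := by group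
  · intro hx
    have : h * (x * t) * h⁻¹ = h * (t * x) * h⁻¹ := by
      calc h * (x * t) * h⁻¹ = h * x * h⁻¹ * (h * t * h⁻¹) := by group
        _ = h * t * h⁻¹ * (h * x * h⁻¹) := hx
        _ = h * (t * x) * h⁻¹ := by group
    exact mul_left_cancel (mul_right_cancel this)

include hyp h1 h2 hg in
/-- `N_H(T) = T W` -/
theorem normalizer_eq {n : H} (hn : n ∈ Subgroup.normalizer (T : Set H)) :
    ∃ t ∈ T, ∃ w ∈ W, n = t * w := by
  have hgT : j₁ * j₂ ∈ T := mem_T.mpr rfl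
  -- `n j₁ n⁻¹` inverts `g`
  have hn' : n⁻¹ ∈ Subgroup.normalizer (T : Set H) := Subgroup.inv_mem _ hn
  have h3 : n⁻¹ * (j₁ * j₂) * n ∈ T := by
    have := (hn' (j₁ * j₂)).mp hgT
    rwa [inv_inv] at this
  have h4 := T_inverted hyp h1 h2 hg _ h3
  have hinv : (n * j₁ * n⁻¹) * (j₁ * j₂) * (n * j₁ * n⁻¹)⁻¹ = (j₁ * j₂)⁻¹ := by
    calc (n * j₁ * n⁻¹) * (j₁ * j₂) * (n * j₁ * n⁻¹)⁻¹
        = n * (j₁ * (n⁻¹ * (j₁ * j₂) * n) * j₁⁻¹) * n⁻¹ := by group
      _ = n * (n⁻¹ * (j₁ * j₂) * n)⁻¹ * n⁻¹ := by rw [h4]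
      _ = (j₁ * j₂)⁻¹ := by group
  obtain ⟨t, ht, htn⟩ := (inverting_iff h1 h2).mp hinv
  -- a square root `s` of `t⁻¹` in `T`
  obtain ⟨k, hk⟩ := exists_sq_eq (orderOf_odd_of_mem_T hyp hg (Subgroup.inv_mem _ ht))
  set s := (t⁻¹) ^ k with hs
  have hsT : s ∈ T := Subgroup.pow_mem _ (Subgroup.inv_mem _ ht) k
  have hsinv := T_inverted hyp h1 h2 hg s hsT
  rw [h1.inv_eq] at hsinv
  have hst : s * t = t * s := T_comm hyp h1 h2 hg hsT ht
  refine ⟨s, hsT, s⁻¹ * n, Subgroup.mem_inf.mpr ⟨?_, ?_⟩, by group⟩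
  · exact Subgroup.mul_mem _ (Subgroup.le_normalizer (Subgroup.inv_mem _ hsT)) hn
  · rw [mem_centralizer_singleton]
    -- `(s⁻¹ n) j₁ (s⁻¹ n)⁻¹ = s⁻¹ (j₁ t) s = j₁ s t s = j₁`
    have e : s⁻¹ * j₁ = j₁ * s := by
      rw [← hsinv]
      calc j₁ * s * j₁ * j₁ = j₁ * s * (j₁ * j₁) := by group
        _ = j₁ * s := by rw [h1.2, mul_one]
    have h5 : s⁻¹ * n * j₁ * (s⁻¹ * n)⁻¹ = j₁ := by
      calc s⁻¹ * n * j₁ * (s⁻¹ * n)⁻¹ = s⁻¹ * (n * j₁ * n⁻¹) * s := by group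
        _ = s⁻¹ * (j₁ * t) * s := by rw [htn]
        _ = (s⁻¹ * j₁) * t * s := by group
        _ = j₁ * s * t * s := by rw [e]
        _ = j₁ * (t * (s * s)) := by rw [mul_assoc j₁ s t, hst]; group
        _ = j₁ := by rw [hk, mul_inv_cancel, mul_one]
    calc s⁻¹ * n * j₁ = (s⁻¹ * n * j₁ * (s⁻¹ * n)⁻¹) * (s⁻¹ * n) := by group
      _ = j₁ * (s⁻¹ * n) := by rw [h5]

omit [Finite H] in
include hyp h1 in
theorem W_two : IsPGroup 2 W :=
  (hyp.centInv j₁ h1).to_le inf_le_right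

include hyp h1 h2 hg in
/-- `j₁` is the only involution of `W` -/
theorem W_unique_inv {i : H} (hiW : i ∈ W) (hi : IsInv i) : i = j₁ := by
  obtain ⟨hiN, hiC⟩ := Subgroup.mem_inf.mp hiW
  have hgT : j₁ * j₂ ∈ T := mem_T.mpr rfl
  have hg1 : j₁ * j₂ ≠ 1 := by
    intro h
    apply hg (j₁ • (Classical.choose (hyp.invFix j₁ h1).exists))
    rw [h, one_smul]
  -- `i` acts fixed-point-freely on `T`
  have hfix : ∀ t ∈ T, i * t = t * i → t = 1 := by
    intro t ht hc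
    by_contra ht1
    have : i ∈ Subgroup.centralizer ({t} : Set H) := mem_centralizer_singleton.mpr hc
    rw [T_cent hyp h1 h2 hg ht ht1] at this
    exact not_isInv_of_mem_T hyp hg this hi
  have hinv := Cfsg.Agent.Lib.Helper90.inverts_of_fixedPointFree T i hi.2 hiN hfix
  obtain ⟨t, ht, rfl⟩ := (inverting_iff h1 h2).mp (hinv _ hgT)
  have hc := hiC
  rw [mem_centralizer_singleton] at hc
  have htc : j₁ * t = t * j₁ := by
    have : j₁ * (t * j₁) = j₁ * (j₁ * t) := by rw [← mul_assoc, hc]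
    exact (mul_left_cancel this).symm
  rw [eq_one_of_mem_T_of_comm hyp h1 hg ht htc, mul_one]

include hyp hg in
/-- `T` acts freely, so its order divides the number of points -/
theorem card_T_dvd : Nat.card T ∣ Nat.card Λ := by
  apply Cfsg.Agent.Lib.Helper12.DegP1.card_dvd_of_free (A := T) (X := Λ)
  intro x
  rw [eq_bot_iff]
  intro t ht
  rw [Subgroup.mem_bot]
  by_contra ht1
  have hne : (t : H) ≠ 1 := fun h => ht1 (Subtype.ext h)
  exact T_fpf hyp hg t.2 hne x (mem_stabilizer_iff.mp ht)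

include hyp h1 h2 hg in
/-- the normaliser of `T` is `T ∪ j₁ T`, or contains an element `w ∉ {1, j₁}` commuting with `j₁` -/
theorem normalizer_dichotomy :
    (∀ x ∈ Subgroup.normalizer (T : Set H), x ∈ T ∨ j₁ * x ∈ T) ∨
      ∃ w ∈ Subgroup.normalizer (T : Set H), w * j₁ = j₁ * w ∧ w ≠ 1 ∧ w ≠ j₁ := by
  by_cases hW : ∃ w ∈ W, w ≠ 1 ∧ w ≠ j₁
  · right
    obtain ⟨w, hw, hw1, hwj⟩ := hW
    obtain ⟨hwN, hwC⟩ := Subgroup.mem_inf.mp hw
    exact ⟨w, hwN, mem_centralizer_singleton.mp hwC, hw1, hwj⟩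
  · left
    push Not at hW
    intro x hx
    obtain ⟨t, ht, w, hw, rfl⟩ := normalizer_eq hyp h1 h2 hg hx
    by_cases hw1 : w = 1
    · left
      rw [hw1, mul_one]
      exact ht
    · right
      rw [hW w hw hw1]
      have h3 := T_inverted hyp h1 h2 hg t ht
      rw [h1.inv_eq] at h3
      rw [← mul_assoc, h3]
      exact Subgroup.inv_mem _ ht

end centralizer

end Cfsg.Agent.Lib.Helper12.ZassCount
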