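-- helper12: MODULE C1F of the Suzuki order theorem (helper6, board #2687): the final contradiction
-- of CASE I.
import Mathlib
import Cfsg.Agent.Lib.Helper6.SuzOrd3
import Cfsg.Agent.Lib.Helper29.SuzTorus
import Cfsg.Agent.Lib.Helper70.SuzPA
import Cfsg.Agent.Lib.Helper12.ZassCount

set_option autoImplicit false

namespace Cfsg.Agent.Lib.Helper12.SuzCaseI

open MulAction Cfsg.Agent.Lib.Helper6.SuzOrd

/-- two subgroups of `T` which commute elementwise and meet trivially: the product of their orders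
divides the order of `T` -/
theorem card_mul_dvd_of_disjoint_comm {G : Type*} [Group G] [Finite G] (A B T : Subgroup G)
    (hA : A ≤ T) (hB : B ≤ T) (hcomm : ∀ a ∈ A, ∀ b ∈ B, a * b = b * a) (hdisj : A ⊓ B = ⊥) :
    Nat.card A * Nat.card B ∣ Nat.card T := by
  have hcomm' : ∀ (m : A) (n : B), Commute (A.subtype m) (B.subtype n) :=
    fun m n => hcomm m m.2 n n.2
  have hinj : Function.Injective (A.subtype.noncommCoprod B.subtype hcomm') := by
    rw [MonoidHom.noncommCoprod_injective]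
    refine ⟨A.subtype_injective, B.subtype_injective, ?_⟩
    rw [Subgroup.range_subtype, Subgroup.range_subtype, disjoint_iff, hdisj]
  have hrange : (A.subtype.noncommCoprod B.subtype hcomm').range ≤ T := by
    rw [MonoidHom.noncommCoprod_range, Subgroup.range_subtype, Subgroup.range_subtype]
    exact sup_le hA hB
  have hcard : Nat.card (A.subtype.noncommCoprod B.subtype hcomm').range =
      Nat.card A * Nat.card B := by
    rw [← Nat.card_prod]
    exact (Nat.card_congr (MonoidHom.ofInjective hinj).toEquiv).symm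
  rw [← hcard]
  exact Subgroup.card_dvd_of_le hrange

/-- arithmetic of BRANCH 1 -/
theorem arith_branch1 {n q t F : ℕ} (hq : 2 ≤ q) (hn : q ^ 2 ≤ n) (ht : q + 1 ≤ t)
    (hF : 2 * F + 2 * n * n = n * ((n + 1) * q))
    (hcount : (n + 1) * n * (q - 1) * (t - 1) ≤ 2 * t * F) : False := by
  obtain ⟨q', rfl⟩ : ∃ q', q = q' + 1 := ⟨q - 1, by omega⟩
  obtain ⟨t', rfl⟩ : ∃ t', t = t' + 1 := ⟨t - 1, by omega⟩
  simp only [Nat.add_sub_cancel] at hcount
  have hn2 : 2 ≤ n := by nlinarith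
  -- `2 t F = t (n (n+1) q - 2 n²)`
  have h1 : (n + 1) * n * q' * t' + (t' + 1) * (2 * n * n) ≤ (t' + 1) * (n * ((n + 1) * (q' + 1))) := by
    calc (n + 1) * n * q' * t' + (t' + 1) * (2 * n * n)
        ≤ 2 * (t' + 1) * F + (t' + 1) * (2 * n * n) := Nat.add_le_add_right hcount _
      _ = (t' + 1) * (2 * F + 2 * n * n) := by ring
      _ = (t' + 1) * (n * ((n + 1) * (q' + 1))) := by rw [hF]
  -- divide by `n`
  have h2 : (n + 1) * q' * t' + (t' + 1) * (2 * n) ≤ (t' + 1) * ((n + 1) * (q' + 1)) := by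
    have hnpos : 0 < n := by omega
    apply Nat.le_of_mul_le_mul_left _ hnpos
    calc n * ((n + 1) * q' * t' + (t' + 1) * (2 * n))
        = (n + 1) * n * q' * t' + (t' + 1) * (2 * n * n) := by ring
      _ ≤ (t' + 1) * (n * ((n + 1) * (q' + 1))) := h1
      _ = n * ((t' + 1) * ((n + 1) * (q' + 1))) := by ring
  nlinarith

/-- arithmetic of BRANCH 2 -/
theorem arith_branch2 {n q t : ℕ} (hq : 3 ≤ q) (hn : n = q ^ 2 ∨ n = q ^ 3)
    (ht : (q + 1) * (q + 1) ∣ t) (htn : t ∣ n + 1) : False := by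
  have hdvd : (q + 1) * (q + 1) ∣ n + 1 := ht.trans htn
  rcases hn with rfl | rfl
  · have := Nat.le_of_dvd (by positivity) hdvd
    nlinarith
  · -- `q³ + 1 = (q + 1) (q² - q + 1)`
    have h1 : q ^ 3 + 1 = (q + 1) * (q * q - q + 1) := by
      have : q ≤ q * q := by nlinarith
      zify [this]
      ring
    rw [h1] at hdvd
    have h2 : q + 1 ∣ q * q - q + 1 := Nat.dvd_of_mul_dvd_mul_left (by omega) hdvd
    -- `q² - q + 1 = (q + 1) (q - 2) + 3`
    have h3 : q * q - q + 1 = (q + 1) * (q - 2) + 3 := by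
      have : q ≤ q * q := by nlinarith
      have h2q : 2 ≤ q := by omega
      zify [this, h2q]
      ring
    rw [h3] at h2
    have h4 : q + 1 ∣ 3 := (Nat.dvd_add_right (dvd_mul_right _ _)).mp h2
    have := Nat.le_of_dvd (by norm_num) h4
    omega

variable {G Ω : Type*} [Group G] [MulAction G Ω] [Finite G] [Finite Ω] {a : Ω} {U : Subgroup G}
  (D : KData G Ω a U)

include D in
/-- **MODULE C1F**: the final contradiction of CASE I -/
theorem caseI_false (X : Subgroup G) (Δ : Set Ω) (j1 j2 : G) (C : Subgroup G)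
    (h1 : j1 ≠ 1 ∧ j1 * j1 = 1) (h2 : j2 ≠ 1 ∧ j2 * j2 = 1)
    (hfpf : ∀ p : Ω, (j1 * j2) • p ≠ p) (hCX : C ≤ X)
    (hCT : C ≤ Subgroup.centralizer ({j1 * j2} : Set G))
    (hC : Nat.card C = Nat.card (cen U) + 1) (c : Ω) (hc : c ∈ Δ) (hj1c : j1 • c = c)
    (hXΔ : ∀ x ∈ X, ∀ p ∈ Δ, x • p ∈ Δ)
    (hblock : ∀ (h : G) (p p' : Ω), p ∈ Δ → p' ∈ Δ → p ≠ p' → h • p ∈ Δ → h • p' ∈ Δ → h ∈ X)
    (hX2 : ∀ x ∈ X, ∀ k : ℕ, x ^ 2 ^ k = 1 → x * x = 1) : False := by
  classical
  have S := D.toASys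
  set T := Subgroup.centralizer ({j1 * j2} : Set G) with hT
  set q := Nat.card (cen U) with hq
  set n := Nat.card U with hn
  -- `q ≥ 4`
  obtain ⟨b, hb⟩ := D.exists_ne
  have hq4 : 4 ≤ q := by
    have h3 := D.card_cen_eq hb
    have hodd := D.stab2_odd (Ne.symm hb)
    obtain ⟨k, hk1, hka, hkb⟩ := D.exists_stab2_ne_one (Ne.symm hb)
    have hnt : 1 < Nat.card ↥(stabilizer G a ⊓ stabilizer G b : Subgroup G) := by
      rw [Finite.one_lt_card_iff_nontrivial]
      exact ⟨⟨⟨k, ⟨hka, hkb⟩⟩, 1, fun h => hk1 (congrArg Subtype.val h)⟩⟩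
    obtain ⟨m, hm⟩ := hodd
    omega
  have hncases : n = q ^ 2 ∨ n = q ^ 3 := D.card_U_cases
  have htdvd : Nat.card T ∣ n + 1 := Cfsg.Agent.Lib.Helper29.SuzTorus.torus_card_dvd S hfpf
  have hCdvd : q + 1 ∣ Nat.card T := by
    rw [← hC]
    exact Subgroup.card_dvd_of_le hCT
  have htpos : 0 < Nat.card T := Nat.card_pos
  have htge : q + 1 ≤ Nat.card T := Nat.le_of_dvd htpos hCdvd
  have hyp := Cfsg.Agent.Lib.Helper12.ZassCount.THyp.of_ASys S
  have hI1 : Cfsg.Agent.Lib.Helper12.ZassCount.IsInv j1 := h1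
  have hI2 : Cfsg.Agent.Lib.Helper12.ZassCount.IsInv j2 := h2
  rcases Cfsg.Agent.Lib.Helper29.SuzTorus.torus_normalizer_dichotomy S h1 h2 hfpf with hN | hw
  · -- BRANCH 1
    have hcount := Cfsg.Agent.Lib.Helper29.SuzTorus.torus_count S h1 h2 hfpf hN
    have hF := Cfsg.Agent.Lib.Helper70.SuzPA.card_fpf S
    have hcardG := S.card_H
    rw [hcardG] at hcount
    have hd1 : q - 1 + 1 = q := by omega
    rw [hd1] at hF
    have hnq : q ^ 2 ≤ n := by
      rcases hncases with h | h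
      · exact h.ge
      · rw [h]
        exact Nat.pow_le_pow_right (by omega) (by norm_num)
    exact arith_branch1 (by omega) hnq htge hF hcount
  · -- BRANCH 2
    obtain ⟨w, hwN, hwj, hw1, hwj1⟩ := hw
    obtain ⟨k, hk⟩ := S.cent_inv j1 w h1.1 h1.2 hwj
    -- `w ∉ X`
    have hwX : w ∉ X := by
      intro hwX
      have hw2 : w * w = 1 := hX2 w hwX k hk
      apply hwj1
      apply Cfsg.Agent.Lib.Helper12.ZassCount.W_unique_inv hyp hI1 hI2 hfpf _ ⟨hw1, hw2⟩
      refine Subgroup.mem_inf.mpr ⟨hwN, ?_⟩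
      rw [Cfsg.Agent.Lib.Helper12.ZassCount.mem_centralizer_singleton]
      exact hwj
    -- `w` fixes `c`
    have hwc : w • c = c := by
      obtain ⟨c0, -, huniq⟩ := S.fix_unique h1.1 h1.2
      have e1 : w • c = c0 := by
        apply huniq
        rw [← mul_smul, ← hwj, mul_smul, hj1c]
      rw [e1]
      exact (huniq c hj1c).symm
    -- `w` moves every other point of `Δ` out of `Δ`
    have hwΔ : ∀ p' ∈ Δ, p' ≠ c → w • p' ∉ Δ := by
      intro p' hp' hp'c hwp'
      exact hwX (hblock w c p' hc hp' (Ne.symm hp'c) (by rw [hwc]; exact hc) hwp')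
    -- the conjugate of `C`
    let C' : Subgroup G := C.map (MulAut.conj w).toMonoidHom
    have hC'mem : ∀ y : G, y ∈ C' ↔ ∃ y0 ∈ C, y = w * y0 * w⁻¹ := by
      intro y
      constructor
      · rintro ⟨y0, hy0, rfl⟩
        exact ⟨y0, hy0, rfl⟩
      · rintro ⟨y0, hy0, rfl⟩
        exact ⟨y0, hy0, rfl⟩
    have hC'T : C' ≤ T := by
      intro y hy
      obtain ⟨y0, hy0, rfl⟩ := (hC'mem y).mp hy
      exact (hwN y0).mp (hCT hy0)
    have hC'card : Nat.card C' = q + 1 := by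
      rw [← hC]
      exact Subgroup.card_map_of_injective (MulAut.conj w).injective
    have hdisj : C ⊓ C' = ⊥ := by
      rw [eq_bot_iff]
      intro y hy
      obtain ⟨hyC, hyC'⟩ := Subgroup.mem_inf.mp hy
      obtain ⟨y0, hy0, rfl⟩ := (hC'mem y).mp hyC'
      rw [Subgroup.mem_bot]
      -- `y0` fixes `c`
      have hy0c : y0 • c = c := by
        by_contra hne
        have hp' : y0 • c ∈ Δ := hXΔ y0 (hCX hy0) c hc
        apply hwΔ (y0 • c) hp' hne
        have : w • (y0 • c) = (w * y0 * w⁻¹) • c := by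
          rw [mul_smul, mul_smul]
          congr 2
          rw [eq_inv_smul_iff, hwc]
        rw [this]
        exact hXΔ _ (hCX hyC) c hc
      have hy01 : y0 = 1 := by
        by_contra hne
        exact Cfsg.Agent.Lib.Helper29.SuzTorus.torus_free S hfpf y0 (hCT hy0) hne c hy0c
      rw [hy01]
      group
    have hcomm : ∀ x ∈ C, ∀ y ∈ C', x * y = y * x := fun x hx y hy =>
      Cfsg.Agent.Lib.Helper29.SuzTorus.torus_comm S h1 h2 hfpf x (hCT hx) y (hC'T hy)
    have hdvd := card_mul_dvd_of_disjoint_comm C C' T hCT hC'T hcomm hdisj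
    rw [hC, hC'card] at hdvd
    exact arith_branch2 (by omega) hncases hdvd htdvd

end Cfsg.Agent.Lib.Helper12.SuzCaseI
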