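import Mathlib

/-!
# TRI8 module [AB1] (helper12, for helper36)

A split extension `1 → K → A → C → 1` (`K = ker fp`, section `s`) with a normal subgroup `N ≤ K`
of `A` such that `s C` centralises `K` modulo `N`: then `A ⧸ N ≃* (K ⧸ N) × C`, where `K ⧸ N` is
given by a surjection `φ : K →* E` with kernel `N`.
-/

set_option autoImplicit false
set_option linter.unusedSimpArgs false
set_option linter.unusedVariables false
set_option linter.unusedSectionVars false

namespace Cfsg.Agent.Lib.Helper12.Tri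

theorem out_equiv_of_section_central {A C E : Type*} [Group A] [Group C] [Group E]
    (N : Subgroup A) [N.Normal]
    (fp : A →* C) (s : C →* A) (hs : ∀ c, fp (s c) = c) (K : Subgroup A) (hK : fp.ker = K)
    (hN : N ≤ K)
    (φ : ↥K →* E) (hφs : Function.Surjective φ) (hφk : φ.ker = N.subgroupOf K)
    (hcent : ∀ (c : C) (k : A), k ∈ K → s c * k * (s c)⁻¹ * k⁻¹ ∈ N) :
    Nonempty (A ⧸ N ≃* E × C) := by
  classical
  subst hK
  set κ : A → A := fun a => a * (s (fp a))⁻¹ with hκ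
  have hκker : ∀ a, κ a ∈ fp.ker := by
    intro a
    rw [MonoidHom.mem_ker]
    simp only [hκ]
    rw [map_mul, map_inv, hs, mul_inv_cancel]
  have hκmul : ∀ a b, κ (a * b) = κ a * (s (fp a) * κ b * (s (fp a))⁻¹) := by
    intro a b
    simp only [hκ]
    rw [map_mul, map_mul]
    group
  have hconjker : ∀ (t k : A), k ∈ fp.ker → t * k * t⁻¹ ∈ fp.ker := by
    intro t k hk
    exact (MonoidHom.normal_ker fp).conj_mem k hk t
  -- φ is invariant under conjugation by `s c`
  have hφconj : ∀ (c : C) (k : A) (hk : k ∈ fp.ker),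
      φ ⟨s c * k * (s c)⁻¹, hconjker _ _ hk⟩ = φ ⟨k, hk⟩ := by
    intro c k hk
    have hmem : (⟨s c * k * (s c)⁻¹, hconjker _ _ hk⟩ * (⟨k, hk⟩ : ↥fp.ker)⁻¹ : ↥fp.ker) ∈ φ.ker := by
      rw [hφk, Subgroup.mem_subgroupOf]
      exact hcent c k hk
    rw [MonoidHom.mem_ker, map_mul, map_inv, mul_inv_eq_one] at hmem
    exact hmem
  let χ : A →* E := MonoidHom.mk' (fun a => φ ⟨κ a, hκker a⟩) (by
    intro a b
    have h1 : (⟨κ (a * b), hκker (a * b)⟩ : ↥fp.ker) =
        ⟨κ a, hκker a⟩ * ⟨s (fp a) * κ b * (s (fp a))⁻¹, hconjker _ _ (hκker b)⟩ :=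
      Subtype.ext (hκmul a b)
    show φ ⟨κ (a * b), hκker (a * b)⟩ = φ ⟨κ a, hκker a⟩ * φ ⟨κ b, hκker b⟩
    rw [h1, map_mul, hφconj])
  have hχ : ∀ a, χ a = φ ⟨κ a, hκker a⟩ := fun a => rfl
  let Ψ : A →* E × C := χ.prod fp
  have hΨ : ∀ a, Ψ a = (χ a, fp a) := fun a => rfl
  have hκ1 : ∀ a, fp a = 1 → κ a = a := by
    intro a ha
    simp only [hκ]
    rw [ha, map_one, inv_one, mul_one]
  have hker : N = Ψ.ker := by
    ext a
    rw [MonoidHom.mem_ker, hΨ, Prod.mk_eq_one]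
    constructor
    · intro ha
      have hfa : fp a = 1 := hN ha
      refine ⟨?_, hfa⟩
      rw [hχ, ← MonoidHom.mem_ker, hφk, Subgroup.mem_subgroupOf]
      show κ a ∈ N
      rw [hκ1 a hfa]
      exact ha
    · rintro ⟨h1, h2⟩
      rw [hχ, ← MonoidHom.mem_ker, hφk, Subgroup.mem_subgroupOf] at h1
      have h3 : κ a ∈ N := h1
      rwa [hκ1 a h2] at h3
  have hsurj : Function.Surjective Ψ := by
    rintro ⟨e, c⟩
    obtain ⟨k, rfl⟩ := hφs e
    refine ⟨(k : A) * s c, ?_⟩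
    have hf : fp ((k : A) * s c) = c := by
      rw [map_mul, hs, (MonoidHom.mem_ker).1 k.2, one_mul]
    have hκk : κ ((k : A) * s c) = k := by
      simp only [hκ]
      rw [hf, mul_inv_cancel_right]
    rw [hΨ, hf, hχ]
    congr 2
    exact Subtype.ext hκk
  exact ⟨(QuotientGroup.quotientMulEquivOfEq hker).trans
    (QuotientGroup.quotientKerEquivOfSurjective Ψ hsurj)⟩

end Cfsg.Agent.Lib.Helper12.Tri
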