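import Mathlib
import Cfsg.Agent.Lib.Helper12.TriAB1

/-!
# TRI8 module [AB4] (helper12, for helper36)

A split extension `1 → K → A → C → 1` with `K ⧸ N ≅ D₈`, `[A, K] ≤ P`, `|P : N| = 2`, and an
involution `γ ∈ K ∖ P` centralised by the section: then `A ⧸ N ≃* D₈ × C`.
-/

set_option autoImplicit false
set_option linter.unusedSimpArgs false
set_option linter.unusedVariables false
set_option linter.unusedSectionVars false

namespace Cfsg.Agent.Lib.Helper12.Tri

open DihedralGroup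

/-- the word map: the endomorphism of `D₈` with `r 1 ↦ a`, `sr 0 ↦ b` (when it exists) -/
def W8 (a b : DihedralGroup 4) : DihedralGroup 4 → DihedralGroup 4
  | r i => a ^ i.val
  | sr i => b * a ^ i.val

set_option maxRecDepth 100000 in
theorem d8_dich_dec : ∀ a b g : DihedralGroup 4, (a = r 1 ∨ a = r 3) → (b = sr 0 ∨ b = sr 2) →
    g * g = 1 → g ≠ 1 → g ≠ r 2 → W8 a b g = g →
    (∀ d, W8 a b d = d) ∨ (∀ d, W8 a b d = g * d * g⁻¹) := by
  decide

theorem d8_not_central : ∀ g : DihedralGroup 4, g ≠ 1 → g ≠ r 2 → ¬ ∀ d, g * d * g⁻¹ = d := by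
  decide

theorem d8_comm_gens : (r 1 : DihedralGroup 4) * sr 0 * (r 1)⁻¹ * (sr 0)⁻¹ = r 2 := by
  decide

theorem d8_r2_ne_one : (r 2 : DihedralGroup 4) ≠ 1 := by decide

theorem d8_hom_eq_W8 (β : DihedralGroup 4 →* DihedralGroup 4) (d : DihedralGroup 4) :
    β d = W8 (β (r 1)) (β (sr 0)) d := by
  cases d with
  | r i =>
    show β (r i) = β (r 1) ^ i.val
    rw [← map_pow, r_one_pow, ZMod.natCast_zmod_val]
  | sr i =>
    show β (sr i) = β (sr 0) * β (r 1) ^ i.val
    rw [← map_pow, ← map_mul, r_one_pow, sr_mul_r, zero_add, ZMod.natCast_zmod_val]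

/-- an endomorphism of `D₈` which is trivial modulo the centre and fixes a non-central
involution `g` is the identity or conjugation by `g` -/
theorem d8_dichotomy (β : DihedralGroup 4 →* DihedralGroup 4)
    (hβ : ∀ d, β d * d⁻¹ = 1 ∨ β d * d⁻¹ = r 2)
    (g : DihedralGroup 4) (hg2 : g * g = 1) (hg1 : g ≠ 1) (hgz : g ≠ r 2) (hβg : β g = g) :
    (∀ d, β d = d) ∨ (∀ d, β d = g * d * g⁻¹) := by
  have ha : β (r 1) = r 1 ∨ β (r 1) = r 3 := by
    rcases hβ (r 1) with h | h
    · left; exact mul_inv_eq_one.1 h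
    · right
      rw [mul_inv_eq_iff_eq_mul] at h
      rw [h]
      decide
  have hb : β (sr 0) = sr 0 ∨ β (sr 0) = sr 2 := by
    rcases hβ (sr 0) with h | h
    · left; exact mul_inv_eq_one.1 h
    · right
      rw [mul_inv_eq_iff_eq_mul] at h
      rw [h]
      decide
  have h := d8_dich_dec (β (r 1)) (β (sr 0)) g ha hb hg2 hg1 hgz (by
    rw [← d8_hom_eq_W8]; exact hβg)
  rcases h with h | h
  · left
    intro d
    rw [d8_hom_eq_W8]
    exact h d
  · right
    intro d
    rw [d8_hom_eq_W8]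
    exact h d

theorem out_equiv_dihedral_of_section {A C : Type*} [Group A] [Finite A] [Group C]
    (N : Subgroup A) [N.Normal]
    (fp : A →* C) (s : C →* A) (hs : ∀ c, fp (s c) = c) (K : Subgroup A) (hK : fp.ker = K)
    (hN : N ≤ K)
    (φ : ↥K →* DihedralGroup 4) (hφs : Function.Surjective φ) (hφk : φ.ker = N.subgroupOf K)
    (P : Subgroup A) (hNP : N ≤ P) (hPK : P ≤ K) (hrel : N.relIndex P = 2)
    (hcomm : ∀ (a k : A), k ∈ K → a * k * a⁻¹ * k⁻¹ ∈ P)
    (γ : A) (hγK : γ ∈ K) (hγP : γ ∉ P) (hγ2 : γ * γ = 1) (hγs : ∀ c, s c * γ = γ * s c)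
    (f : ℕ) (eC : C ≃* Multiplicative (ZMod f)) :
    Nonempty (A ⧸ N ≃* DihedralGroup 4 × Multiplicative (ZMod f)) := by
  classical
  subst hK
  have hNn : N.Normal := inferInstance
  have hconjker : ∀ (t k : A), k ∈ fp.ker → t * k * t⁻¹ ∈ fp.ker := by
    intro t k hk
    exact (MonoidHom.normal_ker fp).conj_mem k hk t
  -- membership in `N` through `φ`
  have hφN : ∀ k : ↥fp.ker, φ k = 1 ↔ (k : A) ∈ N := by
    intro k
    rw [← MonoidHom.mem_ker, hφk, Subgroup.mem_subgroupOf]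
  have hφeq : ∀ k k' : ↥fp.ker, φ k = φ k' ↔ (k : A) * (k' : A)⁻¹ ∈ N := by
    intro k k'
    rw [← mul_inv_eq_one, ← map_inv, ← map_mul, hφN]
    rfl
  -- conjugation on the kernel
  let cj : A → (↥fp.ker →* ↥fp.ker) := fun a =>
    MonoidHom.mk' (fun k => ⟨a * k * a⁻¹, hconjker a k k.2⟩) (by
      intro x y
      apply Subtype.ext
      show a * ((x : A) * (y : A)) * a⁻¹ = (a * x * a⁻¹) * (a * y * a⁻¹)
      group)
  have hcj : ∀ (a : A) (k : ↥fp.ker), ((cj a k : ↥fp.ker) : A) = a * k * a⁻¹ := fun a k => rfl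
  have hθker : ∀ a : A, φ.ker ≤ (φ.comp (cj a)).ker := by
    intro a k hk
    rw [MonoidHom.mem_ker] at hk
    rw [MonoidHom.mem_ker, MonoidHom.comp_apply, hφN, hcj]
    exact hNn.conj_mem _ ((hφN k).1 hk) a
  let β : A → (DihedralGroup 4 →* DihedralGroup 4) := fun a =>
    φ.liftOfRightInverse (Function.surjInv hφs) (Function.rightInverse_surjInv hφs)
      ⟨φ.comp (cj a), hθker a⟩
  have hβφ : ∀ (a : A) (k : ↥fp.ker), β a (φ k) = φ (cj a k) := by
    intro a k
    exact MonoidHom.liftOfRightInverse_comp_apply φ (Function.surjInv hφs)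
      (Function.rightInverse_surjInv hφs) ⟨φ.comp (cj a), hθker a⟩ k
  -- the image of `P` is `{1, r 2}`
  obtain ⟨kr, hkr⟩ := hφs (r 1)
  obtain ⟨ks, hks⟩ := hφs (sr 0)
  set p₀ : ↥fp.ker := kr * ks * kr⁻¹ * ks⁻¹ with hp₀
  have hp₀φ : φ p₀ = r 2 := by
    rw [hp₀, map_mul, map_mul, map_mul, map_inv, map_inv, hkr, hks]
    exact d8_comm_gens
  have hp₀P : (p₀ : A) ∈ P := by
    have := hcomm (kr : A) (ks : A) ks.2
    exact this
  have hp₀N : (p₀ : A) ∉ N := by
    intro h
    rw [← hφN, hp₀φ] at h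
    exact d8_r2_ne_one h
  have hP2 : ∀ p : ↥fp.ker, (p : A) ∈ P → φ p = 1 ∨ φ p = r 2 := by
    intro p hp
    by_cases hpN : (p : A) ∈ N
    · left; exact (hφN p).2 hpN
    · right
      rw [← hp₀φ, hφeq]
      have h := Subgroup.mul_mem_iff_of_index_two (H := N.subgroupOf P) hrel
        (a := ⟨(p : A), hp⟩) (b := (⟨(p₀ : A), hp₀P⟩ : ↥P)⁻¹)
      simp only [Subgroup.mem_subgroupOf, Subgroup.coe_mul, Subgroup.coe_inv] at h
      rw [h]
      constructor
      · intro h1; exact absurd h1 hpN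
      · intro h1
        exact absurd (N.inv_mem_iff.1 h1) hp₀N
  -- every induced endomorphism is trivial modulo the centre
  have hβZ : ∀ (a : A) (d : DihedralGroup 4), β a d * d⁻¹ = 1 ∨ β a d * d⁻¹ = r 2 := by
    intro a d
    obtain ⟨k, rfl⟩ := hφs d
    rw [hβφ, ← map_inv, ← map_mul]
    apply hP2
    show a * (k : A) * a⁻¹ * (k : A)⁻¹ ∈ P
    exact hcomm a k k.2
  -- composition
  have hβmul : ∀ (a b : A) (d : DihedralGroup 4), β (a * b) d = β a (β b d) := by
    intro a b d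
    obtain ⟨k, rfl⟩ := hφs d
    rw [hβφ, hβφ, hβφ]
    congr 1
    apply Subtype.ext
    rw [hcj, hcj, hcj]
    group
  have hβone : ∀ d : DihedralGroup 4, β 1 d = d := by
    intro d
    obtain ⟨k, rfl⟩ := hφs d
    rw [hβφ]
    congr 1
    apply Subtype.ext
    rw [hcj]
    group
  -- the class of γ
  set g : DihedralGroup 4 := φ ⟨γ, hγK⟩ with hg
  have hg2 : g * g = 1 := by
    rw [hg, ← map_mul, hφN]
    show γ * γ ∈ N
    rw [hγ2]
    exact N.one_mem
  have hg1 : g ≠ 1 := by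
    intro h
    rw [hg, hφN] at h
    exact hγP (hNP h)
  have hgz : g ≠ r 2 := by
    intro h
    rw [hg, ← hp₀φ, hφeq] at h
    have h1 : γ * (p₀ : A)⁻¹ ∈ P := hNP h
    have h2 := P.mul_mem h1 hp₀P
    rw [inv_mul_cancel_right] at h2
    exact hγP h2
  have hβγ : ∀ d : DihedralGroup 4, β γ d = g * d * g⁻¹ := by
    intro d
    obtain ⟨k, rfl⟩ := hφs d
    rw [hβφ, hg, ← map_inv, ← map_mul, ← map_mul]
    congr 1
  have hβsg : ∀ c : C, β (s c) g = g := by
    intro c
    rw [hg, hβφ]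
    congr 1
    apply Subtype.ext
    rw [hcj]
    show s c * γ * (s c)⁻¹ = γ
    rw [hγs, mul_inv_cancel_right]
  have hdich : ∀ c : C, (∀ d, β (s c) d = d) ∨ (∀ d, β (s c) d = g * d * g⁻¹) := fun c =>
    d8_dichotomy (β (s c)) (hβZ (s c)) g hg2 hg1 hgz (hβsg c)
  have hgnc : ¬ ∀ d, g * d * g⁻¹ = d := d8_not_central g hg1 hgz
  have hgg : ∀ d : DihedralGroup 4, g * (g * d * g⁻¹) * g⁻¹ = d := by
    intro d
    have h1 : g⁻¹ = g := inv_eq_of_mul_eq_one_left hg2
    rw [h1]
    calc g * (g * d * g) * g = (g * g) * d * (g * g) := by group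
      _ = d := by rw [hg2, one_mul, mul_one]
  -- the parity of `c`
  have hTmul : ∀ c₁ c₂ : C, (∀ d, β (s (c₁ * c₂)) d = d) ↔
      ((∀ d, β (s c₁) d = d) ↔ (∀ d, β (s c₂) d = d)) := by
    intro c₁ c₂
    have hcomp : ∀ d, β (s (c₁ * c₂)) d = β (s c₁) (β (s c₂) d) := by
      intro d
      rw [map_mul, hβmul]
    rcases hdich c₁ with h1 | h1 <;> rcases hdich c₂ with h2 | h2
    · constructor
      · intro _; exact ⟨fun _ => h2, fun _ => h1⟩
      · intro _ d; rw [hcomp, h2, h1]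
    · have hn2 : ¬ ∀ d, β (s c₂) d = d := by
        intro h
        apply hgnc
        intro d
        rw [← h2, h]
      constructor
      · intro h
        exfalso
        apply hn2
        intro d
        have := h d
        rwa [hcomp, h1] at this
      · intro h
        exact absurd (h.1 h1) hn2
    · have hn1 : ¬ ∀ d, β (s c₁) d = d := by
        intro h
        apply hgnc
        intro d
        rw [← h1, h]
      constructor
      · intro h
        exfalso
        apply hn1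
        intro d
        have := h d
        rw [hcomp, h2] at this
        exact this
      · intro h
        exact absurd (h.2 h2) hn1
    · have hn1 : ¬ ∀ d, β (s c₁) d = d := by
        intro h
        apply hgnc
        intro d
        rw [← h1, h]
      have hn2 : ¬ ∀ d, β (s c₂) d = d := by
        intro h
        apply hgnc
        intro d
        rw [← h2, h]
      constructor
      · intro _
        exact ⟨fun h => absurd h hn1, fun h => absurd h hn2⟩
      · intro _ d
        rw [hcomp, h2, h1, hgg]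
  -- the twisted section
  have hfγ : fp γ = 1 := (MonoidHom.mem_ker).1 hγK
  let s' : C →* A := MonoidHom.mk' (fun c => s c * (if (∀ d, β (s c) d = d) then 1 else γ)) (by
    intro c₁ c₂
    have hT := hTmul c₁ c₂
    show s (c₁ * c₂) * (if (∀ d, β (s (c₁ * c₂)) d = d) then 1 else γ) =
      (s c₁ * (if (∀ d, β (s c₁) d = d) then 1 else γ)) *
        (s c₂ * (if (∀ d, β (s c₂) d = d) then 1 else γ))
    by_cases h1 : (∀ d, β (s c₁) d = d) <;> by_cases h2 : (∀ d, β (s c₂) d = d)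
    · have h12 : ∀ d, β (s (c₁ * c₂)) d = d := hT.2 ⟨fun _ => h2, fun _ => h1⟩
      rw [if_pos h1, if_pos h2, if_pos h12, mul_one, mul_one, mul_one, map_mul]
    · have h12 : ¬ ∀ d, β (s (c₁ * c₂)) d = d := fun h => h2 ((hT.1 h).1 h1)
      rw [if_pos h1, if_neg h2, if_neg h12, mul_one, map_mul, mul_assoc]
    · have h12 : ¬ ∀ d, β (s (c₁ * c₂)) d = d := fun h => h1 ((hT.1 h).2 h2)
      rw [if_neg h1, if_pos h2, if_neg h12, mul_one, map_mul, mul_assoc, mul_assoc, hγs c₂]
    · have h12 : ∀ d, β (s (c₁ * c₂)) d = d :=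
        hT.2 ⟨fun h => absurd h h1, fun h => absurd h h2⟩
      rw [if_neg h1, if_neg h2, if_pos h12, mul_one, map_mul]
      have h3 : s c₁ * γ * (s c₂ * γ) = s c₁ * s c₂ := by
        rw [mul_assoc, ← mul_assoc γ, ← hγs c₂, mul_assoc (s c₂), hγ2, mul_one]
      rw [h3])
  have hs'def : ∀ c, s' c = s c * (if (∀ d, β (s c) d = d) then 1 else γ) := fun c => rfl
  have hs' : ∀ c, fp (s' c) = c := by
    intro c
    rw [hs'def]
    by_cases h : (∀ d, β (s c) d = d)
    · rw [if_pos h, mul_one, hs]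
    · rw [if_neg h, map_mul, hs, hfγ, mul_one]
  have hβs' : ∀ (c : C) (d : DihedralGroup 4), β (s' c) d = d := by
    intro c d
    rw [hs'def]
    by_cases h : (∀ d, β (s c) d = d)
    · rw [if_pos h, mul_one, h]
    · rw [if_neg h, hβmul, hβγ]
      rcases hdich c with h' | h'
      · exact absurd h' h
      · rw [h', hgg]
  have hcent' : ∀ (c : C) (k : A), k ∈ fp.ker → s' c * k * (s' c)⁻¹ * k⁻¹ ∈ N := by
    intro c k hk
    have h1 := hβs' c (φ ⟨k, hk⟩)
    rw [hβφ, hφeq] at h1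
    exact h1
  obtain ⟨e⟩ := out_equiv_of_section_central N fp s' hs' fp.ker rfl hN φ hφs hφk hcent'
  exact ⟨e.trans (MulEquiv.prodCongr (MulEquiv.refl _) eC)⟩

end Cfsg.Agent.Lib.Helper12.Tri
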