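import Mathlib
import Cfsg.Agent.Lib.Helper36.Tri.TauOut
import Cfsg.Agent.Lib.Helper36.Tri.OutPlusTwo

/-!
# TRI8 module [FROB] (helper12, for helper36): the coordinate Frobenius automorphisms of
`PΩ⁺₈(F)` commute with the triality automorphism
-/

set_option autoImplicit false
set_option linter.unusedSimpArgs false
set_option linter.unusedVariables false
set_option linter.unusedSectionVars false

namespace Cfsg.Agent.Lib.Helper12.Tri

open Cfsg.Agent.Lib.Helper13 hiding isoGroup mem_isoGroup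
open Cfsg.Agent.Lib.Helper36 Cfsg.Agent.Lib.Helper44 Cfsg.Agent.Lib.Helper36.AutO
  Cfsg.Agent.Lib.Helper36.Tri Module

variable {F : Type*} [Field F]

/-! ### the octonion operations are defined over the prime ring -/

theorem vmap_add' (σ : F ≃+* F) (x y : OV F) : vmap σ (x + y) = vmap σ x + vmap σ y := by
  funext i
  simp [vmap]

theorem vmap_smul' (σ : F ≃+* F) (c : F) (x : OV F) : vmap σ (c • x) = σ c • vmap σ x := by
  funext i
  simp [vmap]

theorem omul_vmap (σ : F ≃+* F) (x y : OV F) :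
    omul (vmap σ x) (vmap σ y) = vmap σ (omul x y) := by
  funext i
  rcases i with i | i <;> fin_cases i <;> simp [omul, vmap]

theorem oconj_vmap (σ : F ≃+* F) (x : OV F) : oconj (vmap σ x) = vmap σ (oconj x) := by
  funext i
  rcases i with i | i <;> fin_cases i <;> simp [oconj, vmap]

theorem onorm_vmap (σ : F ≃+* F) (x : OV F) : onorm (vmap σ x) = σ (onorm x) := by
  rw [onorm_eq, onorm_eq]
  simp [vmap]

/-! ### conjugation of a linear automorphism by the coordinate Frobenius -/

/-- `S A S⁻¹` for `S = vmap σ` -/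
def frobConj (σ : F ≃+* F) (A : GLO F) : GLO F where
  toFun x := vmap σ (A (vmap σ.symm x))
  invFun x := vmap σ (A.symm (vmap σ.symm x))
  map_add' x y := by
    rw [vmap_add', map_add, vmap_add']
  map_smul' c x := by
    rw [vmap_smul', map_smul, vmap_smul', RingEquiv.apply_symm_apply]
    rfl
  left_inv x := by
    simp only [vmap_vmap_symm, LinearEquiv.symm_apply_apply, vmap_symm_vmap]
  right_inv x := by
    simp only [vmap_vmap_symm, LinearEquiv.apply_symm_apply, vmap_symm_vmap]

theorem frobConj_apply (σ : F ≃+* F) (A : GLO F) (x : OV F) :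
    frobConj σ A x = vmap σ (A (vmap σ.symm x)) := rfl

/-- `A ↦ S A S⁻¹` as a group homomorphism -/
def frobConjHom (σ : F ≃+* F) : GLO F →* GLO F where
  toFun := frobConj σ
  map_one' := by
    apply LinearEquiv.ext
    intro x
    rw [frobConj_apply]
    show vmap σ (vmap σ.symm x) = x
    exact vmap_symm_vmap σ x
  map_mul' A B := by
    apply LinearEquiv.ext
    intro x
    rw [LinearEquiv.mul_apply, frobConj_apply, frobConj_apply, frobConj_apply, vmap_vmap_symm,
      LinearEquiv.mul_apply]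

theorem frobConjHom_apply (σ : F ≃+* F) (A : GLO F) (x : OV F) :
    frobConjHom σ A x = vmap σ (A (vmap σ.symm x)) := rfl

theorem isIso_frobConj (σ : F ≃+* F) {A : GLO F} (hA : IsIso A) : IsIso (frobConjHom σ A) := by
  intro x
  rw [frobConjHom_apply, onorm_vmap, hA, ← onorm_vmap, vmap_symm_vmap]

theorem isRel_frobConj (σ : F ≃+* F) {A B C : GLO F} (h : IsRel A B C) :
    IsRel (frobConjHom σ A) (frobConjHom σ B) (frobConjHom σ C) := by
  intro x y
  rw [frobConjHom_apply, frobConjHom_apply, frobConjHom_apply, ← omul_vmap, h, omul_vmap]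

theorem hatM_frobConj (σ : F ≃+* F) (A : GLO F) :
    hatM (frobConjHom σ A) = frobConjHom σ (hatM A) := by
  apply LinearEquiv.ext
  intro x
  rw [hatM_apply, frobConjHom_apply, frobConjHom_apply, hatM_apply, oconj_vmap, oconj_vmap]

/-- the Frobenius on triples -/
def frobTriple (σ : F ≃+* F) : (GLO F × GLO F × GLO F) →* (GLO F × GLO F × GLO F) :=
  (frobConjHom σ).prodMap ((frobConjHom σ).prodMap (frobConjHom σ))

theorem frobTriple_apply (σ : F ≃+* F) (t : GLO F × GLO F × GLO F) :
    frobTriple σ t = (frobConjHom σ t.1, frobConjHom σ t.2.1, frobConjHom σ t.2.2) := rfl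

theorem frobTriple_mem (σ : F ≃+* F) {t : GLO F × GLO F × GLO F} (ht : t ∈ RT F) :
    frobTriple σ t ∈ RT F := by
  obtain ⟨h1, h2, h3, h4⟩ := ht
  rw [frobTriple_apply, mem_RT]
  exact ⟨isIso_frobConj σ h1, isIso_frobConj σ h2, isIso_frobConj σ h3, isRel_frobConj σ h4⟩

theorem map_frobTriple_RT_le (σ : F ≃+* F) : (RT F).map (frobTriple σ) ≤ RT F := by
  rintro _ ⟨t, ht, rfl⟩
  exact frobTriple_mem σ ht

theorem frobTriple_mem' (σ : F ≃+* F) {t : GLO F × GLO F × GLO F} (ht : t ∈ RT' F) :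
    frobTriple σ t ∈ RT' F := by
  have h1 : (RT' F).map (frobTriple σ) ≤ RT' F := by
    unfold RT'
    rw [Subgroup.map_commutator]
    exact Subgroup.commutator_mono (map_frobTriple_RT_le σ) (map_frobTriple_RT_le σ)
  exact h1 ⟨t, ht, rfl⟩

theorem frobTriple_thetaM (σ : F ≃+* F) (t : GLO F × GLO F × GLO F) :
    frobTriple σ (thetaM t) = thetaM (frobTriple σ t) := by
  rw [thetaM_apply, thetaM_apply, frobTriple_apply, frobTriple_apply]
  simp only [hatM_frobConj]

/-- the Frobenius on `RT'` -/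
def frobR (σ : F ≃+* F) (t : ↥(RT' F)) : ↥(RT' F) := ⟨frobTriple σ t.1, frobTriple_mem' σ t.2⟩

theorem frobR_coe (σ : F ≃+* F) (t : ↥(RT' F)) :
    ((frobR σ t : ↥(RT' F)) : GLO F × GLO F × GLO F) = frobTriple σ t.1 := rfl

section fin
variable [Fintype F]

theorem frobR_thetaR (σ : F ≃+* F) (t : ↥(RT' F)) : frobR σ (thetaR t) = thetaR (frobR σ t) := by
  apply Subtype.ext
  rw [frobR_coe, thetaR_coe, thetaR_coe, frobR_coe, frobTriple_thetaM]

/-- the coordinate Frobenius automorphism of `PΩ⁺₈(F)` acts on `ψ(t)` through `frobR` -/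
theorem pairAut_psi (σ : F ≃+* F) (t : ↥(RT' F)) :
    pairAut (⇑(QO F)) 1 σ (hypQF_pair_one 4 σ) (psi (MO F) t) = psi (MO F) (frobR σ t) := by
  set s := lift1 (MO F) t with hs
  obtain ⟨s', hs'⟩ := exists_semiconj_Omega (⇑(QO F)) 1 σ (hypQF_pair_one 4 σ) s
  have h1 := isInduced_pairAut (⇑(QO F)) 1 σ (hypQF_pair_one 4 σ) s s' hs'
  have h2 : s' = lift1 (MO F) (frobR σ t) := by
    apply (MO F).ext_apply
    intro z
    rw [rho_lift1, frobR_coe, frobTriple_apply]
    show _ = frobConjHom σ (t : GLO F × GLO F × GLO F).1 z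
    rw [frobConjHom_apply, ← rho_lift1 (MO F) t, omegaModel_apply, omegaModel_apply, hs']
    rw [Units.val_one, inv_one, Units.val_one, Matrix.one_mul, Matrix.mul_one]
    rw [← map_mulVec_vmap, vmap_symm_vmap]
  rw [h2] at h1
  exact h1

theorem frob_comm_tau (σ : F ≃+* F)
    (τ : MulAut (Cfsg.POmega F (⇑(QO F))))
    (hτ : ∀ t : ↥(RT' F), τ (psi (MO F) t) = psi (MO F) (thetaR t)) :
    pairAut (⇑(QO F)) 1 σ (hypQF_pair_one 4 σ) * τ =
      τ * pairAut (⇑(QO F)) 1 σ (hypQF_pair_one 4 σ) := by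
  apply MulEquiv.ext
  intro y
  obtain ⟨t, rfl⟩ := psi_surjective (MO F) y
  rw [MulAut.mul_apply, MulAut.mul_apply, hτ, pairAut_psi, pairAut_psi, hτ, frobR_thetaR]

end fin

end Cfsg.Agent.Lib.Helper12.Tri
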