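import Mathlib

/-!
# Groups whose enveloping algebra is four-dimensional over a commutative central subalgebra
(helper12)

Linear-algebra core of the Zhurtov–Mazurov trick: if a group `X` of linear maps acting without
fixed vectors lies in the algebra `𝔣 + 𝔣 a + 𝔣 b + 𝔣 b a`, with `𝔣` generated by commuting
endomorphisms centralising `a`, `b`, then after a finite base change `X` acts faithfully on a
subspace of dimension at most two.
-/

set_option autoImplicit false

namespace Cfsg.Agent.Lib.Helper12.TwoDim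

open Polynomial

section Lin
variable {K : Type*} [Field K] {U : Type*} [AddCommGroup U] [Module K U]

theorem pow_mem_of_inv (T : Module.End K U) (U₀ : Submodule K U) (hinv : ∀ v ∈ U₀, T v ∈ U₀)
    (n : ℕ) : ∀ v ∈ U₀, (T ^ n) v ∈ U₀ := by
  induction n with
  | zero => intro v hv; simpa using hv
  | succ n ih =>
    intro v hv
    rw [pow_succ, Module.End.mul_apply]
    exact ih _ (hinv v hv)

theorem aeval_mem_of_inv (T : Module.End K U) (U₀ : Submodule K U) (hinv : ∀ v ∈ U₀, T v ∈ U₀)
    (r : K[X]) : ∀ v ∈ U₀, aeval T r v ∈ U₀ := by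
  induction r using Polynomial.induction_on' with
  | add r₁ r₂ h₁ h₂ =>
    intro v hv
    rw [map_add, LinearMap.add_apply]
    exact U₀.add_mem (h₁ v hv) (h₂ v hv)
  | monomial n a =>
    intro v hv
    rw [aeval_monomial, Module.End.mul_apply, Module.algebraMap_end_apply]
    exact U₀.smul_mem _ (pow_mem_of_inv T U₀ hinv n v hv)

/-- an endomorphism killed on a nonzero invariant subspace by a nonzero split polynomial has an
eigenvector in that subspace -/
theorem exists_eigenvector_of_splits (T : Module.End K U) (q : K[X]) (hq : q.Splits) (hq0 : q ≠ 0) :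
    ∀ U₀ : Submodule K U, U₀ ≠ ⊥ → (∀ v ∈ U₀, T v ∈ U₀) → (∀ v ∈ U₀, aeval T q v = 0) →
      ∃ μ : K, ∃ v ∈ U₀, v ≠ 0 ∧ T v = μ • v := by
  unfold Polynomial.Splits at hq
  induction hq using Submonoid.closure_induction with
  | mem q hqm =>
    intro U₀ hU₀ hinv hkill
    obtain ⟨v, hv, hv0⟩ := (Submodule.ne_bot_iff _).mp hU₀
    rcases hqm with ⟨a, rfl⟩ | ⟨a, rfl⟩
    · exfalso
      have h := hkill v hv
      have ha : a ≠ 0 := by
        rintro rfl
        exact hq0 (by simp)
      simp only [aeval_C, Module.algebraMap_end_apply] at h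
      exact hv0 ((smul_eq_zero.mp h).resolve_left ha)
    · refine ⟨-a, v, hv, hv0, ?_⟩
      have h := hkill v hv
      simp only [map_add, aeval_X, aeval_C, LinearMap.add_apply, Module.algebraMap_end_apply] at h
      rw [neg_smul]
      exact eq_neg_of_add_eq_zero_left h
  | one =>
    intro U₀ hU₀ hinv hkill
    exfalso
    obtain ⟨v, hv, hv0⟩ := (Submodule.ne_bot_iff _).mp hU₀
    have h := hkill v hv
    simp at h
    exact hv0 h
  | mul q₁ q₂ h₁ h₂ ih₁ ih₂ =>
    intro U₀ hU₀ hinv hkill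
    have hq₁ : q₁ ≠ 0 := left_ne_zero_of_mul hq0
    have hq₂ : q₂ ≠ 0 := right_ne_zero_of_mul hq0
    by_cases hk : ∀ v ∈ U₀, aeval T q₂ v = 0
    · exact ih₂ hq₂ U₀ hU₀ hinv hk
    · push Not at hk
      obtain ⟨v₀, hv₀, hv₀'⟩ := hk
      have hcomm : ∀ (v : U), T (aeval T q₂ v) = aeval T q₂ (T v) := by
        intro v
        have h : Commute T (aeval T q₂) := by
          have := (Commute.all (X : K[X]) q₂).map (aeval T : K[X] →ₐ[K] Module.End K U)
          simpa using this
        have := congrArg (fun f : Module.End K U => f v) h.eq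
        simpa [Module.End.mul_apply] using this
      obtain ⟨μ, u, hu, hu0, hTu⟩ := ih₁ hq₁ (U₀.map (aeval T q₂))
        (by
          intro h
          apply hv₀'
          have : aeval T q₂ v₀ ∈ U₀.map (aeval T q₂) := Submodule.mem_map_of_mem hv₀
          rw [h] at this
          simpa using this)
        (by
          rintro _ ⟨v, hv, rfl⟩
          rw [hcomm]
          exact Submodule.mem_map_of_mem (hinv v hv))
        (by
          rintro _ ⟨v, hv, rfl⟩
          have := hkill v hv
          rwa [map_mul, Module.End.mul_apply] at this)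
      obtain ⟨v, hv, rfl⟩ := hu
      exact ⟨μ, _, aeval_mem_of_inv T U₀ hinv q₂ v hv, hu0, hTu⟩

/-- common eigenspace for a finite commuting family -/
theorem exists_common (Zs : List (Module.End K U))
    (hsplit : ∀ c ∈ Zs, ∃ q : K[X], q.Splits ∧ q ≠ 0 ∧ aeval c q = 0)
    (hcomm : ∀ c ∈ Zs, ∀ d ∈ Zs, Commute c d) :
    ∀ U₀ : Submodule K U, U₀ ≠ ⊥ → (∀ c ∈ Zs, ∀ v ∈ U₀, c v ∈ U₀) →
    ∃ U₁ : Submodule K U, U₁ ≠ ⊥ ∧ U₁ ≤ U₀ ∧ (∀ c ∈ Zs, ∃ μ : K, ∀ v ∈ U₁, c v = μ • v) ∧
      ∀ T : Module.End K U, (∀ c ∈ Zs, Commute T c) → (∀ v ∈ U₀, T v ∈ U₀) →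
        ∀ v ∈ U₁, T v ∈ U₁ := by
  induction Zs with
  | nil =>
    intro U₀ hU₀ _
    exact ⟨U₀, hU₀, le_rfl, by simp, fun T _ hT => hT⟩
  | cons c rest ih =>
    intro U₀ hU₀ hinv
    obtain ⟨q, hq, hq0, hqc⟩ := hsplit c (by simp)
    obtain ⟨μ, v, hv, hv0, hcv⟩ := exists_eigenvector_of_splits c q hq hq0 U₀ hU₀
      (hinv c (by simp)) (by intro v _; rw [hqc]; rfl)
    -- the eigenspace inside U₀
    let U₀' : Submodule K U := U₀ ⊓ LinearMap.ker (c - μ • (1 : Module.End K U))
    have hmem : ∀ w, w ∈ U₀' ↔ w ∈ U₀ ∧ c w = μ • w := by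
      intro w
      simp only [U₀', Submodule.mem_inf, LinearMap.mem_ker, LinearMap.sub_apply,
        LinearMap.smul_apply, Module.End.one_apply, sub_eq_zero]
    have hU₀' : U₀' ≠ ⊥ := by
      rw [Submodule.ne_bot_iff]
      exact ⟨v, (hmem v).mpr ⟨hv, hcv⟩, hv0⟩
    have hinvT : ∀ T : Module.End K U, Commute T c → (∀ v ∈ U₀, T v ∈ U₀) →
        ∀ w ∈ U₀', T w ∈ U₀' := by
      intro T hTc hT w hw
      rw [hmem] at hw ⊢
      refine ⟨hT w hw.1, ?_⟩
      have := congrArg (fun f : Module.End K U => f w) hTc.eq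
      simp only [Module.End.mul_apply] at this
      rw [← this, hw.2, map_smul]
    obtain ⟨U₁, hU₁, hle, hsc, hT⟩ := ih (fun d hd => hsplit d (by simp [hd]))
      (fun d hd e he => hcomm d (by simp [hd]) e (by simp [he])) U₀' hU₀'
      (fun d hd => hinvT d (hcomm d (by simp [hd]) c (by simp)) (hinv d (by simp [hd])))
    refine ⟨U₁, hU₁, hle.trans inf_le_left, ?_, ?_⟩
    · intro d hd
      rcases List.mem_cons.mp hd with rfl | hd
      · exact ⟨μ, fun w hw => ((hmem w).mp (hle hw)).2⟩
      · exact hsc d hd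
    · intro T hTc hTU
      exact hT T (fun d hd => hTc d (by simp [hd])) (hinvT T (hTc c (by simp)) hTU)

/-- the two-dimensional invariant subspace -/
theorem exists_twoDim [Nontrivial U] (a b : Module.End K U) (Zs : List (Module.End K U))
    (hsplit : ∀ c ∈ Zs, ∃ q : K[X], q.Splits ∧ q ≠ 0 ∧ aeval c q = 0)
    (hcomm : ∀ c ∈ Zs, ∀ d ∈ Zs, Commute c d)
    (hca : ∀ c ∈ Zs, Commute a c) (hcb : ∀ c ∈ Zs, Commute b c)
    (qa : K[X]) (hqa : qa.Splits) (hqa0 : qa ≠ 0) (hqaa : aeval a qa = 0)
    (c₀ c₁ c₂ c₃ β₀ β₁ : Module.End K U) (h0 : c₀ ∈ Zs) (h1 : c₁ ∈ Zs) (h2 : c₂ ∈ Zs)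
    (h3 : c₃ ∈ Zs) (h4 : β₀ ∈ Zs) (h5 : β₁ ∈ Zs)
    (hab : a * b = c₀ + c₁ * a + c₂ * b + c₃ * (b * a)) (hbb : b * b = β₀ + β₁ * b) :
    ∃ W : Submodule K U, W ≠ ⊥ ∧ W.FG ∧ Module.finrank K W ≤ 2 ∧ (∀ v ∈ W, a v ∈ W) ∧
      (∀ v ∈ W, b v ∈ W) ∧ ∀ c ∈ Zs, ∀ v ∈ W, c v ∈ W := by
  classical
  obtain ⟨U₁, hU₁, -, hsc, hT⟩ := exists_common Zs hsplit hcomm ⊤ (by simp) (by simp)
  have haU : ∀ v ∈ U₁, a v ∈ U₁ := hT a hca (by simp)
  have hbU : ∀ v ∈ U₁, b v ∈ U₁ := hT b hcb (by simp)
  obtain ⟨lam, w, hw, hw0, haw⟩ := exists_eigenvector_of_splits a qa hqa hqa0 U₁ hU₁ haU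
    (by intro v _; rw [hqaa]; rfl)
  obtain ⟨m0, hm0⟩ := hsc c₀ h0
  obtain ⟨m1, hm1⟩ := hsc c₁ h1
  obtain ⟨m2, hm2⟩ := hsc c₂ h2
  obtain ⟨m3, hm3⟩ := hsc c₃ h3
  obtain ⟨n0, hn0⟩ := hsc β₀ h4
  obtain ⟨n1, hn1⟩ := hsc β₁ h5
  have hbw : b w ∈ U₁ := hbU w hw
  have habw : a (b w) = (m0 + m1 * lam) • w + (m2 + m3 * lam) • b w := by
    have := congrArg (fun f : Module.End K U => f w) hab
    simp only [Module.End.mul_apply, LinearMap.add_apply] at this
    rw [this, haw]
    simp only [map_smul]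
    rw [hm0 w hw, hm1 w hw, hm2 (b w) hbw, hm3 (b w) hbw]
    module
  have hbbw : b (b w) = n0 • w + n1 • b w := by
    have := congrArg (fun f : Module.End K U => f w) hbb
    simp only [Module.End.mul_apply, LinearMap.add_apply] at this
    rw [this, hn0 w hw, hn1 (b w) hbw]
  let W : Submodule K U := Submodule.span K {w, b w}
  have hwW : w ∈ W := Submodule.subset_span (by simp)
  have hbwW : b w ∈ W := Submodule.subset_span (by simp)
  have hWU : W ≤ U₁ := by
    rw [Submodule.span_le]
    intro u hu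
    rcases hu with rfl | rfl
    · exact hw
    · exact hbw
  have hinv : ∀ T : Module.End K U, T w ∈ W → T (b w) ∈ W → ∀ v ∈ W, T v ∈ W := by
    intro T h1 h2 v hv
    induction hv using Submodule.span_induction with
    | mem u hu =>
      rcases hu with rfl | rfl
      · exact h1
      · exact h2
    | zero => simp
    | add u u' _ _ hu hu' => rw [map_add]; exact W.add_mem hu hu'
    | smul r u _ hu => rw [map_smul]; exact W.smul_mem r hu
  refine ⟨W, ?_, ?_, ?_, ?_, ?_, ?_⟩
  · rw [Submodule.ne_bot_iff]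
    exact ⟨w, hwW, hw0⟩
  · exact Submodule.fg_span (by simp)
  · calc Module.finrank K W ≤ ({w, b w} : Finset U).card := by
          have := finrank_span_finset_le_card (R := K) ({w, b w} : Finset U)
          rw [Finset.coe_insert, Finset.coe_singleton] at this
          exact this
      _ ≤ 2 := Finset.card_le_two
  · apply hinv
    · rw [haw]; exact W.smul_mem _ hwW
    · rw [habw]; exact W.add_mem (W.smul_mem _ hwW) (W.smul_mem _ hbwW)
  · apply hinv
    · exact hbwW
    · rw [hbbw]; exact W.add_mem (W.smul_mem _ hwW) (W.smul_mem _ hbwW)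
  · intro c hc v hv
    obtain ⟨m, hm⟩ := hsc c hc
    rw [hm v (hWU hv)]
    exact W.smul_mem _ hv

end Lin

section Base
open TensorProduct

universe u v
variable {k : Type u} [Field k] {V : Type v} [AddCommGroup V] [Module k V] [Module.Finite k V]

theorem exists_subspace [Nontrivial V] (a b : Module.End k V) (Zs : List (Module.End k V))
    (hcomm : ∀ c ∈ Zs, ∀ d ∈ Zs, Commute c d)
    (hca : ∀ c ∈ Zs, Commute a c) (hcb : ∀ c ∈ Zs, Commute b c)
    (qa : k[X]) (hqa0 : qa ≠ 0) (hqaa : aeval a qa = 0)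
    (c₀ c₁ c₂ c₃ β₀ β₁ : Module.End k V) (h0 : c₀ ∈ Zs) (h1 : c₁ ∈ Zs) (h2 : c₂ ∈ Zs)
    (h3 : c₃ ∈ Zs) (h4 : β₀ ∈ Zs) (h5 : β₁ ∈ Zs)
    (hab : a * b = c₀ + c₁ * a + c₂ * b + c₃ * (b * a)) (hbb : b * b = β₀ + β₁ * b) :
    ∃ (K : Type u) (_ : Field K) (_ : Algebra k K) (_ : FiniteDimensional k K)
      (W : Submodule K (K ⊗[k] V)), W ≠ ⊥ ∧ W.FG ∧ Module.finrank K W ≤ 2 ∧
      ∀ T ∈ Algebra.adjoin k (({a, b} : Set (Module.End k V)) ∪ {c | c ∈ Zs}),
        ∀ v ∈ W, Module.End.baseChangeHom k K V T v ∈ W := by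
  classical
  set P : k[X] := qa * (Zs.map (fun c => minpoly k c)).prod with hP
  have hmin0 : ∀ c ∈ Zs, minpoly k c ≠ 0 := fun c _ =>
    minpoly.ne_zero (Algebra.IsIntegral.isIntegral c)
  have hP0 : P ≠ 0 := by
    apply mul_ne_zero hqa0
    rw [Ne, List.prod_eq_zero_iff]
    intro h
    obtain ⟨c, hc, hc0⟩ := List.mem_map.mp h
    exact hmin0 c hc hc0
  refine ⟨P.SplittingField, inferInstance, inferInstance, inferInstance, ?_⟩
  set K := P.SplittingField
  have hsplitP : (P.map (algebraMap k K)).Splits := SplittingField.splits P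
  have hPm0 : P.map (algebraMap k K) ≠ 0 := by
    rwa [Ne, Polynomial.map_eq_zero]
  have hdvd : ∀ f : k[X], f ∣ P → (f.map (algebraMap k K)).Splits := fun f hf =>
    Splits.of_dvd hsplitP hPm0 (Polynomial.map_dvd _ hf)
  let β : Module.End k V →ₐ[k] Module.End K (K ⊗[k] V) := Module.End.baseChangeHom k K V
  have hnt : Nontrivial (K ⊗[k] V) := by
    apply Module.nontrivial_of_finrank_pos (R := K)
    rw [Module.finrank_baseChange]
    exact Module.finrank_pos
  have hev : ∀ (T : Module.End k V) (q : k[X]), aeval T q = 0 →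
      aeval (β T) (q.map (algebraMap k K)) = 0 := by
    intro T q hq
    rw [aeval_map_algebraMap, aeval_algHom_apply, hq, map_zero]
  obtain ⟨W, hW0, hWfg, hWr, hWa, hWb, hWc⟩ := exists_twoDim (β a) (β b) (Zs.map β)
    (by
      intro c hc
      obtain ⟨c', hc', rfl⟩ := List.mem_map.mp hc
      refine ⟨(minpoly k c').map (algebraMap k K), hdvd _ ?_, ?_, hev _ _ (minpoly.aeval k c')⟩
      · exact Dvd.dvd.mul_left (List.dvd_prod (List.mem_map_of_mem (f := fun c => minpoly k c) hc')) _
      · rw [Ne, Polynomial.map_eq_zero]; exact hmin0 c' hc')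
    (by
      intro c hc d hd
      obtain ⟨c', hc', rfl⟩ := List.mem_map.mp hc
      obtain ⟨d', hd', rfl⟩ := List.mem_map.mp hd
      exact (hcomm c' hc' d' hd').map β)
    (by
      intro c hc
      obtain ⟨c', hc', rfl⟩ := List.mem_map.mp hc
      exact (hca c' hc').map β)
    (by
      intro c hc
      obtain ⟨c', hc', rfl⟩ := List.mem_map.mp hc
      exact (hcb c' hc').map β)
    (qa.map (algebraMap k K)) (hdvd _ (dvd_mul_right _ _))
    (by rwa [Ne, Polynomial.map_eq_zero]) (hev _ _ hqaa)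
    (β c₀) (β c₁) (β c₂) (β c₃) (β β₀) (β β₁)
    (List.mem_map_of_mem h0) (List.mem_map_of_mem h1) (List.mem_map_of_mem h2)
    (List.mem_map_of_mem h3) (List.mem_map_of_mem h4) (List.mem_map_of_mem h5)
    (by rw [← map_mul, hab]; simp only [map_add, map_mul])
    (by rw [← map_mul, hbb]; simp only [map_add, map_mul])
  refine ⟨W, hW0, hWfg, hWr, ?_⟩
  intro T hT
  induction hT using Algebra.adjoin_induction with
  | mem T hT =>
    rcases hT with hT | hT
    · rcases hT with rfl | rfl
      · exact hWa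
      · exact hWb
    · exact hWc _ (List.mem_map_of_mem hT)
  | algebraMap r =>
    intro v hv
    rw [AlgHom.commutes, Module.algebraMap_end_apply]
    exact W.smul_of_tower_mem r hv
  | add T₁ T₂ _ _ h₁ h₂ =>
    intro v hv
    rw [map_add, LinearMap.add_apply]
    exact W.add_mem (h₁ v hv) (h₂ v hv)
  | mul T₁ T₂ _ _ h₁ h₂ =>
    intro v hv
    rw [map_mul, Module.End.mul_apply]
    exact h₁ _ (h₂ v hv)

/-- endomorphisms of a one-dimensional space commute -/
theorem commute_of_finrank_one {K : Type*} [Field K] {U : Type*} [AddCommGroup U] [Module K U]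
    (W : Submodule K U)
    (h : Module.finrank K W = 1) (f g : Module.End K W) : f * g = g * f := by
  obtain ⟨w₀, hw₀⟩ := finrank_eq_one_iff'.mp h
  obtain ⟨α, hα⟩ := hw₀.2 (f w₀)
  obtain ⟨γ, hγ⟩ := hw₀.2 (g w₀)
  apply LinearMap.ext
  intro w
  obtain ⟨c, rfl⟩ := hw₀.2 w
  simp only [Module.End.mul_apply, map_smul, ← hα, ← hγ]
  rw [smul_comm α γ]

/-- the representation on the two-dimensional subspace -/
theorem exists_rep [Finite k] [Nontrivial V]
    (X : Subgroup (V ≃ₗ[k] V))
    (hfree : ∀ g ∈ X, g ≠ 1 → ∀ v : V, g v = v → v = 0)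
    (a b : Module.End k V) (Zs : List (Module.End k V))
    (hcomm : ∀ c ∈ Zs, ∀ d ∈ Zs, Commute c d)
    (hca : ∀ c ∈ Zs, Commute a c) (hcb : ∀ c ∈ Zs, Commute b c)
    (qa : k[X]) (hqa0 : qa ≠ 0) (hqaa : aeval a qa = 0)
    (c₀ c₁ c₂ c₃ β₀ β₁ : Module.End k V) (h0 : c₀ ∈ Zs) (h1 : c₁ ∈ Zs) (h2 : c₂ ∈ Zs)
    (h3 : c₃ ∈ Zs) (h4 : β₀ ∈ Zs) (h5 : β₁ ∈ Zs)
    (hab : a * b = c₀ + c₁ * a + c₂ * b + c₃ * (b * a)) (hbb : b * b = β₀ + β₁ * b)
    (hX : ∀ g ∈ X, ((g : V ≃ₗ[k] V) : Module.End k V) ∈
      Algebra.adjoin k (({a, b} : Set (Module.End k V)) ∪ {c | c ∈ Zs})) :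
    (∀ g ∈ X, ∀ h ∈ X, g * h = h * g) ∨
    ∃ (K : Type u) (_ : Field K) (_ : Algebra k K) (_ : Finite K)
      (φ : X →* Matrix (Fin 2) (Fin 2) K), Function.Injective φ ∧
      (∀ g : X, ((g : V ≃ₗ[k] V) : Module.End k V) * ((g : V ≃ₗ[k] V) : Module.End k V) +
        ((g : V ≃ₗ[k] V) : Module.End k V) + 1 = 0 → φ g * φ g + φ g + 1 = 0) ∧
      (∀ g : X, ((g : V ≃ₗ[k] V) : Module.End k V) * ((g : V ≃ₗ[k] V) : Module.End k V) + 1 = 0 →
        φ g * φ g + 1 = 0) ∧
      (∀ g : X, ((g : V ≃ₗ[k] V) : Module.End k V) = -1 → φ g = -1) := by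
  classical
  obtain ⟨K, _, _, _, W, hW0, hWfg, hWr, hWinv⟩ := exists_subspace a b Zs hcomm hca hcb qa hqa0
    hqaa c₀ c₁ c₂ c₃ β₀ β₁ h0 h1 h2 h3 h4 h5 hab hbb
  let β : Module.End k V →ₐ[k] Module.End K (K ⊗[k] V) := Module.End.baseChangeHom k K V
  have hWfin : Module.Finite K W := Module.Finite.iff_fg.mpr hWfg
  have hinv : ∀ g : X, ∀ v ∈ W, β ((g : V ≃ₗ[k] V) : Module.End k V) v ∈ W :=
    fun g => hWinv _ (hX g g.2)
  -- free after base change
  have hfree' : ∀ g : X, g ≠ 1 → ∀ u : K ⊗[k] V,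
      β ((g : V ≃ₗ[k] V) : Module.End k V) u = u → u = 0 := by
    intro g hg u hu
    set L : Module.End k V := ((g : V ≃ₗ[k] V) : Module.End k V) - 1 with hL
    have hLinj : Function.Injective L := by
      rw [← LinearMap.ker_eq_bot, LinearMap.ker_eq_bot']
      intro v hv
      apply hfree g g.2 (fun h => hg (Subtype.ext h)) v
      have : L v = (g : V ≃ₗ[k] V) v - v := rfl
      rw [this] at hv
      exact sub_eq_zero.mp hv
    have hLsurj : Function.Surjective L := LinearMap.surjective_of_injective hLinj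
    let e : V ≃ₗ[k] V := LinearEquiv.ofBijective L ⟨hLinj, hLsurj⟩
    have h1 : (e.symm : Module.End k V) * L = 1 := by
      apply LinearMap.ext
      intro v
      exact e.symm_apply_apply v
    have h2 : β (e.symm : Module.End k V) * β L = 1 := by rw [← map_mul, h1, map_one]
    have h3 : β L u = 0 := by
      rw [hL, map_sub, map_one, LinearMap.sub_apply, hu]
      simp
    have := congrArg (fun f : Module.End K (K ⊗[k] V) => f u) h2
    simp only [Module.End.mul_apply, h3, map_zero, Module.End.one_apply] at this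
    exact this.symm
  -- the representation
  let ρ : X →* Module.End K W :=
    { toFun := fun g => (β ((g : V ≃ₗ[k] V) : Module.End k V)).restrict (hinv g)
      map_one' := by
        apply LinearMap.ext
        intro w
        apply Subtype.ext
        rw [LinearMap.coe_restrict_apply]
        have : (((1 : X) : V ≃ₗ[k] V) : Module.End k V) = 1 := rfl
        rw [this, map_one]
        rfl
      map_mul' := by
        intro g h
        apply LinearMap.ext
        intro w
        apply Subtype.ext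
        rw [Module.End.mul_apply, LinearMap.coe_restrict_apply, LinearMap.coe_restrict_apply,
          LinearMap.coe_restrict_apply]
        have : (((g * h : X) : V ≃ₗ[k] V) : Module.End k V) =
            ((g : V ≃ₗ[k] V) : Module.End k V) * ((h : V ≃ₗ[k] V) : Module.End k V) := rfl
        rw [this, map_mul]
        rfl }
  have hρ : ∀ (g : X) (w : W), ((ρ g w : W) : K ⊗[k] V) =
      β ((g : V ≃ₗ[k] V) : Module.End k V) w := fun g w => rfl
  have hρinj : Function.Injective ρ := by
    rw [injective_iff_map_eq_one]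
    intro g hg
    by_contra hg1
    obtain ⟨w, hw, hw0⟩ := (Submodule.ne_bot_iff _).mp hW0
    apply hw0
    apply hfree' g hg1 w
    have := hρ g ⟨w, hw⟩
    rw [hg] at this
    exact this.symm
  have hpos : 0 < Module.finrank K W := by
    rw [Nat.pos_iff_ne_zero]
    intro h0
    exact hW0 (Submodule.finrank_eq_zero.mp h0)
  have hcases : Module.finrank K W = 1 ∨ Module.finrank K W = 2 := by omega
  rcases hcases with h1 | h2
  · left
    intro g hg h hh
    have := commute_of_finrank_one W h1 (ρ ⟨g, hg⟩) (ρ ⟨h, hh⟩)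
    rw [← map_mul, ← map_mul] at this
    have := hρinj this
    exact congrArg Subtype.val this
  · right
    have : Module.Free K W := Module.Free.of_divisionRing K W
    let bs : Module.Basis (Fin 2) K W := Module.finBasisOfFinrankEq K W h2
    let M : Module.End K W ≃ₐ[K] Matrix (Fin 2) (Fin 2) K := LinearMap.toMatrixAlgEquiv bs
    refine ⟨K, inferInstance, inferInstance, Module.finite_of_finite k,
      (M : Module.End K W →* Matrix (Fin 2) (Fin 2) K).comp ρ, ?_, ?_, ?_, ?_⟩
    · intro g h hgh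
      apply hρinj
      exact M.injective hgh
    · intro g hg
      have : ρ g * ρ g + ρ g + 1 = 0 := by
        apply LinearMap.ext
        intro w
        apply Subtype.ext
        have h := congrArg (fun T : Module.End k V => β T (w : K ⊗[k] V)) hg
        simp only [map_add, map_mul, map_one, map_zero, LinearMap.add_apply, Module.End.mul_apply,
          Module.End.one_apply, LinearMap.zero_apply] at h
        simp only [LinearMap.add_apply, Module.End.mul_apply, Module.End.one_apply,
          LinearMap.zero_apply, Submodule.coe_add, hρ, ZeroMemClass.coe_zero]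
        exact h
      have := congrArg M this
      simp only [map_add, map_mul, map_one, map_zero] at this
      exact this
    · intro g hg
      have : ρ g * ρ g + 1 = 0 := by
        apply LinearMap.ext
        intro w
        apply Subtype.ext
        have h := congrArg (fun T : Module.End k V => β T (w : K ⊗[k] V)) hg
        simp only [map_add, map_mul, map_one, map_zero, LinearMap.add_apply, Module.End.mul_apply,
          Module.End.one_apply, LinearMap.zero_apply] at h
        simp only [LinearMap.add_apply, Module.End.mul_apply, Module.End.one_apply,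
          LinearMap.zero_apply, Submodule.coe_add, hρ, ZeroMemClass.coe_zero]
        exact h
      have := congrArg M this
      simp only [map_add, map_mul, map_one, map_zero] at this
      exact this
    · intro g hg
      have : ρ g + 1 = 0 := by
        apply LinearMap.ext
        intro w
        apply Subtype.ext
        have h := congrArg (fun T : Module.End k V => β T (w : K ⊗[k] V)) hg
        simp only [map_neg, map_one, LinearMap.neg_apply, Module.End.one_apply] at h
        simp only [LinearMap.add_apply, Module.End.one_apply, Submodule.coe_add, hρ,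
          LinearMap.zero_apply, ZeroMemClass.coe_zero]
        rw [h]
        simp
      have := congrArg M this
      simp only [map_add, map_one, map_zero] at this
      exact eq_neg_of_add_eq_zero_left this

end Base

end Cfsg.Agent.Lib.Helper12.TwoDim
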