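import Mathlib
import Cfsg.Agent.Lib.Helper12.TwoDim
import Cfsg.Agent.Lib.Helper42.PPrimeMain

/-!
# From the two-dimensional principle to Dickson's list (helper12)

`quad_dickson`: a group `X` of linear maps over `ZMod p` acting without fixed vectors, of order
prime to `p`, generated by non-central elements killed by `T² + T + 1` or `T² + 1` and lying in an
algebra `𝔣 + 𝔣 a + 𝔣 b + 𝔣 b a` as in `TwoDim`, has a quotient by `X ∩ {±1}` which is cyclic,
dihedral, `A₄`, `S₄` or `A₅`.
-/

set_option autoImplicit false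

namespace Cfsg.Agent.Lib.Helper12.TwoDim

open Polynomial

section Mat
variable {K : Type*} [Field K]

theorem det_eq_one_of_quad3 (M : Matrix (Fin 2) (Fin 2) K) (h : M * M + M + 1 = 0)
    (N : Matrix (Fin 2) (Fin 2) K) (hN : M * N ≠ N * M) : M.det = 1 := by
  rw [Matrix.det_fin_two]
  have e := Matrix.eta_fin_two M
  have eN := Matrix.eta_fin_two N
  set a := M 0 0
  set b := M 0 1
  set c := M 1 0
  set d := M 1 1
  rw [e] at h
  have h00 := congrFun (congrFun h 0) 0
  have h01 := congrFun (congrFun h 0) 1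
  have h10 := congrFun (congrFun h 1) 0
  have h11 := congrFun (congrFun h 1) 1
  simp at h00 h01 h10 h11
  by_cases hs : a + d + 1 = 0
  · have hd : d = -1 - a := by linear_combination hs
    rw [hd]
    linear_combination -h00
  · exfalso
    have hb : b = 0 := by
      have : b * (a + d + 1) = 0 := by linear_combination h01
      exact (mul_eq_zero.mp this).resolve_right hs
    have hc : c = 0 := by
      have : c * (a + d + 1) = 0 := by linear_combination h10
      exact (mul_eq_zero.mp this).resolve_right hs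
    have had : a = d := by
      have : (a - d) * (a + d + 1) = 0 := by linear_combination h00 - h11
      exact sub_eq_zero.mp ((mul_eq_zero.mp this).resolve_right hs)
    apply hN
    rw [e, eN, hb, hc, ← had]
    ext i j
    fin_cases i <;> fin_cases j <;> simp [Matrix.mul_apply, Fin.sum_univ_two, mul_comm]

theorem det_eq_one_of_quad4 (M : Matrix (Fin 2) (Fin 2) K) (h : M * M + 1 = 0)
    (N : Matrix (Fin 2) (Fin 2) K) (hN : M * N ≠ N * M) : M.det = 1 := by
  rw [Matrix.det_fin_two]
  have e := Matrix.eta_fin_two M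
  have eN := Matrix.eta_fin_two N
  set a := M 0 0
  set b := M 0 1
  set c := M 1 0
  set d := M 1 1
  rw [e] at h
  have h00 := congrFun (congrFun h 0) 0
  have h01 := congrFun (congrFun h 0) 1
  have h10 := congrFun (congrFun h 1) 0
  have h11 := congrFun (congrFun h 1) 1
  simp at h00 h01 h10 h11
  by_cases hs : a + d = 0
  · have hd : d = - a := by linear_combination hs
    rw [hd]
    linear_combination -h00
  · exfalso
    have hb : b = 0 := by
      have : b * (a + d) = 0 := by linear_combination h01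
      exact (mul_eq_zero.mp this).resolve_right hs
    have hc : c = 0 := by
      have : c * (a + d) = 0 := by linear_combination h10
      exact (mul_eq_zero.mp this).resolve_right hs
    have had : a = d := by
      have : (a - d) * (a + d) = 0 := by linear_combination h00 - h11
      exact sub_eq_zero.mp ((mul_eq_zero.mp this).resolve_right hs)
    apply hN
    rw [e, eN, hb, hc, ← had]
    ext i j
    fin_cases i <;> fin_cases j <;> simp [Matrix.mul_apply, Fin.sum_univ_two, mul_comm]

end Mat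


section Main
variable {p : ℕ} [Fact p.Prime] {V : Type*} [AddCommGroup V] [Module (ZMod p) V]

theorem finite_linearEquiv [Finite V] : Finite (V ≃ₗ[ZMod p] V) :=
  Finite.of_injective (fun e => (e : V → V)) (fun e f h => LinearEquiv.ext (congrFun h))

theorem coe_mul_end (g h : V ≃ₗ[ZMod p] V) :
    ((g * h : V ≃ₗ[ZMod p] V) : Module.End (ZMod p) V) =
      (g : Module.End (ZMod p) V) * (h : Module.End (ZMod p) V) := rfl

theorem coe_one_end : ((1 : V ≃ₗ[ZMod p] V) : Module.End (ZMod p) V) = 1 := rfl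

theorem coe_pow_end (g : V ≃ₗ[ZMod p] V) (n : ℕ) :
    ((g ^ n : V ≃ₗ[ZMod p] V) : Module.End (ZMod p) V) = (g : Module.End (ZMod p) V) ^ n := by
  induction n with
  | zero => rfl
  | succ n ih => rw [pow_succ, pow_succ, coe_mul_end, ih]

theorem coe_mem_of_closure [Finite V] (A : Subalgebra (ZMod p) (Module.End (ZMod p) V))
    (S : Set (V ≃ₗ[ZMod p] V)) (hS : ∀ s ∈ S, ((s : V ≃ₗ[ZMod p] V) : Module.End (ZMod p) V) ∈ A) :
    ∀ g ∈ Subgroup.closure S, ((g : V ≃ₗ[ZMod p] V) : Module.End (ZMod p) V) ∈ A := by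
  have : Finite (V ≃ₗ[ZMod p] V) := finite_linearEquiv
  intro g hg
  induction hg using Subgroup.closure_induction with
  | mem s hs => exact hS s hs
  | one => rw [coe_one_end]; exact A.one_mem
  | mul g h _ _ hg hh => rw [coe_mul_end]; exact A.mul_mem hg hh
  | inv g _ hg =>
    have h1 : g⁻¹ = g ^ (orderOf g - 1) := by
      rw [inv_eq_iff_mul_eq_one, ← pow_succ', Nat.sub_add_cancel (orderOf_pos g), pow_orderOf_eq_one]
    rw [h1, coe_pow_end]
    exact A.pow_mem hg _

open Matrix in
theorem quad_dickson [Finite V] [Nontrivial V] (X : Subgroup (V ≃ₗ[ZMod p] V))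
    (hfree : ∀ g ∈ X, g ≠ 1 → ∀ v : V, g v = v → v = 0)
    (hpX : ¬ p ∣ Nat.card X)
    (a b : Module.End (ZMod p) V) (Zs : List (Module.End (ZMod p) V))
    (hcomm : ∀ c ∈ Zs, ∀ d ∈ Zs, Commute c d)
    (hca : ∀ c ∈ Zs, Commute a c) (hcb : ∀ c ∈ Zs, Commute b c)
    (qa : (ZMod p)[X]) (hqa0 : qa ≠ 0) (hqaa : aeval a qa = 0)
    (c₀ c₁ c₂ c₃ β₀ β₁ : Module.End (ZMod p) V) (h0 : c₀ ∈ Zs) (h1 : c₁ ∈ Zs) (h2 : c₂ ∈ Zs)
    (h3 : c₃ ∈ Zs) (h4 : β₀ ∈ Zs) (h5 : β₁ ∈ Zs)
    (hab : a * b = c₀ + c₁ * a + c₂ * b + c₃ * (b * a)) (hbb : b * b = β₀ + β₁ * b)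
    (S : Set (V ≃ₗ[ZMod p] V)) (hSne : S.Nonempty) (hXS : X = Subgroup.closure S)
    (hSadj : ∀ s ∈ S, ((s : V ≃ₗ[ZMod p] V) : Module.End (ZMod p) V) ∈
      Algebra.adjoin (ZMod p) (({a, b} : Set (Module.End (ZMod p) V)) ∪ {c | c ∈ Zs}))
    (hSquad : ∀ s ∈ S,
      ((s : V ≃ₗ[ZMod p] V) : Module.End (ZMod p) V) * (s : Module.End (ZMod p) V) +
        (s : Module.End (ZMod p) V) + 1 = 0 ∨
      ((s : V ≃ₗ[ZMod p] V) : Module.End (ZMod p) V) * (s : Module.End (ZMod p) V) + 1 = 0)
    (hSnc : ∀ s ∈ S, ∃ t ∈ X, s * t ≠ t * s) :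
    ∃ (Γ : Type) (_ : Group Γ) (π : X →* Γ), Function.Surjective π ∧
      (∀ g : X, π g = 1 ↔ (g = 1 ∨ ((g : V ≃ₗ[ZMod p] V) : Module.End (ZMod p) V) = -1)) ∧
      (IsCyclic Γ ∨ (∃ n : ℕ, Nonempty (Γ ≃* DihedralGroup n)) ∨
        Nonempty (Γ ≃* alternatingGroup (Fin 4)) ∨ Nonempty (Γ ≃* Equiv.Perm (Fin 4)) ∨
        Nonempty (Γ ≃* alternatingGroup (Fin 5))) := by
  classical
  have hfin𝔾 : Finite (V ≃ₗ[ZMod p] V) := finite_linearEquiv
  have hSX : ∀ s ∈ S, s ∈ X := fun s hs => hXS ▸ Subgroup.subset_closure hs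
  have hXadj : ∀ g ∈ X, ((g : V ≃ₗ[ZMod p] V) : Module.End (ZMod p) V) ∈
      Algebra.adjoin (ZMod p) (({a, b} : Set (Module.End (ZMod p) V)) ∪ {c | c ∈ Zs}) := by
    intro g hg
    rw [hXS] at hg
    exact coe_mem_of_closure _ S hSadj g hg
  have hmf : Module.Finite (ZMod p) V := Module.Finite.of_finite
  rcases exists_rep X hfree a b Zs hcomm hca hcb qa hqa0 hqaa c₀ c₁ c₂ c₃ β₀ β₁ h0 h1 h2 h3 h4 h5
    hab hbb hXadj with hab' | ⟨K, hKf, hKa, hKfin, φ, hφinj, hφ3, hφ4, hφneg⟩
  · exfalso
    obtain ⟨s, hs⟩ := hSne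
    obtain ⟨t, ht, hst⟩ := hSnc s hs
    exact hst (hab' s (hSX s hs) t ht)
  · have hKF : Fintype K := Fintype.ofFinite K
    have hKp : CharP K p := charP_of_injective_algebraMap (algebraMap (ZMod p) K).injective p
    -- determinants
    have hdetS : ∀ s (hs : s ∈ S), (φ ⟨s, hSX s hs⟩).det = 1 := by
      intro s hs
      obtain ⟨t, ht, hst⟩ := hSnc s hs
      have hne : φ ⟨s, hSX s hs⟩ * φ ⟨t, ht⟩ ≠ φ ⟨t, ht⟩ * φ ⟨s, hSX s hs⟩ := by
        rw [← map_mul, ← map_mul]
        intro h
        exact hst (congrArg Subtype.val (hφinj h))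
      rcases hSquad s hs with h | h
      · exact det_eq_one_of_quad3 _ (hφ3 ⟨s, hSX s hs⟩ h) _ hne
      · exact det_eq_one_of_quad4 _ (hφ4 ⟨s, hSX s hs⟩ h) _ hne
    let dh : X →* K := Matrix.detMonoidHom.comp φ
    have hdet : ∀ g : X, (φ g).det = 1 := by
      have hle : Subgroup.closure S ≤ dh.ker.map X.subtype := by
        rw [Subgroup.closure_le]
        intro s hs
        exact ⟨⟨s, hSX s hs⟩, hdetS s hs, rfl⟩
      intro g
      obtain ⟨g', hg', hgg'⟩ := hle (hXS.le g.2)
      have : g' = g := Subtype.ext hgg'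
      rw [← this]
      exact hg'
    let ψ : X →* SpecialLinearGroup (Fin 2) K :=
      { toFun := fun g => ⟨φ g, hdet g⟩
        map_one' := by apply Subtype.ext; simp
        map_mul' := by intro g h; apply Subtype.ext; exact map_mul φ g h }
    let π₀ : X →* ProjectiveSpecialLinearGroup (Fin 2) K :=
      (QuotientGroup.mk' (Subgroup.center (SpecialLinearGroup (Fin 2) K))).comp ψ
    refine ⟨π₀.range, inferInstance, π₀.rangeRestrict, π₀.rangeRestrict_surjective, ?_, ?_⟩
    · intro g
      have h1 : π₀.rangeRestrict g = 1 ↔ ψ g ∈ Subgroup.center (SpecialLinearGroup (Fin 2) K) := by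
        rw [← Subtype.coe_inj]
        show (QuotientGroup.mk' _ (ψ g)) = 1 ↔ _
        rw [QuotientGroup.mk'_apply, QuotientGroup.eq_one_iff]
      rw [h1, Matrix.SpecialLinearGroup.mem_center_iff]
      constructor
      · rintro ⟨r, hr, hrg⟩
        have hrg' : Matrix.scalar (Fin 2) r = φ g := hrg
        have hr2 : r = 1 ∨ r = -1 := by
          have : r * r = 1 := by
            have : r ^ 2 = 1 := by simpa using hr
            rwa [sq] at this
          exact mul_self_eq_one_iff.mp this
        rcases hr2 with rfl | rfl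
        · left
          apply hφinj
          rw [← hrg', map_one, map_one]
        · by_cases hg1 : g = 1
          · exact Or.inl hg1
          · right
            have hgg : g * g = 1 := by
              apply hφinj
              rw [map_mul, ← hrg', map_one]
              simp
            apply LinearMap.ext
            intro v
            have hfix : (g : V ≃ₗ[ZMod p] V) ((g : V ≃ₗ[ZMod p] V) v + v) =
                (g : V ≃ₗ[ZMod p] V) v + v := by
              rw [map_add]
              have : (g : V ≃ₗ[ZMod p] V) ((g : V ≃ₗ[ZMod p] V) v) = v := by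
                have := congrArg (fun h : X => (h : V ≃ₗ[ZMod p] V) v) hgg
                simpa using this
              rw [this, add_comm]
            have := hfree g g.2 (fun h => hg1 (Subtype.ext h)) _ hfix
            show (g : V ≃ₗ[ZMod p] V) v = -v
            exact eq_neg_of_add_eq_zero_left this
      · rintro (rfl | hg)
        · exact ⟨1, by simp, by simp [ψ]⟩
        · refine ⟨-1, by simp, ?_⟩
          show Matrix.scalar (Fin 2) (-1 : K) = φ g
          rw [hφneg g hg]
          ext i j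
          fin_cases i <;> fin_cases j <;> simp
    · have hH : ¬ p ∣ Nat.card π₀.range := fun h => hpX (h.trans (Subgroup.card_range_dvd π₀))
      rcases Cfsg.Agent.Lib.Helper42.pprime_dickson p hH with ⟨k, -, h | h⟩ | h | h | h
      · exact Or.inl h.1
      · exact Or.inr (Or.inl ⟨k, h⟩)
      · exact Or.inr (Or.inr (Or.inl h))
      · exact Or.inr (Or.inr (Or.inr (Or.inl h)))
      · exact Or.inr (Or.inr (Or.inr (Or.inr h)))

end Main

end Cfsg.Agent.Lib.Helper12.TwoDim
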