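import Mathlib
import Cfsg.Agent.Lib.Helper3.DefOneGenGal
import Cfsg.Agent.Lib.Helper75.GaloisPow

/-!
# Wielandt's theorem on degree `2p` (S0720): Galois action on character values at `p`-elements
(helper12)

`p ∥ |Γ|`.  `FixesPrime Γ p σ`: the field automorphism `σ` fixes `exp(2πi/g')`, `g' = |Γ|_{p'}`.
`GalFixed Γ p χ`: `χ` is fixed by all such `σ` (`χ` is `p`-rational).

* `exists_sigma_pow`: for `p ∤ k` some such `σ` satisfies `σ (χ x) = χ (x ^ k)` for all characters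
  `χ` and all `x` with `x ^ p = 1`;
* `GalFixed.apply_pow`: a `p`-rational character is constant on the generators of a subgroup of
  order `p`.
-/

set_option autoImplicit false
set_option linter.unusedSectionVars false

namespace Cfsg.Agent.Lib.Helper12.W2p

open Cfsg

section
variable (Γ : Type*) [Group Γ] [Fintype Γ] (p : ℕ)

/-- the `p'`-part of the group order, exactly as written in S4507 -/
noncomputable def gPrime : ℕ := Nat.card Γ / p ^ (Nat.card Γ).factorization p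

/-- `σ` fixes the primitive `g'`-th root of unity `exp(2πi/g')` -/
def FixesPrime (σ : ℂ ≃+* ℂ) : Prop :=
  σ (Complex.exp (2 * Real.pi * Complex.I / ((Nat.card Γ / p ^ (Nat.card Γ).factorization p : ℕ)))) =
    Complex.exp (2 * Real.pi * Complex.I / ((Nat.card Γ / p ^ (Nat.card Γ).factorization p : ℕ)))

/-- `χ` is `p`-rational -/
def GalFixed (χ : Γ → ℂ) : Prop :=
  ∀ σ : ℂ ≃+* ℂ, FixesPrime Γ p σ → (fun g => σ (χ g)) = χ

end

section
variable {Γ : Type*} [Group Γ] [Fintype Γ] {p : ℕ}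

theorem fixesPrime_refl : FixesPrime Γ p (RingEquiv.refl ℂ) := rfl

theorem FixesPrime.trans {σ τ : ℂ ≃+* ℂ} (hσ : FixesPrime Γ p σ) (hτ : FixesPrime Γ p τ) :
    FixesPrime Γ p (σ.trans τ) := by
  unfold FixesPrime at *
  rw [RingEquiv.trans_apply, hσ, hτ]

theorem FixesPrime.symm {σ : ℂ ≃+* ℂ} (hσ : FixesPrime Γ p σ) : FixesPrime Γ p σ.symm := by
  unfold FixesPrime at *
  conv_lhs => rw [← hσ]
  exact σ.symm_apply_apply _

theorem card_eq_mul_gPrime (hp : p.Prime) (hdiv : p ∣ Nat.card Γ) (hsq : ¬ p ^ 2 ∣ Nat.card Γ) :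
    Nat.card Γ = p * gPrime Γ p ∧ ¬ p ∣ gPrime Γ p ∧ 0 < gPrime Γ p := by
  have hpos : Nat.card Γ ≠ 0 := Nat.card_pos.ne'
  have hfac : (Nat.card Γ).factorization p = 1 := by
    have h1 : 1 ≤ (Nat.card Γ).factorization p :=
      (hp.dvd_iff_one_le_factorization hpos).mp hdiv
    have h2 : ¬ 2 ≤ (Nat.card Γ).factorization p := by
      intro h
      exact hsq ((hp.pow_dvd_iff_le_factorization hpos).mpr h)
    omega
  unfold gPrime
  rw [hfac, pow_one]
  obtain ⟨c, hc⟩ := hdiv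
  rw [hc, Nat.mul_div_cancel_left c hp.pos]
  refine ⟨rfl, ?_, ?_⟩
  · rintro ⟨e, he⟩
    apply hsq
    rw [hc, he]
    exact ⟨e, by ring⟩
  · rcases Nat.eq_zero_or_pos c with h | h
    · rw [h, mul_zero] at hc; exact absurd hc hpos
    · exact h

/-- For `p ∤ k` there is a field automorphism fixing the `p'`-roots of unity and acting on all
character values at elements of order dividing `p` as the `k`-th power map on the argument. -/
theorem exists_sigma_pow (hp : p.Prime) (hdiv : p ∣ Nat.card Γ) (hsq : ¬ p ^ 2 ∣ Nat.card Γ)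
    (k : ℕ) (hk : ¬ p ∣ k) :
    ∃ σ : ℂ ≃+* ℂ, FixesPrime Γ p σ ∧
      ∀ χ : Γ → ℂ, IsCharacter Γ χ → ∀ x : Γ, x ^ p = 1 → σ (χ x) = χ (x ^ k) := by
  obtain ⟨hcard, hnd, hg0⟩ := card_eq_mul_gPrime (Γ := Γ) hp hdiv hsq
  have hcop : Nat.Coprime p (gPrime Γ p) := (Nat.Prime.coprime_iff_not_dvd hp).mpr hnd
  obtain ⟨k', hk'p, hk'n⟩ := Nat.chineseRemainder hcop k 1
  have hcopk : Nat.Coprime k' (Nat.card Γ) := by
    rw [hcard]
    apply Nat.Coprime.mul_right
    · rw [Nat.coprime_comm, Nat.Prime.coprime_iff_not_dvd hp]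
      intro hdvd
      apply hk
      have h1 : k' % p = 0 := Nat.mod_eq_zero_of_dvd hdvd
      have h2 : k % p = 0 := by rw [← hk'p, h1]
      exact Nat.dvd_of_mod_eq_zero h2
    · have h1 : Nat.gcd k' (gPrime Γ p) = Nat.gcd 1 (gPrime Γ p) := Nat.ModEq.gcd_eq hk'n
      rw [Nat.Coprime, h1, Nat.gcd_one_left]
  obtain ⟨σ, hσ1, hσ2⟩ := Cfsg.Agent.Lib.Helper75.exists_ringEquiv_character_pow (G := Γ) k' hcopk
  refine ⟨σ, ?_, ?_⟩
  · unfold FixesPrime
    have hω : Complex.exp (2 * Real.pi * Complex.I / (gPrime Γ p : ℕ)) ^ (gPrime Γ p) = 1 :=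
      (Complex.isPrimitiveRoot_exp (gPrime Γ p) hg0.ne').pow_eq_one
    have hωN : Complex.exp (2 * Real.pi * Complex.I / (gPrime Γ p : ℕ)) ^ (Nat.card Γ) = 1 := by
      rw [hcard, show p * gPrime Γ p = gPrime Γ p * p from mul_comm _ _, pow_mul, hω, one_pow]
    show σ (Complex.exp (2 * Real.pi * Complex.I / (gPrime Γ p : ℕ))) = _
    rw [hσ1 _ hωN, pow_eq_pow_mod k' hω, hk'n, ← pow_eq_pow_mod 1 hω, pow_one]
    rfl
  · intro χ hχ x hx
    rw [hσ2 χ hχ x, pow_eq_pow_mod k' hx, hk'p, ← pow_eq_pow_mod k hx]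

/-- A `p`-rational character takes the same value on all generators of a subgroup of order `p`. -/
theorem GalFixed.apply_pow (hp : p.Prime) (hdiv : p ∣ Nat.card Γ) (hsq : ¬ p ^ 2 ∣ Nat.card Γ)
    {χ : Γ → ℂ} (hχ : IsCharacter Γ χ) (hfix : GalFixed Γ p χ) (x : Γ) (hx : x ^ p = 1)
    (k : ℕ) (hk : ¬ p ∣ k) : χ (x ^ k) = χ x := by
  obtain ⟨σ, hσ, hpow⟩ := exists_sigma_pow (Γ := Γ) hp hdiv hsq k hk
  rw [← hpow χ hχ x hx]
  exact congrFun (hfix σ hσ) x

end

end Cfsg.Agent.Lib.Helper12.W2p
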