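import Mathlib
import Cfsg.Prelude.Def_Characters

/-!
# Wielandt's theorem on degree `2p` (S0720): multiplicities along a cyclic subgroup (helper12)

For `π` with `π ^ p = 1`, `ζ = exp(2πi/p)` and a function `f` on the group,
`mu p π f j = p⁻¹ ∑_{s<p} ζ^{-js} f(π^s)` is (for a character `f`) the multiplicity of the
eigenvalue `ζ^j` of `π`.
-/

set_option autoImplicit false
set_option linter.unusedSectionVars false

namespace Cfsg.Agent.Lib.Helper12.W2p

open Finset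

/-- the primitive `p`-th root of unity `exp(2πi/p)` -/
noncomputable def zt (p : ℕ) : ℂ := Complex.exp (2 * Real.pi * Complex.I / (p : ℕ))

theorem zt_isPrimitiveRoot {p : ℕ} (hp : p ≠ 0) : IsPrimitiveRoot (zt p) p :=
  Complex.isPrimitiveRoot_exp p hp

section
variable {Γ : Type*} [Group Γ]

/-- the multiplicity function -/
noncomputable def mu (p : ℕ) (π : Γ) (f : Γ → ℂ) (j : ℕ) : ℂ :=
  (p : ℂ)⁻¹ * ∑ s ∈ range p, ((zt p)⁻¹) ^ (j * s) * f (π ^ s)

variable {p : ℕ} (π : Γ)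

theorem mu_add (f g : Γ → ℂ) (j : ℕ) : mu p π (f + g) j = mu p π f j + mu p π g j := by
  unfold mu
  rw [← mul_add, ← sum_add_distrib]
  congr 1
  apply sum_congr rfl
  intro s _
  rw [Pi.add_apply, mul_add]

theorem mu_smul (c : ℂ) (f : Γ → ℂ) (j : ℕ) : mu p π (c • f) j = c * mu p π f j := by
  unfold mu
  have h : ∑ s ∈ range p, ((zt p)⁻¹) ^ (j * s) * (c • f) (π ^ s) =
      c * ∑ s ∈ range p, ((zt p)⁻¹) ^ (j * s) * f (π ^ s) := by
    rw [mul_sum]
    apply sum_congr rfl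
    intro s _
    rw [Pi.smul_apply, smul_eq_mul]
    ring
  rw [h]
  ring

theorem mu_zero (j : ℕ) : mu p π (0 : Γ → ℂ) j = 0 := by
  unfold mu
  simp

theorem mu_sum {ι : Type*} (t : Finset ι) (f : ι → Γ → ℂ) (j : ℕ) :
    mu p π (∑ i ∈ t, f i) j = ∑ i ∈ t, mu p π (f i) j := by
  classical
  induction t using Finset.induction_on with
  | empty => simp [mu_zero]
  | insert a t ha ih => rw [sum_insert ha, sum_insert ha, mu_add, ih]

/-- the geometric sum of the powers of a `p`-th root of unity -/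
theorem sum_zt_pow (hp : p ≠ 0) (j : ℕ) :
    ∑ s ∈ range p, ((zt p)⁻¹) ^ (j * s) = if p ∣ j then (p : ℂ) else 0 := by
  have hz := zt_isPrimitiveRoot hp
  have hzi : IsPrimitiveRoot (zt p)⁻¹ p := hz.inv
  split_ifs with hj
  · have h1 : ∀ s ∈ range p, ((zt p)⁻¹) ^ (j * s) = 1 := by
      intro s _
      obtain ⟨c, rfl⟩ := hj
      rw [mul_assoc, pow_mul, hzi.pow_eq_one, one_pow]
    rw [sum_congr rfl h1]
    simp
  · have hne : ((zt p)⁻¹) ^ j ≠ 1 := by
      intro h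
      exact hj ((hzi.pow_eq_one_iff_dvd j).mp h)
    have h1 : ∀ s ∈ range p, ((zt p)⁻¹) ^ (j * s) = (((zt p)⁻¹) ^ j) ^ s := by
      intro s _
      rw [pow_mul]
    rw [sum_congr rfl h1]
    have h2 := geom_sum_mul (((zt p)⁻¹) ^ j) p
    have h3 : (((zt p)⁻¹) ^ j) ^ p = 1 := by
      rw [← pow_mul, mul_comm, pow_mul, hzi.pow_eq_one, one_pow]
    rw [h3, sub_self] at h2
    rcases mul_eq_zero.mp h2 with h | h
    · exact h
    · exact absurd (sub_eq_zero.mp h) hne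

theorem mu_one (hp : p ≠ 0) (j : ℕ) :
    mu p π (fun _ : Γ => (1 : ℂ)) j = if p ∣ j then 1 else 0 := by
  unfold mu
  simp only [mul_one]
  rw [sum_zt_pow hp]
  have hp0 : (p : ℂ) ≠ 0 := by exact_mod_cast hp
  split_ifs
  · exact inv_mul_cancel₀ hp0
  · exact mul_zero _

/-- If `f` is constant `c` on the nonidentity powers of `π`. -/
theorem mu_of_const (hp : p ≠ 0) (f : Γ → ℂ) (c : ℂ)
    (hc : ∀ s : ℕ, 0 < s → s < p → f (π ^ s) = c) (j : ℕ) :
    mu p π f j = (f 1 - c) / p + if p ∣ j then c else 0 := by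
  unfold mu
  have hp0 : (p : ℂ) ≠ 0 := by exact_mod_cast hp
  have h1 : ∑ s ∈ range p, ((zt p)⁻¹) ^ (j * s) * f (π ^ s) =
      (f 1 - c) + c * ∑ s ∈ range p, ((zt p)⁻¹) ^ (j * s) := by
    obtain ⟨q, rfl⟩ : ∃ q, p = q + 1 := ⟨p - 1, by omega⟩
    rw [sum_range_succ', sum_range_succ' (fun s => ((zt (q + 1))⁻¹) ^ (j * s))]
    simp only [mul_zero, pow_zero, one_mul]
    have h2 : ∀ s ∈ range q, ((zt (q + 1))⁻¹) ^ (j * (s + 1)) * f (π ^ (s + 1)) =
        c * ((zt (q + 1))⁻¹) ^ (j * (s + 1)) := by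
      intro s hs
      rw [hc (s + 1) (by omega) (by have := mem_range.mp hs; omega)]
      ring
    rw [sum_congr rfl h2, ← mul_sum]
    ring
  rw [h1, sum_zt_pow hp]
  split_ifs
  · field_simp
  · simp only [mul_zero, add_zero]
    field_simp

/-- If `f` vanishes on the nonidentity powers of `π`. -/
theorem mu_of_vanish (hp : p ≠ 0) (f : Γ → ℂ)
    (hc : ∀ s : ℕ, 0 < s → s < p → f (π ^ s) = 0) (j : ℕ) : mu p π f j = f 1 / p := by
  rw [mu_of_const π hp f 0 hc j]
  simp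

/-- summing the multiplicities gives the degree -/
theorem sum_mu (hp : p ≠ 0) (f : Γ → ℂ) : ∑ j ∈ range p, mu p π f j = f 1 := by
  unfold mu
  have hp0 : (p : ℂ) ≠ 0 := by exact_mod_cast hp
  rw [← mul_sum, sum_comm]
  have h1 : ∀ s ∈ range p, ∑ j ∈ range p, ((zt p)⁻¹) ^ (j * s) * f (π ^ s) =
      (if p ∣ s then (p : ℂ) else 0) * f (π ^ s) := by
    intro s _
    rw [← sum_mul]
    congr 1
    have h2 : ∀ j ∈ range p, ((zt p)⁻¹) ^ (j * s) = ((zt p)⁻¹) ^ (s * j) := by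
      intro j _
      rw [mul_comm]
    rw [sum_congr rfl h2]
    exact sum_zt_pow hp s
  rw [sum_congr rfl h1]
  obtain ⟨q, rfl⟩ : ∃ q, p = q + 1 := ⟨p - 1, by omega⟩
  rw [sum_range_succ']
  have h3 : ∀ s ∈ range q, (if (q + 1) ∣ (s + 1) then ((q + 1 : ℕ) : ℂ) else 0) * f (π ^ (s + 1)) = 0 := by
    intro s hs
    have : ¬ (q + 1) ∣ (s + 1) := by
      intro h
      have := Nat.le_of_dvd (by omega) h
      have := mem_range.mp hs
      omega
    rw [if_neg this, zero_mul]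
  rw [sum_congr rfl h3]
  simp only [sum_const_zero, zero_add, dvd_zero, if_true, pow_zero]
  field_simp

/-- a field automorphism commutes with `mu · 0` -/
theorem mu_zero_map (σ : ℂ ≃+* ℂ) (f : Γ → ℂ) :
    mu p π (fun g => σ (f g)) 0 = σ (mu p π f 0) := by
  unfold mu
  simp only [zero_mul, pow_zero, one_mul]
  rw [map_mul, map_inv₀, map_natCast, map_sum]

/-- `mu` depends on `j` only modulo `p` -/
theorem mu_mod (hp : p ≠ 0) (f : Γ → ℂ) (j : ℕ) : mu p π f j = mu p π f (j % p) := by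
  unfold mu
  congr 1
  apply sum_congr rfl
  intro s _
  congr 1
  have hzi : ((zt p)⁻¹) ^ p = 1 := (zt_isPrimitiveRoot hp).inv.pow_eq_one
  rw [pow_eq_pow_mod (j * s) hzi, pow_eq_pow_mod (j % p * s) hzi, Nat.mod_mul_mod]

end

end Cfsg.Agent.Lib.Helper12.W2p
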