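import Mathlib
import Cfsg.Agent.Lib.Helper12.W2pGal
import Cfsg.Agent.Lib.Helper12.W2pMu
import Cfsg.Agent.Lib.Helper78.CharOrtho
import Cfsg.Agent.Lib.Helper78.CharMore
import Cfsg.Agent.Lib.Helper78.CharValues

/-!
# Wielandt's theorem on degree `2p` (S0720): the family of `p`-conjugates of an irreducible
character (helper12)
-/

set_option autoImplicit false
set_option linter.unusedSectionVars false

namespace Cfsg.Agent.Lib.Helper12.W2p

open Cfsg Cfsg.Agent.Lib.Helper78 Cfsg.Agent.Lib.Helper3.DefOneGen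
open scoped ComplexConjugate

variable {Γ : Type*} [Group Γ] [Fintype Γ]

open scoped Classical in
/-- the `p`-conjugates of `η` -/
noncomputable def fam (p : ℕ) (η : IrrCharacter Γ) : Finset (IrrCharacter Γ) :=
  Finset.univ.filter fun ψ => ∃ σ : ℂ ≃+* ℂ, FixesPrime Γ p σ ∧ ψ = galConj σ η

variable {p : ℕ}

theorem mem_fam {η ψ : IrrCharacter Γ} :
    ψ ∈ fam p η ↔ ∃ σ : ℂ ≃+* ℂ, FixesPrime Γ p σ ∧ ψ = galConj σ η := by
  classical
  unfold fam
  simp

theorem galConj_refl (η : IrrCharacter Γ) : galConj (RingEquiv.refl ℂ) η = η := by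
  apply Subtype.ext
  funext g
  rfl

theorem galConj_trans (σ τ : ℂ ≃+* ℂ) (η : IrrCharacter Γ) :
    galConj τ (galConj σ η) = galConj (σ.trans τ) η := by
  apply Subtype.ext
  funext g
  rfl

theorem mem_fam_self (η : IrrCharacter Γ) : η ∈ fam p η :=
  mem_fam.mpr ⟨RingEquiv.refl ℂ, fixesPrime_refl, (galConj_refl η).symm⟩

theorem galConj_mem_fam {η ψ : IrrCharacter Γ} (hψ : ψ ∈ fam p η) {τ : ℂ ≃+* ℂ}
    (hτ : FixesPrime Γ p τ) : galConj τ ψ ∈ fam p η := by
  obtain ⟨σ, hσ, rfl⟩ := mem_fam.mp hψ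
  exact mem_fam.mpr ⟨σ.trans τ, hσ.trans hτ, galConj_trans σ τ η⟩

theorem galConj_injective (τ : ℂ ≃+* ℂ) :
    Function.Injective (galConj τ : IrrCharacter Γ → IrrCharacter Γ) := by
  intro χ ψ h
  have := congrArg (galConj τ.symm) h
  rwa [galConj_symm, galConj_symm] at this

/-- the sum of a family of `p`-conjugates is `p`-rational -/
theorem galFixed_sum_fam (η : IrrCharacter Γ) :
    GalFixed Γ p (fun g => ∑ ψ ∈ fam p η, (ψ : Γ → ℂ) g) := by
  intro τ hτ
  funext g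
  rw [map_sum]
  apply Finset.sum_bij (fun ψ _ => galConj τ ψ)
  · intro ψ hψ
    exact galConj_mem_fam hψ hτ
  · intro ψ _ ψ' _ h
    exact galConj_injective τ h
  · intro ψ hψ
    refine ⟨galConj τ.symm ψ, galConj_mem_fam hψ hτ.symm, ?_⟩
    have := galConj_symm τ.symm ψ
    rwa [RingEquiv.symm_symm] at this
  · intro ψ _
    rfl

/-- not `p`-rational: a second member of the family -/
theorem exists_ne_of_not_galFixed {η : IrrCharacter Γ} (h : ¬ GalFixed Γ p (η : Γ → ℂ)) :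
    ∃ ψ ∈ fam p η, ψ ≠ η := by
  unfold GalFixed at h
  push Not at h
  obtain ⟨σ, hσ, hne⟩ := h
  refine ⟨galConj σ η, mem_fam.mpr ⟨σ, hσ, rfl⟩, ?_⟩
  intro heq
  apply hne
  exact congrArg Subtype.val heq

theorem two_le_card_fam {η : IrrCharacter Γ} (h : ¬ GalFixed Γ p (η : Γ → ℂ)) :
    2 ≤ (fam p η).card := by
  obtain ⟨ψ, hψ, hne⟩ := exists_ne_of_not_galFixed h
  exact Finset.one_lt_card.mpr ⟨ψ, hψ, η, mem_fam_self η, hne⟩

/-- the degree is constant on the family -/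
theorem apply_one_of_mem_fam {η ψ : IrrCharacter Γ} (hψ : ψ ∈ fam p η) :
    (ψ : Γ → ℂ) 1 = (η : Γ → ℂ) 1 := by
  obtain ⟨σ, -, rfl⟩ := mem_fam.mp hψ
  obtain ⟨n, hn⟩ := IsCharacter.exists_apply_one (IsIrrCharacter.isCharacter η.2)
  rw [galConj_apply, hn, map_natCast]

/-- multiplicities in a rational-valued function are constant on the family -/
theorem classInner_of_mem_fam {η ψ : IrrCharacter Γ} (hψ : ψ ∈ fam p η) (f : Γ → ℂ)
    (hf : ∀ g, ∃ n : ℕ, f g = n) (m : ℕ) (hm : classInner f (η : Γ → ℂ) = m) :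
    classInner f (ψ : Γ → ℂ) = m := by
  obtain ⟨σ, -, rfl⟩ := mem_fam.mp hψ
  have hη := IsIrrCharacter.isCharacter η.2
  have hψc := IsIrrCharacter.isCharacter (galConj σ η).2
  have h1 : classInner f (galConj σ η : Γ → ℂ) = σ (classInner f (η : Γ → ℂ)) := by
    unfold classInner
    rw [map_mul, map_inv₀, map_natCast, map_sum]
    congr 1
    apply Finset.sum_congr rfl
    intro g _
    rw [map_mul, ← IsCharacter.inv hψc, ← IsCharacter.inv hη, galConj_apply]
    obtain ⟨n, hn⟩ := hf g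
    rw [hn, map_natCast]
  rw [h1, hm, map_natCast]

/-- `mu · 0` is constant on the family (when it is a natural number) -/
theorem mu_zero_of_mem_fam {η ψ : IrrCharacter Γ} (hψ : ψ ∈ fam p η) (π : Γ) (m : ℕ)
    (hm : mu p π (η : Γ → ℂ) 0 = m) : mu p π (ψ : Γ → ℂ) 0 = m := by
  obtain ⟨σ, -, rfl⟩ := mem_fam.mp hψ
  have : (galConj σ η : Γ → ℂ) = fun g => σ ((η : Γ → ℂ) g) := rfl
  rw [this, mu_zero_map, hm, map_natCast]

/-- a `p`-rational character is alone in its family -/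
theorem card_fam_of_galFixed {η : IrrCharacter Γ} (h : GalFixed Γ p (η : Γ → ℂ)) :
    (fam p η).card ≤ 1 := by
  apply Finset.card_le_one.mpr
  intro a ha b hb
  obtain ⟨σ, hσ, rfl⟩ := mem_fam.mp ha
  obtain ⟨τ, hτ, rfl⟩ := mem_fam.mp hb
  apply Subtype.ext
  show (fun g => σ ((η : Γ → ℂ) g)) = fun g => τ ((η : Γ → ℂ) g)
  rw [h σ hσ, h τ hτ]

end Cfsg.Agent.Lib.Helper12.W2p
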