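import Mathlib
import Cfsg.Agent.Lib.Helper12.W2pFam
import Cfsg.Agent.Lib.Helper55.W2pCore
import Cfsg.Agent.Lib.Helper3.IrrBasis

/-!
# Wielandt's theorem on degree `2p` (S0720): the constituents of the permutation character
(helper12)
-/

set_option autoImplicit false
set_option linter.unusedSectionVars false

namespace Cfsg.Agent.Lib.Helper12.W2p

open Cfsg Cfsg.Agent.Lib.Helper78 Cfsg.Agent.Lib.Helper3.DefOneGen
open scoped ComplexConjugate

variable {Γ : Type*} [Group Γ] [Fintype Γ]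

/-- the principal character as an element of `IrrCharacter Γ` -/
noncomputable def oneIrr (Γ : Type*) [Group Γ] [Fintype Γ] : IrrCharacter Γ :=
  ⟨fun _ => 1, isIrrCharacter_one⟩

theorem galFixed_one (p : ℕ) : GalFixed Γ p (fun _ : Γ => (1 : ℂ)) := by
  intro σ _
  funext g
  exact map_one σ

theorem apply_one_pos (χ : IrrCharacter Γ) : ∃ n : ℕ, 0 < n ∧ (χ : Γ → ℂ) 1 = n :=
  ⟨charDegree (χ : Γ → ℂ), IsIrrCharacter.charDegree_pos χ.2,
    IsCharacter.apply_one_eq_charDegree (IsIrrCharacter.isCharacter χ.2)⟩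

section main
variable {p : ℕ} (hp : p.Prime) (hp2 : p ≠ 2) (hdiv : p ∣ Nat.card Γ) (hsq : ¬ p ^ 2 ∣ Nat.card Γ)
  (π : Γ) (hπ : π ^ p = 1) (θ : Γ → ℂ) (hθ : IsCharacter Γ θ) (hθ1 : θ 1 = 2 * (p : ℂ))
  (hθ0 : ∀ s : ℕ, 0 < s → s < p → θ (π ^ s) = 0) (hθN : ∀ g, ∃ n : ℕ, θ g = n)
  (htriv : classInner θ (fun _ : Γ => (1 : ℂ)) = 1)
  (hlin : ∀ χ : IrrCharacter Γ, classInner θ (χ : Γ → ℂ) ≠ 0 → (χ : Γ → ℂ) 1 = 1 →
    χ = oneIrr Γ)
  (hEig : ∀ (χ : IrrCharacter Γ) (j : ℕ), ∃ n : ℕ, mu p π (χ : Γ → ℂ) j = n)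

include hp hp2 hdiv hsq hπ hθ hθ1 hθ0 hθN htriv hlin hEig in
open scoped Classical in
theorem alpha_or_beta_pre :
    (∃ χ : IrrCharacter Γ, θ = fun g => 1 + (χ : Γ → ℂ) g) ∨
    (∃ χ₁ χ₂ : IrrCharacter Γ, θ = (fun g => 1 + (χ₁ : Γ → ℂ) g + (χ₂ : Γ → ℂ) g) ∧
      (χ₁ : Γ → ℂ) 1 = (p : ℂ) - 1 ∧ (χ₂ : Γ → ℂ) 1 = p) ∨
    (∃ (χ₀ η : IrrCharacter Γ) (n : ℕ), (χ₀ : Γ → ℂ) 1 = p ∧ (η : Γ → ℂ) 1 = n ∧ 2 ≤ n ∧
      ¬ GalFixed Γ p (η : Γ → ℂ) ∧ classInner θ (η : Γ → ℂ) = 1 ∧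
      classInner θ (χ₀ : Γ → ℂ) = 1 ∧
      (∀ j : ℕ, mu p π (η : Γ → ℂ) j = 0 ∨ mu p π (η : Γ → ℂ) j = 1) ∧
      mu p π (η : Γ → ℂ) 0 = 0 ∧ (fam p η).card * n = p - 1 ∧
      ∀ χ : IrrCharacter Γ, classInner θ (χ : Γ → ℂ) ≠ 0 →
        χ = oneIrr Γ ∨ χ = χ₀ ∨ χ ∈ fam p η) := by
  have hp0 : p ≠ 0 := hp.ne_zero
  have hp3 : 3 ≤ p := by
    have := hp.two_le
    omega
  have hpC : (p : ℂ) ≠ 0 := by exact_mod_cast hp0
  -- multiplicities
  choose m hm using fun χ : IrrCharacter Γ => IsCharacter.exists_nat_classInner hθ χ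
  choose E hE using hEig
  -- expansion of θ
  have hexp : θ = ∑ χ : IrrCharacter Γ, (m χ : ℂ) • (χ : Γ → ℂ) := by
    have h := Cfsg.Agent.Lib.Helper3.classFunction_expansion θ (IsCharacter.isClassFunction hθ)
    simp_rw [hm] at h
    exact h
  -- degrees
  have hdeg : ∀ χ : IrrCharacter Γ,
      (χ : Γ → ℂ) 1 = ((∑ j ∈ Finset.range p, E χ j : ℕ) : ℂ) := by
    intro χ
    rw [← sum_mu π hp0 (χ : Γ → ℂ), Nat.cast_sum]
    apply Finset.sum_congr rfl
    intro j _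
    exact hE χ j
  -- budget
  have hbud : ∀ j < p, ∑ χ : IrrCharacter Γ, m χ * E χ j = 2 := by
    intro j _
    have h1 : mu p π θ j = 2 := by
      rw [mu_of_vanish π hp0 θ hθ0 j, hθ1]
      field_simp
    have h2 : mu p π θ j = ∑ χ : IrrCharacter Γ, (m χ : ℂ) * (E χ j : ℂ) := by
      conv_lhs => rw [hexp]
      rw [mu_sum]
      apply Finset.sum_congr rfl
      intro χ _
      rw [mu_smul, hE]
    rw [h2] at h1
    exact_mod_cast h1
  -- the principal character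
  have hone_m : m (oneIrr Γ) = 1 := by
    have h := hm (oneIrr Γ)
    have h' : classInner θ ((oneIrr Γ : IrrCharacter Γ) : Γ → ℂ) = 1 := htriv
    rw [h'] at h
    exact_mod_cast h.symm
  have hone_E : ∀ j, (E (oneIrr Γ) j : ℂ) = if p ∣ j then 1 else 0 := by
    intro j
    rw [← hE]
    exact mu_one π hp0 j
  have hone_0 : E (oneIrr Γ) 0 = 1 := by
    have := hone_E 0
    rw [if_pos (dvd_zero p)] at this
    exact_mod_cast this
  have hone_j : ∀ j, 0 < j → j < p → E (oneIrr Γ) j = 0 := by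
    intro j hj0 hjp
    have := hone_E j
    rw [if_neg (fun h => absurd (Nat.le_of_dvd hj0 h) (by omega))] at this
    exact_mod_cast this
  have hpos : ∀ χ : IrrCharacter Γ, 0 < ∑ j ∈ Finset.range p, E χ j := by
    intro χ
    obtain ⟨n, hn0, hn⟩ := apply_one_pos χ
    have := hdeg χ
    rw [hn] at this
    have h2 : n = ∑ j ∈ Finset.range p, E χ j := by exact_mod_cast this
    omega
  have hlin' : ∀ χ : IrrCharacter Γ, m χ ≠ 0 → ∑ j ∈ Finset.range p, E χ j = 1 →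
      χ = oneIrr Γ := by
    intro χ hmχ hd
    apply hlin χ
    · rw [hm]
      exact_mod_cast hmχ
    · rw [hdeg χ, hd]
      simp
  -- the values of a p-rational character on the powers of π
  have hconst : ∀ f : Γ → ℂ, IsCharacter Γ f → GalFixed Γ p f →
      ∀ j j' : ℕ, 0 < j → j < p → 0 < j' → j' < p → mu p π f j = mu p π f j' := by
    intro f hf hfix j j' hj0 hjp hj0' hjp'
    have hc : ∀ s : ℕ, 0 < s → s < p → f (π ^ s) = f π := by
      intro s hs0 hsp
      exact GalFixed.apply_pow hp hdiv hsq hf hfix π hπ s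
        (fun h => absurd (Nat.le_of_dvd hs0 h) (by omega))
    rw [mu_of_const π hp0 f (f π) hc j, mu_of_const π hp0 f (f π) hc j',
      if_neg (fun h => absurd (Nat.le_of_dvd hj0 h) (by omega)),
      if_neg (fun h => absurd (Nat.le_of_dvd hj0' h) (by omega))]
  -- the dichotomy
  have hR : ∀ χ : IrrCharacter Γ,
      (∀ j j', 0 < j → j < p → 0 < j' → j' < p → E χ j = E χ j') ∨
      (2 ≤ (fam p χ).card ∧ χ ∈ fam p χ ∧
        (∀ ψ ∈ fam p χ, m ψ = m χ ∧ E ψ 0 = E χ 0 ∧ ψ ≠ oneIrr Γ ∧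
          ∑ j ∈ Finset.range p, E ψ j = ∑ j ∈ Finset.range p, E χ j) ∧
        (∀ j j', 0 < j → j < p → 0 < j' → j' < p →
          ∑ ψ ∈ fam p χ, E ψ j = ∑ ψ ∈ fam p χ, E ψ j')) := by
    intro χ
    by_cases hGF : GalFixed Γ p (χ : Γ → ℂ)
    · left
      intro j j' hj0 hjp hj0' hjp'
      have := hconst (χ : Γ → ℂ) (IsIrrCharacter.isCharacter χ.2) hGF j j' hj0 hjp hj0' hjp'
      rw [hE, hE] at this
      exact_mod_cast this
    · right
      refine ⟨two_le_card_fam hGF, mem_fam_self χ, ?_, ?_⟩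
      · intro ψ hψ
        refine ⟨?_, ?_, ?_, ?_⟩
        · have := classInner_of_mem_fam hψ θ hθN (m χ) (hm χ)
          rw [hm] at this
          exact_mod_cast this
        · have := mu_zero_of_mem_fam hψ π (E χ 0) (hE χ 0)
          rw [hE] at this
          exact_mod_cast this
        · intro hψ1
          apply hGF
          obtain ⟨σ, hσ, hψσ⟩ := mem_fam.mp hψ
          have h1 : χ = galConj σ.symm ψ := by
            rw [hψσ, galConj_symm]
          rw [h1, hψ1]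
          intro τ _
          funext g
          show τ (σ.symm 1) = σ.symm 1
          rw [map_one, map_one]
        · have h1 := apply_one_of_mem_fam hψ
          rw [hdeg, hdeg] at h1
          exact_mod_cast h1
      · intro j j' hj0 hjp hj0' hjp'
        have hF : IsCharacter Γ (fun g => ∑ ψ ∈ fam p χ, (ψ : Γ → ℂ) g) := by
          have := isCharacter_finset_sum (fam p χ) (fun ψ : IrrCharacter Γ => (ψ : Γ → ℂ))
            (fun ψ _ => IsIrrCharacter.isCharacter ψ.2)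
          have h2 : (∑ ψ ∈ fam p χ, (ψ : Γ → ℂ)) =
              fun g => ∑ ψ ∈ fam p χ, (ψ : Γ → ℂ) g := by
            funext g
            rw [Finset.sum_apply]
          rwa [h2] at this
        have h3 := hconst _ hF (galFixed_sum_fam χ) j j' hj0 hjp hj0' hjp'
        have h4 : ∀ i : ℕ, mu p π (fun g => ∑ ψ ∈ fam p χ, (ψ : Γ → ℂ) g) i =
            ((∑ ψ ∈ fam p χ, E ψ i : ℕ) : ℂ) := by
          intro i
          have h5 : (fun g => ∑ ψ ∈ fam p χ, (ψ : Γ → ℂ) g) =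
              ∑ ψ ∈ fam p χ, (ψ : Γ → ℂ) := by
            funext g
            rw [Finset.sum_apply]
          rw [h5, mu_sum, Nat.cast_sum]
          apply Finset.sum_congr rfl
          intro ψ _
          exact hE ψ i
        rw [h4, h4] at h3
        exact_mod_cast h3
  -- the combinatorial core
  have hcore := Cfsg.Agent.Lib.Helper55.W2p.budget_core p hp3 m E (oneIrr Γ) (fam p) hbud
    hone_m hone_0 hone_j hpos hlin' hR
  -- expansion helper
  have hone_coe : ((oneIrr Γ : IrrCharacter Γ) : Γ → ℂ) = fun _ => 1 := rfl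
  rcases hcore with ⟨χ, hχ1, hmχ, hoth⟩ | ⟨χ₀, χ₁, h01, h11, h0ne1, hm0, hm1, hd0, hd1, hoth⟩ |
    ⟨χ₀, η, h01, hη1, hη0, hm0, hd0, hmη, hEle, hE0, hcard, hcn, hall⟩
  · left
    refine ⟨χ, ?_⟩
    rw [hexp]
    have hsub : ∑ ψ : IrrCharacter Γ, (m ψ : ℂ) • (ψ : Γ → ℂ) =
        ∑ ψ ∈ ({oneIrr Γ, χ} : Finset (IrrCharacter Γ)), (m ψ : ℂ) • (ψ : Γ → ℂ) := by
      symm
      apply Finset.sum_subset (Finset.subset_univ _)
      intro ψ _ hψ
      have h1 : ψ ≠ oneIrr Γ := fun h => hψ (by rw [h]; simp)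
      have h2 : ψ ≠ χ := fun h => hψ (by rw [h]; simp)
      rw [hoth ψ h1 h2]
      simp
    rw [hsub, Finset.sum_pair (Ne.symm hχ1), hone_m, hmχ]
    funext g
    simp [hone_coe]
  · right; left
    refine ⟨χ₁, χ₀, ?_, ?_, ?_⟩
    · rw [hexp]
      have hsub : ∑ ψ : IrrCharacter Γ, (m ψ : ℂ) • (ψ : Γ → ℂ) =
          ∑ ψ ∈ ({oneIrr Γ, χ₁, χ₀} : Finset (IrrCharacter Γ)), (m ψ : ℂ) • (ψ : Γ → ℂ) := by
        symm
        apply Finset.sum_subset (Finset.subset_univ _)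
        intro ψ _ hψ
        have h1 : ψ ≠ oneIrr Γ := fun h => hψ (by rw [h]; simp)
        have h2 : ψ ≠ χ₀ := fun h => hψ (by rw [h]; simp)
        have h3 : ψ ≠ χ₁ := fun h => hψ (by rw [h]; simp)
        rw [hoth ψ h1 h2 h3]
        simp
      rw [hsub, Finset.sum_insert (by simp [Ne.symm h11, Ne.symm h01]),
        Finset.sum_pair (Ne.symm h0ne1), hone_m, hm0, hm1]
      funext g
      simp [hone_coe, add_assoc]
    · rw [hdeg, hd1, Nat.cast_sub hp.one_le]
      simp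
    · rw [hdeg, hd0]
  · right; right
    refine ⟨χ₀, η, ∑ j ∈ Finset.range p, E η j, ?_, hdeg η, ?_, ?_, ?_, ?_, ?_, ?_, hcn, ?_⟩
    · rw [hdeg, hd0]
    · -- 2 ≤ n
      have h1 := hpos η
      by_contra hlt
      have h2 : ∑ j ∈ Finset.range p, E η j = 1 := by omega
      exact hη1 (hlin' η (by rw [hmη]; exact one_ne_zero) h2)
    · -- not p-rational
      intro hGF
      have := card_fam_of_galFixed (p := p) hGF
      omega
    · rw [hm, hmη]; simp
    · rw [hm, hm0]; simp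
    · intro j
      rw [mu_mod π hp0, hE]
      have := hEle (j % p) (Nat.mod_lt j hp.pos)
      rcases Nat.eq_zero_or_pos (E η (j % p)) with h | h
      · left; rw [h]; simp
      · right
        have : E η (j % p) = 1 := by omega
        rw [this]; simp
    · rw [hE, hE0]; simp
    · intro χ hχ
      apply hall χ
      intro h0
      apply hχ
      rw [hm, h0]
      simp
end main

end Cfsg.Agent.Lib.Helper12.W2p
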