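import Mathlib
import Cfsg.Agent.Lib.Helper12.W2pDefs
import Cfsg.Agent.Lib.Helper12.W2pMu
import Cfsg.Agent.Lib.Helper3.PermChar
import Cfsg.Agent.Lib.Helper77.W2pEig
import Cfsg.Agent.Lib.Helper78.CharOrtho

/-!
# Wielandt's theorem on degree `2p` (S0720): the permutation character in the context `Ctx`
(helper12)
-/

set_option autoImplicit false
set_option linter.unusedSectionVars false

namespace Cfsg.Agent.Lib.Helper12.W2p

open Cfsg Cfsg.Agent.Lib.Helper78
open scoped ComplexConjugate

variable {α : Type*} [Fintype α] [DecidableEq α] {p : ℕ}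

theorem isCharacter_permChar (G : Subgroup (Equiv.Perm α)) : IsCharacter ↥G (permChar G) :=
  Cfsg.Agent.Lib.Helper3.isCharacter_card_fixedBy (G := ↥G) (X := α)

theorem permChar_nat (G : Subgroup (Equiv.Perm α)) (g : ↥G) : ∃ n : ℕ, permChar G g = n :=
  ⟨_, rfl⟩

theorem permChar_one (G : Subgroup (Equiv.Perm α)) :
    permChar G 1 = (Fintype.card α : ℂ) := by
  unfold permChar
  have h : MulAction.fixedBy α (1 : ↥G) = Set.univ := by
    ext x
    simp [MulAction.mem_fixedBy]
  rw [h, Nat.card_coe_set_eq, Set.ncard_univ, Nat.card_eq_fintype_card]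

theorem permChar_eq_zero_of_fpf (G : Subgroup (Equiv.Perm α)) (g : ↥G)
    (hg : ∀ x : α, g • x ≠ x) : permChar G g = 0 := by
  unfold permChar
  have : IsEmpty (MulAction.fixedBy α g) := ⟨fun x => hg x.1 x.2⟩
  rw [Nat.card_of_isEmpty]
  simp

/-- in the context, every `p`-singular element is fixed-point-free -/
theorem Ctx.fpf_of_dvd {G : Subgroup (Equiv.Perm α)} (h : Ctx p G) (g : ↥G)
    (hg : p ∣ orderOf g) (x : α) : g • x ≠ x := by
  intro hx
  obtain ⟨k, hk⟩ := hg
  have hk0 : k ≠ 0 := by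
    rintro rfl
    rw [mul_zero] at hk
    have hfin : IsOfFinOrder g := isOfFinOrder_of_finite g
    exact hfin.orderOf_pos.ne' hk
  have hord : orderOf (g ^ k) = p := by
    rw [orderOf_pow' g hk0, hk, Nat.gcd_eq_right ⟨p, mul_comm p k⟩,
      Nat.mul_div_cancel _ (Nat.pos_of_ne_zero hk0)]
  have hord' : orderOf ((g ^ k : ↥G) : Equiv.Perm α) = p := by
    rw [Subgroup.orderOf_coe, hord]
  have hfix : (g ^ k) • x = x := by
    have : ∀ m : ℕ, (g ^ m) • x = x := by
      intro m
      induction m with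
      | zero => rw [pow_zero, one_smul]
      | succ m ih => rw [pow_succ, mul_smul, hx, ih]
    exact this k
  exact h.fpf _ (g ^ k).2 hord' x hfix

theorem Ctx.permChar_sing {G : Subgroup (Equiv.Perm α)} (h : Ctx p G) (g : ↥G)
    (hg : p ∣ orderOf g) : permChar G g = 0 :=
  permChar_eq_zero_of_fpf G g (h.fpf_of_dvd g hg)

theorem Ctx.permChar_pow {G : Subgroup (Equiv.Perm α)} (h : Ctx p G) (π : ↥G)
    (hπ : orderOf π = p) (s : ℕ) (hs0 : 0 < s) (hsp : s < p) : permChar G (π ^ s) = 0 := by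
  apply h.permChar_sing
  have hcop : Nat.Coprime p s :=
    (Nat.Prime.coprime_iff_not_dvd h.hp).mpr (fun hd => absurd (Nat.le_of_dvd hs0 hd) (by omega))
  have : orderOf (π ^ s) = p := by
    rw [Nat.Coprime.orderOf_pow (by rw [hπ]; exact hcop), hπ]
  rw [this]

theorem Ctx.isPretransitive {G : Subgroup (Equiv.Perm α)} (h : Ctx p G) :
    MulAction.IsPretransitive G α :=
  haveI := h.prim
  inferInstance

theorem Ctx.classInner_permChar_one {G : Subgroup (Equiv.Perm α)} [Fintype ↥G] (h : Ctx p G) :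
    classInner (permChar G) (fun _ : ↥G => (1 : ℂ)) = 1 := by
  have h1 := Cfsg.Agent.Lib.Helper3.classInner_card_fixedBy_one (G := ↥G) (X := α)
  have h2 : Nat.card (MulAction.orbitRel.Quotient ↥G α) = 1 := by
    haveI := h.isPretransitive
    have hne : Nonempty α := by
      rw [← Fintype.card_pos_iff, h.hα]
      have := h.hp.pos
      omega
    haveI : Subsingleton (MulAction.orbitRel.Quotient ↥G α) := by
      constructor
      intro a b
      induction a using Quotient.inductionOn' with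
      | h a =>
        induction b using Quotient.inductionOn' with
        | h b =>
          apply Quotient.sound'
          exact MulAction.exists_smul_eq ↥G b a
    haveI : Nonempty (MulAction.orbitRel.Quotient ↥G α) := ⟨Quotient.mk'' hne.some⟩
    exact Nat.card_unique
  unfold permChar
  rw [h1, h2, Nat.cast_one]

/-- `mu` of a character of a representation is the dimension of an eigenspace -/
theorem mu_character {Γ : Type*} [Group Γ] {n : ℕ} (ρ : Representation ℂ Γ (Fin n → ℂ)) (π : Γ)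
    (hp : 0 < p) (hπ : π ^ p = 1) (j : ℕ) :
    mu p π ρ.character j =
      (Module.finrank ℂ (Module.End.eigenspace (ρ π) ((zt p) ^ j)) : ℂ) := by
  have hz : (zt p) ^ p = 1 := (zt_isPrimitiveRoot hp.ne').pow_eq_one
  have hω : ((zt p) ^ j) ^ p = 1 := by rw [← pow_mul, mul_comm, pow_mul, hz, one_pow]
  rw [Cfsg.Agent.Lib.Helper77.finrank_eigenspace_eq ρ π p hp hπ _ hω]
  unfold mu
  congr 1
  apply Finset.sum_congr rfl
  intro s _
  rw [← inv_pow, ← pow_mul]

theorem mu_irr_nat {Γ : Type*} [Group Γ] (π : Γ) (hp : 0 < p) (hπ : π ^ p = 1)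
    (χ : IrrCharacter Γ) (j : ℕ) : ∃ n : ℕ, mu p π (χ : Γ → ℂ) j = n := by
  obtain ⟨n, ρ, -, hρ⟩ := χ.2
  rw [← hρ, mu_character ρ π hp hπ j]
  exact ⟨_, rfl⟩

/-- multiplicity-freeness of the eigenvalues, from the `mu` data -/
theorem finrank_eigenspace_le_one {Γ : Type*} [Group Γ] {n : ℕ}
    (ρ : Representation ℂ Γ (Fin n → ℂ)) (π : Γ) (hp : 0 < p) (hπ : π ^ p = 1)
    (hmu : ∀ j : ℕ, mu p π ρ.character j = 0 ∨ mu p π ρ.character j = 1) (ω : ℂ) :
    Module.finrank ℂ (Module.End.eigenspace (ρ π) ω) ≤ 1 := by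
  by_cases hbot : Module.End.eigenspace (ρ π) ω = ⊥
  · rw [hbot, finrank_bot]
    exact Nat.zero_le 1
  · obtain ⟨v, hv, hv0⟩ := (Submodule.ne_bot_iff _).mp hbot
    rw [Module.End.mem_eigenspace_iff] at hv
    have hpow : ∀ s : ℕ, ((ρ π) ^ s) v = ω ^ s • v := by
      intro s
      induction s with
      | zero => simp
      | succ s ih =>
        rw [pow_succ', Module.End.mul_apply, ih, map_smul, hv, smul_smul, pow_succ]
    have h1 : (ρ π) ^ p = 1 := by rw [← map_pow, hπ, map_one]
    have h2 := hpow p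
    rw [h1, Module.End.one_apply] at h2
    have hω : ω ^ p = 1 := by
      have h3 : (ω ^ p - 1) • v = 0 := by rw [sub_smul, one_smul, ← h2, sub_self]
      rcases smul_eq_zero.mp h3 with h4 | h4
      · exact sub_eq_zero.mp h4
      · exact absurd h4 hv0
    haveI : NeZero p := ⟨hp.ne'⟩
    obtain ⟨j, -, hj⟩ := (zt_isPrimitiveRoot hp.ne').eq_pow_of_pow_eq_one hω
    have h5 := mu_character ρ π hp hπ j
    rw [hj] at h5
    rcases hmu j with h6 | h6
    · rw [h6] at h5
      have : Module.finrank ℂ (Module.End.eigenspace (ρ π) ω) = 0 := by exact_mod_cast h5.symm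
      omega
    · rw [h6] at h5
      have : Module.finrank ℂ (Module.End.eigenspace (ρ π) ω) = 1 := by exact_mod_cast h5.symm
      omega

theorem eigenspace_one_eq_bot {Γ : Type*} [Group Γ] {n : ℕ}
    (ρ : Representation ℂ Γ (Fin n → ℂ)) (π : Γ) (hp : 0 < p) (hπ : π ^ p = 1)
    (hmu : mu p π ρ.character 0 = 0) : Module.End.eigenspace (ρ π) 1 = ⊥ := by
  have h5 := mu_character ρ π hp hπ 0
  rw [pow_zero, hmu] at h5
  have : Module.finrank ℂ (Module.End.eigenspace (ρ π) 1) = 0 := by exact_mod_cast h5.symm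
  exact Submodule.finrank_eq_zero.mp this

end Cfsg.Agent.Lib.Helper12.W2p
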