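import Mathlib
import Cfsg.Agent.Lib.Helper12.W2pBudget
import Cfsg.Agent.Lib.Helper12.W2pPerm
import Cfsg.Agent.Lib.Helper78.W2pBlk1
import Cfsg.Agent.Lib.Helper73.W2pBlk2
import Cfsg.Agent.Lib.Helper29.W2pLin
import Cfsg.Agent.Lib.Helper29.W2pPsq
import Cfsg.Agent.Lib.Helper75.PQRDegree

/-!
# Wielandt's theorem on degree `2p` (S0720): the constituents of the permutation character of a
primitive, not doubly transitive group of degree `2p` (helper12)
-/

set_option autoImplicit false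
set_option linter.unusedSectionVars false

namespace Cfsg.Agent.Lib.Helper12.W2p

open Cfsg Cfsg.Agent.Lib.Helper78 Cfsg.Agent.Lib.Helper3.DefOneGen
open scoped ComplexConjugate

variable {α : Type*} [Fintype α] [DecidableEq α] {p : ℕ}

/-- `θ = 1 + χ` forces double transitivity -/
theorem two_trans_of_eq_one_add {G : Subgroup (Equiv.Perm α)} [Fintype ↥G] (h : Ctx p G)
    (χ : IrrCharacter ↥G) (hχ : permChar G = fun g => 1 + (χ : ↥G → ℂ) g) :
    MulAction.IsMultiplyPretransitive G α 2 := by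
  haveI := h.isPretransitive
  have hone : IsIrrCharacter ↥G (fun _ : ↥G => (1 : ℂ)) := isIrrCharacter_one
  have hsum : permChar G = (fun _ : ↥G => (1 : ℂ)) + (χ : ↥G → ℂ) := by
    rw [hχ]; rfl
  have h1 := h.classInner_permChar_one
  rw [hsum, classInner_add_left, classInner_irr_self hone] at h1
  have h2 : classInner (χ : ↥G → ℂ) (fun _ : ↥G => (1 : ℂ)) = 0 := by
    linear_combination h1
  have hne : (χ : ↥G → ℂ) ≠ fun _ : ↥G => (1 : ℂ) := by
    intro heq
    rw [heq, classInner_irr_self hone] at h2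
    exact one_ne_zero h2
  have h3 : classInner (fun _ : ↥G => (1 : ℂ)) (χ : ↥G → ℂ) = 0 :=
    classInner_irr_ne hone χ.2 (Ne.symm hne)
  have h4 : classInner (permChar G) (permChar G) = 2 := by
    rw [hsum, classInner_add_left, classInner_add_right, classInner_add_right,
      classInner_irr_self hone, classInner_irr_self χ.2, h2, h3]
    norm_num
  have h5 := Cfsg.Agent.Lib.Helper3.classInner_card_fixedBy_self (G := ↥G) (X := α)
  have h6 : Nat.card (MulAction.orbitRel.Quotient ↥G (α × α)) = 2 := by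
    have : classInner (permChar G) (permChar G) =
        (Nat.card (MulAction.orbitRel.Quotient ↥G (α × α)) : ℂ) := h5
    rw [h4] at this
    exact_mod_cast this.symm
  have hcard : 2 ≤ Nat.card α := by
    rw [Nat.card_eq_fintype_card, h.hα]
    have := h.hp.pos
    omega
  exact (Cfsg.Agent.Lib.Helper3.is_two_pretransitive_iff_card_orbits (G := ↥G) (X := α)
    hcard).mpr h6

theorem alpha_or_beta {G : Subgroup (Equiv.Perm α)} [Fintype ↥G] (h : Ctx p G)
    (h2 : ¬ MulAction.IsMultiplyPretransitive G α 2) (π : ↥G) (hπ : orderOf π = p) :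
    (∃ χ₁ χ₂ : ↥G → ℂ, IsIrrCharacter ↥G χ₁ ∧ IsIrrCharacter ↥G χ₂ ∧
      permChar G = (fun g => 1 + χ₁ g + χ₂ g) ∧ χ₁ 1 = (p : ℂ) - 1 ∧ χ₂ 1 = p) ∨
    (∃ (n : ℕ) (ρ : Representation ℂ ↥G (Fin n → ℂ)), ρ.IsIrreducible ∧ 2 ≤ n ∧
      classInner (permChar G) ρ.character = 1 ∧
      (Subgroup.centralizer (Subgroup.zpowers π : Set ↥G)).relIndex
        (Subgroup.normalizer (Subgroup.zpowers π : Set ↥G)) = n ∧
      (∀ ω : ℂ, Module.finrank ℂ (Module.End.eigenspace (ρ π) ω) ≤ 1) ∧
      Module.End.eigenspace (ρ π) 1 = ⊥) := by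
  have hp := h.hp
  have hp2 := h.hp2
  haveI : Fact p.Prime := ⟨hp⟩
  have hπp : π ^ p = 1 := by rw [← hπ]; exact pow_orderOf_eq_one π
  have hdiv : p ∣ Nat.card ↥G := by rw [← hπ]; exact orderOf_dvd_natCard π
  have hsq : ¬ p ^ 2 ∣ Nat.card ↥G := Cfsg.Agent.Lib.Helper29.W2p.not_sq_dvd_card h
  have hθ1 : permChar G 1 = 2 * (p : ℂ) := by
    rw [permChar_one, h.hα]; push_cast; ring
  have hnotprime : ¬ (Fintype.card α).Prime := by
    rw [h.hα]
    exact Nat.not_prime_mul (by norm_num) (hp.one_lt.ne')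
  have hlin : ∀ χ : IrrCharacter ↥G, classInner (permChar G) (χ : ↥G → ℂ) ≠ 0 →
      (χ : ↥G → ℂ) 1 = 1 → χ = oneIrr ↥G := by
    intro χ hm h1
    apply Subtype.ext
    exact Cfsg.Agent.Lib.Helper29.W2p.eq_one_of_linear_constituent h.prim hnotprime χ hm h1
  have hpre := alpha_or_beta_pre hp hp2 hdiv hsq π hπp (permChar G) (isCharacter_permChar G) hθ1
    (fun s hs0 hsp => h.permChar_pow π hπ s hs0 hsp) (permChar_nat G) h.classInner_permChar_one
    hlin (fun χ j => mu_irr_nat π hp.pos hπp χ j)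
  rcases hpre with ⟨χ, hχ⟩ | ⟨χ₁, χ₂, hsum, hd1, hd2⟩ |
    ⟨χ₀, η, n, hχ₀, hη, hn, hGF, hmη, hmχ₀, hmu, hmu0, hcard, hall⟩
  · exact absurd (two_trans_of_eq_one_add h χ hχ) h2
  · left
    exact ⟨χ₁, χ₂, χ₁.2, χ₂.2, hsum, hd1, hd2⟩
  · right
    obtain ⟨n', ρ, hirr, hρ⟩ := η.2
    -- the degree
    have hn' : n' = n := by
      have h1 : ρ.character 1 = (n' : ℂ) := by
        rw [Representation.char_one]
        simp
      rw [hρ, hη] at h1
      exact_mod_cast h1.symm
    subst hn'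
    obtain ⟨M, hM⟩ := Cfsg.Agent.Lib.Helper75.exists_isPModular p hp
    have ht : 2 ≤ (fam p η).card := two_le_card_fam hGF
    have hnp : n' < p := by
      have h1 : 1 ≤ p := hp.one_le
      have h3 : n' ≤ (fam p η).card * n' := Nat.le_mul_of_pos_left _ (by omega)
      omega
    -- the raw forms
    have hGF' : ∃ σ : ℂ ≃+* ℂ,
        σ (Complex.exp (2 * Real.pi * Complex.I /
            ((Nat.card ↥G / p ^ (Nat.card ↥G).factorization p : ℕ)))) =
          Complex.exp (2 * Real.pi * Complex.I /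
            ((Nat.card ↥G / p ^ (Nat.card ↥G).factorization p : ℕ))) ∧
        (fun g => σ ((η : ↥G → ℂ) g)) ≠ (η : ↥G → ℂ) := by
      unfold GalFixed at hGF
      push Not at hGF
      exact hGF
    have hall' : ∀ χ : IrrCharacter ↥G, classInner (permChar G) (χ : ↥G → ℂ) ≠ 0 →
        (χ : ↥G → ℂ) = (fun _ => 1) ∨ χ = χ₀ ∨ ∃ σ : ℂ ≃+* ℂ,
          σ (Complex.exp (2 * Real.pi * Complex.I /
              ((Nat.card ↥G / p ^ (Nat.card ↥G).factorization p : ℕ)))) =
            Complex.exp (2 * Real.pi * Complex.I /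
              ((Nat.card ↥G / p ^ (Nat.card ↥G).factorization p : ℕ))) ∧
          (χ : ↥G → ℂ) = fun g => σ ((η : ↥G → ℂ) g) := by
      intro χ hχ
      rcases hall χ hχ with h1 | h1 | h1
      · left; rw [h1]; rfl
      · right; left; exact h1
      · right; right
        obtain ⟨σ, hσ, hχσ⟩ := mem_fam.mp h1
        exact ⟨σ, hσ, by rw [hχσ]; rfl⟩
    have hB := Cfsg.Agent.Lib.Helper78.W2p.mem_principalBlock p M hM hdiv hsq (permChar G)
      (fun g hg => h.permChar_sing g hg) h.classInner_permChar_one χ₀ η hχ₀ n' hη (by omega) hnp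
      hmη hGF' hall'
    have hsum : ∑ s ∈ Finset.range p, (η : ↥G → ℂ) (π ^ s) = 0 := by
      unfold mu at hmu0
      have hpC : (p : ℂ) ≠ 0 := by exact_mod_cast hp.ne_zero
      rcases mul_eq_zero.mp hmu0 with h1 | h1
      · exact absurd (inv_eq_zero.mp h1) hpC
      · rw [← h1]
        apply Finset.sum_congr rfl
        intro s _
        rw [zero_mul, pow_zero, one_mul]
    have hrel := Cfsg.Agent.Lib.Helper73.W2p.relIndex_eq_of_mem_principalBlock p M hM hp2 hsq π
      hπ η hB n' (fam p η).card hη hn ht hcard hsum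
    refine ⟨n', ρ, hirr, hn, ?_, hrel, ?_, ?_⟩
    · rw [hρ]; exact hmη
    · intro ω
      apply finrank_eigenspace_le_one ρ π hp.pos hπp
      rw [hρ]
      exact hmu
    · apply eigenspace_one_eq_bot ρ π hp.pos hπp
      rw [hρ]
      exact hmu0

end Cfsg.Agent.Lib.Helper12.W2p
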