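import Mathlib
import Cfsg.Prelude.Def_Characters
import Cfsg.Agent.Lib.Helper75.GaloisPow
import Cfsg.Agent.Lib.Helper25.Rational
import Cfsg.Agent.Lib.Helper78.CharOrtho
import Cfsg.Agent.Lib.Helper78.CharMore
import Cfsg.Agent.Lib.Helper76.Galois

/-!
# S4707 module [INT] (helper12, for helper92)

If `θ = 1 + χ₁ + χ₂` with `χ₁, χ₂` irreducible of different degrees and `θ (g ^ k) = θ g`
for all `k` coprime to `|G|`, then `χ₁` and `χ₂` are integer valued.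
-/

set_option autoImplicit false

namespace Cfsg.Agent.Lib.Helper12.S4707

open Cfsg

/-- power maps coprime to `|G|` fix `χ₁` and `χ₂`. -/
theorem pow_eq_of_decomp {G : Type*} [Group G] [Fintype G] (θ χ₁ χ₂ : G → ℂ)
    (h₁ : IsIrrCharacter G χ₁) (h₂ : IsIrrCharacter G χ₂)
    (hθ : θ = fun g => 1 + χ₁ g + χ₂ g)
    (hpow : ∀ k : ℕ, k.Coprime (Nat.card G) → ∀ g : G, θ (g ^ k) = θ g)
    (hd : χ₁ 1 ≠ χ₂ 1) (k : ℕ) (hk : k.Coprime (Nat.card G)) (g : G) :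
    χ₁ (g ^ k) = χ₁ g ∧ χ₂ (g ^ k) = χ₂ g := by
  classical
  set ψ₁ : G → ℂ := fun g => χ₁ (g ^ k) with hψ₁
  set ψ₂ : G → ℂ := fun g => χ₂ (g ^ k) with hψ₂
  have i₁ : IsIrrCharacter G ψ₁ := Cfsg.Agent.Lib.Helper75.isIrrCharacter_pow h₁ k hk
  have i₂ : IsIrrCharacter G ψ₂ := Cfsg.Agent.Lib.Helper75.isIrrCharacter_pow h₂ k hk
  have hsum : ψ₁ + ψ₂ = χ₁ + χ₂ := by
    funext x
    have := hpow k hk x
    rw [hθ] at this
    simp only at this
    simp only [Pi.add_apply, hψ₁, hψ₂]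
    linear_combination this
  have hin : classInner (ψ₁ + ψ₂) ψ₁ = classInner (χ₁ + χ₂) ψ₁ := by rw [hsum]
  rw [Cfsg.Agent.Lib.Helper78.classInner_add_left, Cfsg.Agent.Lib.Helper78.classInner_add_left,
    Cfsg.Agent.Lib.Helper78.classInner_irr_self i₁,
    Cfsg.Agent.Lib.Helper78.classInner_irr i₂ i₁,
    Cfsg.Agent.Lib.Helper78.classInner_irr h₁ i₁,
    Cfsg.Agent.Lib.Helper78.classInner_irr h₂ i₁] at hin
  have hne2 : χ₂ ≠ ψ₁ := by
    intro h
    apply hd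
    have := congrFun h 1
    simp only [hψ₁, one_pow] at this
    exact this.symm
  rw [if_neg hne2, add_zero] at hin
  have h1eq : χ₁ = ψ₁ := by
    by_contra hne
    rw [if_neg hne] at hin
    by_cases h : ψ₂ = ψ₁
    · rw [if_pos h] at hin
      norm_num at hin
    · rw [if_neg h] at hin
      norm_num at hin
  have h2eq : χ₂ = ψ₂ := by
    funext x
    have := congrFun hsum x
    simp only [Pi.add_apply] at this
    rw [← h1eq] at this
    exact (add_left_cancel this).symm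
  exact ⟨(congrFun h1eq g).symm, (congrFun h2eq g).symm⟩

/-- a character fixed by all power maps coprime to `|G|` is integer valued. -/
theorem int_valued_of_pow_fixed {G : Type*} [Group G] [Fintype G] (χ : G → ℂ)
    (hχ : IsCharacter G χ)
    (hpow : ∀ k : ℕ, k.Coprime (Nat.card G) → ∀ g : G, χ (g ^ k) = χ g) (g : G) :
    ∃ z : ℤ, χ g = z := by
  classical
  set m := Nat.card G with hm_def
  have hm : 0 < m := Nat.card_pos
  have hgm : g ^ m = 1 := pow_card_eq_one'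
  let ζ : ℂ := Complex.exp (2 * Real.pi * Complex.I / m)
  have hζ : IsPrimitiveRoot ζ m := Complex.isPrimitiveRoot_exp m hm.ne'
  have hint : IsIntegral ℤ (χ g) := Cfsg.Agent.Lib.Helper78.IsCharacter.isIntegral hχ g
  obtain ⟨n, ρ, rfl⟩ := hχ
  have hmem : ρ.character g ∈ IntermediateField.adjoin ℚ ({ζ} : Set ℂ) :=
    Cfsg.Agent.Lib.Helper76.character_mem_adjoin ρ m hm ζ hζ g hgm
  have hfix : ∀ k : ℕ, k.Coprime m → ∀ σ : ℂ ≃+* ℂ, (∀ μ : ℂ, μ ^ m = 1 → σ μ = μ ^ k) →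
      σ (ρ.character g) = ρ.character g := by
    intro k hk σ hσ
    obtain ⟨μ, hμ, hp⟩ := Cfsg.Agent.Lib.Helper76.exists_character_pow_eq_sum ρ g m hm hgm
    have h1 := hp 1
    rw [pow_one] at h1
    have h2 : σ (ρ.character g) = ρ.character (g ^ k) := by
      rw [h1, hp k, map_sum]
      apply Finset.sum_congr rfl
      intro i _
      rw [pow_one, hσ (μ i) (hμ i)]
    rw [h2]
    exact hpow k hk g
  obtain ⟨q, hq⟩ := Cfsg.Agent.Lib.Helper25.exists_rat_of_fixed' m hm ζ hζ _ hmem hfix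
  rw [hq] at hint ⊢
  have h1 : IsIntegral ℤ q := by
    have hinj : Function.Injective (algebraMap ℚ ℂ) := (algebraMap ℚ ℂ).injective
    rw [← isIntegral_algebraMap_iff hinj]
    simpa using hint
  obtain ⟨z, hz⟩ := IsIntegrallyClosed.algebraMap_eq_of_integral h1
  refine ⟨z, ?_⟩
  rw [← hz]
  simp

/-- **[INT]** -/
theorem int_valued_of_decomp {G : Type*} [Group G] [Fintype G] (θ χ₁ χ₂ : G → ℂ)
    (h₁ : IsIrrCharacter G χ₁) (h₂ : IsIrrCharacter G χ₂)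
    (hθ : θ = fun g => 1 + χ₁ g + χ₂ g)
    (hpow : ∀ k : ℕ, k.Coprime (Nat.card G) → ∀ g : G, θ (g ^ k) = θ g)
    (hd : χ₁ 1 ≠ χ₂ 1) (hd1 : χ₁ 1 ≠ 1) (hd2 : χ₂ 1 ≠ 1) :
    (∀ g, ∃ z : ℤ, χ₁ g = z) ∧ (∀ g, ∃ z : ℤ, χ₂ g = z) := by
  have key := pow_eq_of_decomp θ χ₁ χ₂ h₁ h₂ hθ hpow hd
  refine ⟨fun g => ?_, fun g => ?_⟩
  · exact int_valued_of_pow_fixed χ₁ (Cfsg.Agent.Lib.Helper78.IsIrrCharacter.isCharacter h₁)
      (fun k hk x => (key k hk x).1) g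
  · exact int_valued_of_pow_fixed χ₂ (Cfsg.Agent.Lib.Helper78.IsIrrCharacter.isCharacter h₂)
      (fun k hk x => (key k hk x).2) g

end Cfsg.Agent.Lib.Helper12.S4707
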