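import Mathlib
import Cfsg.Agent.Lib.Helper12.W2pGlue
import Cfsg.Agent.Lib.Helper55.W2pIIB
import Cfsg.Agent.Lib.Helper11.W2pIIC
import Cfsg.Agent.Lib.Helper11.W2pSign
import Cfsg.Agent.Lib.Helper67.W2pJor
import Cfsg.Agent.Lib.Helper29.W2pIIA
import Cfsg.Agent.Lib.Helper29.W2pW
import Cfsg.Agent.Lib.Helper77.W2pRank3
import Cfsg.Agent.Lib.Helper92.W2pFix
import Cfsg.Agent.Lib.Helper89.W2pDeg4
import Cfsg.Agent.Lib.Helper89.W2pTrans
import Cfsg.Agent.Lib.Helper48.W2pRep
import Cfsg.Agent.S0707
import Cfsg.Agent.S0719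

/-!
# Wielandt's theorem on primitive groups of degree `2p` (S0720): final assembly (helper12)
-/

set_option autoImplicit false
set_option linter.unusedSectionVars false

namespace Cfsg.Agent.Lib.Helper12.W2p

open Cfsg

variable {α : Type*} [Fintype α] [DecidableEq α] {p : ℕ}

/-- two distinct point stabilizers generate a primitive group of non-prime degree -/
theorem stabilizer_sup_eq_top {G : Subgroup (Equiv.Perm α)} (h : Ctx p G) {a b : α}
    (hab : b ≠ a) : MulAction.stabilizer ↥G a ⊔ MulAction.stabilizer ↥G b = ⊤ := by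
  haveI := h.prim
  have hnt : Nontrivial α := ⟨⟨b, a, hab⟩⟩
  have hca := MulAction.IsPreprimitive.isCoatom_stabilizer_of_isPreprimitive (G := ↥G) a
  have hcb := MulAction.IsPreprimitive.isCoatom_stabilizer_of_isPreprimitive (G := ↥G) b
  have hnp : ¬ (Nat.card α).Prime := by
    rw [Nat.card_eq_fintype_card, h.hα]
    exact Nat.not_prime_mul (by norm_num) (h.hp.one_lt.ne')
  have hne := Cfsg.Agent.S0707.result G (Or.inl hnp) hab.symm
  by_contra hsup
  have h1 : MulAction.stabilizer ↥G a ⊔ MulAction.stabilizer ↥G b = MulAction.stabilizer ↥G a := by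
    by_contra h2
    exact hsup (hca.2 _ (lt_of_le_of_ne le_sup_left (Ne.symm h2)))
  have h3 : MulAction.stabilizer ↥G b ≤ MulAction.stabilizer ↥G a := by
    rw [← h1]; exact le_sup_right
  rcases eq_or_lt_of_le h3 with h4 | h4
  · exact hne h4.symm
  · exact hca.1 (hcb.2 _ h4)

/-- case (I) is impossible in the presence of the representation of alternative (β') -/
theorem caseI_false {G : Subgroup (Equiv.Perm α)} [Fintype ↥G] (h : Ctx p G) (π : ↥G)
    (hπ : orderOf π = p) (a : α) (hI : CaseI G π a)
    (n : ℕ) (ρ : Representation ℂ ↥G (Fin n → ℂ)) (hirr : ρ.IsIrreducible) (hn : 2 ≤ n)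
    (hm : classInner (permChar G) ρ.character = 1)
    (hrel : (Subgroup.centralizer (Subgroup.zpowers π : Set ↥G)).relIndex
        (Subgroup.normalizer (Subgroup.zpowers π : Set ↥G)) = n)
    (hmult : ∀ ω : ℂ, Module.finrank ℂ (Module.End.eigenspace (ρ π) ω) ≤ 1)
    (h1 : Module.End.eigenspace (ρ π) 1 = ⊥) : False := by
  obtain ⟨w, b, k, hwa, hwb, hba, hwk, hkd⟩ :=
    Cfsg.Agent.Lib.Helper29.W2p.exists_w h π hπ a n hrel hI
  obtain ⟨v, hv⟩ := Cfsg.Agent.Lib.Helper92.W2p.exists_fixed_vectors h.isPretransitive ρ hirr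
    (by rw [hm]; exact one_ne_zero)
  have hπp : π ^ p = 1 := by rw [← hπ]; exact pow_orderOf_eq_one π
  refine Cfsg.Agent.Lib.Helper48.no_rep hn ρ hirr (MulAction.stabilizer ↥G a)
    (MulAction.stabilizer ↥G b) (stabilizer_sup_eq_top h hba) (v a) (v b) (hv a).1 (hv b).1
    ?_ ?_ w π ?_ ?_ h.hp hπp k hwk hkd hmult h1
  · intro g hg
    rw [(hv a).2 g, MulAction.mem_stabilizer_iff.mp hg]
  · intro g hg
    rw [(hv b).2 g, MulAction.mem_stabilizer_iff.mp hg]
  · exact MulAction.mem_stabilizer_iff.mpr hwa
  · exact MulAction.mem_stabilizer_iff.mpr hwb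

/-- case (II) produces a proper primitive subgroup -/
theorem caseII_exists_lt {G : Subgroup (Equiv.Perm α)} (h : Ctx p G) (π : ↥G)
    (hπ : orderOf π = p) (a : α) (hII : ¬ CaseI G π a) :
    ∃ K : Subgroup (Equiv.Perm α), K < G ∧ MulAction.IsPreprimitive K α := by
  obtain ⟨τ, d, m, hτN, hτd, hde, hdm, hodd, heven, hC, hN, horb⟩ :=
    Cfsg.Agent.Lib.Helper29.W2p.caseII_struct h π hπ a hII
  -- the sign of τ
  have hsign : Equiv.Perm.sign (τ : Equiv.Perm α) = -1 := by
    apply Cfsg.Agent.Lib.Helper11.W2p.sign_eq_neg_one_of_fix (τ : Equiv.Perm α) d m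
    · rw [Subgroup.orderOf_coe, hτd]
    · exact hde
    · rw [h.hα]
      have := h.hp.one_le
      have h2 : d * (2 * m) = 2 * (d * m) := by ring
      rw [h2, ← hdm]
      omega
    · intro j hj x
      exact hodd j hj x
    · intro j hj hdj
      exact heven j hj hdj
  by_cases hd2 : d = 2
  · exfalso
    have hτ2 : τ ^ 2 = 1 := by rw [← hd2, ← hτd]; exact pow_orderOf_eq_one τ
    exact Cfsg.Agent.Lib.Helper55.W2p.caseII_two h π hπ τ hsign hτ2 hC hN
  · -- the two fixed points of τ²
    have hnd : ¬ d ∣ 2 := by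
      intro hdvd
      have hle := Nat.le_of_dvd (by norm_num) hdvd
      obtain ⟨c, hc⟩ := hde
      have hd0 : d ≠ 0 := by
        rintro rfl
        rw [zero_mul] at hdm
        have := h.hp.two_le
        have := h.hp2
        omega
      omega
    have hcard := heven 2 (by norm_num) hnd
    obtain ⟨a₁, b₁, hab, hset⟩ := Finset.card_eq_two.mp hcard
    have ha₁ : τ ^ 2 • a₁ = a₁ := by
      have : a₁ ∈ ({x | τ ^ 2 • x = x} : Finset α) := by rw [hset]; simp
      simpa using this
    have hτa₁ : τ ^ 2 • (τ • a₁) = τ • a₁ := by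
      rw [← mul_smul, ← pow_succ, pow_succ', mul_smul, ha₁]
    have hτne : τ • a₁ ≠ a₁ := by
      have := hodd 1 (by norm_num) a₁
      rwa [pow_one] at this
    have hτb : τ • a₁ = b₁ := by
      have : τ • a₁ ∈ ({x | τ ^ 2 • x = x} : Finset α) := by simpa using hτa₁
      rw [hset] at this
      simp only [Finset.mem_insert, Finset.mem_singleton] at this
      rcases this with h1 | h1
      · exact absurd h1 hτne
      · exact h1
    have hfix : ∀ x : α, τ ^ 2 • x = x ↔ x = a₁ ∨ x = τ • a₁ := by
      intro x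
      have : x ∈ ({x | τ ^ 2 • x = x} : Finset α) ↔ x = a₁ ∨ x = b₁ := by
        rw [hset]; simp
      rw [hτb, ← this]
      simp
    have hprim := Cfsg.Agent.Lib.Helper11.W2p.caseII_prim h π hπ τ hτN hsign horb a₁ hfix
    refine ⟨G ⊓ alternatingGroup α, ?_, hprim⟩
    apply lt_of_le_of_ne inf_le_left
    intro heq
    have hτG : (τ : Equiv.Perm α) ∈ G ⊓ alternatingGroup α := by rw [heq]; exact τ.2
    have h2 := (Subgroup.mem_inf.mp hτG).2
    rw [Equiv.Perm.mem_alternatingGroup, hsign] at h2
    exact absurd h2 (by decide)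

/-- Wielandt's theorem, by induction on the group order -/
theorem wielandt (hp : p.Prime) (hα : Fintype.card α = 2 * p) :
    ∀ (N : ℕ) (G : Subgroup (Equiv.Perm α)), Nat.card ↥G = N →
      MulAction.IsPreprimitive G α → ∀ a₀ : α, Concl p G a₀ := by
  intro N
  induction N using Nat.strong_induction_on with
  | _ N ih =>
    intro G hN hG a₀
    by_cases hK : ∃ K : Subgroup (Equiv.Perm α), K < G ∧ MulAction.IsPreprimitive K α
    · obtain ⟨K, hKG, hKprim⟩ := hK
      have hlt : Nat.card ↥K < N := by
        rw [← hN]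
        have hle := Subgroup.card_le_of_le hKG.le
        rcases lt_or_eq_of_le hle with h | h
        · exact h
        · exact absurd (Subgroup.eq_of_le_of_card_ge hKG.le h.ge) hKG.ne
      exact Cfsg.Agent.Lib.Helper89.W2pTrans.concl_of_le K G hKG.le hKprim a₀
        (ih _ hlt K rfl hKprim a₀)
    · by_cases hp2 : p = 2
      · left
        apply Cfsg.Agent.Lib.Helper89.W2pDeg4.deg_four _ G hG
        rw [hα, hp2]
      · by_cases h2 : MulAction.IsMultiplyPretransitive G α 2
        · left; exact h2
        · have hctx : Ctx p G := ⟨hp, hp2, hα, hG,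
            Cfsg.Agent.Lib.Helper67.W2pJor.fpf_of_not_two_trans hp hp2 hα G hG h2⟩
          haveI : Fintype ↥G := Fintype.ofFinite _
          haveI := hctx.isPretransitive
          -- an element of order p
          have hdiv : p ∣ Nat.card ↥G := by
            have h1 := MulAction.index_stabilizer_of_transitive ↥G a₀
            have h3 := Subgroup.index_dvd_card (MulAction.stabilizer ↥G a₀)
            rw [h1, Nat.card_eq_fintype_card (α := α), hα] at h3
            exact Dvd.dvd.trans ⟨2, by ring⟩ h3
          haveI : Fact p.Prime := ⟨hp⟩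
          obtain ⟨π, hπ⟩ := exists_prime_orderOf_dvd_card' p hdiv
          have hpC : (p : ℂ) ≠ 0 := by exact_mod_cast hp.ne_zero
          rcases alpha_or_beta hctx h2 π hπ with
            ⟨χ₁, χ₂, h₁, h₂, hsum, hd1, hd2⟩ | ⟨n, ρ, hirr, hn, hm, hrel, hmult, h1⟩
          · -- alternative (α): rank 3 and the subdegrees
            right
            have hne : χ₁ ≠ χ₂ := by
              intro heq
              rw [heq, hd2] at hd1
              have : (1 : ℂ) = 0 := by linear_combination hd1
              exact one_ne_zero this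
            have h1ne : χ₁ ≠ fun _ => 1 := by
              intro heq
              rw [heq] at hd1
              have : (p : ℂ) = 2 := by linear_combination -hd1
              exact hp2 (by exact_mod_cast this)
            have h2ne : χ₂ ≠ fun _ => 1 := by
              intro heq
              rw [heq] at hd2
              have : (p : ℂ) = 1 := hd2.symm
              exact hp.one_lt.ne' (by exact_mod_cast this)
            have hrank := Cfsg.Agent.Lib.Helper77.rank_three (G := ↥G) (Ω := α) a₀ χ₁ χ₂ h₁ h₂
              hsum hne h1ne h2ne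
            exact ⟨hrank, Cfsg.Agent.S0719.result (G := ↥G) (Ω := α) hG hα a₀ hrank χ₁ χ₂ h₁ h₂
              hsum hd1 hd2⟩
          · exfalso
            by_cases hI : CaseI G π a₀
            · exact caseI_false hctx π hπ a₀ hI n ρ hirr hn hm hrel hmult h1
            · exact hK (caseII_exists_lt hctx π hπ a₀ hI)

end Cfsg.Agent.Lib.Helper12.W2p
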