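import Mathlib
import Cfsg.Prelude.Def_Characters
import Cfsg.Agent.Lib.Helper75.GaloisPow
import Cfsg.Agent.Lib.Helper78.CharMore
import Cfsg.Agent.Lib.Helper12.W2pMu
import Cfsg.Agent.Lib.Helper12.W2pPerm

/-!
# S4707 module [PVAL] (helper12, for helper92)

Values of integer valued irreducible characters of degrees `p - 1` and `p` on an element of
order `p`, when `1 + χ₁ x + χ₂ x = 0`.
-/

set_option autoImplicit false

namespace Cfsg.Agent.Lib.Helper12.S4707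

open Cfsg Finset

/-- an integer valued character takes the same value on all generators of `⟨x⟩`, `o(x) = p`. -/
theorem pow_eq_of_int_valued {G : Type*} [Group G] [Fintype G] {p : ℕ} (hp : p.Prime)
    (χ : G → ℂ) (hχ : IsCharacter G χ) (x : G) (hx : orderOf x = p)
    (hint : ∃ z : ℤ, χ x = z) (i : ℕ) (hi0 : 0 < i) (hip : i < p) :
    χ (x ^ i) = χ x := by
  classical
  set N := Nat.card G with hN_def
  have hN : N ≠ 0 := Nat.card_pos.ne'
  set r := ordCompl[p] N with hr_def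
  have hcop : Nat.Coprime p r := Nat.coprime_ordCompl hp hN
  obtain ⟨k, hkp, hkr⟩ := Nat.chineseRemainder hcop i 1
  have hkp' : Nat.Coprime k p := by
    rw [Nat.coprime_comm, Nat.Prime.coprime_iff_not_dvd hp]
    intro hdvd
    have h1 : k ≡ 0 [MOD p] := (Nat.modEq_zero_iff_dvd).mpr hdvd
    have h2 : i ≡ 0 [MOD p] := hkp.symm.trans h1
    have h3 : p ∣ i := (Nat.modEq_zero_iff_dvd).mp h2
    exact absurd (Nat.le_of_dvd hi0 h3) (not_le.mpr hip)
  have hkr' : Nat.Coprime k r := by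
    have := hkr.gcd_eq
    unfold Nat.Coprime
    rw [this]
    exact Nat.gcd_one_left r
  have hkN : Nat.Coprime k N := by
    have hsplit : ordProj[p] N * ordCompl[p] N = N := Nat.ordProj_mul_ordCompl_eq_self N p
    rw [← hsplit]
    exact Nat.Coprime.mul_right (Nat.Coprime.pow_right _ hkp') hkr'
  obtain ⟨σ, -, hσ⟩ := Cfsg.Agent.Lib.Helper75.exists_ringEquiv_character_pow (G := G) k hkN
  have h1 : σ (χ x) = χ (x ^ k) := hσ χ hχ x
  obtain ⟨z, hz⟩ := hint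
  have h2 : σ (χ x) = χ x := by
    rw [hz]
    simp
  have h3 : x ^ k = x ^ i := by
    rw [pow_eq_pow_iff_modEq, hx]
    exact hkp
  rw [← h3, ← h1, h2]

/-- for an irreducible character `χ` and `x` of order `p`, with `χ` constant `= χ x` on the
nontrivial powers of `x`: `χ 1 + (p - 1) χ x = p m` for a natural number `m`. -/
theorem sum_pow_eq {G : Type*} [Group G] [Fintype G] {p : ℕ} (hp : p.Prime)
    (χ : G → ℂ) (hχ : IsIrrCharacter G χ) (x : G) (hx : orderOf x = p)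
    (hint : ∃ z : ℤ, χ x = z) :
    ∃ m : ℕ, χ 1 + ((p : ℂ) - 1) * χ x = (p : ℂ) * m := by
  classical
  have hxp : x ^ p = 1 := by rw [← hx]; exact pow_orderOf_eq_one x
  obtain ⟨m, hm⟩ := Cfsg.Agent.Lib.Helper12.W2p.mu_irr_nat (p := p) x hp.pos hxp ⟨χ, hχ⟩ 0
  refine ⟨m, ?_⟩
  have hp0 : (p : ℂ) ≠ 0 := by exact_mod_cast hp.ne_zero
  unfold Cfsg.Agent.Lib.Helper12.W2p.mu at hm
  simp only [zero_mul, pow_zero, one_mul] at hm
  have hsum : ∑ s ∈ range p, χ (x ^ s) = χ 1 + ((p : ℂ) - 1) * χ x := by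
    obtain ⟨q, hq⟩ : ∃ q, p = q + 1 := ⟨p - 1, (Nat.succ_pred_eq_of_pos hp.pos).symm⟩
    rw [hq, Finset.sum_range_succ']
    simp only [pow_zero]
    have h1 : ∀ s ∈ range q, χ (x ^ (s + 1)) = χ x := by
      intro s hs
      apply pow_eq_of_int_valued hp χ
        (Cfsg.Agent.Lib.Helper78.IsIrrCharacter.isCharacter hχ) x hx hint (s + 1) (Nat.succ_pos s)
      rw [hq]
      have := Finset.mem_range.mp hs
      omega
    rw [Finset.sum_congr rfl h1, Finset.sum_const, Finset.card_range, nsmul_eq_mul]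
    push_cast
    ring
  have hm' : (∑ s ∈ range p, (⟨χ, hχ⟩ : IrrCharacter G).1 (x ^ s)) = (p : ℂ) * m := by
    rw [← hm]
    field_simp
  rw [← hsum]
  exact hm'

/-- **[PVAL]** -/
theorem values_on_order_p {G : Type*} [Group G] [Fintype G] {p : ℕ} (hp : p.Prime) (hp2 : 2 < p)
    (χ₁ χ₂ : G → ℂ) (h₁ : IsIrrCharacter G χ₁) (h₂ : IsIrrCharacter G χ₂)
    (hint₁ : ∀ g, ∃ z : ℤ, χ₁ g = z) (hint₂ : ∀ g, ∃ z : ℤ, χ₂ g = z)
    (hd₁ : χ₁ 1 = (p : ℂ) - 1) (hd₂ : χ₂ 1 = p) (x : G) (hx : orderOf x = p)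
    (hsum : 1 + χ₁ x + χ₂ x = 0) : χ₁ x = -1 ∧ χ₂ x = 0 := by
  obtain ⟨m₁, hm₁⟩ := sum_pow_eq hp χ₁ h₁ x hx (hint₁ x)
  obtain ⟨m₂, hm₂⟩ := sum_pow_eq hp χ₂ h₂ x hx (hint₂ x)
  obtain ⟨c₁, hc₁⟩ := hint₁ x
  obtain ⟨c₂, hc₂⟩ := hint₂ x
  rw [hc₁, hd₁] at hm₁
  rw [hc₂, hd₂] at hm₂
  rw [hc₁, hc₂] at hsum ⊢
  have e₁ : ((p : ℤ) - 1) + ((p : ℤ) - 1) * c₁ = (p : ℤ) * (m₁ : ℤ) := by
    exact_mod_cast hm₁
  have e₂ : (p : ℤ) + ((p : ℤ) - 1) * c₂ = (p : ℤ) * (m₂ : ℤ) := by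
    exact_mod_cast hm₂
  have e₃ : 1 + c₁ + c₂ = 0 := by exact_mod_cast hsum
  have hp3 : (3 : ℤ) ≤ p := by exact_mod_cast hp2
  have hm₁0 : (0 : ℤ) ≤ m₁ := Int.natCast_nonneg m₁
  have hm₂0 : (0 : ℤ) ≤ m₂ := Int.natCast_nonneg m₂
  set a : ℤ := 1 + c₁ with ha
  have hc₂a : c₂ = -a := by linarith
  have ea : ((p : ℤ) - 1) * a = (p : ℤ) * (m₁ : ℤ) := by rw [ha]; linarith
  have hab : a = (p : ℤ) * (a - m₁) := by linarith
  have ha0 : 0 ≤ a := by
    by_contra hneg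
    rw [not_le] at hneg
    nlinarith
  have hale : ((p : ℤ) - 1) * a ≤ p := by
    have : (p : ℤ) - ((p : ℤ) - 1) * a = (p : ℤ) * (m₂ : ℤ) := by rw [← e₂, hc₂a]; ring
    nlinarith
  have hazero : a = 0 := by
    by_contra hne
    have hpos : 0 < a := lt_of_le_of_ne ha0 (Ne.symm hne)
    have hb : 0 < a - m₁ := by
      by_contra hb
      rw [not_lt] at hb
      nlinarith
    have hap : (p : ℤ) ≤ a := by nlinarith
    nlinarith
  have hc₁' : c₁ = -1 := by linarith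
  have hc₂' : c₂ = 0 := by linarith
  constructor
  · rw [hc₁']; norm_num
  · rw [hc₂']; norm_num

end Cfsg.Agent.Lib.Helper12.S4707
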