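import Mathlib

/-!
# Interface for the Zassenhaus theorem (perfect Frobenius complement = SL(2,5))

`Free3 G` packages the consequences of a free linear action of `G` (every non-identity element
fixes only the zero vector of a finite `ZMod p`-module) that the purely group-theoretic part of
the proof of `S0690` uses.  The fields are proved for free linear groups in
`Cfsg.Agent.Lib.Helper12` (two-dimensionality principle + Dickson); the group-theoretic part
only uses this structure.
-/

namespace Cfsg.Agent.Lib.Helper12.Zass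

/-- `Q` is a subgroup of order 8 normalised, but not centralised, by `x`. -/
def QSub {G : Type*} [Group G] (x : G) (Q : Subgroup G) : Prop :=
  Nat.card Q = 8 ∧ (∀ q ∈ Q, x * q * x⁻¹ ∈ Q) ∧ ∃ q ∈ Q, x * q * x⁻¹ ≠ q

/-- Consequences of a free linear action used by the group-theoretic part. -/
structure Free3 (G : Type*) [Group G] : Prop where
  /-- abelian subgroups are cyclic -/
  cyc : ∀ A : Subgroup G, (∀ a ∈ A, ∀ b ∈ A, a * b = b * a) → IsCyclic A
  /-- there is at most one involution -/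
  inv : ∀ s t : G, orderOf s = 2 → orderOf t = 2 → s = t
  /-- two elements of order 3: the second lies in the subgroup generated by the first and the
  quaternion subgroups of order 8 it normalises nontrivially -/
  e5 : ∀ x y : G, orderOf x = 3 → orderOf y = 3 → y ∉ Subgroup.zpowers x →
    y ∈ Subgroup.closure ({x} ∪ {q | ∃ Q : Subgroup G, QSub x Q ∧ q ∈ Q})
  /-- two distinct quaternion subgroups normalised nontrivially by `x` generate with `x` a group
  of order 120 in which some element inverts `x` and swaps the two -/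
  e8 : ∀ (x : G) (Q₁ Q₂ : Subgroup G), orderOf x = 3 → QSub x Q₁ → QSub x Q₂ → Q₁ ≠ Q₂ →
    Nat.card ↥(Q₁ ⊔ Q₂ ⊔ Subgroup.zpowers x) = 120 ∧
    ∃ u : G, u * x * u⁻¹ = x⁻¹ ∧ (∀ q ∈ Q₁, u * q * u⁻¹ ∈ Q₂) ∧ (∀ q ∈ Q₂, u * q * u⁻¹ ∈ Q₁)
  /-- no element of order 3 centralises `i` and is centralised or inverted by `j` when
  `⟨i, j⟩` is a quaternion group normalised nontrivially by an element of order 3 -/
  app3 : ∀ (x y i j : G) (Q : Subgroup G), orderOf x = 3 → QSub x Q → i ∈ Q → j ∈ Q →
    i * j ≠ j * i → orderOf y = 3 → y * i = i * y → (j * y * j⁻¹ = y ∨ j * y * j⁻¹ = y⁻¹) → False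
  /-- the two quaternion subgroups of a generalised quaternion group of order 16 cannot both be
  normalised nontrivially by elements of order 3 -/
  app4 : ∀ (x y a j : G) (Q Q' : Subgroup G), orderOf x = 3 → orderOf y = 3 → QSub x Q →
    QSub y Q' → orderOf a = 8 → (∀ q ∈ Q, a * q * a⁻¹ ∈ Q) → a ^ 2 ∈ Q → j ∈ Q →
    a ^ 2 * j ≠ j * a ^ 2 → a ^ 2 ∈ Q' → a * j ∈ Q' → False

/-- Dickson's list of the `p'`-subgroups of `PSL₂`. -/
def DL (Γ : Type) [Group Γ] : Prop :=
  IsCyclic Γ ∨ (∃ n : ℕ, Nonempty (Γ ≃* DihedralGroup n)) ∨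
    Nonempty (Γ ≃* alternatingGroup (Fin 4)) ∨ Nonempty (Γ ≃* Equiv.Perm (Fin 4)) ∨
    Nonempty (Γ ≃* alternatingGroup (Fin 5))

/-- `V` is a subgroup of order 4 normalised, but not centralised, by `σ`. -/
def VSub {Γ : Type*} [Group Γ] (σ : Γ) (V : Subgroup Γ) : Prop :=
  Nat.card V = 4 ∧ (∀ v ∈ V, σ * v * σ⁻¹ ∈ V) ∧ ∃ v ∈ V, σ * v * σ⁻¹ ≠ v

end Cfsg.Agent.Lib.Helper12.Zass
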