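import Mathlib
import Cfsg.Agent.Lib.Helper12.ZassDefs
import Cfsg.Agent.Lib.Helper12.TwoDimDickson

/-!
# Free linear groups: basic facts (helper12)

`X` is a group of linear automorphisms of a finite `ZMod p`-module `V` in which every
non-identity element fixes only `0`.
-/

set_option autoImplicit false

namespace Cfsg.Agent.Lib.Helper12.ZassLin

open Cfsg.Agent.Lib.Helper12.Zass

variable {p : ℕ} [Fact p.Prime] {V : Type*} [AddCommGroup V] [Module (ZMod p) V]

/-- endomorphism underlying a linear automorphism -/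
def en (g : V ≃ₗ[ZMod p] V) : Module.End (ZMod p) V := (g : V →ₗ[ZMod p] V)

theorem en_eq_coe (g : V ≃ₗ[ZMod p] V) :
    en g = ((g : V ≃ₗ[ZMod p] V) : Module.End (ZMod p) V) := rfl

@[simp] theorem en_apply (g : V ≃ₗ[ZMod p] V) (v : V) : en g v = g v := rfl

@[simp] theorem en_one : en (1 : V ≃ₗ[ZMod p] V) = 1 := rfl

theorem en_mul (g h : V ≃ₗ[ZMod p] V) : en (g * h) = en g * en h := rfl

theorem en_pow (g : V ≃ₗ[ZMod p] V) (n : ℕ) : en (g ^ n) = en g ^ n := by
  induction n with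
  | zero => rfl
  | succ n ih => rw [pow_succ, pow_succ, en_mul, ih]

theorem en_injective : Function.Injective (en : (V ≃ₗ[ZMod p] V) → Module.End (ZMod p) V) := by
  intro g h hgh
  apply LinearEquiv.ext
  intro v
  exact LinearMap.congr_fun hgh v

theorem en_inv_mul (g : V ≃ₗ[ZMod p] V) : en g⁻¹ * en g = 1 := by
  rw [← en_mul, inv_mul_cancel, en_one]

theorem en_mul_inv (g : V ≃ₗ[ZMod p] V) : en g * en g⁻¹ = 1 := by
  rw [← en_mul, mul_inv_cancel, en_one]

/-- `x i x⁻¹ = j` gives `X I = J X`. -/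
theorem en_conj {x i j : V ≃ₗ[ZMod p] V} (h : x * i * x⁻¹ = j) : en x * en i = en j * en x := by
  rw [← en_mul, ← en_mul, ← h]
  congr 1
  group

/-- the automorphism `-1` -/
def zz : V ≃ₗ[ZMod p] V := LinearEquiv.neg (ZMod p)

@[simp] theorem en_zz : en (zz : V ≃ₗ[ZMod p] V) = -1 := by
  ext v
  simp [zz]

theorem zz_comm (g : V ≃ₗ[ZMod p] V) : zz * g = g * zz := by
  apply en_injective
  rw [en_mul, en_mul, en_zz]
  simp

theorem zz_sq : (zz : V ≃ₗ[ZMod p] V) * zz = 1 := by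
  apply en_injective
  rw [en_mul, en_zz]
  simp

theorem eq_zz_of_en {g : V ≃ₗ[ZMod p] V} (h : en g = -1) : g = zz :=
  en_injective (by rw [h, en_zz])

section Free
variable (X : Subgroup (V ≃ₗ[ZMod p] V))

/-- freeness -/
def IsFree : Prop := ∀ g ∈ X, g ≠ 1 → ∀ v : V, g v = v → v = 0

variable {X}

theorem IsFree.mono {Y : Subgroup (V ≃ₗ[ZMod p] V)} (hX : IsFree X) (hYX : Y ≤ X) : IsFree Y :=
  fun g hg => hX g (hYX hg)

theorem IsFree.eq_zero_of_mul (hX : IsFree X) {g : V ≃ₗ[ZMod p] V} (hg : g ∈ X) (hg1 : g ≠ 1)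
    (f : Module.End (ZMod p) V) (h : (en g - 1) * f = 0) : f = 0 := by
  ext v
  have h1 := LinearMap.congr_fun h v
  simp only [Module.End.mul_apply, LinearMap.sub_apply, en_apply, Module.End.one_apply,
    LinearMap.zero_apply, sub_eq_zero] at h1
  simpa using hX g hg hg1 (f v) h1

theorem IsFree.en_of_sq (hX : IsFree X) {g : V ≃ₗ[ZMod p] V} (hg : g ∈ X) (hg1 : g ≠ 1)
    (h2 : g * g = 1) : en g = -1 := by
  have h : (en g - 1) * (en g + 1) = 0 := by
    have : en g * en g = 1 := by rw [← en_mul, h2, en_one]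
    calc (en g - 1) * (en g + 1) = en g * en g - 1 := by noncomm_ring
      _ = 0 := by rw [this, sub_self]
  have := hX.eq_zero_of_mul hg hg1 _ h
  exact eq_neg_of_add_eq_zero_left this

theorem IsFree.quad3 (hX : IsFree X) {g : V ≃ₗ[ZMod p] V} (hg : g ∈ X) (hg1 : g ≠ 1)
    (h3 : g ^ 3 = 1) : en g * en g + en g + 1 = 0 := by
  have h : (en g - 1) * (en g * en g + en g + 1) = 0 := by
    have : en g ^ 3 = 1 := by rw [← en_pow, h3, en_one]
    calc (en g - 1) * (en g * en g + en g + 1) = en g ^ 3 - 1 := by noncomm_ring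
      _ = 0 := by rw [this, sub_self]
  exact hX.eq_zero_of_mul hg hg1 _ h

theorem IsFree.quad4 (hX : IsFree X) {g : V ≃ₗ[ZMod p] V} (hg : g ∈ X) (hg2 : g * g ≠ 1)
    (h4 : g ^ 4 = 1) : en g * en g = -1 := by
  have := hX.en_of_sq (X.mul_mem hg hg) hg2 (by
    calc g * g * (g * g) = g ^ 4 := by simp only [pow_succ, pow_zero, one_mul, mul_assoc]
      _ = 1 := h4)
  rwa [en_mul] at this

/-- an element of `X` of order two is `-1` -/
theorem IsFree.eq_zz (hX : IsFree X) {g : V ≃ₗ[ZMod p] V} (hg : g ∈ X) (hg1 : g ≠ 1)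
    (h2 : g * g = 1) : g = zz := eq_zz_of_en (hX.en_of_sq hg hg1 h2)

end Free

end Cfsg.Agent.Lib.Helper12.ZassLin
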