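import Mathlib
import Cfsg.Agent.Lib.Helper12.ZassLin1

/-!
# Free linear groups: quaternion subgroups normalised by an element of order three (helper12)
-/

set_option autoImplicit false
namespace Cfsg.Agent.Lib.Helper12.ZassLin
open Cfsg.Agent.Lib.Helper12.Zass Cfsg.Agent.Lib.Helper12.TwoDim

/-- every element of a subgroup of order 8 normalised nontrivially by an element of order 3 has
fourth power 1 -/
theorem pow_four_of_qsub {G : Type*} [Group G] {x : G} (hx3 : x ^ 3 = 1)
    {Q : Subgroup G} (hQ : QSub x Q) : ∀ q ∈ Q, q ^ 4 = 1 := by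
  obtain ⟨hcard, hnorm, q₀, hq₀, hq₀x⟩ := hQ
  have hQfin : Finite Q := Nat.finite_of_card_ne_zero (by rw [hcard]; norm_num)
  intro q hq
  by_contra hq4
  have hd8 : orderOf q ∣ 8 := hcard ▸ Subgroup.orderOf_dvd_natCard Q hq
  have hd4 : ¬ orderOf q ∣ 4 := fun h => hq4 (orderOf_dvd_iff_pow_eq_one.mp h)
  have ho : orderOf q = 8 := by
    have h8 : (8 : ℕ) = 2 ^ 3 := by norm_num
    rw [h8] at hd8
    obtain ⟨k, hk, hk2⟩ := (Nat.dvd_prime_pow Nat.prime_two).1 hd8
    interval_cases k
    · exact absurd (by rw [hk2]; norm_num) hd4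
    · exact absurd (by rw [hk2]; norm_num) hd4
    · exact absurd (by rw [hk2]; norm_num) hd4
    · rw [hk2]; norm_num
  have hzp : Subgroup.zpowers q = Q := by
    apply Subgroup.eq_of_le_of_card_ge
    · rwa [Subgroup.zpowers_le]
    · rw [Nat.card_zpowers, ho, hcard]
  have hfo : IsOfFinOrder q := by
    rw [← orderOf_pos_iff, ho]; norm_num
  have hpow : ∀ y ∈ Q, ∃ n : ℕ, q ^ n = y := by
    intro y hy
    rw [← hzp, ← hfo.mem_powers_iff_mem_zpowers, Submonoid.mem_powers_iff] at hy
    exact hy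
  obtain ⟨m, hm⟩ := hpow _ (hnorm q hq)
  obtain ⟨t, ht⟩ := hpow _ hq₀
  have h3 : q ^ (m ^ 3) = q ^ 1 := by
    have e1 : x * q ^ m * x⁻¹ = q ^ (m ^ 2) := by
      rw [← conj_pow, ← hm, ← pow_mul, sq]
    have e2 : x * q ^ (m ^ 2) * x⁻¹ = q ^ (m ^ 3) := by
      rw [← conj_pow, ← hm, ← pow_mul]
      congr 1
      ring
    have e3 : x ^ 3 * q * (x ^ 3)⁻¹ = q ^ (m ^ 3) := by
      rw [← e2, ← e1, hm]
      simp only [pow_succ, pow_zero, one_mul, mul_inv_rev, mul_assoc]
    rw [← e3, hx3]
    simp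
  rw [pow_eq_pow_iff_modEq, ho] at h3
  have hm1 : m % 8 = 1 := by
    have : ∀ r : Fin 8, (r.val ^ 3) % 8 = 1 → r.val = 1 := by decide
    have h := this ⟨m % 8, Nat.mod_lt _ (by norm_num)⟩
    simp only at h
    apply h
    have h3' : m ^ 3 % 8 = 1 % 8 := h3
    rw [Nat.pow_mod] at h3'
    exact h3'
  have hqm : q ^ m = q := by
    conv_rhs => rw [← pow_one q]
    rw [pow_eq_pow_iff_modEq, ho]
    exact hm1
  apply hq₀x
  rw [← ht, ← conj_pow, ← hm, hqm]

variable {p : ℕ} [Fact p.Prime] {V : Type*} [AddCommGroup V] [Module (ZMod p) V]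

theorem anticomm_of_sq {A B : Module.End (ZMod p) V} (hA : A * A = -1) (hB : B * B = -1)
    (hAB : (A * B) * (A * B) = -1) : B * A = -(A * B) := by
  have h : A * ((A * B) * (A * B)) * B = (A * A) * (B * A) * (B * B) := by noncomm_ring
  rw [hAB, hA, hB] at h
  simp only [mul_neg, mul_one, neg_mul, one_mul, neg_neg] at h
  exact h.symm

theorem two_ne_zero_of_zz (h : (zz : V ≃ₗ[ZMod p] V) ≠ 1) : (2 : ZMod p) ≠ 0 := by
  intro h2
  apply h
  apply en_injective
  rw [en_zz, en_one]
  have : (2 : ZMod p) • (1 : Module.End (ZMod p) V) = 0 := by rw [h2, zero_smul]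
  rw [two_smul] at this
  exact neg_eq_of_add_eq_zero_left this

theorem one_ne_zero_of_zz (h : (zz : V ≃ₗ[ZMod p] V) ≠ 1) :
    (1 : Module.End (ZMod p) V) ≠ 0 := by
  intro h0
  apply h
  apply en_injective
  rw [en_zz, en_one, h0, neg_zero]

/-- quaternion data -/
structure QData (x : V ≃ₗ[ZMod p] V) (Q : Subgroup (V ≃ₗ[ZMod p] V)) (i j : V ≃ₗ[ZMod p] V) :
    Prop where
  hi : i ∈ Q
  hj : j ∈ Q
  hz : zz ∈ Q
  z1 : (zz : V ≃ₗ[ZMod p] V) ≠ 1
  ii : en i * en i = -1
  jj : en j * en j = -1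
  ji : en j * en i = -(en i * en j)
  xi : x * i * x⁻¹ = j
  xj : x * j * x⁻¹ = i * j
  mem : ∀ q ∈ Q, q = 1 ∨ q = zz ∨ q = i ∨ q = zz * i ∨ q = j ∨ q = zz * j ∨ q = i * j ∨
    q = zz * (i * j)

theorem conj_zz (x : V ≃ₗ[ZMod p] V) : x * zz * x⁻¹ = zz := by
  rw [← zz_comm, mul_assoc, mul_inv_cancel, mul_one]

theorem conj_zz_mul (x g : V ≃ₗ[ZMod p] V) : x * (zz * g) * x⁻¹ = zz * (x * g * x⁻¹) := by
  rw [← mul_assoc, ← zz_comm x, mul_assoc, mul_assoc, mul_assoc]

theorem zz_zz_mul (g : V ≃ₗ[ZMod p] V) : zz * (zz * g) = g := by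
  rw [← mul_assoc, zz_sq, one_mul]

theorem inv_of_sq {r : V ≃ₗ[ZMod p] V} (h : en r * en r = -1) : r⁻¹ = zz * r := by
  rw [inv_eq_iff_mul_eq_one]
  apply en_injective
  rw [en_mul, en_mul, en_zz, en_one, neg_one_mul, mul_neg, h, neg_neg]

section
variable {X : Subgroup (V ≃ₗ[ZMod p] V)}

/-- in a free group, elements of a `QSub` subgroup are `±1` or square to `-1`. -/
theorem qsub_sq (hX : IsFree X) {x : V ≃ₗ[ZMod p] V} (hx3 : x ^ 3 = 1)
    {Q : Subgroup (V ≃ₗ[ZMod p] V)} (hQX : Q ≤ X) (hQ : QSub x Q) (q : V ≃ₗ[ZMod p] V)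
    (hq : q ∈ Q) : q = 1 ∨ q = zz ∨ en q * en q = -1 := by
  by_cases h1 : q = 1
  · exact Or.inl h1
  by_cases h2 : q * q = 1
  · exact Or.inr (Or.inl (hX.eq_zz (hQX hq) h1 h2))
  · exact Or.inr (Or.inr (hX.quad4 (hQX hq) h2 (pow_four_of_qsub hx3 hQ q hq)))

theorem zz_mem_of_qsub [Finite V] (hX : IsFree X) {x : V ≃ₗ[ZMod p] V}
    {Q : Subgroup (V ≃ₗ[ZMod p] V)} (hQX : Q ≤ X) (hQ : QSub x Q) :
    (zz : V ≃ₗ[ZMod p] V) ∈ Q ∧ (zz : V ≃ₗ[ZMod p] V) ≠ 1 := by
  have hfin : Finite (V ≃ₗ[ZMod p] V) := finite_linearEquiv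
  have h2 : 2 ∣ Nat.card Q := by rw [hQ.1]; norm_num
  have : Fact (Nat.Prime 2) := ⟨Nat.prime_two⟩
  obtain ⟨g, hg⟩ := exists_prime_orderOf_dvd_card' (G := Q) 2 h2
  have hg1 : (g : V ≃ₗ[ZMod p] V) ≠ 1 := by
    intro h
    have : g = 1 := Subtype.ext h
    rw [this, orderOf_one] at hg
    norm_num at hg
  have hg2 : (g : V ≃ₗ[ZMod p] V) * g = 1 := by
    have := pow_orderOf_eq_one g
    rw [hg, sq] at this
    exact_mod_cast congrArg Subtype.val this
  have := hX.eq_zz (hQX g.2) hg1 hg2
  exact ⟨this ▸ g.2, this ▸ hg1⟩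

end

section
variable [Finite V] {X : Subgroup (V ≃ₗ[ZMod p] V)}

theorem exists_qdata_aux (hX : IsFree X) {x : V ≃ₗ[ZMod p] V} (hx3 : x ^ 3 = 1)
    {Q : Subgroup (V ≃ₗ[ZMod p] V)} (hQX : Q ≤ X) (hQ : QSub x Q) :
    ∃ i j : V ≃ₗ[ZMod p] V, i ∈ Q ∧ j ∈ Q ∧ en i * en i = -1 ∧ en j * en j = -1 ∧
      en j * en i = -(en i * en j) ∧ x * i * x⁻¹ = j ∧
      (x * j * x⁻¹ = i * j ∨ x * j * x⁻¹ = zz * (i * j)) ∧
      ∀ q ∈ Q, q = 1 ∨ q = zz ∨ q = i ∨ q = zz * i ∨ q = j ∨ q = zz * j ∨ q = i * j ∨
        q = zz * (i * j) := by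
  obtain ⟨hzQ, hz1⟩ := zz_mem_of_qsub hX hQX hQ
  have hsq := qsub_sq hX hx3 hQX hQ
  have h10 := one_ne_zero_of_zz hz1
  have h20 := two_ne_zero_of_zz hz1
  obtain ⟨hcard, hnorm, i, hi, hix⟩ := hQ
  have hφ3 : ∀ g : V ≃ₗ[ZMod p] V, x * (x * (x * g * x⁻¹) * x⁻¹) * x⁻¹ = g := by
    intro g
    have : x * (x * (x * g * x⁻¹) * x⁻¹) * x⁻¹ = x ^ 3 * g * (x ^ 3)⁻¹ := by
      simp only [pow_succ, pow_zero, one_mul, mul_inv_rev, mul_assoc]
    rw [this, hx3]
    simp
  have hφinj : ∀ g h : V ≃ₗ[ZMod p] V, x * g * x⁻¹ = x * h * x⁻¹ → g = h := by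
    intro g h hgh
    simpa using hgh
  have hi1 : i ≠ 1 := by
    rintro rfl
    exact hix (by simp)
  have hiz : i ≠ zz := by
    rintro rfl
    exact hix (conj_zz x)
  obtain ⟨j, hj⟩ : ∃ j, j = x * i * x⁻¹ := ⟨_, rfl⟩
  rw [← hj] at hix
  have hjQ : j ∈ Q := hj ▸ hnorm i hi
  have hII : en i * en i = -1 := by
    rcases hsq i hi with h | h | h
    · exact absurd h hi1
    · exact absurd h hiz
    · exact h
  have hj1 : j ≠ 1 := by
    intro h
    apply hi1
    apply hφinj
    rw [← hj, h]
    simp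
  have hjz : j ≠ zz := by
    intro h
    apply hiz
    apply hφinj
    rw [← hj, h, conj_zz]
  have hJJ : en j * en j = -1 := by
    rcases hsq j hjQ with h | h | h
    · exact absurd h hj1
    · exact absurd h hjz
    · exact h
  have hji : j ≠ i := hix
  have hjzi : j ≠ zz * i := by
    intro h
    -- x j x⁻¹ = zz * j = i
    have h2 : x * j * x⁻¹ = i := by
      rw [h, conj_zz_mul, ← hj, h, zz_zz_mul]
    have h3 := hφ3 i
    rw [← hj, h2, ← hj] at h3
    exact hji h3
  have hijQ : i * j ∈ Q := Q.mul_mem hi hjQ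
  have hIJ : (en i * en j) * (en i * en j) = -1 := by
    rcases hsq (i * j) hijQ with h | h | h
    · exfalso
      apply hjzi
      rw [← inv_of_sq hII]
      exact (eq_inv_of_mul_eq_one_right h)
    · exfalso
      apply hji
      have : j = i⁻¹ * zz := eq_inv_mul_of_mul_eq h
      rw [this, inv_of_sq hII, ← zz_comm, zz_zz_mul]
    · rwa [en_mul] at h
  have hJI := anticomm_of_sq hII hJJ hIJ
  have hKK : en (i * j) * en (i * j) = -1 := by rw [en_mul]; exact hIJ
  have hmem : ∀ q ∈ Q, q = 1 ∨ q = zz ∨ q = i ∨ q = zz * i ∨ q = j ∨ q = zz * j ∨ q = i * j ∨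
        q = zz * (i * j) := by
    intro q hq
    rcases hsq q hq with h | h | hqq
    · exact Or.inl h
    · exact Or.inr (Or.inl h)
    · have key : ∀ r ∈ Q, en r * en r = -1 →
          q = r ∨ q = zz * r ∨ en r * en q = -(en q * en r) := by
        intro r hr hrr
        rcases hsq (q * r) (Q.mul_mem hq hr) with h | h | h
        · right; left
          rw [← inv_of_sq hrr]
          exact eq_inv_of_mul_eq_one_left h
        · left
          have : q = zz * r⁻¹ := eq_mul_inv_of_mul_eq h
          rw [this, inv_of_sq hrr, zz_zz_mul]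
        · right; right
          exact anticomm_of_sq hqq hrr (by rwa [en_mul] at h)
      rcases key i hi hII with h | h | hqi
      · exact Or.inr (Or.inr (Or.inl h))
      · exact Or.inr (Or.inr (Or.inr (Or.inl h)))
      rcases key j hjQ hJJ with h | h | hqj
      · exact Or.inr (Or.inr (Or.inr (Or.inr (Or.inl h))))
      · exact Or.inr (Or.inr (Or.inr (Or.inr (Or.inr (Or.inl h)))))
      rcases key (i * j) hijQ hKK with h | h | hqk
      · exact Or.inr (Or.inr (Or.inr (Or.inr (Or.inr (Or.inr (Or.inl h))))))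
      · exact Or.inr (Or.inr (Or.inr (Or.inr (Or.inr (Or.inr (Or.inr h))))))
      exfalso
      rw [en_mul] at hqk
      -- (I J) C = C I J, but also = -(C (I J))
      have e1 : en i * en j * en q = en q * (en i * en j) := by
        calc en i * en j * en q = en i * (en j * en q) := by rw [mul_assoc]
          _ = en i * (-(en q * en j)) := by rw [hqj]
          _ = -(en i * en q) * en j := by noncomm_ring
          _ = -(-(en q * en i)) * en j := by rw [hqi]
          _ = en q * (en i * en j) := by noncomm_ring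
      have e2 : (2 : ZMod p) • (en q * (en i * en j)) = 0 := by
        rw [two_smul]
        nth_rewrite 1 [← e1]
        rw [hqk]
        simp
      have e3 : en q * (en i * en j) = 0 := (smul_eq_zero.mp e2).resolve_left h20
      have e4 : (en q * (en i * en j)) * (en i * en j) * en q = 0 := by rw [e3]; simp
      have e5 : (en q * (en i * en j)) * (en i * en j) * en q = 1 := by
        calc (en q * (en i * en j)) * (en i * en j) * en q
            = en q * ((en i * en j) * (en i * en j)) * en q := by noncomm_ring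
          _ = 1 := by rw [hIJ]; simp [hqq]
      exact h10 (e5.symm.trans e4)
  refine ⟨i, j, hi, hjQ, hII, hJJ, hJI, hj.symm, ?_, hmem⟩
  -- k := x j x⁻¹
  have hkQ : x * j * x⁻¹ ∈ Q := hnorm j hjQ
  rcases hmem _ hkQ with h | h | h | h | h | h | h | h
  · exfalso
    apply hj1
    apply hφinj
    rw [h]; simp
  · exfalso
    apply hjz
    apply hφinj
    rw [h, conj_zz]
  · exfalso
    have h3 := hφ3 i
    rw [← hj, h, ← hj] at h3
    exact hji h3
  · exfalso
    have h3 := hφ3 i
    rw [← hj, h, conj_zz_mul, ← hj] at h3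
    apply hjzi
    rw [← h3, zz_zz_mul]
  · exfalso
    apply hix
    apply hφinj
    rw [← hj, h]
  · exfalso
    have h3 := hφ3 j
    rw [h, conj_zz_mul, h, zz_zz_mul, h] at h3
    apply hz1
    have : zz * j * j⁻¹ = j * j⁻¹ := by rw [h3]
    simpa using this
  · exact Or.inl h
  · exact Or.inr h

end

section
variable [Finite V] {X : Subgroup (V ≃ₗ[ZMod p] V)}

theorem exists_qdata (hX : IsFree X) {x : V ≃ₗ[ZMod p] V} (hx3 : x ^ 3 = 1)
    {Q : Subgroup (V ≃ₗ[ZMod p] V)} (hQX : Q ≤ X) (hQ : QSub x Q) :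
    ∃ i j : V ≃ₗ[ZMod p] V, QData x Q i j := by
  obtain ⟨hzQ, hz1⟩ := zz_mem_of_qsub hX hQX hQ
  obtain ⟨i, j, hi, hj, hII, hJJ, hJI, hxi, hxj, hmem⟩ := exists_qdata_aux hX hx3 hQX hQ
  rcases hxj with hxj | hxj
  · exact ⟨i, j, hi, hj, hzQ, hz1, hII, hJJ, hJI, hxi, hxj, hmem⟩
  · refine ⟨zz * i, zz * j, Q.mul_mem hzQ hi, Q.mul_mem hzQ hj, hzQ, hz1, ?_, ?_, ?_, ?_, ?_, ?_⟩
    · rw [en_mul, en_zz]; simpa using hII
    · rw [en_mul, en_zz]; simpa using hJJ
    · rw [en_mul, en_mul, en_zz]; simpa using hJI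
    · rw [conj_zz_mul, hxi]
    · rw [conj_zz_mul, hxj, zz_zz_mul]
      apply en_injective
      simp [en_mul, en_zz]
    · intro q hq
      have e1 : zz * (zz * i) = i := zz_zz_mul i
      have e2 : zz * (zz * j) = j := zz_zz_mul j
      have e3 : zz * i * (zz * j) = i * j := by
        apply en_injective
        simp [en_mul, en_zz]
      rw [e1, e2, e3]
      rcases hmem q hq with h | h | h | h | h | h | h | h
      · exact Or.inl h
      · exact Or.inr (Or.inl h)
      · exact Or.inr (Or.inr (Or.inr (Or.inl h)))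
      · exact Or.inr (Or.inr (Or.inl h))
      · exact Or.inr (Or.inr (Or.inr (Or.inr (Or.inr (Or.inl h)))))
      · exact Or.inr (Or.inr (Or.inr (Or.inr (Or.inl h))))
      · exact Or.inr (Or.inr (Or.inr (Or.inr (Or.inr (Or.inr (Or.inl h))))))
      · exact Or.inr (Or.inr (Or.inr (Or.inr (Or.inr (Or.inr (Or.inr h))))))

/-- (3b): the element of order three is `-(1 + I + J + IJ)/2`. -/
theorem two_x_eq (hX : IsFree X) {x : V ≃ₗ[ZMod p] V} (hxX : x ∈ X) (hx3 : x ^ 3 = 1)
    (hx1 : x ≠ 1) {Q : Subgroup (V ≃ₗ[ZMod p] V)} (hQX : Q ≤ X) {i j : V ≃ₗ[ZMod p] V}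
    (h : QData x Q i j) :
    en x + en x + 1 + en i + en j + en i * en j = 0 := by
  have hXX := hX.quad3 hxX hx1 hx3
  have hXI : en x * en i = en j * en x := en_conj h.xi
  have hXJ : en x * en j = en i * en j * en x := by
    have := en_conj h.xj
    rwa [en_mul] at this
  have hII := h.ii
  have hJJ := h.jj
  have hJI := h.ji
  -- X K = I X
  have hXK : en x * (en i * en j) = en i * en x := by
    calc en x * (en i * en j) = (en x * en i) * en j := by rw [mul_assoc]
      _ = en j * (en x * en j) := by rw [hXI, mul_assoc]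
      _ = en j * (en i * en j) * en x := by rw [hXJ]; noncomm_ring
      _ = -(en i * (en j * en j)) * en x := by
          rw [← mul_assoc (en j), hJI]; noncomm_ring
      _ = en i * en x := by simp [hJJ]
  -- g = x i, g³ = -1
  have hg3 : (en x * en i) * (en x * en i) * (en x * en i) = -1 := by
    have hx3' : en x * en x * en x = 1 := by
      have hx3g : x * x * x = 1 := by simpa only [pow_succ, pow_zero, one_mul] using hx3
      rw [← en_mul, ← en_mul, hx3g, en_one]
    calc (en x * en i) * (en x * en i) * (en x * en i)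
        = en j * (en x * en j) * (en x * en j) * en x := by rw [hXI]; noncomm_ring
      _ = en j * (en i * en j) * (en x * (en i * en j)) * en x * en x := by rw [hXJ]; noncomm_ring
      _ = en j * (en i * en j) * en i * (en x * en x * en x) := by rw [hXK]; noncomm_ring
      _ = en j * (en i * en j) * en i := by rw [hx3', mul_one]
      _ = (en j * en i) * (en j * en i) := by noncomm_ring
      _ = -1 := by
          rw [hJI]
          have : (-(en i * en j)) * (-(en i * en j)) = en i * (en j * en i) * en j := by noncomm_ring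
          rw [this, hJI]
          have : en i * -(en i * en j) * en j = -((en i * en i) * (en j * en j)) := by noncomm_ring
          rw [this, hII, hJJ]
          simp
  -- h = -g has order three
  have h10 := one_ne_zero_of_zz h.z1
  have hGG : (en x * en i) * (en x * en i) - en x * en i + 1 = 0 := by
    have hmem : zz * (x * i) ∈ X := X.mul_mem (hQX h.hz) (X.mul_mem hxX (hQX h.hi))
    have hen : en (zz * (x * i)) = -(en x * en i) := by rw [en_mul, en_zz, en_mul]; simp
    have hne : zz * (x * i) ≠ 1 := by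
      intro h1
      have e1 : en x * en i = -1 := by
        have := congrArg en h1
        rw [hen, en_one] at this
        rw [← this, neg_neg]
      have e2 : en x = en i := by
        have : en x * (en i * en i) = -en i := by rw [← mul_assoc, e1]; simp
        rw [hII] at this
        simpa using this
      have e3 : en i * en i * en i = 1 := by
        rw [← e2]
        have hx3g : x * x * x = 1 := by simpa only [pow_succ, pow_zero, one_mul] using hx3
        rw [← en_mul, ← en_mul, hx3g, en_one]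
      rw [hII] at e3
      have e4 : en i = -1 := by
        have : -en i = 1 := by simpa using e3
        rw [← this, neg_neg]
      rw [e4] at hII
      have : (1 : Module.End (ZMod p) V) = -1 := by simpa using hII
      apply h.z1
      apply en_injective
      rw [en_zz, en_one, ← this]
    have h3 : (zz * (x * i)) ^ 3 = 1 := by
      apply en_injective
      rw [en_pow, hen, en_one]
      have : (-(en x * en i)) ^ 3 = -((en x * en i) * (en x * en i) * (en x * en i)) := by
        noncomm_ring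
      rw [this, hg3, neg_neg]
    have := hX.quad3 hmem hne h3
    rw [hen] at this
    rw [← this]
    noncomm_ring
  -- G * G = X X J
  have hGG2 : (en x * en i) * (en x * en i) = en x * en x * en j := by
    calc (en x * en i) * (en x * en i) = en x * (en i * en x) * en i := by noncomm_ring
      _ = en x * (en x * (en i * en j)) * en i := by rw [hXK]
      _ = en x * en x * (en i * (en j * en i)) := by noncomm_ring
      _ = en x * en x * (-((en i * en i) * en j)) := by rw [hJI]; noncomm_ring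
      _ = en x * en x * en j := by rw [hII]; simp
  have hXX' : en x * en x = -en x - 1 := by
    rw [← sub_eq_zero, ← hXX]; noncomm_ring
  have e1 : en x * (en i + en j) = 1 - en j := by
    rw [hGG2, hXX'] at hGG
    have : en x * (en i + en j) - (1 - en j) = -((-en x - 1) * en j - en x * en i + 1) := by
      noncomm_ring
    rw [← sub_eq_zero, this, hGG, neg_zero]
  have e2 : (en i + en j) * (en i + en j) = -2 := by
    calc (en i + en j) * (en i + en j) = en i * en i + en j * en j + (en i * en j + en j * en i) := by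
          noncomm_ring
      _ = -2 := by rw [hII, hJJ, hJI, add_neg_cancel, add_zero]; norm_num
  have e3 : en x * ((en i + en j) * (en i + en j)) = (1 - en j) * (en i + en j) := by
    rw [← mul_assoc, e1]
  rw [e2] at e3
  have e4 : (1 - en j) * (en i + en j) = en i + en j - en j * en i - en j * en j := by noncomm_ring
  rw [e4, hJI, hJJ] at e3
  have : en x + en x + 1 + en i + en j + en i * en j =
      -(en x * (-2)) + (en i + en j - -(en i * en j) - -1) := by noncomm_ring
  rw [this, e3]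
  noncomm_ring

end

end Cfsg.Agent.Lib.Helper12.ZassLin
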