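import Mathlib
import Cfsg.Agent.Lib.Helper12.ZassLin2
import Cfsg.Agent.S0684

/-!
# Free linear groups: plumbing between `QSub` subgroups and the Dickson quotient (helper12)
-/

set_option autoImplicit false
namespace Cfsg.Agent.Lib.Helper12.ZassLin
open Cfsg.Agent.Lib.Helper12.Zass Cfsg.Agent.Lib.Helper12.TwoDim

theorem card_eq_two_mul_range {H Γ : Type*} [Group H] [Group Γ] (f : H →* Γ) (z : H)
    (hz : z ≠ 1) (hker : ∀ h, f h = 1 ↔ h = 1 ∨ h = z) : Nat.card H = 2 * Nat.card f.range := by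
  have h1 : Nat.card f.ker = 2 := by
    rw [Nat.card_eq_two_iff]
    refine ⟨⟨1, f.ker.one_mem⟩, ⟨z, (hker z).2 (Or.inr rfl)⟩, ?_, ?_⟩
    · intro h; exact hz (congrArg Subtype.val h).symm
    · ext ⟨g, hg⟩
      simp only [Set.mem_insert_iff, Subtype.mk.injEq, Set.mem_singleton_iff, Set.mem_univ,
        iff_true]
      rcases (hker g).1 hg with h | h
      · exact Or.inl h
      · exact Or.inr (Subtype.ext h)
  rw [Subgroup.card_eq_card_quotient_mul_card_subgroup f.ker, h1,
    Nat.card_congr (QuotientGroup.quotientKerEquivRange f).toEquiv, mul_comm]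

variable {p : ℕ} [Fact p.Prime] {V : Type*} [AddCommGroup V] [Module (ZMod p) V]
variable [Finite V] {X : Subgroup (V ≃ₗ[ZMod p] V)}

/-- if `x q x⁻¹ = zz q` with `x³ = 1` then `zz = 1`; used for "not centralised" transfers -/
theorem conj_ne_zz_mul {x q : V ≃ₗ[ZMod p] V} (hx3 : x ^ 3 = 1) (h : x * q * x⁻¹ = zz * q) :
    x * q * x⁻¹ = q := by
  have h2 : x * (x * q * x⁻¹) * x⁻¹ = q := by rw [h, conj_zz_mul, h, zz_zz_mul]
  have h3 : x * (x * (x * q * x⁻¹) * x⁻¹) * x⁻¹ = q := by
    have : x * (x * (x * q * x⁻¹) * x⁻¹) * x⁻¹ = x ^ 3 * q * (x ^ 3)⁻¹ := by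
      simp only [pow_succ, pow_zero, one_mul, mul_inv_rev, mul_assoc]
    rw [this, hx3]; simp
  rw [h2] at h3
  exact h3

/-- the image of a `QSub` subgroup in the Dickson quotient is a `VSub` subgroup -/
theorem vsub_map (hX : IsFree X) {Γ : Type*} [Group Γ] (π : X →* Γ)
    (hπ : ∀ g : X, π g = 1 ↔ (g = 1 ∨ en (g : V ≃ₗ[ZMod p] V) = -1))
    {x : V ≃ₗ[ZMod p] V} (hx : x ∈ X) (hx3 : x ^ 3 = 1)
    {Q : Subgroup (V ≃ₗ[ZMod p] V)} (hQX : Q ≤ X) (hQ : QSub x Q) :
    VSub (π ⟨x, hx⟩) ((Q.subgroupOf X).map π) := by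
  obtain ⟨hzQ, hz1⟩ := zz_mem_of_qsub hX hQX hQ
  obtain ⟨hcard, hnorm, q₀, hq₀, hq₀x⟩ := hQ
  refine ⟨?_, ?_, ?_⟩
  · -- cardinality
    let f : (Q.subgroupOf X) →* Γ := π.comp (Q.subgroupOf X).subtype
    let z' : Q.subgroupOf X := ⟨⟨zz, hQX hzQ⟩, by rw [Subgroup.mem_subgroupOf]; exact hzQ⟩
    have hz' : z' ≠ 1 := by
      intro h
      apply hz1
      have := congrArg (fun t : Q.subgroupOf X => ((t : X) : V ≃ₗ[ZMod p] V)) h
      simpa [z'] using this
    have hker : ∀ h, f h = 1 ↔ h = 1 ∨ h = z' := by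
      intro h
      show π (h : X) = 1 ↔ _
      rw [hπ]
      constructor
      · rintro (h1 | h1)
        · left; exact Subtype.ext h1
        · right
          apply Subtype.ext
          apply Subtype.ext
          exact eq_zz_of_en h1
      · rintro (h1 | h1)
        · left; rw [h1]; rfl
        · right; rw [h1]; exact en_zz
    have hc := card_eq_two_mul_range f z' hz' hker
    have hr : f.range = (Q.subgroupOf X).map π := by
      rw [MonoidHom.range_comp, Subgroup.range_subtype]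
    rw [hr, Nat.card_congr (Subgroup.subgroupOfEquivOfLe hQX).toEquiv, hcard] at hc
    omega
  · rintro v ⟨q, hq, rfl⟩
    refine ⟨⟨x, hx⟩ * q * ⟨x, hx⟩⁻¹, ?_, by simp⟩
    rw [SetLike.mem_coe, Subgroup.mem_subgroupOf] at hq ⊢
    exact hnorm _ hq
  · refine ⟨π ⟨q₀, hQX hq₀⟩, ⟨⟨q₀, hQX hq₀⟩, by
      rw [SetLike.mem_coe, Subgroup.mem_subgroupOf]; exact hq₀, rfl⟩, ?_⟩
    intro h
    have h1 : π (⟨x, hx⟩ * ⟨q₀, hQX hq₀⟩ * ⟨x, hx⟩⁻¹ * ⟨q₀, hQX hq₀⟩⁻¹) = 1 := by
      rw [map_mul, map_mul, map_mul, map_inv, map_inv, h]; simp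
    rcases (hπ _).1 h1 with h2 | h2
    · apply hq₀x
      have := congrArg Subtype.val h2
      simp only [Subgroup.coe_mul, Subgroup.coe_inv, Subgroup.coe_one] at this
      exact mul_inv_eq_one.mp this
    · apply hq₀x
      apply conj_ne_zz_mul hx3
      have := eq_zz_of_en h2
      simp only [Subgroup.coe_mul, Subgroup.coe_inv] at this
      exact mul_inv_eq_iff_eq_mul.mp this

/-- two non-commuting elements of a `QSub` subgroup are quaternion generators of it -/
theorem mem_of_noncomm (hX : IsFree X) {x : V ≃ₗ[ZMod p] V} (hx3 : x ^ 3 = 1)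
    {Q : Subgroup (V ≃ₗ[ZMod p] V)} (hQX : Q ≤ X) (hQ : QSub x Q) {i j : V ≃ₗ[ZMod p] V}
    (hi : i ∈ Q) (hj : j ∈ Q) (hij : i * j ≠ j * i) :
    en i * en i = -1 ∧ en j * en j = -1 ∧ en j * en i = -(en i * en j) ∧
    ∀ q ∈ Q, q = 1 ∨ q = zz ∨ q = i ∨ q = zz * i ∨ q = j ∨ q = zz * j ∨ q = i * j ∨
        q = zz * (i * j) := by
  obtain ⟨hzQ, hz1⟩ := zz_mem_of_qsub hX hQX hQ
  have hsq := qsub_sq hX hx3 hQX hQ
  have h10 := one_ne_zero_of_zz hz1
  have h20 := two_ne_zero_of_zz hz1
  have hII : en i * en i = -1 := by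
    rcases hsq i hi with h | h | h
    · exact absurd (by rw [h]; simp) hij
    · exact absurd (by rw [h, zz_comm]) hij
    · exact h
  have hJJ : en j * en j = -1 := by
    rcases hsq j hj with h | h | h
    · exact absurd (by rw [h]; simp) hij
    · exact absurd (by rw [h, zz_comm]) hij
    · exact h
  have hijQ : i * j ∈ Q := Q.mul_mem hi hj
  have hIJ : (en i * en j) * (en i * en j) = -1 := by
    rcases hsq (i * j) hijQ with h | h | h
    · exfalso
      apply hij
      have : j = i⁻¹ := eq_inv_of_mul_eq_one_right h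
      rw [this]; simp
    · exfalso
      apply hij
      have : j = i⁻¹ * zz := eq_inv_mul_of_mul_eq h
      rw [this, ← mul_assoc, mul_inv_cancel, one_mul, mul_assoc, zz_comm i, ← mul_assoc,
        inv_mul_cancel, one_mul]
    · rwa [en_mul] at h
  have hJI := anticomm_of_sq hII hJJ hIJ
  have hKK : en (i * j) * en (i * j) = -1 := by rw [en_mul]; exact hIJ
  refine ⟨hII, hJJ, hJI, ?_⟩
  intro q hq
  rcases hsq q hq with h | h | hqq
  · exact Or.inl h
  · exact Or.inr (Or.inl h)
  · have key : ∀ r ∈ Q, en r * en r = -1 →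
        q = r ∨ q = zz * r ∨ en r * en q = -(en q * en r) := by
      intro r hr hrr
      rcases hsq (q * r) (Q.mul_mem hq hr) with h | h | h
      · right; left
        rw [← inv_of_sq hrr]
        exact eq_inv_of_mul_eq_one_left h
      · left
        have : q = zz * r⁻¹ := eq_mul_inv_of_mul_eq h
        rw [this, inv_of_sq hrr, zz_zz_mul]
      · right; right
        exact anticomm_of_sq hqq hrr (by rwa [en_mul] at h)
    rcases key i hi hII with h | h | hqi
    · exact Or.inr (Or.inr (Or.inl h))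
    · exact Or.inr (Or.inr (Or.inr (Or.inl h)))
    rcases key j hj hJJ with h | h | hqj
    · exact Or.inr (Or.inr (Or.inr (Or.inr (Or.inl h))))
    · exact Or.inr (Or.inr (Or.inr (Or.inr (Or.inr (Or.inl h)))))
    rcases key (i * j) hijQ hKK with h | h | hqk
    · exact Or.inr (Or.inr (Or.inr (Or.inr (Or.inr (Or.inr (Or.inl h))))))
    · exact Or.inr (Or.inr (Or.inr (Or.inr (Or.inr (Or.inr (Or.inr h))))))
    exfalso
    rw [en_mul] at hqk
    have e1 : en i * en j * en q = en q * (en i * en j) := by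
      calc en i * en j * en q = en i * (en j * en q) := by rw [mul_assoc]
        _ = en i * (-(en q * en j)) := by rw [hqj]
        _ = -(en i * en q) * en j := by noncomm_ring
        _ = -(-(en q * en i)) * en j := by rw [hqi]
        _ = en q * (en i * en j) := by noncomm_ring
    have e2 : (2 : ZMod p) • (en q * (en i * en j)) = 0 := by
      rw [two_smul]
      nth_rewrite 1 [← e1]
      rw [hqk]
      simp
    have e3 : en q * (en i * en j) = 0 := (smul_eq_zero.mp e2).resolve_left h20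
    have e4 : (en q * (en i * en j)) * (en i * en j) * en q = 0 := by rw [e3]; simp
    have e5 : (en q * (en i * en j)) * (en i * en j) * en q = 1 := by
      calc (en q * (en i * en j)) * (en i * en j) * en q
          = en q * ((en i * en j) * (en i * en j)) * en q := by noncomm_ring
        _ = 1 := by rw [hIJ]; simp [hqq]
    exact h10 (e5.symm.trans e4)

/-- commuting elements of order three generate the same subgroup -/
theorem eq_or_eq_sq_of_comm (hX : IsFree X) {x y : V ≃ₗ[ZMod p] V} (hx : x ∈ X) (hy : y ∈ X)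
    (hx3 : x ^ 3 = 1) (hx1 : x ≠ 1) (hy3 : y ^ 3 = 1) (hy1 : y ≠ 1) (hc : x * y = y * x) :
    y = x ∨ y = x * x := by
  by_cases hyx : y = x
  · exact Or.inl hyx
  right
  have hXX := hX.quad3 hx hx1 hx3
  have hYY := hX.quad3 hy hy1 hy3
  have hC : en x * en y = en y * en x := by rw [← en_mul, ← en_mul, hc]
  -- (Y - X)(Y - X²) = 0
  have h0 : (en y - en x) * (en y - en x * en x) = 0 := by
    have hx3' : en x * en x * en x = 1 := by
      have hx3g : x * x * x = 1 := by simpa only [pow_succ, pow_zero, one_mul] using hx3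
      rw [← en_mul, ← en_mul, hx3g, en_one]
    calc (en y - en x) * (en y - en x * en x)
        = en y * en y - (en y * en x) * en x - (en x * en y) + en x * en x * en x := by noncomm_ring
      _ = en y * en y - en y * (en x * en x + en x) + en x * en x * en x := by rw [hC]; noncomm_ring
      _ = en y * en y + en y + 1 := by
          have : en x * en x + en x = -1 := by
            rw [← sub_eq_zero, ← hXX]; noncomm_ring
          rw [this, hx3']; noncomm_ring
      _ = 0 := hYY
  -- g = y x⁻¹ ≠ 1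
  have hg : y * x⁻¹ ∈ X := X.mul_mem hy (X.inv_mem hx)
  have hg1 : y * x⁻¹ ≠ 1 := by
    intro h
    exact hyx (mul_inv_eq_one.mp h)
  have h1 : (en (y * x⁻¹) - 1) * (en x * (en y - en x * en x)) = 0 := by
    have : (en (y * x⁻¹) - 1) * en x = en y - en x := by
      rw [sub_mul, ← en_mul, one_mul]
      congr 2
      group
    rw [← mul_assoc, this, h0]
  have h2 := hX.eq_zero_of_mul hg hg1 _ h1
  have h3 : en y - en x * en x = 0 := by
    have : en x⁻¹ * (en x * (en y - en x * en x)) = 0 := by rw [h2, mul_zero]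
    rwa [← mul_assoc, en_inv_mul, one_mul] at this
  apply en_injective
  rw [en_mul]
  exact sub_eq_zero.mp h3

/-- the preimage of a `VSub` subgroup of the Dickson quotient is a `QSub` subgroup -/
theorem qsub_comap {Γ : Type*} [Group Γ] (π : X →* Γ)
    (hsurj : Function.Surjective π)
    (hπ : ∀ g : X, π g = 1 ↔ (g = 1 ∨ en (g : V ≃ₗ[ZMod p] V) = -1))
    (hzX : (zz : V ≃ₗ[ZMod p] V) ∈ X) (hz1 : (zz : V ≃ₗ[ZMod p] V) ≠ 1)
    {x : V ≃ₗ[ZMod p] V} (hx : x ∈ X) {V' : Subgroup Γ} (hV : VSub (π ⟨x, hx⟩) V') :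
    QSub x ((V'.comap π).map X.subtype) ∧ (V'.comap π).map X.subtype ≤ X := by
  obtain ⟨hcard, hnorm, v₀, hv₀, hv₀x⟩ := hV
  refine ⟨⟨?_, ?_, ?_⟩, ?_⟩
  · let f : (V'.comap π) →* Γ := π.comp (V'.comap π).subtype
    have hzz1 : π ⟨zz, hzX⟩ = 1 := (hπ _).2 (Or.inr en_zz)
    let z' : V'.comap π := ⟨⟨zz, hzX⟩, by rw [Subgroup.mem_comap, hzz1]; exact V'.one_mem⟩
    have hz' : z' ≠ 1 := by
      intro h
      apply hz1
      have := congrArg (fun t : V'.comap π => ((t : X) : V ≃ₗ[ZMod p] V)) h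
      simpa [z'] using this
    have hker : ∀ h, f h = 1 ↔ h = 1 ∨ h = z' := by
      intro h
      show π (h : X) = 1 ↔ _
      rw [hπ]
      constructor
      · rintro (h1 | h1)
        · left; exact Subtype.ext h1
        · right
          apply Subtype.ext
          apply Subtype.ext
          exact eq_zz_of_en h1
      · rintro (h1 | h1)
        · left; rw [h1]; rfl
        · right; rw [h1]; exact en_zz
    have hc := card_eq_two_mul_range f z' hz' hker
    have hr : f.range = V' := by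
      rw [MonoidHom.range_comp, Subgroup.range_subtype,
        Subgroup.map_comap_eq_self_of_surjective hsurj]
    rw [hr, hcard] at hc
    rw [Nat.card_congr ((V'.comap π).equivMapOfInjective X.subtype
      X.subtype_injective).symm.toEquiv, hc]
  · rintro q ⟨h, hh, rfl⟩
    refine ⟨⟨x, hx⟩ * h * ⟨x, hx⟩⁻¹, ?_, by simp⟩
    rw [SetLike.mem_coe, Subgroup.mem_comap] at hh ⊢
    rw [map_mul, map_mul, map_inv]
    exact hnorm _ hh
  · obtain ⟨h, rfl⟩ := hsurj v₀
    refine ⟨h, ⟨h, hv₀, rfl⟩, ?_⟩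
    intro hc
    apply hv₀x
    have : (⟨x, hx⟩ : X) * h * ⟨x, hx⟩⁻¹ = h := Subtype.ext (by simpa using hc)
    rw [← map_inv, ← map_mul, ← map_mul, this]
  · exact Subgroup.map_subtype_le _


/-- the order of a free linear group is prime to `p` -/
theorem IsFree.not_dvd_card [Nontrivial V] (hX : IsFree X) : ¬ p ∣ Nat.card X := by
  have hfpf : ∀ h : X, ∀ v : V, v ≠ 0 → (h : V ≃ₗ[ZMod p] V) v = v → h = 1 := by
    intro h v hv hh
    by_contra h1
    exact hv (hX h h.2 (fun h' => h1 (Subtype.ext h')) v hh)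
  have hd := Cfsg.Agent.S0684.card_dvd_of_fpf X (⊤ : Subgroup X) hfpf ⊤ (fun _ _ _ _ => trivial)
  rw [Subgroup.card_top, finrank_top] at hd
  intro hp
  have hn : 0 < Module.finrank (ZMod p) V := Module.finrank_pos
  have h1 : p ∣ p ^ Module.finrank (ZMod p) V - 1 := hp.trans hd
  have h2 : p ∣ p ^ Module.finrank (ZMod p) V := dvd_pow_self p hn.ne'
  have hpos : 1 ≤ p ^ Module.finrank (ZMod p) V := Nat.one_le_pow _ _ (Fact.out : p.Prime).pos
  have h3 : p ∣ 1 := by
    have := (Nat.dvd_sub h2 h1)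
    rwa [Nat.sub_sub_self hpos] at this
  exact (Fact.out : p.Prime).one_lt.ne' (Nat.dvd_one.mp h3)

end Cfsg.Agent.Lib.Helper12.ZassLin
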