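import Mathlib
import Cfsg.Agent.Lib.Helper12.ZassLin3

/-!
# Free linear groups: quaternion algebra computations (helper12)
-/

set_option autoImplicit false
namespace Cfsg.Agent.Lib.Helper12.ZassLin
open Cfsg.Agent.Lib.Helper12.Zass Cfsg.Agent.Lib.Helper12.TwoDim

variable {p : ℕ} [Fact p.Prime] {V : Type*} [AddCommGroup V] [Module (ZMod p) V]

section Alg
variable {I J S : Module.End (ZMod p) V}

/-- multiplication table of a quaternion pair -/
theorem quat_table (hII : I * I = -1) (hJJ : J * J = -1) (hJI : J * I = -(I * J)) :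
    (I * J) * (I * J) = -1 ∧ I * (I * J) = -J ∧ (I * J) * I = J ∧ J * (I * J) = I ∧
      (I * J) * J = -I := by
  refine ⟨?_, ?_, ?_, ?_, ?_⟩
  · calc (I * J) * (I * J) = I * (J * I) * J := by noncomm_ring
      _ = -((I * I) * (J * J)) := by rw [hJI]; noncomm_ring
      _ = -1 := by rw [hII, hJJ]; simp
  · calc I * (I * J) = (I * I) * J := by noncomm_ring
      _ = -J := by rw [hII]; simp
  · calc (I * J) * I = I * (J * I) := by noncomm_ring
      _ = -((I * I) * J) := by rw [hJI]; noncomm_ring
      _ = J := by rw [hII]; simp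
  · calc J * (I * J) = (J * I) * J := by noncomm_ring
      _ = -(I * (J * J)) := by rw [hJI]; noncomm_ring
      _ = I := by rw [hJJ]; simp
  · calc (I * J) * J = I * (J * J) := by noncomm_ring
      _ = -I := by rw [hJJ]; simp

/-- relations between `S = -(I + J + IJ)` and `ε = I - J` -/
theorem s_eps (hII : I * I = -1) (hJJ : J * J = -1) (hJI : J * I = -(I * J))
    (hS : S = -(I + J + I * J)) :
    S * (I - J) = -((I - J) * S) ∧ (I - J) * (I - J) = -2 ∧ S * S = -3 ∧
      S * (I - J) = 3 • (I * J) + S := by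
  obtain ⟨hKK, hIK, hKI, hJK, hKJ⟩ := quat_table hII hJJ hJI
  obtain ⟨K, hK⟩ : ∃ K, K = I * J := ⟨_, rfl⟩
  rw [← hK] at hKK hIK hKI hJK hKJ hJI hS
  have hIJ : I * J = K := hK.symm
  have e1 : S * (I - J) = 2 • K - I - J := by
    rw [hS]
    simp only [neg_mul, add_mul, mul_sub, hII, hJJ, hIJ, hJI, hKI, hKJ]
    abel
  have e2 : (I - J) * S = -(2 • K) + I + J := by
    rw [hS]
    simp only [mul_neg, mul_add, sub_mul, hII, hJJ, hIJ, hJI, hIK, hJK]
    abel
  refine ⟨?_, ?_, ?_, ?_⟩
  · rw [e1, e2]; abel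
  · simp only [mul_sub, sub_mul, hII, hJJ, hIJ, hJI]
    abel_nf
    norm_num
  · rw [hS]
    simp only [neg_mul, mul_neg, add_mul, mul_add, hII, hJJ, hIJ, hJI, hKI, hKJ, hIK, hJK, hKK]
    abel_nf
    norm_num
  · rw [e1, hS, ← hK]
    abel

end Alg

section Alg2
variable {S E F : Module.End (ZMod p) V}

theorem comm_sub_of_comm {Z E F : Module.End (ZMod p) V} (hE : E * Z = Z * E)
    (hF : F * Z = Z * F) : Z * (F * E - E * F) = (F * E - E * F) * Z := by
  calc Z * (F * E - E * F) = (Z * F) * E - (Z * E) * F := by noncomm_ring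
    _ = (F * Z) * E - (E * Z) * F := by rw [hF, hE]
    _ = F * (Z * E) - E * (Z * F) := by noncomm_ring
    _ = F * (E * Z) - E * (F * Z) := by rw [hE, hF]
    _ = (F * E - E * F) * Z := by noncomm_ring

/-- the central elements `ξ = EF + FE` and `η = (FE - EF)S` -/
theorem central_xi_eta (hSE : S * E = -(E * S)) (hSF : S * F = -(F * S)) (hEE : E * E = -2)
    (hFF : F * F = -2) (hSS : S * S = -3) :
    Commute S (E * F + F * E) ∧ Commute E (E * F + F * E) ∧
    Commute S ((F * E - E * F) * S) ∧ Commute E ((F * E - E * F) * S) ∧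
    Commute (E * F + F * E) ((F * E - E * F) * S) ∧
    (3 • (E * F + F * E) - ((F * E - E * F) * S) * S) * E = -(12 • F) := by
  have hSxi : S * (E * F + F * E) = (E * F + F * E) * S := by
    calc S * (E * F + F * E) = (S * E) * F + (S * F) * E := by noncomm_ring
      _ = (-(E * S)) * F + (-(F * S)) * E := by rw [hSE, hSF]
      _ = -(E * (S * F)) - F * (S * E) := by noncomm_ring
      _ = -(E * (-(F * S))) - F * (-(E * S)) := by rw [hSF, hSE]
      _ = (E * F + F * E) * S := by noncomm_ring
  have hExi : E * (E * F + F * E) = (E * F + F * E) * E := by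
    calc E * (E * F + F * E) = (E * E) * F + E * F * E := by noncomm_ring
      _ = (-2) * F + E * F * E := by rw [hEE]
      _ = E * F * E + F * (-2) := by noncomm_ring
      _ = E * F * E + F * (E * E) := by rw [hEE]
      _ = (E * F + F * E) * E := by noncomm_ring
  have hFxi : F * (E * F + F * E) = (E * F + F * E) * F := by
    calc F * (E * F + F * E) = F * E * F + (F * F) * E := by noncomm_ring
      _ = F * E * F + (-2) * E := by rw [hFF]
      _ = E * (-2) + F * E * F := by noncomm_ring
      _ = E * (F * F) + F * E * F := by rw [hFF]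
      _ = (E * F + F * E) * F := by noncomm_ring
  have hSka : S * (F * E - E * F) = (F * E - E * F) * S := by
    calc S * (F * E - E * F) = (S * F) * E - (S * E) * F := by noncomm_ring
      _ = (-(F * S)) * E - (-(E * S)) * F := by rw [hSE, hSF]
      _ = -(F * (S * E)) + E * (S * F) := by noncomm_ring
      _ = -(F * (-(E * S))) + E * (-(F * S)) := by rw [hSF, hSE]
      _ = (F * E - E * F) * S := by noncomm_ring
  have hEka : E * (F * E - E * F) = -((F * E - E * F) * E) := by
    calc E * (F * E - E * F) = E * F * E - (E * E) * F := by noncomm_ring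
      _ = E * F * E - (-2) * F := by rw [hEE]
      _ = -(F * (-2) - E * F * E) := by noncomm_ring
      _ = -(F * (E * E) - E * F * E) := by rw [hEE]
      _ = -((F * E - E * F) * E) := by noncomm_ring
  have hSeta : S * ((F * E - E * F) * S) = ((F * E - E * F) * S) * S := by
    rw [← mul_assoc, hSka]
  have hEeta : E * ((F * E - E * F) * S) = ((F * E - E * F) * S) * E := by
    calc E * ((F * E - E * F) * S) = (E * (F * E - E * F)) * S := by noncomm_ring
      _ = (-((F * E - E * F) * E)) * S := by rw [hEka]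
      _ = -((F * E - E * F) * (-(-(E * S)))) := by noncomm_ring
      _ = -((F * E - E * F) * (-(S * E))) := by rw [hSE]
      _ = ((F * E - E * F) * S) * E := by noncomm_ring
  have hxika := comm_sub_of_comm hExi hFxi
  refine ⟨hSxi, hExi, hSeta, hEeta, ?_, ?_⟩
  · show (E * F + F * E) * ((F * E - E * F) * S) = ((F * E - E * F) * S) * (E * F + F * E)
    calc (E * F + F * E) * ((F * E - E * F) * S)
        = ((E * F + F * E) * (F * E - E * F)) * S := by noncomm_ring
      _ = ((F * E - E * F) * (E * F + F * E)) * S := by rw [hxika]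
      _ = (F * E - E * F) * ((E * F + F * E) * S) := by noncomm_ring
      _ = (F * E - E * F) * (S * (E * F + F * E)) := by rw [hSxi]
      _ = ((F * E - E * F) * S) * (E * F + F * E) := by noncomm_ring
  · calc (3 • (E * F + F * E) - ((F * E - E * F) * S) * S) * E
        = 3 • ((E * F + F * E) * E) - (F * E - E * F) * (S * S) * E := by noncomm_ring
      _ = 3 • ((E * F + F * E) * E) - (F * E - E * F) * (-3) * E := by rw [hSS]
      _ = 6 • (F * (E * E)) := by noncomm_ring
      _ = 6 • (F * (-2)) := by rw [hEE]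
      _ = -(12 • F) := by noncomm_ring

end Alg2

theorem smul_mem_of_nsmul {A : Subalgebra (ZMod p) (Module.End (ZMod p) V)} {n : ℕ}
    (hn : (n : ZMod p) ≠ 0) {T U : Module.End (ZMod p) V} (h : n • T = U) (hU : U ∈ A) : T ∈ A := by
  have : T = (n : ZMod p)⁻¹ • U := by
    rw [← h, ← Nat.cast_smul_eq_nsmul (ZMod p), smul_smul, inv_mul_cancel₀ hn, one_smul]
  rw [this]
  exact A.smul_mem hU _

theorem quat_mem {I J S : Module.End (ZMod p) V}
    (A : Subalgebra (ZMod p) (Module.End (ZMod p) V)) (h2 : (2 : ZMod p) ≠ 0)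
    (h3 : (3 : ZMod p) ≠ 0) (hII : I * I = -1) (hJJ : J * J = -1) (hJI : J * I = -(I * J))
    (hS : S = -(I + J + I * J)) (hSA : S ∈ A) (hEA : I - J ∈ A) :
    I ∈ A ∧ J ∈ A ∧ I * J ∈ A := by
  obtain ⟨-, -, -, h4⟩ := s_eps hII hJJ hJI hS
  have hK : I * J ∈ A := by
    apply smul_mem_of_nsmul (n := 3) (by exact_mod_cast h3) (U := S * (I - J) - S)
    · rw [h4]; abel
    · exact A.sub_mem (A.mul_mem hSA hEA) hSA
  have hI : I ∈ A := by
    apply smul_mem_of_nsmul (n := 2) (by exact_mod_cast h2) (U := -S - I * J + (I - J))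
    · rw [hS]; abel
    · exact A.add_mem (A.sub_mem (A.neg_mem hSA) hK) hEA
  refine ⟨hI, ?_, hK⟩
  have : J = I - (I - J) := by abel
  rw [this]
  exact A.sub_mem hI hEA

end Cfsg.Agent.Lib.Helper12.ZassLin
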