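import Mathlib
import Cfsg.Agent.Lib.Helper12.ZassLin4
import Cfsg.Agent.Lib.Helper67.ZassG

/-!
# Free linear groups: two elements of order three (helper12)
-/

set_option autoImplicit false
namespace Cfsg.Agent.Lib.Helper12.ZassLin
open Cfsg.Agent.Lib.Helper12.Zass Cfsg.Agent.Lib.Helper12.TwoDim Cfsg.Agent.Lib.Helper67.Zass

variable {p : ℕ} [Fact p.Prime] {V : Type*} [AddCommGroup V] [Module (ZMod p) V]
variable [Finite V] [Nontrivial V] {X : Subgroup (V ≃ₗ[ZMod p] V)}

theorem pow_three_of_order {G : Type*} [Group G] {x : G} (h : orderOf x = 3) :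
    x ^ 3 = 1 ∧ x ≠ 1 := by
  refine ⟨by rw [← h, pow_orderOf_eq_one], ?_⟩
  rintro rfl
  rw [orderOf_one] at h
  norm_num at h

/-- the central element `t = XY + YX + X + Y` for two elements of order three -/
theorem t_comm {A B : Module.End (ZMod p) V} (hA : A * A + A + 1 = 0) :
    A * (A * B + B * A + A + B) = (A * B + B * A + A + B) * A := by
  have hA' : A * A = -A - 1 := by rw [← sub_eq_zero, ← hA]; noncomm_ring
  have e : A * (A * B + B * A + A + B) - (A * B + B * A + A + B) * A =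
      (A * A) * B - B * (A * A) + (A * B - B * A) := by noncomm_ring
  rw [← sub_eq_zero, e, hA']
  noncomm_ring

theorem t_comm' {A B : Module.End (ZMod p) V} (hB : B * B + B + 1 = 0) :
    B * (A * B + B * A + A + B) = (A * B + B * A + A + B) * B := by
  have hB' : B * B = -B - 1 := by rw [← sub_eq_zero, ← hB]; noncomm_ring
  have e : B * (A * B + B * A + A + B) - (A * B + B * A + A + B) * B =
      (B * B) * A - A * (B * B) + (B * A - A * B) := by noncomm_ring
  rw [← sub_eq_zero, e, hB']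
  noncomm_ring

end Cfsg.Agent.Lib.Helper12.ZassLin

namespace Cfsg.Agent.Lib.Helper12.ZassLin
open Cfsg.Agent.Lib.Helper12.Zass Cfsg.Agent.Lib.Helper12.TwoDim Polynomial Cfsg.Agent.Lib.Helper67.Zass

variable {p : ℕ} [Fact p.Prime] {V : Type*} [AddCommGroup V] [Module (ZMod p) V]
variable [Finite V] [Nontrivial V] {X : Subgroup (V ≃ₗ[ZMod p] V)}

/-- Dickson quotient for two non-commuting elements of order three -/
theorem dickson33 (hX : IsFree X) {x y : V ≃ₗ[ZMod p] V} (hx : x ∈ X) (hy : y ∈ X)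
    (hx3 : x ^ 3 = 1) (hx1 : x ≠ 1) (hy3 : y ^ 3 = 1) (hy1 : y ≠ 1) (hnc : x * y ≠ y * x) :
    ∃ (Γ : Type) (_ : Group Γ) (π : (Subgroup.closure {x, y} : Subgroup (V ≃ₗ[ZMod p] V)) →* Γ),
      Function.Surjective π ∧
      (∀ g : (Subgroup.closure {x, y} : Subgroup (V ≃ₗ[ZMod p] V)),
        π g = 1 ↔ (g = 1 ∨ en (g : V ≃ₗ[ZMod p] V) = -1)) ∧ DL Γ := by
  have hle : Subgroup.closure {x, y} ≤ X := by
    rw [Subgroup.closure_le]
    rintro g (rfl | rfl)
    · exact hx
    · exact hy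
  have hX' := hX.mono hle
  have hXX := hX.quad3 hx hx1 hx3
  have hYY := hX.quad3 hy hy1 hy3
  set A := en x with hA
  set B := en y with hB
  set t := A * B + B * A + A + B with ht
  have hxm : x ∈ Subgroup.closure {x, y} := Subgroup.subset_closure (by simp)
  have hym : y ∈ Subgroup.closure {x, y} := Subgroup.subset_closure (by simp)
  obtain ⟨Γ, hΓ, π, hsurj, hker, hDL⟩ := quad_dickson (Subgroup.closure {x, y}) hX' hX'.not_dvd_card
    A B [t, -1]
    (by
      intro c hc d hd
      simp only [List.mem_cons, List.not_mem_nil, or_false] at hc hd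
      rcases hc with rfl | rfl <;> rcases hd with rfl | rfl
      · exact Commute.refl _
      · exact Commute.neg_right (Commute.one_right _)
      · exact Commute.neg_left (Commute.one_left _)
      · exact Commute.refl _)
    (by
      intro c hc
      simp only [List.mem_cons, List.not_mem_nil, or_false] at hc
      rcases hc with rfl | rfl
      · exact t_comm hXX
      · exact Commute.neg_right (Commute.one_right _))
    (by
      intro c hc
      simp only [List.mem_cons, List.not_mem_nil, or_false] at hc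
      rcases hc with rfl | rfl
      · exact t_comm' hYY
      · exact Commute.neg_right (Commute.one_right _))
    (Polynomial.X ^ 2 + Polynomial.X + 1 : Polynomial (ZMod p))
    (by
      intro h
      have := congrArg (fun q => Polynomial.coeff q 0) h
      simp at this)
    (by
      simp only [map_add, map_pow, Polynomial.aeval_X, map_one]
      rw [sq]; exact hXX)
    t (-1) (-1) (-1) (-1) (-1) (by simp) (by simp) (by simp) (by simp) (by simp) (by simp)
    (by rw [ht]; noncomm_ring)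
    (by rw [← sub_eq_zero, ← hYY]; noncomm_ring)
    {x, y} ⟨x, by simp⟩ rfl
    (by
      rintro s (rfl | rfl)
      · exact Algebra.subset_adjoin (Or.inl (by simp [hA, en_eq_coe]))
      · exact Algebra.subset_adjoin (Or.inl (by simp [hB, en_eq_coe])))
    (by
      rintro s (rfl | rfl)
      · left; exact hXX
      · left; exact hYY)
    (by
      rintro s (rfl | rfl)
      · exact ⟨y, hym, hnc⟩
      · exact ⟨x, hxm, fun h => hnc h.symm⟩)
  exact ⟨Γ, hΓ, π, hsurj, hker, hDL⟩

end Cfsg.Agent.Lib.Helper12.ZassLin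

namespace Cfsg.Agent.Lib.Helper12.ZassLin
open Cfsg.Agent.Lib.Helper12.Zass Cfsg.Agent.Lib.Helper12.TwoDim Cfsg.Agent.Lib.Helper67.Zass

variable {p : ℕ} [Fact p.Prime] {V : Type*} [AddCommGroup V] [Module (ZMod p) V]
variable [Finite V] [Nontrivial V] {X : Subgroup (V ≃ₗ[ZMod p] V)}

/-- if the Dickson quotient has an element of order two then `-1 ∈ X` -/
theorem zz_mem_of_order_two (hX : IsFree X) {Γ : Type*} [Group Γ] (π : X →* Γ)
    (hsurj : Function.Surjective π)
    (hπ : ∀ g : X, π g = 1 ↔ (g = 1 ∨ en (g : V ≃ₗ[ZMod p] V) = -1))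
    (v : Γ) (hv : orderOf v = 2) :
    (zz : V ≃ₗ[ZMod p] V) ∈ X ∧ (zz : V ≃ₗ[ZMod p] V) ≠ 1 := by
  obtain ⟨g, rfl⟩ := hsurj v
  have hv1 : π g ≠ 1 := by
    intro h
    rw [h, orderOf_one] at hv
    norm_num at hv
  have hv2 : π (g * g) = 1 := by
    rw [map_mul, ← sq, ← hv, pow_orderOf_eq_one]
  have hg1 : (g : V ≃ₗ[ZMod p] V) ≠ 1 := by
    intro h
    apply hv1
    rw [show g = 1 from Subtype.ext h, map_one]
  have hgg : (g : V ≃ₗ[ZMod p] V) * (g : V ≃ₗ[ZMod p] V) ≠ 1 := by
    intro h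
    apply hv1
    rw [hπ]
    right
    exact hX.en_of_sq g.2 hg1 h
  rcases (hπ _).1 hv2 with h | h
  · exact absurd (by simpa using congrArg Subtype.val h) hgg
  · have e : (g : V ≃ₗ[ZMod p] V) * (g : V ≃ₗ[ZMod p] V) = zz := eq_zz_of_en (by simpa using h)
    exact ⟨e ▸ X.mul_mem g.2 g.2, e ▸ hgg⟩

theorem exists_order_two_of_vsub {Γ : Type*} [Group Γ] {σ : Γ} {V' : Subgroup Γ}
    (h : VSub σ V') : ∃ v : Γ, v ∈ V' ∧ orderOf v = 2 := by
  have hfin : Finite V' := Nat.finite_of_card_ne_zero (by rw [h.1]; norm_num)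
  have : Fact (Nat.Prime 2) := ⟨Nat.prime_two⟩
  obtain ⟨g, hg⟩ := exists_prime_orderOf_dvd_card' (G := V') 2 (by rw [h.1]; norm_num)
  exact ⟨g, g.2, by rwa [Subgroup.orderOf_coe]⟩

theorem lin_e5 (hX : IsFree X) {x y : V ≃ₗ[ZMod p] V} (hx : x ∈ X) (hy : y ∈ X)
    (hxo : orderOf x = 3) (hyo : orderOf y = 3) (hxy : y ∉ Subgroup.zpowers x) :
    y ∈ Subgroup.closure ({x} ∪
      {q | ∃ Q : Subgroup (V ≃ₗ[ZMod p] V), Q ≤ X ∧ QSub x Q ∧ q ∈ Q}) := by
  obtain ⟨hx3, hx1⟩ := pow_three_of_order hxo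
  obtain ⟨hy3, hy1⟩ := pow_three_of_order hyo
  have hnc : x * y ≠ y * x := by
    intro hc
    rcases eq_or_eq_sq_of_comm hX hx hy hx3 hx1 hy3 hy1 hc with h | h
    · exact hxy (h ▸ Subgroup.mem_zpowers x)
    · exact hxy (h ▸ (Subgroup.zpowers x).mul_mem (Subgroup.mem_zpowers x)
        (Subgroup.mem_zpowers x))
  obtain ⟨Γ, hΓ, π, hsurj, hker, hDL⟩ := dickson33 hX hx hy hx3 hx1 hy3 hy1 hnc
  have hle : Subgroup.closure {x, y} ≤ X := by
    rw [Subgroup.closure_le]
    rintro g (rfl | rfl)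
    · exact hx
    · exact hy
  have hX' := hX.mono hle
  have hxm : x ∈ Subgroup.closure {x, y} := Subgroup.subset_closure (by simp)
  have hym : y ∈ Subgroup.closure {x, y} := Subgroup.subset_closure (by simp)
  -- orders of the images
  have hord : ∀ (g : V ≃ₗ[ZMod p] V) (hg : g ∈ Subgroup.closure {x, y}), g ^ 3 = 1 → g ≠ 1 →
      orderOf (π ⟨g, hg⟩) = 3 := by
    intro g hg hg3 hg1
    have : Fact (Nat.Prime 3) := ⟨Nat.prime_three⟩
    apply orderOf_eq_prime
    · rw [← map_pow]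
      rw [show (⟨g, hg⟩ : Subgroup.closure {x, y}) ^ 3 = 1 from Subtype.ext (by simpa using hg3),
        map_one]
    · intro h
      rcases (hker _).1 h with h | h
      · exact hg1 (by simpa using congrArg Subtype.val h)
      · have e : g = zz := eq_zz_of_en h
        apply hg1
        have : g * g = 1 := by rw [e, zz_sq]
        calc g = g ^ 3 * (g * g)⁻¹ := by
              simp only [pow_succ, pow_zero, one_mul, mul_inv_rev]; group
          _ = 1 := by rw [hg3, this]; simp
  have hσ := hord x hxm hx3 hx1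
  have hτ := hord y hym hy3 hy1
  have hgen : Subgroup.closure {π ⟨x, hxm⟩, π ⟨y, hym⟩} = ⊤ := by
    have h1 := Subgroup.closure_closure_coe_preimage (k := ({x, y} : Set (V ≃ₗ[ZMod p] V)))
    have h2 := congrArg (Subgroup.map π) h1
    rw [MonoidHom.map_closure, Subgroup.map_top_of_surjective π hsurj] at h2
    rw [← h2]
    congr 1
    ext v
    constructor
    · rintro (rfl | rfl)
      · exact ⟨⟨x, hxm⟩, by simp, rfl⟩
      · exact ⟨⟨y, hym⟩, by simp, rfl⟩
    · rintro ⟨g, hg, rfl⟩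
      rcases hg with h | h
      · left; congr 1; exact Subtype.ext h
      · right; congr 1; exact Subtype.ext h
  have hncΓ : π ⟨x, hxm⟩ * π ⟨y, hym⟩ ≠ π ⟨y, hym⟩ * π ⟨x, hxm⟩ := by
    intro h
    have h1 : π (⟨x, hxm⟩ * ⟨y, hym⟩ * ⟨x, hxm⟩⁻¹ * ⟨y, hym⟩⁻¹) = 1 := by
      rw [map_mul, map_mul, map_mul, map_inv, map_inv, h]; group
    rcases (hker _).1 h1 with h2 | h2
    · apply hnc
      have := congrArg Subtype.val h2
      simp only [Subgroup.coe_mul, Subgroup.coe_inv, Subgroup.coe_one] at this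
      have e : x * y * x⁻¹ = y := mul_inv_eq_one.mp this
      calc x * y = x * y * x⁻¹ * x := by group
        _ = y * x := by rw [e]
    · have e := eq_zz_of_en h2
      simp only [Subgroup.coe_mul, Subgroup.coe_inv] at e
      have e' : x * y * x⁻¹ = zz * y := mul_inv_eq_iff_eq_mul.mp e
      -- cube both sides
      have c1 : (x * y * x⁻¹) ^ 3 = 1 := by rw [conj_pow, hy3]; group
      have c2 : (zz * y) ^ 3 = zz := by
        apply en_injective
        rw [en_pow, en_mul, en_zz]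
        have : (-1 * en y) ^ 3 = -(en y ^ 3) := by noncomm_ring
        rw [this, ← en_pow, hy3, en_one]
      rw [e', c2] at c1
      -- zz = 1: then x y x⁻¹ = y
      apply hnc
      rw [c1, one_mul] at e'
      calc x * y = x * y * x⁻¹ * x := by group
        _ = y * x := by rw [e']
  -- the target subgroup
  set N := Subgroup.closure ({x} ∪
      {q | ∃ Q : Subgroup (V ≃ₗ[ZMod p] V), Q ≤ X ∧ QSub x Q ∧ q ∈ Q}) with hN
  have hxN : x ∈ N := Subgroup.subset_closure (Or.inl rfl)
  have key : ∀ V' : Subgroup Γ, VSub (π ⟨x, hxm⟩) V' →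
      (zz : V ≃ₗ[ZMod p] V) ∈ N ∧ V' ≤ (N.subgroupOf (Subgroup.closure {x, y})).map π := by
    intro V' hV'
    obtain ⟨v, hv, hv2⟩ := exists_order_two_of_vsub hV'
    obtain ⟨hzX, hz1⟩ := zz_mem_of_order_two hX' π hsurj hker v hv2
    obtain ⟨hQ, hQle⟩ := qsub_comap π hsurj hker hzX hz1 hxm hV'
    have hQN : (V'.comap π).map (Subgroup.closure {x, y}).subtype ≤ N := by
      intro q hq
      exact Subgroup.subset_closure (Or.inr ⟨_, hQle.trans hle, hQ, hq⟩)
    refine ⟨hQN ?_, ?_⟩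
    · refine ⟨⟨zz, hzX⟩, ?_, rfl⟩
      rw [SetLike.mem_coe, Subgroup.mem_comap, (hker _).2 (Or.inr en_zz)]
      exact V'.one_mem
    · intro w hw
      obtain ⟨g, rfl⟩ := hsurj w
      refine ⟨g, ?_, rfl⟩
      rw [SetLike.mem_coe, Subgroup.mem_subgroupOf]
      exact hQN ⟨g, hw, rfl⟩
  have hσN : π ⟨x, hxm⟩ ∈ (N.subgroupOf (Subgroup.closure {x, y})).map π :=
    ⟨⟨x, hxm⟩, by rw [SetLike.mem_coe, Subgroup.mem_subgroupOf]; exact hxN, rfl⟩
  have hfin : ∀ (hzN : (zz : V ≃ₗ[ZMod p] V) ∈ N)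
      (htop : (N.subgroupOf (Subgroup.closure {x, y})).map π = ⊤), y ∈ N := by
    intro hzN htop
    have : π ⟨y, hym⟩ ∈ (N.subgroupOf (Subgroup.closure {x, y})).map π := by rw [htop]; trivial
    obtain ⟨n, hn, hny⟩ := this
    rw [SetLike.mem_coe, Subgroup.mem_subgroupOf] at hn
    have h1 : π (n⁻¹ * ⟨y, hym⟩) = 1 := by rw [map_mul, map_inv, hny]; group
    rcases (hker _).1 h1 with h2 | h2
    · have := congrArg Subtype.val h2
      simp only [Subgroup.coe_mul, Subgroup.coe_inv, Subgroup.coe_one] at this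
      have e : y = n := by
        have := inv_mul_eq_one.mp this
        exact this.symm
      rw [e]; exact hn
    · have e := eq_zz_of_en h2
      simp only [Subgroup.coe_mul, Subgroup.coe_inv] at e
      have e' : y = (n : V ≃ₗ[ZMod p] V) * zz := by rw [← e]; group
      rw [e']; exact N.mul_mem hn hzN
  rcases gamma_gen33 hDL _ _ hσ hτ hgen hncΓ with ⟨V', hV', htop⟩ | ⟨V₁, V₂, hV₁, hV₂, -, htop⟩
  · obtain ⟨hzN, hV'le⟩ := key V' hV'
    apply hfin hzN
    rw [eq_top_iff, ← htop]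
    exact sup_le hV'le (by rwa [Subgroup.zpowers_le])
  · obtain ⟨hzN, hV₁le⟩ := key V₁ hV₁
    obtain ⟨-, hV₂le⟩ := key V₂ hV₂
    apply hfin hzN
    rw [eq_top_iff, ← htop]
    exact sup_le (sup_le hV₁le hV₂le) (by rwa [Subgroup.zpowers_le])

end Cfsg.Agent.Lib.Helper12.ZassLin
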