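import Mathlib
import Cfsg.Agent.Lib.Helper12.ZassLin5

/-!
# Free linear groups: two quaternion subgroups normalised by the same element of order three
(helper12)
-/

set_option autoImplicit false
namespace Cfsg.Agent.Lib.Helper12.ZassLin
open Cfsg.Agent.Lib.Helper12.Zass Cfsg.Agent.Lib.Helper12.TwoDim Cfsg.Agent.Lib.Helper67.Zass

variable {p : ℕ} [Fact p.Prime] {V : Type*} [AddCommGroup V] [Module (ZMod p) V]

theorem ne_neg_of_sq {T : Module.End (ZMod p) V} (h2 : (2 : ZMod p) ≠ 0)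
    (h10 : (1 : Module.End (ZMod p) V) ≠ 0) (hT : T * T = -1) : T ≠ -T := by
  intro h
  have h1 : (2 : ZMod p) • T = 0 := by
    rw [two_smul]
    nth_rewrite 2 [h]
    simp
  have h0 : T = 0 := (smul_eq_zero.mp h1).resolve_left h2
  rw [h0] at hT
  apply h10
  have : (0 : Module.End (ZMod p) V) = -1 := by simpa using hT
  rw [← neg_eq_zero, ← this]

/-- an element of a quaternion subgroup other than `±1` does not commute with `i` or `j` -/
theorem QData.exists_noncomm {x : V ≃ₗ[ZMod p] V} {Q : Subgroup (V ≃ₗ[ZMod p] V)}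
    {i j : V ≃ₗ[ZMod p] V} (d : QData x Q i j) {q : V ≃ₗ[ZMod p] V} (hq : q ∈ Q) (hq1 : q ≠ 1)
    (hqz : q ≠ zz) : q * i ≠ i * q ∨ q * j ≠ j * q := by
  have h2 := two_ne_zero_of_zz d.z1
  have h10 := one_ne_zero_of_zz d.z1
  obtain ⟨hKK, hIK, hKI, hJK, hKJ⟩ := quat_table d.ii d.jj d.ji
  have nIJ : en i * en j ≠ -(en i * en j) := ne_neg_of_sq h2 h10 hKK
  have nJ : en j ≠ -en j := ne_neg_of_sq h2 h10 d.jj
  by_contra hcon
  push Not at hcon
  obtain ⟨hci, hcj⟩ := hcon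
  have hci' : en q * en i = en i * en q := by rw [← en_mul, ← en_mul, hci]
  have hcj' : en q * en j = en j * en q := by rw [← en_mul, ← en_mul, hcj]
  -- the three basic cases
  have cI : ¬ (en i * en j = en j * en i) := fun h => nIJ (h.trans d.ji)
  have cK : ¬ ((en i * en j) * en i = en i * (en i * en j)) := fun h => nJ (hKI.symm.trans (h.trans hIK))
  have neg_case : ∀ T U : Module.End (ZMod p) V, (-T) * U = U * (-T) → T * U = U * T := by
    intro T U h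
    have : -(T * U) = -(U * T) := by simpa using h
    exact neg_injective this
  rcases d.mem q hq with h | h | h | h | h | h | h | h
  · exact hq1 h
  · exact hqz h
  · rw [h] at hcj'; exact cI hcj'
  · rw [h, en_mul, en_zz, neg_one_mul] at hcj'; exact cI (neg_case _ _ hcj')
  · rw [h] at hci'; exact cI hci'.symm
  · rw [h, en_mul, en_zz, neg_one_mul] at hci'; exact cI (neg_case _ _ hci').symm
  · rw [h, en_mul] at hci'; exact cK hci'
  · rw [h, en_mul, en_zz, en_mul, neg_one_mul] at hci'; exact cK (neg_case _ _ hci')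

/-- elements of a quaternion subgroup lie in any subalgebra containing `I, J` -/
theorem QData.en_mem {x : V ≃ₗ[ZMod p] V} {Q : Subgroup (V ≃ₗ[ZMod p] V)}
    {i j : V ≃ₗ[ZMod p] V} (d : QData x Q i j) (A : Subalgebra (ZMod p) (Module.End (ZMod p) V))
    (hI : en i ∈ A) (hJ : en j ∈ A) {q : V ≃ₗ[ZMod p] V} (hq : q ∈ Q) : en q ∈ A := by
  rcases d.mem q hq with h | h | h | h | h | h | h | h <;> rw [h]
  · rw [en_one]; exact A.one_mem
  · rw [en_zz]; exact A.neg_mem A.one_mem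
  · exact hI
  · rw [en_mul, en_zz]; exact A.mul_mem (A.neg_mem A.one_mem) hI
  · exact hJ
  · rw [en_mul, en_zz]; exact A.mul_mem (A.neg_mem A.one_mem) hJ
  · rw [en_mul]; exact A.mul_mem hI hJ
  · rw [en_mul, en_zz, en_mul]; exact A.mul_mem (A.neg_mem A.one_mem) (A.mul_mem hI hJ)

/-- elements of a quaternion subgroup other than `±1` square to `-1` -/
theorem QData.sq {x : V ≃ₗ[ZMod p] V} {Q : Subgroup (V ≃ₗ[ZMod p] V)}
    {i j : V ≃ₗ[ZMod p] V} (d : QData x Q i j) {q : V ≃ₗ[ZMod p] V} (hq : q ∈ Q) (hq1 : q ≠ 1)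
    (hqz : q ≠ zz) : en q * en q = -1 := by
  obtain ⟨hKK, -, -, -, -⟩ := quat_table d.ii d.jj d.ji
  rcases d.mem q hq with h | h | h | h | h | h | h | h
  · exact absurd h hq1
  · exact absurd h hqz
  · rw [h]; exact d.ii
  · rw [h, en_mul, en_zz]; simpa using d.ii
  · rw [h]; exact d.jj
  · rw [h, en_mul, en_zz]; simpa using d.jj
  · rw [h, en_mul]; exact hKK
  · rw [h, en_mul, en_zz, en_mul]; simpa using hKK

theorem list_comm {ξ η : Module.End (ZMod p) V} (h : Commute ξ η) :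
    ∀ c ∈ [0, -1, -2, ξ, η], ∀ d ∈ [0, -1, -2, ξ, η], Commute c d := by
  have hsc : ∀ c : Module.End (ZMod p) V, (c = 0 ∨ c = -1 ∨ c = -2) → ∀ d, Commute c d := by
    rintro c (rfl | rfl | rfl) d
    · exact Commute.zero_left d
    · exact Commute.neg_left (Commute.one_left d)
    · exact Commute.neg_left (Commute.ofNat_left 2 d)
  intro c hc d hd
  simp only [List.mem_cons, List.not_mem_nil, or_false] at hc hd
  rcases hc with hc | hc | hc | hc | hc
  · exact hsc c (Or.inl hc) d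
  · exact hsc c (Or.inr (Or.inl hc)) d
  · exact hsc c (Or.inr (Or.inr hc)) d
  · rcases hd with hd | hd | hd | hd | hd
    · exact (hsc d (Or.inl hd) c).symm
    · exact (hsc d (Or.inr (Or.inl hd)) c).symm
    · exact (hsc d (Or.inr (Or.inr hd)) c).symm
    · rw [hc, hd]
    · rw [hc, hd]; exact h
  · rcases hd with hd | hd | hd | hd | hd
    · exact (hsc d (Or.inl hd) c).symm
    · exact (hsc d (Or.inr (Or.inl hd)) c).symm
    · exact (hsc d (Or.inr (Or.inr hd)) c).symm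
    · rw [hc, hd]; exact h.symm
    · rw [hc, hd]

theorem list_comm_of {T ξ η : Module.End (ZMod p) V} (h1 : Commute T ξ) (h2 : Commute T η) :
    ∀ c ∈ [0, -1, -2, ξ, η], Commute T c := by
  intro c hc
  simp only [List.mem_cons, List.not_mem_nil, or_false] at hc
  rcases hc with rfl | rfl | rfl | rfl | rfl
  · exact Commute.zero_right T
  · exact Commute.neg_right (Commute.one_right T)
  · exact Commute.neg_right (Commute.ofNat_right T 2)
  · exact h1
  · exact h2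

section
variable [Finite V] {X : Subgroup (V ≃ₗ[ZMod p] V)}

theorem mem_of_map_mem {Γ : Type*} [Group Γ] (π : X →* Γ)
    (hπ : ∀ g : X, π g = 1 ↔ (g = 1 ∨ en (g : V ≃ₗ[ZMod p] V) = -1))
    {Q : Subgroup (V ≃ₗ[ZMod p] V)} (hzQ : (zz : V ≃ₗ[ZMod p] V) ∈ Q) (g : X)
    (hg : π g ∈ (Q.subgroupOf X).map π) : (g : V ≃ₗ[ZMod p] V) ∈ Q := by
  obtain ⟨q, hq, hqg⟩ := hg
  rw [SetLike.mem_coe, Subgroup.mem_subgroupOf] at hq
  have h1 : π (q⁻¹ * g) = 1 := by rw [map_mul, map_inv, hqg]; group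
  rcases (hπ _).1 h1 with h2 | h2
  · have := congrArg Subtype.val h2
    simp only [Subgroup.coe_mul, Subgroup.coe_inv, Subgroup.coe_one] at this
    have e : (g : V ≃ₗ[ZMod p] V) = q := (inv_mul_eq_one.mp this).symm
    rw [e]; exact hq
  · have e := eq_zz_of_en h2
    simp only [Subgroup.coe_mul, Subgroup.coe_inv] at e
    have e' : (g : V ≃ₗ[ZMod p] V) = (q : V ≃ₗ[ZMod p] V) * zz := by rw [← e]; group
    rw [e']; exact Q.mul_mem hq hzQ

theorem order_three_image {Γ : Type*} [Group Γ] (π : X →* Γ)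
    (hπ : ∀ g : X, π g = 1 ↔ (g = 1 ∨ en (g : V ≃ₗ[ZMod p] V) = -1))
    {g : V ≃ₗ[ZMod p] V} (hg : g ∈ X) (hg3 : g ^ 3 = 1) (hg1 : g ≠ 1) :
    orderOf (π ⟨g, hg⟩) = 3 := by
  have : Fact (Nat.Prime 3) := ⟨Nat.prime_three⟩
  apply orderOf_eq_prime
  · rw [← map_pow]
    rw [show (⟨g, hg⟩ : X) ^ 3 = 1 from Subtype.ext (by simpa using hg3), map_one]
  · intro h
    rcases (hπ _).1 h with h | h
    · exact hg1 (by simpa using congrArg Subtype.val h)
    · have e : g = zz := eq_zz_of_en h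
      apply hg1
      have : g * g = 1 := by rw [e, zz_sq]
      calc g = g ^ 3 * (g * g)⁻¹ := by
            simp only [pow_succ, pow_zero, one_mul, mul_inv_rev]; group
        _ = 1 := by rw [hg3, this]; simp

end

section
variable [Finite V] [Nontrivial V] {X : Subgroup (V ≃ₗ[ZMod p] V)}

/-- the algebra generated by two quaternion subgroups normalised by the same element of order
three is quaternion-like -/
theorem e8_alg (hX : IsFree X) {x : V ≃ₗ[ZMod p] V} (hx : x ∈ X) (hx3 : x ^ 3 = 1) (hx1 : x ≠ 1)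
    {Q₁ Q₂ : Subgroup (V ≃ₗ[ZMod p] V)} (h1 : Q₁ ≤ X) (h2 : Q₂ ≤ X)
    {i j i' j' : V ≃ₗ[ZMod p] V} (d₁ : QData x Q₁ i j) (d₂ : QData x Q₂ i' j')
    (h3 : (3 : ZMod p) ≠ 0) :
    ∃ S E ξ η : Module.End (ZMod p) V,
      S * S = -3 ∧ S * E = -(E * S) ∧ E * E = -2 ∧ Commute S ξ ∧ Commute E ξ ∧ Commute S η ∧
      Commute E η ∧ Commute ξ η ∧
      ∀ A : Subalgebra (ZMod p) (Module.End (ZMod p) V), S ∈ A → E ∈ A → ξ ∈ A → η ∈ A →
        en x ∈ A ∧ en i ∈ A ∧ en j ∈ A ∧ en i * en j ∈ A ∧ en i' ∈ A ∧ en j' ∈ A ∧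
          en i' * en j' ∈ A := by
  have h2' : (2 : ZMod p) ≠ 0 := two_ne_zero_of_zz d₁.z1
  have e1 := two_x_eq hX hx hx3 hx1 h1 d₁
  have e2 := two_x_eq hX hx hx3 hx1 h2 d₂
  set S := en x + en x + 1 with hS
  have hS1 : S = -(en i + en j + en i * en j) := by
    rw [eq_neg_iff_add_eq_zero, ← e1]; abel
  have hS2 : S = -(en i' + en j' + en i' * en j') := by
    rw [eq_neg_iff_add_eq_zero, ← e2]; abel
  obtain ⟨a1, a2, a3, -⟩ := s_eps d₁.ii d₁.jj d₁.ji hS1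
  obtain ⟨b1, b2, -, -⟩ := s_eps d₂.ii d₂.jj d₂.ji hS2
  set E := en i - en j with hE
  set F := en i' - en j' with hF
  obtain ⟨c1, c2, c3, c4, c5, c6⟩ := central_xi_eta a1 b1 a2 b2 a3
  refine ⟨S, E, E * F + F * E, (F * E - E * F) * S, a3, a1, a2, c1, c2, c3, c4, c5, ?_⟩
  intro A hSA hEA hξA hηA
  obtain ⟨m1, m2, m3⟩ := quat_mem A h2' h3 d₁.ii d₁.jj d₁.ji hS1 hSA hEA
  have hFA : F ∈ A := by
    have h12 : ((12 : ℕ) : ZMod p) ≠ 0 := by
      have : ((12 : ℕ) : ZMod p) = 2 * 2 * 3 := by norm_num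
      rw [this]
      exact mul_ne_zero (mul_ne_zero h2' h2') h3
    exact smul_mem_of_nsmul h12
      (U := -((3 • (E * F + F * E) - (F * E - E * F) * S * S) * E)) (by rw [c6, neg_neg])
      (A.neg_mem (A.mul_mem (A.sub_mem (A.nsmul_mem hξA 3) (A.mul_mem hηA hSA)) hEA))
  obtain ⟨n1, n2, n3⟩ := quat_mem A h2' h3 d₂.ii d₂.jj d₂.ji hS2 hSA hFA
  refine ⟨?_, m1, m2, m3, n1, n2, n3⟩
  exact smul_mem_of_nsmul (n := 2) (by exact_mod_cast h2') (U := S - 1) (by rw [hS]; abel)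
    (A.sub_mem hSA A.one_mem)

end

section
variable [Finite V] [Nontrivial V] {X : Subgroup (V ≃ₗ[ZMod p] V)}

theorem three_ne_zero_of (hX : IsFree X) {x : V ≃ₗ[ZMod p] V} (hx : x ∈ X)
    (hxo : orderOf x = 3) : (3 : ZMod p) ≠ 0 := by
  have hfin : Finite (V ≃ₗ[ZMod p] V) := finite_linearEquiv
  intro h
  have hp3 : p ∣ 3 := (ZMod.natCast_eq_zero_iff 3 p).1 (by exact_mod_cast h)
  have hp : p = 3 := (Nat.prime_dvd_prime_iff_eq (Fact.out : p.Prime) Nat.prime_three).1 hp3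
  have hdvd : 3 ∣ Nat.card X := hxo ▸ Subgroup.orderOf_dvd_natCard X hx
  exact hX.not_dvd_card (hp ▸ hdvd)

theorem lin_e8 (hX : IsFree X) {x : V ≃ₗ[ZMod p] V} (hx : x ∈ X) (hxo : orderOf x = 3)
    {Q₁ Q₂ : Subgroup (V ≃ₗ[ZMod p] V)} (h1 : Q₁ ≤ X) (h2 : Q₂ ≤ X) (hQ₁ : QSub x Q₁)
    (hQ₂ : QSub x Q₂) (hne : Q₁ ≠ Q₂) :
    Nat.card ↥(Q₁ ⊔ Q₂ ⊔ Subgroup.zpowers x) = 120 ∧
    ∃ u ∈ X, u * x * u⁻¹ = x⁻¹ ∧ (∀ q ∈ Q₁, u * q * u⁻¹ ∈ Q₂) ∧ (∀ q ∈ Q₂, u * q * u⁻¹ ∈ Q₁) := by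
  have hfin : Finite (V ≃ₗ[ZMod p] V) := finite_linearEquiv
  obtain ⟨hx3, hx1⟩ := pow_three_of_order hxo
  obtain ⟨i, j, d₁⟩ := exists_qdata hX hx3 h1 hQ₁
  obtain ⟨i', j', d₂⟩ := exists_qdata hX hx3 h2 hQ₂
  have h2' := two_ne_zero_of_zz d₁.z1
  have h10 := one_ne_zero_of_zz d₁.z1
  have h3 := three_ne_zero_of hX hx hxo
  obtain ⟨S, E, ξ, η, hSS, hSE, hEE, cSξ, cEξ, cSη, cEη, cξη, hmemA⟩ :=
    e8_alg hX hx hx3 hx1 h1 h2 d₁ d₂ h3
  have hle : Q₁ ⊔ Q₂ ⊔ Subgroup.zpowers x ≤ X :=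
    sup_le (sup_le h1 h2) (by rwa [Subgroup.zpowers_le])
  have hXf := hX.mono hle
  have hQ₁X' : Q₁ ≤ Q₁ ⊔ Q₂ ⊔ Subgroup.zpowers x := le_sup_left.trans le_sup_left
  have hQ₂X' : Q₂ ≤ Q₁ ⊔ Q₂ ⊔ Subgroup.zpowers x := le_sup_right.trans le_sup_left
  have hxX' : x ∈ Q₁ ⊔ Q₂ ⊔ Subgroup.zpowers x :=
    (le_sup_right : Subgroup.zpowers x ≤ Q₁ ⊔ Q₂ ⊔ Subgroup.zpowers x) (Subgroup.mem_zpowers x)
  obtain ⟨Sg, hSg⟩ : ∃ Sg : Set (V ≃ₗ[ZMod p] V), Sg = {x} ∪ {q | q ∈ Q₁ ∧ q ≠ 1 ∧ q ≠ zz} ∪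
      {q | q ∈ Q₂ ∧ q ≠ 1 ∧ q ≠ zz} := ⟨_, rfl⟩
  have hSgmem : ∀ s ∈ Sg, s = x ∨ (s ∈ Q₁ ∧ s ≠ 1 ∧ s ≠ zz) ∨ (s ∈ Q₂ ∧ s ≠ 1 ∧ s ≠ zz) := by
    intro s hs
    rw [hSg] at hs
    rcases hs with (hs | hs) | hs
    · exact Or.inl hs
    · exact Or.inr (Or.inl hs)
    · exact Or.inr (Or.inr hs)
  have hXS : Q₁ ⊔ Q₂ ⊔ Subgroup.zpowers x = Subgroup.closure Sg := by
    apply le_antisymm
    · have hq : ∀ (Q : Subgroup (V ≃ₗ[ZMod p] V)) (i₀ j₀ : V ≃ₗ[ZMod p] V), QData x Q i₀ j₀ →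
          (∀ q, q ∈ Q ∧ q ≠ 1 ∧ q ≠ zz → q ∈ Sg) → Q ≤ Subgroup.closure Sg := by
        intro Q i₀ j₀ d hsub q hq
        by_cases hq1 : q = 1
        · rw [hq1]; exact Subgroup.one_mem _
        by_cases hqz : q = zz
        · have hi0 : i₀ ∈ Subgroup.closure Sg := by
            apply Subgroup.subset_closure
            apply hsub
            refine ⟨d.hi, ?_, ?_⟩
            · rintro rfl
              have := d.ii
              rw [en_one, one_mul] at this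
              exact ne_neg_of_sq h2' h10 (by simpa using this : (1 : Module.End (ZMod p) V) * 1 = -1)
                (by simpa using this)
            · rintro rfl
              have := d.ii
              rw [en_zz] at this
              have h11 : (1 : Module.End (ZMod p) V) = -1 := by simpa using this
              exact d.z1 (en_injective (by rw [en_zz, en_one, ← h11]))
          have : zz = i₀ * i₀ := by
            apply en_injective
            rw [en_mul, d.ii, en_zz]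
          rw [hqz, this]
          exact Subgroup.mul_mem _ hi0 hi0
        · exact Subgroup.subset_closure (hsub q ⟨hq, hq1, hqz⟩)
      refine sup_le (sup_le ?_ ?_) ?_
      · exact hq Q₁ i j d₁ (fun q hq => by rw [hSg]; exact Or.inl (Or.inr hq))
      · exact hq Q₂ i' j' d₂ (fun q hq => by rw [hSg]; exact Or.inr hq)
      · rw [Subgroup.zpowers_le]
        exact Subgroup.subset_closure (by rw [hSg]; exact Or.inl (Or.inl rfl))
    · rw [Subgroup.closure_le]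
      intro s hs
      rcases hSgmem s hs with rfl | ⟨hs, -, -⟩ | ⟨hs, -, -⟩
      · exact hxX'
      · exact hQ₁X' hs
      · exact hQ₂X' hs
  -- memberships in the adjoin
  have hSA : S ∈ Algebra.adjoin (ZMod p) (({S, E} : Set (Module.End (ZMod p) V)) ∪
      {c | c ∈ [0, -1, -2, ξ, η]}) := Algebra.subset_adjoin (Or.inl (by simp))
  have hEA : E ∈ Algebra.adjoin (ZMod p) (({S, E} : Set (Module.End (ZMod p) V)) ∪
      {c | c ∈ [0, -1, -2, ξ, η]}) := Algebra.subset_adjoin (Or.inl (by simp))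
  have hξA : ξ ∈ Algebra.adjoin (ZMod p) (({S, E} : Set (Module.End (ZMod p) V)) ∪
      {c | c ∈ [0, -1, -2, ξ, η]}) := Algebra.subset_adjoin (Or.inr (by simp))
  have hηA : η ∈ Algebra.adjoin (ZMod p) (({S, E} : Set (Module.End (ZMod p) V)) ∪
      {c | c ∈ [0, -1, -2, ξ, η]}) := Algebra.subset_adjoin (Or.inr (by simp))
  obtain ⟨mx, mi, mj, -, mi', mj', -⟩ := hmemA _ hSA hEA hξA hηA
  obtain ⟨Γ, hΓ, π, hsurj, hker, hDL⟩ := quad_dickson (Q₁ ⊔ Q₂ ⊔ Subgroup.zpowers x) hXf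
    hXf.not_dvd_card S E [0, -1, -2, ξ, η] (list_comm cξη) (list_comm_of cSξ cSη)
    (list_comm_of cEξ cEη)
    (Polynomial.X ^ 2 + 3 : Polynomial (ZMod p))
    (by
      intro h
      have := congrArg (fun q => Polynomial.coeff q 2) h
      simp at this)
    (by
      simp only [map_add, map_pow, Polynomial.aeval_X, map_ofNat]
      rw [sq, hSS]; norm_num)
    0 0 0 (-1) (-2) 0 (by simp) (by simp) (by simp) (by simp) (by simp) (by simp)
    (by rw [hSE]; noncomm_ring)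
    (by rw [hEE]; noncomm_ring)
    Sg ⟨x, by rw [hSg]; exact Or.inl (Or.inl rfl)⟩ hXS
    (by
      intro s hs
      rcases hSgmem s hs with rfl | ⟨hs, -, -⟩ | ⟨hs, -, -⟩
      · exact mx
      · exact d₁.en_mem _ mi mj hs
      · exact d₂.en_mem _ mi' mj' hs)
    (by
      intro s hs
      rcases hSgmem s hs with rfl | ⟨hs, hs1, hsz⟩ | ⟨hs, hs1, hsz⟩
      · left; exact hX.quad3 hx hx1 hx3
      · right
        have := d₁.sq hs hs1 hsz
        show en s * en s + 1 = 0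
        rw [this]; simp
      · right
        have := d₂.sq hs hs1 hsz
        show en s * en s + 1 = 0
        rw [this]; simp)
    (by
      intro s hs
      rcases hSgmem s hs with rfl | ⟨hs, hs1, hsz⟩ | ⟨hs, hs1, hsz⟩
      · obtain ⟨q₀, hq₀, hq₀x⟩ := hQ₁.2.2
        refine ⟨q₀, hQ₁X' hq₀, ?_⟩
        intro h
        apply hq₀x
        rw [h]; group
      · rcases d₁.exists_noncomm hs hs1 hsz with h | h
        · exact ⟨i, hQ₁X' d₁.hi, h⟩
        · exact ⟨j, hQ₁X' d₁.hj, h⟩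
      · rcases d₂.exists_noncomm hs hs1 hsz with h | h
        · exact ⟨i', hQ₂X' d₂.hi, h⟩
        · exact ⟨j', hQ₂X' d₂.hj, h⟩)
  have hDL' : DL Γ := hDL
  have hV₁ := vsub_map hXf π hker hxX' hx3 hQ₁X' hQ₁
  have hV₂ := vsub_map hXf π hker hxX' hx3 hQ₂X' hQ₂
  have hσ := order_three_image π hker hxX' hx3 hx1
  have hVne : (Q₁.subgroupOf (Q₁ ⊔ Q₂ ⊔ Subgroup.zpowers x)).map π ≠
      (Q₂.subgroupOf (Q₁ ⊔ Q₂ ⊔ Subgroup.zpowers x)).map π := by
    intro h
    apply hne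
    have hQfin : Finite Q₂ := Nat.finite_of_card_ne_zero (by rw [hQ₂.1]; norm_num)
    apply Subgroup.eq_of_le_of_card_ge
    · intro q hq
      have hm : π ⟨q, hQ₁X' hq⟩ ∈ (Q₁.subgroupOf (Q₁ ⊔ Q₂ ⊔ Subgroup.zpowers x)).map π :=
        ⟨⟨q, hQ₁X' hq⟩, by rw [SetLike.mem_coe, Subgroup.mem_subgroupOf]; exact hq, rfl⟩
      rw [h] at hm
      exact mem_of_map_mem π hker d₂.hz _ hm
    · rw [hQ₁.1, hQ₂.1]
  obtain ⟨hc60, ū, hū1, hū2, hū3⟩ := gamma_two_V hDL' _ hσ _ _ hV₁ hV₂ hVne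
  refine ⟨?_, ?_⟩
  · -- cardinality
    let z' : (Q₁ ⊔ Q₂ ⊔ Subgroup.zpowers x : Subgroup (V ≃ₗ[ZMod p] V)) := ⟨zz, hQ₁X' d₁.hz⟩
    have hz' : z' ≠ 1 := by
      intro h
      exact d₁.z1 (by simpa [z'] using congrArg Subtype.val h)
    have hker' : ∀ h, π h = 1 ↔ h = 1 ∨ h = z' := by
      intro h
      rw [hker]
      constructor
      · rintro (h1 | h1)
        · exact Or.inl h1
        · exact Or.inr (Subtype.ext (eq_zz_of_en h1))
      · rintro (h1 | h1)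
        · exact Or.inl h1
        · right; rw [h1]; exact en_zz
    have := card_eq_two_mul_range π z' hz' hker'
    rw [MonoidHom.range_eq_top.2 hsurj, Subgroup.card_top, hc60] at this
    exact this
  · obtain ⟨u, rfl⟩ := hsurj ū
    refine ⟨u, hle u.2, ?_, ?_, ?_⟩
    · have h1 : π (u * ⟨x, hxX'⟩ * u⁻¹ * ⟨x, hxX'⟩) = 1 := by
        rw [map_mul, map_mul, map_mul, map_inv, hū1]; group
      rcases (hker _).1 h1 with h2 | h2
      · have := congrArg Subtype.val h2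
        simp only [Subgroup.coe_mul, Subgroup.coe_inv, Subgroup.coe_one] at this
        exact eq_inv_of_mul_eq_one_left this
      · exfalso
        have e := eq_zz_of_en h2
        simp only [Subgroup.coe_mul, Subgroup.coe_inv] at e
        have e' : (u : V ≃ₗ[ZMod p] V) * x * (u : V ≃ₗ[ZMod p] V)⁻¹ = zz * x⁻¹ := by
          rw [← e]; group
        have c1 : ((u : V ≃ₗ[ZMod p] V) * x * (u : V ≃ₗ[ZMod p] V)⁻¹) ^ 3 = 1 := by
          rw [conj_pow, hx3]; group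
        have c2 : (zz * x⁻¹) ^ 3 = zz := by
          apply en_injective
          rw [en_pow, en_mul, en_zz]
          have : (-1 * en x⁻¹) ^ 3 = -(en x⁻¹ ^ 3) := by noncomm_ring
          rw [this, ← en_pow, inv_pow, hx3, inv_one, en_one]
        rw [e', c2] at c1
        exact d₁.z1 c1
    · intro q hq
      have hm : π (u * ⟨q, hQ₁X' hq⟩ * u⁻¹) ∈
          (Q₂.subgroupOf (Q₁ ⊔ Q₂ ⊔ Subgroup.zpowers x)).map π := by
        rw [map_mul, map_mul, map_inv]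
        exact hū2 _ ⟨⟨q, hQ₁X' hq⟩, by rw [SetLike.mem_coe, Subgroup.mem_subgroupOf]; exact hq, rfl⟩
      exact mem_of_map_mem π hker d₂.hz _ hm
    · intro q hq
      have hm : π (u * ⟨q, hQ₂X' hq⟩ * u⁻¹) ∈
          (Q₁.subgroupOf (Q₁ ⊔ Q₂ ⊔ Subgroup.zpowers x)).map π := by
        rw [map_mul, map_mul, map_inv]
        exact hū3 _ ⟨⟨q, hQ₂X' hq⟩, by rw [SetLike.mem_coe, Subgroup.mem_subgroupOf]; exact hq, rfl⟩
      exact mem_of_map_mem π hker d₁.hz _ hm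

end

end Cfsg.Agent.Lib.Helper12.ZassLin
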