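import Mathlib
import Cfsg.Agent.Lib.Helper12.ZassLin6
import Cfsg.Agent.Lib.Helper15.ZassP
import Cfsg.Agent.Lib.Helper47.ZassAT1
import Cfsg.Agent.Lib.Helper47.ZassL3
import Cfsg.Agent.Lib.Helper4.ZassAT2
import Cfsg.Agent.Lib.Helper70.ZassAT3
import Cfsg.Agent.Lib.Helper70.ZassL4

/-!
# Zassenhaus' theorem for free linear groups (helper12 + helpers 4, 15, 47, 59, 60, 67, 70)

A nontrivial perfect group of linear automorphisms of a finite `ZMod p`-module in which every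
non-identity element fixes only `0` is isomorphic to `SL(2,5)`.
-/

set_option autoImplicit false
namespace Cfsg.Agent.Lib.Helper12.ZassLin
open Cfsg.Agent.Lib.Helper12.Zass

variable {p : ℕ} [Fact p.Prime] {V : Type*} [AddCommGroup V] [Module (ZMod p) V] [Finite V]
  [Nontrivial V] {X : Subgroup (V ≃ₗ[ZMod p] V)}

/-- a free linear group satisfies the interface `Free3` -/
theorem free3 (hX : IsFree X) : Free3 ↥X :=
  Cfsg.Agent.Lib.Helper15.ZassP.free3_of hX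
    (fun _ _ hx hy h3 h3' hxy => lin_e5 hX hx hy h3 h3' hxy)
    (fun _ _ _ hx h1 h2 h3 hQ₁ hQ₂ hne => lin_e8 hX hx h3 h1 h2 hQ₁ hQ₂ hne)
    (fun _ _ _ _ _ hx hy hQX h3 hQ hi hj hij hy3 hyi hjy =>
      Cfsg.Agent.Lib.Helper47.lin_app3 hX hx hy hQX h3 hQ hi hj hij hy3 hyi hjy)
    (fun _ _ _ _ _ _ hx hy ha hQX hQ'X hx3 hy3 hQ hQ' ha8 haQ ha2 hj hnc ha2' haj =>
      Cfsg.Agent.Lib.Helper70.ZassL4.lin_app4 hX hx hy ha hQX hQ'X hx3 hy3 hQ hQ' ha8 haQ ha2 hj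
        hnc ha2' haj)

/-- Zassenhaus: a nontrivial perfect free linear group is `SL(2,5)` -/
theorem linear_sl25 (hX : IsFree X) (hperf : commutator ↥X = ⊤) (hnt : Nontrivial ↥X) :
    Nonempty (↥X ≃* Matrix.SpecialLinearGroup (Fin 2) (ZMod 5)) := by
  have hfin : Finite (V ≃ₗ[ZMod p] V) := Cfsg.Agent.Lib.Helper12.TwoDim.finite_linearEquiv
  have h3 := free3 hX
  obtain ⟨⟨x, hx⟩, hQ⟩ := Cfsg.Agent.Lib.Helper47.at1 h3 hperf hnt
  obtain ⟨Q, hQx⟩ := hQ x hx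
  have h16 := Cfsg.Agent.Lib.Helper4.Zass.at2 h3 hperf x hx Q hQx
  exact Cfsg.Agent.Lib.Helper70.Zass.at3 h3 hperf h16 x hx hQ

end Cfsg.Agent.Lib.Helper12.ZassLin
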